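import Cfsg.Agent.Helper9.J2B.Order

set_option autoImplicit false

/-! The reflection group is transitive on the 315 reflections. -/

namespace Cfsg.Agent.Helper9.J2B

open Quaternion Cfsg.Spor

theorem refl_trans (k k' : Fin 315) : ∃ g : ↥twoJ2, rhoT g k = k' := by
  obtain ⟨σ, hσ, h⟩ := G315_trans k
  obtain ⟨σ', hσ', h'⟩ := G315_trans k'
  rw [range_eq] at hσ hσ'
  obtain ⟨g, rfl⟩ := hσ
  obtain ⟨g', rfl⟩ := hσ'
  refine ⟨g' * g⁻¹, ?_⟩
  rw [map_mul, map_inv, Equiv.Perm.mul_apply, ← h, perm_inv_apply, h']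

theorem refl_conj (f f' : Equiv.Perm icoLeech) (hf : IsIcoReflection f)
    (hf' : IsIcoReflection f') : ∃ g ∈ twoJ2, g * f * g⁻¹ = f' := by
  obtain ⟨k, rfl⟩ := (refl_iff f).1 hf
  obtain ⟨k', rfl⟩ := (refl_iff f').1 hf'
  obtain ⟨g, hg⟩ := refl_trans k k'
  exact ⟨g.1, g.2, by rw [rhoT_spec g k, hg]⟩

end Cfsg.Agent.Helper9.J2B
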