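import Cfsg.Agent.Helper9.J2B.Gens

set_option autoImplicit false

/-! The reflection group contains the negation, which is central; so its order is 1209600, its
centre has order two, and the quotient by the centre is the group of the four tables, of order
604800. -/

namespace Cfsg.Agent.Helper9.J2B

open Quaternion Cfsg.Spor

/-- the reflection in a vector with one coordinate two and the others zero changes the sign of
that coordinate. -/
theorem qrefl_axis (r x : Fin 3 → ℍ[ℝ]) (t : Fin 3) (ht : r t = ((2 : ℝ) : ℍ[ℝ]))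
    (h0 : ∀ s, s ≠ t → r s = 0) (s : Fin 3) :
    qrefl r x s = if s = t then -(x s) else x s := by
  have hq : qip x r = (2 : ℝ) • x t := by
    unfold qip
    rw [Finset.sum_eq_single t]
    · rw [ht, Quaternion.star_coe, Quaternion.mul_coe_eq_smul]
    · intro s _ hs
      rw [h0 s hs, star_zero, mul_zero]
    · intro h
      exact absurd (Finset.mem_univ t) h
  unfold qrefl
  rw [hq, smul_smul]
  have e : (1 / 2 : ℝ) * 2 = 1 := by norm_num
  rw [e, one_smul]
  split_ifs with h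
  · subst h
    rw [ht, Quaternion.mul_coe_eq_smul, two_smul]
    abel
  · rw [h0 s h, mul_zero, sub_zero]

def two8 : Z8 := ⟨8, 0, 0, 0, 0, 0, 0, 0⟩

theorem phi_two8 : phi two8 = ((2 : ℝ) : ℍ[ℝ]) := by
  ext <;> simp [two8] <;> norm_num

def A1 : Z24 := ⟨two8, Z8.zero, Z8.zero⟩
def A2 : Z24 := ⟨Z8.zero, two8, Z8.zero⟩
def A3 : Z24 := ⟨Z8.zero, Z8.zero, two8⟩

theorem A_inLam : inLam A1 ∧ inLam A2 ∧ inLam A3 := by decide

theorem A_min : (nrm8 A1.x + nrm8 A1.y + nrm8 A1.z = 64 ∧ pq8 A1.x + pq8 A1.y + pq8 A1.z = 0) ∧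
    (nrm8 A2.x + nrm8 A2.y + nrm8 A2.z = 64 ∧ pq8 A2.x + pq8 A2.y + pq8 A2.z = 0) ∧
    (nrm8 A3.x + nrm8 A3.y + nrm8 A3.z = 64 ∧ pq8 A3.x + pq8 A3.y + pq8 A3.z = 0) := by decide

theorem A1_mem : phi3 A1 ∈ icoLeech ∧ qip (phi3 A1) (phi3 A1) = 4 :=
  ⟨phi3_mem _ A_inLam.1, (norm4_iff A1).2 A_min.1⟩

theorem A2_mem : phi3 A2 ∈ icoLeech ∧ qip (phi3 A2) (phi3 A2) = 4 :=
  ⟨phi3_mem _ A_inLam.2.1, (norm4_iff A2).2 A_min.2.1⟩

theorem A3_mem : phi3 A3 ∈ icoLeech ∧ qip (phi3 A3) (phi3 A3) = 4 :=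
  ⟨phi3_mem _ A_inLam.2.2, (norm4_iff A3).2 A_min.2.2⟩

theorem qrefl_A1 (x : Fin 3 → ℍ[ℝ]) (s : Fin 3) :
    qrefl (phi3 A1) x s = if s = 0 then -(x s) else x s := by
  apply qrefl_axis _ _ 0 phi_two8
  intro s hs
  fin_cases s
  · exact absurd rfl hs
  · exact phi_zero
  · exact phi_zero

theorem qrefl_A2 (x : Fin 3 → ℍ[ℝ]) (s : Fin 3) :
    qrefl (phi3 A2) x s = if s = 1 then -(x s) else x s := by
  apply qrefl_axis _ _ 1 phi_two8
  intro s hs
  fin_cases s
  · exact phi_zero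
  · exact absurd rfl hs
  · exact phi_zero

theorem qrefl_A3 (x : Fin 3 → ℍ[ℝ]) (s : Fin 3) :
    qrefl (phi3 A3) x s = if s = 2 then -(x s) else x s := by
  apply qrefl_axis _ _ 2 phi_two8
  intro s hs
  fin_cases s
  · exact phi_zero
  · exact phi_zero
  · exact absurd rfl hs

theorem neg_memL (x : Fin 3 → ℍ[ℝ]) (hx : x ∈ icoLeech) : -x ∈ icoLeech := by
  have h := icoLeech_lmul (-1) (neg_mem (one_mem _)) x hx
  have e : lmul (-1) x = -x := by
    funext t
    simp [lmul_apply]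
  rwa [e] at h

/-- the negation of the lattice. -/
noncomputable def negP : Equiv.Perm icoLeech where
  toFun x := ⟨-(x : Fin 3 → ℍ[ℝ]), neg_memL _ x.2⟩
  invFun x := ⟨-(x : Fin 3 → ℍ[ℝ]), neg_memL _ x.2⟩
  left_inv x := Subtype.ext (neg_neg _)
  right_inv x := Subtype.ext (neg_neg _)

theorem negP_apply (x : icoLeech) : ((negP x : icoLeech) : Fin 3 → ℍ[ℝ]) = -(x : Fin 3 → ℍ[ℝ]) :=
  rfl

theorem negP_eq : negP = reflPerm (phi3 A1) A1_mem.1 A1_mem.2 *
    reflPerm (phi3 A2) A2_mem.1 A2_mem.2 * reflPerm (phi3 A3) A3_mem.1 A3_mem.2 := by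
  ext x : 1
  apply Subtype.ext
  rw [Equiv.Perm.mul_apply, Equiv.Perm.mul_apply, reflPerm_apply, reflPerm_apply, reflPerm_apply,
    negP_apply]
  funext s
  rw [qrefl_A1, qrefl_A2, qrefl_A3]
  fin_cases s <;> simp

theorem negP_mem : negP ∈ twoJ2 := by
  rw [negP_eq]
  exact twoJ2.mul_mem (twoJ2.mul_mem (reflPerm_mem_twoJ2 _ _ _) (reflPerm_mem_twoJ2 _ _ _))
    (reflPerm_mem_twoJ2 _ _ _)

theorem negP_comm (g : Equiv.Perm icoLeech) (hg : g ∈ isoSub) : g * negP = negP * g := by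
  ext x : 1
  apply Subtype.ext
  rw [Equiv.Perm.mul_apply, Equiv.Perm.mul_apply, negP_apply]
  have h := iso_lmul g hg (-1) (neg_mem (one_mem _)) x
  have e1 : lmulL (-1) (neg_mem (one_mem _)) x = negP x := by
    apply Subtype.ext
    rw [negP_apply]
    funext t
    simp [lmulL, lmul_apply]
  rw [e1] at h
  rw [h]
  funext t
  simp [lmul_apply]

theorem negP_center : (⟨negP, negP_mem⟩ : ↥twoJ2) ∈ Subgroup.center ↥twoJ2 := by
  rw [Subgroup.mem_center_iff]
  intro g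
  apply Subtype.ext
  exact negP_comm g.1 (twoJ2_le_isoSub g.2)

theorem negP_ne_one : negP ≠ 1 := by
  intro h
  have h1 := congrArg (fun f : Equiv.Perm icoLeech =>
    ((f ⟨phi3 A1, A1_mem.1⟩ : icoLeech) : Fin 3 → ℍ[ℝ]) 0) h
  simp only [negP_apply, Equiv.Perm.one_apply, Pi.neg_apply, phi3_zero] at h1
  have h2 : phi A1.x = ((2 : ℝ) : ℍ[ℝ]) := phi_two8
  rw [h2] at h1
  have h3 := congrArg (fun q : ℍ[ℝ] => q.re) h1
  simp only [Quaternion.re_neg, Quaternion.re_coe] at h3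
  norm_num at h3

instance finite_isoSub : Finite ↥isoSub := Nat.finite_of_card_ne_zero card_isoSub_le.2.ne'

instance finite_twoJ2 : Finite ↥twoJ2 :=
  Finite.of_injective (Subgroup.inclusion twoJ2_le_isoSub) (Subgroup.inclusion_injective _)

/-- the orders. -/
theorem card_main : Nat.card ↥twoJ2 = 1209600 ∧ Nat.card ↥(Subgroup.center ↥twoJ2) = 2 ∧
    Nat.card ↥rhoT.range = 604800 := by
  have h1 : Nat.card ↥twoJ2 ≤ 1209600 :=
    (Subgroup.card_le_of_le twoJ2_le_isoSub).trans card_isoSub_le.1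
  have h2 := Subgroup.card_eq_card_quotient_mul_card_subgroup rhoT.ker
  have h3 : Nat.card (↥twoJ2 ⧸ rhoT.ker) = Nat.card ↥rhoT.range :=
    Nat.card_congr (QuotientGroup.quotientKerEquivRange rhoT).toEquiv
  rw [h3, rhoT_ker] at h2
  have h4 : 2 ≤ Nat.card ↥(Subgroup.center ↥twoJ2) := by
    have : Nontrivial ↥(Subgroup.center ↥twoJ2) := by
      refine ⟨⟨⟨_, negP_center⟩, 1, ?_⟩⟩
      intro h
      exact negP_ne_one (congrArg (fun z : ↥(Subgroup.center ↥twoJ2) =>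
        ((z : ↥twoJ2) : Equiv.Perm icoLeech)) h)
    exact Finite.one_lt_card_iff_nontrivial.2 this
  have h5 : 604800 ≤ Nat.card ↥rhoT.range :=
    card_G315_ge.trans (Subgroup.card_le_of_le G315_le_range)
  have h6 : Nat.card ↥rhoT.range * 2 ≤ Nat.card ↥rhoT.range * Nat.card ↥(Subgroup.center ↥twoJ2) :=
    Nat.mul_le_mul_left _ h4
  have h7 : 604800 * Nat.card ↥(Subgroup.center ↥twoJ2) ≤
      Nat.card ↥rhoT.range * Nat.card ↥(Subgroup.center ↥twoJ2) := Nat.mul_le_mul_right _ h5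
  refine ⟨?_, ?_, ?_⟩ <;> nlinarith

theorem range_eq : G315 = rhoT.range :=
  Subgroup.eq_of_le_of_card_ge G315_le_range (by rw [card_main.2.2]; exact card_G315_ge)

theorem card_G315 : Nat.card ↥G315 = 604800 := by
  rw [range_eq]
  exact card_main.2.2

/-- the Hall–Janko group is the group of the four tables. -/
noncomputable def J2EquivG315 : Cfsg.Spor.J2 ≃* ↥G315 :=
  J2EquivRange.trans (MulEquiv.subgroupCongr range_eq.symm)

theorem card_J2 : Nat.card Cfsg.Spor.J2 = 604800 := by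
  rw [Nat.card_congr J2EquivG315.toEquiv, card_G315]

end Cfsg.Agent.Helper9.J2B
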