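import Cfsg.Agent.Helper9.J2B.Count

set_option autoImplicit false

/-! The reflection group consists of isometries of the lattice; these are additive and commute
with the multiplication by icosians on the left. -/

namespace Cfsg.Agent.Helper9.J2B

open Quaternion Cfsg.Spor

theorem perm_apply_inv {α : Type*} (g : Equiv.Perm α) (x : α) : g (g⁻¹ x) = x := by
  rw [Equiv.Perm.inv_def, Equiv.apply_symm_apply]

theorem perm_inv_apply {α : Type*} (g : Equiv.Perm α) (x : α) : g⁻¹ (g x) = x := by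
  rw [Equiv.Perm.inv_def, Equiv.symm_apply_apply]

/-- the multiple of a vector of the lattice by an icosian. -/
noncomputable def lmulL (a : ℍ[ℝ]) (ha : a ∈ icosians) (x : icoLeech) : icoLeech :=
  ⟨lmul a x, icoLeech_lmul a ha x x.2⟩

/-- the difference of two vectors of the lattice. -/
noncomputable def subL (x y : icoLeech) : icoLeech :=
  ⟨(x : Fin 3 → ℍ[ℝ]) - y, icoLeech_sub _ _ x.2 y.2⟩

theorem qip_self_eq_zero (z : Fin 3 → ℍ[ℝ]) (h : qip z z = 0) : z = 0 := by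
  rw [qip_def, Quaternion.self_mul_star, Quaternion.self_mul_star, Quaternion.self_mul_star] at h
  have h1 := congrArg (fun q : ℍ[ℝ] => q.re) h
  simp only [Quaternion.re_add, Quaternion.re_coe, Quaternion.re_zero] at h1
  have n0 := Quaternion.normSq_nonneg (a := z 0)
  have n1 := Quaternion.normSq_nonneg (a := z 1)
  have n2 := Quaternion.normSq_nonneg (a := z 2)
  have e0 : z 0 = 0 := Quaternion.normSq_eq_zero.1 (by linarith)
  have e1 : z 1 = 0 := Quaternion.normSq_eq_zero.1 (by linarith)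
  have e2 : z 2 = 0 := Quaternion.normSq_eq_zero.1 (by linarith)
  funext t
  fin_cases t
  · exact e0
  · exact e1
  · exact e2

/-- the permutations of the lattice that keep the Hermitian product. -/
def isoSub : Subgroup (Equiv.Perm icoLeech) where
  carrier := {g | ∀ x y : icoLeech, qip (g x : Fin 3 → ℍ[ℝ]) (g y : Fin 3 → ℍ[ℝ]) =
      qip (x : Fin 3 → ℍ[ℝ]) (y : Fin 3 → ℍ[ℝ])}
  mul_mem' := by
    intro g h g1 h1 x y
    rw [Equiv.Perm.mul_apply, Equiv.Perm.mul_apply, g1, h1]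
  one_mem' := fun _ _ => rfl
  inv_mem' := by
    intro g g1 x y
    have := g1 (g⁻¹ x) (g⁻¹ y)
    rw [perm_apply_inv, perm_apply_inv] at this
    exact this.symm

theorem mem_isoSub (g : Equiv.Perm icoLeech) : g ∈ isoSub ↔
    ∀ x y : icoLeech, qip (g x : Fin 3 → ℍ[ℝ]) (g y : Fin 3 → ℍ[ℝ]) =
      qip (x : Fin 3 → ℍ[ℝ]) (y : Fin 3 → ℍ[ℝ]) := Iff.rfl

/-- a vector of the lattice that is orthogonal to the images of all vectors vanishes. -/
theorem eq_zero_of_orth (g : Equiv.Perm icoLeech) (z : icoLeech)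
    (h : ∀ w : icoLeech, qip (z : Fin 3 → ℍ[ℝ]) (g w : Fin 3 → ℍ[ℝ]) = 0) :
    (z : Fin 3 → ℍ[ℝ]) = 0 := by
  apply qip_self_eq_zero
  have := h (g⁻¹ z)
  rw [perm_apply_inv] at this
  exact this

/-- an isometry commutes with the multiplication by icosians. -/
theorem iso_lmul (g : Equiv.Perm icoLeech) (hg : g ∈ isoSub) (a : ℍ[ℝ]) (ha : a ∈ icosians)
    (x : icoLeech) : ((g (lmulL a ha x) : icoLeech) : Fin 3 → ℍ[ℝ]) =
      lmul a (g x : Fin 3 → ℍ[ℝ]) := by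
  have hz := eq_zero_of_orth g (subL (g (lmulL a ha x)) (lmulL a ha (g x))) (fun w => by
    show qip ((g (lmulL a ha x) : icoLeech) - lmul a (g x : Fin 3 → ℍ[ℝ])) (g w : Fin 3 → ℍ[ℝ]) = 0
    rw [qip_sub_left, qip_lmul_left, hg, hg]
    show qip (lmul a x) (w : Fin 3 → ℍ[ℝ]) - _ = 0
    rw [qip_lmul_left, sub_self])
  exact sub_eq_zero.1 hz

/-- an isometry is additive. -/
theorem iso_sub (g : Equiv.Perm icoLeech) (hg : g ∈ isoSub) (x y : icoLeech) :
    ((g (subL x y) : icoLeech) : Fin 3 → ℍ[ℝ]) =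
      (g x : Fin 3 → ℍ[ℝ]) - (g y : Fin 3 → ℍ[ℝ]) := by
  have hz := eq_zero_of_orth g (subL (g (subL x y)) (subL (g x) (g y))) (fun w => by
    show qip ((g (subL x y) : icoLeech) - ((g x : Fin 3 → ℍ[ℝ]) - (g y : Fin 3 → ℍ[ℝ])))
      (g w : Fin 3 → ℍ[ℝ]) = 0
    rw [qip_sub_left, qip_sub_left, hg, hg, hg]
    show qip ((x : Fin 3 → ℍ[ℝ]) - y) (w : Fin 3 → ℍ[ℝ]) - _ = 0
    rw [qip_sub_left, sub_self])
  exact sub_eq_zero.1 hz

theorem reflPerm_mem_isoSub (r : Fin 3 → ℍ[ℝ]) (hr : r ∈ icoLeech) (h4 : qip r r = 4) :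
    reflPerm r hr h4 ∈ isoSub := by
  intro x y
  rw [reflPerm_apply, reflPerm_apply, qip_qrefl r _ _ h4]

theorem twoJ2_le_isoSub : twoJ2 ≤ isoSub := by
  unfold twoJ2
  rw [Subgroup.closure_le]
  intro f hf
  obtain ⟨r, hr, h4, rfl⟩ := (isIcoReflection_iff f).1 hf
  exact reflPerm_mem_isoSub r hr h4

theorem reflPerm_mem_twoJ2 (r : Fin 3 → ℍ[ℝ]) (hr : r ∈ icoLeech) (h4 : qip r r = 4) :
    reflPerm r hr h4 ∈ twoJ2 :=
  Subgroup.subset_closure (isIcoReflection_reflPerm r hr h4)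

/-- the conjugate of a reflection by an isometry is the reflection in the image of the root. -/
theorem conj_reflPerm (g : Equiv.Perm icoLeech) (hg : g ∈ isoSub) (r : Fin 3 → ℍ[ℝ])
    (hr : r ∈ icoLeech) (h4 : qip r r = 4) :
    g * reflPerm r hr h4 * g⁻¹ = reflPerm (g ⟨r, hr⟩ : icoLeech) (g ⟨r, hr⟩ : icoLeech).2
      (by rw [hg]; exact h4) := by
  ext x : 1
  apply Subtype.ext
  rw [Equiv.Perm.mul_apply, Equiv.Perm.mul_apply, reflPerm_apply]
  have ha : (1 / 2 : ℝ) • qip ((g⁻¹ x : icoLeech) : Fin 3 → ℍ[ℝ]) r ∈ icosians :=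
    qip_twoI _ _ (g⁻¹ x).2 hr
  -- the reflected vector is a difference
  have hd : reflPerm r hr h4 (g⁻¹ x) = subL (g⁻¹ x) (lmulL _ ha ⟨r, hr⟩) := rfl
  rw [hd, iso_sub g hg, iso_lmul g hg, perm_apply_inv, qrefl_eq]
  have hq : qip ((g⁻¹ x : icoLeech) : Fin 3 → ℍ[ℝ]) r =
      qip (x : Fin 3 → ℍ[ℝ]) (g ⟨r, hr⟩ : icoLeech) := by
    have := hg (g⁻¹ x) ⟨r, hr⟩
    rw [perm_apply_inv] at this
    exact this.symm
  rw [hq]

end Cfsg.Agent.Helper9.J2B
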