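import Mathlib
import Cfsg.Prelude.Def_Spor_J2

set_option autoImplicit false

/-! Quaternions whose four coordinates are `(p + q √5) / 4` with `p` and `q` integers, written
as eight integers, with the map to the real quaternions and the product. -/

namespace Cfsg.Agent.Helper9.J2B

open Quaternion Cfsg.Spor

/-- eight integers `a0, …, a7` stand for the quaternion with coordinates `(a0 + a1 √5) / 4`,
`(a2 + a3 √5) / 4`, `(a4 + a5 √5) / 4`, `(a6 + a7 √5) / 4`. -/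
@[ext] structure Z8 where
  a0 : ℤ
  a1 : ℤ
  a2 : ℤ
  a3 : ℤ
  a4 : ℤ
  a5 : ℤ
  a6 : ℤ
  a7 : ℤ
  deriving DecidableEq

namespace Z8

def zero : Z8 := ⟨0, 0, 0, 0, 0, 0, 0, 0⟩

def add (a b : Z8) : Z8 :=
  ⟨a.a0 + b.a0, a.a1 + b.a1, a.a2 + b.a2, a.a3 + b.a3, a.a4 + b.a4, a.a5 + b.a5, a.a6 + b.a6,
    a.a7 + b.a7⟩

def neg (a : Z8) : Z8 := ⟨-a.a0, -a.a1, -a.a2, -a.a3, -a.a4, -a.a5, -a.a6, -a.a7⟩

def sub (a b : Z8) : Z8 :=
  ⟨a.a0 - b.a0, a.a1 - b.a1, a.a2 - b.a2, a.a3 - b.a3, a.a4 - b.a4, a.a5 - b.a5, a.a6 - b.a6,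
    a.a7 - b.a7⟩

/-- multiple by an integer. -/
def sm (n : ℤ) (a : Z8) : Z8 :=
  ⟨n * a.a0, n * a.a1, n * a.a2, n * a.a3, n * a.a4, n * a.a5, n * a.a6, n * a.a7⟩

/-- quotient by an integer, coordinate by coordinate. -/
def dv (a : Z8) (n : ℤ) : Z8 :=
  ⟨a.a0 / n, a.a1 / n, a.a2 / n, a.a3 / n, a.a4 / n, a.a5 / n, a.a6 / n, a.a7 / n⟩

/-- all coordinates are multiples of `n`. -/
def dvd (n : ℤ) (a : Z8) : Prop :=
  n ∣ a.a0 ∧ n ∣ a.a1 ∧ n ∣ a.a2 ∧ n ∣ a.a3 ∧ n ∣ a.a4 ∧ n ∣ a.a5 ∧ n ∣ a.a6 ∧ n ∣ a.a7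

instance (n : ℤ) (a : Z8) : Decidable (dvd n a) := by unfold dvd; infer_instance

/-- the conjugate. -/
def conj (a : Z8) : Z8 := ⟨a.a0, a.a1, -a.a2, -a.a3, -a.a4, -a.a5, -a.a6, -a.a7⟩

/-- the product, which is `4` times too large: `phi a * phi b = phi (mul a b) / 4`. -/
def mul (a b : Z8) : Z8 :=
  ⟨(a.a0*b.a0 + 5*(a.a1*b.a1)) - (a.a2*b.a2 + 5*(a.a3*b.a3)) - (a.a4*b.a4 + 5*(a.a5*b.a5)) - (a.a6*b.a6 + 5*(a.a7*b.a7)),
    (a.a0*b.a1 + a.a1*b.a0) - (a.a2*b.a3 + a.a3*b.a2) - (a.a4*b.a5 + a.a5*b.a4) - (a.a6*b.a7 + a.a7*b.a6),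
    (a.a0*b.a2 + 5*(a.a1*b.a3)) + (a.a2*b.a0 + 5*(a.a3*b.a1)) + (a.a4*b.a6 + 5*(a.a5*b.a7)) - (a.a6*b.a4 + 5*(a.a7*b.a5)),
    (a.a0*b.a3 + a.a1*b.a2) + (a.a2*b.a1 + a.a3*b.a0) + (a.a4*b.a7 + a.a5*b.a6) - (a.a6*b.a5 + a.a7*b.a4),
    (a.a0*b.a4 + 5*(a.a1*b.a5)) - (a.a2*b.a6 + 5*(a.a3*b.a7)) + (a.a4*b.a0 + 5*(a.a5*b.a1)) + (a.a6*b.a2 + 5*(a.a7*b.a3)),
    (a.a0*b.a5 + a.a1*b.a4) - (a.a2*b.a7 + a.a3*b.a6) + (a.a4*b.a1 + a.a5*b.a0) + (a.a6*b.a3 + a.a7*b.a2),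
    (a.a0*b.a6 + 5*(a.a1*b.a7)) + (a.a2*b.a4 + 5*(a.a3*b.a5)) - (a.a4*b.a2 + 5*(a.a5*b.a3)) + (a.a6*b.a0 + 5*(a.a7*b.a1)),
    (a.a0*b.a7 + a.a1*b.a6) + (a.a2*b.a5 + a.a3*b.a4) - (a.a4*b.a3 + a.a5*b.a2) + (a.a6*b.a1 + a.a7*b.a0)⟩

end Z8

/-- the square root of five. -/
noncomputable def s5 : ℝ := Real.sqrt 5

theorem s5_mul_self : s5 * s5 = 5 := Real.mul_self_sqrt (by norm_num)

theorem s5_irr : Irrational s5 := by
  have h : Nat.Prime 5 := by norm_num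
  simpa [s5] using h.irrational_sqrt

/-- if `a + b √5 = 0` with integers `a` and `b`, then both vanish. -/
theorem int_s5_eq_zero {a b : ℤ} (h : (a : ℝ) + (b : ℝ) * s5 = 0) : a = 0 ∧ b = 0 := by
  by_cases hb : b = 0
  · subst hb
    simp only [Int.cast_zero, zero_mul, add_zero] at h
    exact ⟨by exact_mod_cast h, rfl⟩
  · exfalso
    have hb' : (b : ℝ) ≠ 0 := by exact_mod_cast hb
    have h1 : s5 = ((-a / b : ℚ) : ℝ) := by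
      push_cast
      field_simp
      linarith
    exact s5_irr ⟨_, h1.symm⟩

/-- the real quaternion that eight integers stand for. -/
noncomputable def phi (a : Z8) : ℍ[ℝ] :=
  ⟨((a.a0 : ℝ) + a.a1 * s5) / 4, ((a.a2 : ℝ) + a.a3 * s5) / 4, ((a.a4 : ℝ) + a.a5 * s5) / 4,
    ((a.a6 : ℝ) + a.a7 * s5) / 4⟩

@[simp] theorem phi_re (a : Z8) : (phi a).re = ((a.a0 : ℝ) + a.a1 * s5) / 4 := rfl
@[simp] theorem phi_imI (a : Z8) : (phi a).imI = ((a.a2 : ℝ) + a.a3 * s5) / 4 := rfl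
@[simp] theorem phi_imJ (a : Z8) : (phi a).imJ = ((a.a4 : ℝ) + a.a5 * s5) / 4 := rfl
@[simp] theorem phi_imK (a : Z8) : (phi a).imK = ((a.a6 : ℝ) + a.a7 * s5) / 4 := rfl

theorem phi_injective : Function.Injective phi := by
  intro a b h
  have h0 := congrArg (fun q : ℍ[ℝ] => q.re) h
  have h1 := congrArg (fun q : ℍ[ℝ] => q.imI) h
  have h2 := congrArg (fun q : ℍ[ℝ] => q.imJ) h
  have h3 := congrArg (fun q : ℍ[ℝ] => q.imK) h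
  simp only [phi_re, phi_imI, phi_imJ, phi_imK] at h0 h1 h2 h3
  have e0 := int_s5_eq_zero (a := a.a0 - b.a0) (b := a.a1 - b.a1) (by push_cast; linarith)
  have e1 := int_s5_eq_zero (a := a.a2 - b.a2) (b := a.a3 - b.a3) (by push_cast; linarith)
  have e2 := int_s5_eq_zero (a := a.a4 - b.a4) (b := a.a5 - b.a5) (by push_cast; linarith)
  have e3 := int_s5_eq_zero (a := a.a6 - b.a6) (b := a.a7 - b.a7) (by push_cast; linarith)
  ext <;> omega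

theorem phi_zero : phi Z8.zero = 0 := by
  ext <;> simp [Z8.zero]

theorem phi_add (a b : Z8) : phi (Z8.add a b) = phi a + phi b := by
  ext <;> simp [Z8.add] <;> ring

theorem phi_neg (a : Z8) : phi (Z8.neg a) = -phi a := by
  ext <;> simp [Z8.neg] <;> ring

theorem phi_sub (a b : Z8) : phi (Z8.sub a b) = phi a - phi b := by
  ext <;> simp [Z8.sub] <;> ring

theorem phi_sm (n : ℤ) (a : Z8) : phi (Z8.sm n a) = (n : ℝ) • phi a := by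
  ext <;> simp [Z8.sm] <;> ring

theorem phi_conj (a : Z8) : phi (Z8.conj a) = star (phi a) := by
  ext <;> simp [Z8.conj] <;> ring

theorem phi_mul (a b : Z8) : phi a * phi b = (1 / 4 : ℝ) • phi (Z8.mul a b) := by
  have h := s5_mul_self
  ext
  · simp only [Quaternion.re_mul, phi_re, phi_imI, phi_imJ, phi_imK, Quaternion.re_smul, Z8.mul,
      smul_eq_mul]
    push_cast
    linear_combination ((a.a1 * b.a1 - a.a3 * b.a3 - a.a5 * b.a5 - a.a7 * b.a7 : ℝ) / 16) * h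
  · simp only [Quaternion.imI_mul, phi_re, phi_imI, phi_imJ, phi_imK, Quaternion.imI_smul, Z8.mul,
      smul_eq_mul]
    push_cast
    linear_combination ((a.a1 * b.a3 + a.a3 * b.a1 + a.a5 * b.a7 - a.a7 * b.a5 : ℝ) / 16) * h
  · simp only [Quaternion.imJ_mul, phi_re, phi_imI, phi_imJ, phi_imK, Quaternion.imJ_smul, Z8.mul,
      smul_eq_mul]
    push_cast
    linear_combination ((a.a1 * b.a5 - a.a3 * b.a7 + a.a5 * b.a1 + a.a7 * b.a3 : ℝ) / 16) * h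
  · simp only [Quaternion.imK_mul, phi_re, phi_imI, phi_imJ, phi_imK, Quaternion.imK_smul, Z8.mul,
      smul_eq_mul]
    push_cast
    linear_combination ((a.a1 * b.a7 + a.a3 * b.a5 - a.a5 * b.a3 + a.a7 * b.a1 : ℝ) / 16) * h

/-- the quotient by `n`, when all coordinates are multiples of `n`. -/
theorem phi_dv (a : Z8) (n : ℤ) (hn : n ≠ 0) (h : Z8.dvd n a) :
    phi (Z8.dv a n) = (1 / (n : ℝ)) • phi a := by
  obtain ⟨⟨k0, h0⟩, ⟨k1, h1⟩, ⟨k2, h2⟩, ⟨k3, h3⟩, ⟨k4, h4⟩, ⟨k5, h5⟩, ⟨k6, h6⟩, ⟨k7, h7⟩⟩ := h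
  have hn' : (n : ℝ) ≠ 0 := by exact_mod_cast hn
  ext <;> simp [Z8.dv, h0, h1, h2, h3, h4, h5, h6, h7, hn] <;> field_simp
 
end Cfsg.Agent.Helper9.J2B
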