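import Mathlib

set_option autoImplicit false

/-!
Chains of point stabilisers in groups of permutations of any type: the orbit-stabiliser identity
along a base, with upper bounds and finiteness.
-/

namespace Cfsg.Agent.Helper9.J2B

open MulAction

variable {α : Type*}

/-- the permutations fixing every point of a list. -/
def fixingL (l : List α) : Subgroup (Equiv.Perm α) where
  carrier := {σ | ∀ x ∈ l, σ x = x}
  one_mem' := fun _ _ => rfl
  mul_mem' := by
    intro a b ha hb x hx
    change a (b x) = x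
    rw [hb x hx, ha x hx]
  inv_mem' := by
    intro a ha x hx
    rw [Equiv.Perm.inv_eq_iff_eq]
    exact (ha x hx).symm

theorem mem_fixingL (l : List α) (σ : Equiv.Perm α) :
    σ ∈ fixingL l ↔ ∀ x ∈ l, σ x = x := Iff.rfl

theorem fixingL_nil : fixingL ([] : List α) = ⊤ := by
  ext σ
  simp [mem_fixingL]

theorem mem_fixingL_append (l : List α) (b : α) (σ : Equiv.Perm α) :
    σ ∈ fixingL (l ++ [b]) ↔ σ ∈ fixingL l ∧ σ b = b := by
  rw [mem_fixingL, mem_fixingL]
  constructor
  · intro h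
    exact ⟨fun x hx => h x (List.mem_append_left _ hx),
      h b (List.mem_append_right _ (List.mem_singleton.2 rfl))⟩
  · rintro ⟨h1, h2⟩ x hx
    rcases List.mem_append.1 hx with h | h
    · exact h1 x h
    · rw [List.mem_singleton.1 h]
      exact h2

/-- the stabiliser of a point in a stabiliser of the chain. -/
def stabEquivL (H : Subgroup (Equiv.Perm α)) (l : List α) (b : α) :
    ↥(stabilizer ↥(H ⊓ fixingL l) b) ≃ ↥(H ⊓ fixingL (l ++ [b])) where
  toFun x := ⟨x.1.1, by
    have h1 := x.1.2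
    have h2 : x.1.1 b = b := x.2
    rw [Subgroup.mem_inf] at h1 ⊢
    exact ⟨h1.1, (mem_fixingL_append l b _).2 ⟨h1.2, h2⟩⟩⟩
  invFun y := ⟨⟨y.1, by
    have h1 := y.2
    rw [Subgroup.mem_inf] at h1 ⊢
    exact ⟨h1.1, ((mem_fixingL_append l b _).1 h1.2).1⟩⟩, by
    have h1 := y.2
    rw [Subgroup.mem_inf] at h1
    exact ((mem_fixingL_append l b _).1 h1.2).2⟩
  left_inv x := rfl
  right_inv y := rfl

/-- the orbit-stabiliser identity along the chain. -/
theorem card_chainL (H : Subgroup (Equiv.Perm α)) (l : List α) (b : α) :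
    Nat.card ↥(H ⊓ fixingL l) =
      (orbit ↥(H ⊓ fixingL l) b).ncard * Nat.card ↥(H ⊓ fixingL (l ++ [b])) := by
  rw [← Nat.card_congr (stabEquivL H l b), ← index_stabilizer, Subgroup.index_mul_card]

/-- the upper bound, with the finiteness. -/
theorem card_le_stepL (H : Subgroup (Equiv.Perm α)) (l : List α) (b : α)
    (C : Finset α) (hC : ∀ σ ∈ H ⊓ fixingL l, σ b ∈ C) (c : ℕ)
    (hc : Nat.card ↥(H ⊓ fixingL (l ++ [b])) ≤ c)
    (hpos : 0 < Nat.card ↥(H ⊓ fixingL (l ++ [b]))) :
    Nat.card ↥(H ⊓ fixingL l) ≤ C.card * c ∧ 0 < Nat.card ↥(H ⊓ fixingL l) := by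
  rw [card_chainL H l b]
  have hsub : orbit ↥(H ⊓ fixingL l) b ⊆ (C : Set α) := by
    rintro y ⟨σ, rfl⟩
    exact hC σ.1 σ.2
  have hfin : (orbit ↥(H ⊓ fixingL l) b).Finite := (Finset.finite_toSet C).subset hsub
  constructor
  · refine Nat.mul_le_mul ?_ hc
    calc (orbit ↥(H ⊓ fixingL l) b).ncard ≤ (C : Set α).ncard :=
          Set.ncard_le_ncard hsub (Finset.finite_toSet C)
      _ = C.card := Set.ncard_coe_finset C
  · apply Nat.mul_pos _ hpos
    rw [Set.ncard_pos hfin]
    exact ⟨b, mem_orbit_self b⟩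

end Cfsg.Agent.Helper9.J2B
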