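import Mathlib
import Cfsg.Agent.Helper9.J2B.Chain

set_option autoImplicit false

/-! A group of permutations in which the images of three points are restricted to finite sets,
and only the identity fixes the three points, is finite of bounded order. -/

namespace Cfsg.Agent.Helper9.J2B

open MulAction

variable {α : Type*}

theorem card_le_chain3 (H : Subgroup (Equiv.Perm α)) (b1 b2 b3 : α) (C1 C2 C3 : Finset α)
    (h1 : ∀ σ ∈ H, σ b1 ∈ C1) (h2 : ∀ σ ∈ H, σ b1 = b1 → σ b2 ∈ C2)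
    (h3 : ∀ σ ∈ H, σ b1 = b1 → σ b2 = b2 → σ b3 ∈ C3)
    (h4 : ∀ σ ∈ H, σ b1 = b1 → σ b2 = b2 → σ b3 = b3 → σ = 1) :
    Nat.card ↥H ≤ C1.card * (C2.card * C3.card) ∧ 0 < Nat.card ↥H := by
  have m1 : b1 ∈ ([] ++ [b1] ++ [b2] ++ [b3] : List α) := by simp
  have m2 : b2 ∈ ([] ++ [b1] ++ [b2] ++ [b3] : List α) := by simp
  have m3 : b3 ∈ ([] ++ [b1] ++ [b2] ++ [b3] : List α) := by simp
  have n1 : b1 ∈ ([] ++ [b1] ++ [b2] : List α) := by simp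
  have n2 : b2 ∈ ([] ++ [b1] ++ [b2] : List α) := by simp
  have k1 : b1 ∈ ([] ++ [b1] : List α) := by simp
  have c3 : Nat.card ↥(H ⊓ fixingL ([] ++ [b1] ++ [b2] ++ [b3])) = 1 := by
    rw [Nat.card_eq_one_iff_unique]
    refine ⟨⟨?_⟩, ⟨1⟩⟩
    rintro ⟨σ, hσ⟩ ⟨τ, hτ⟩
    rw [Subgroup.mem_inf] at hσ hτ
    apply Subtype.ext
    change σ = τ
    rw [h4 σ hσ.1 (hσ.2 _ m1) (hσ.2 _ m2) (hσ.2 _ m3), h4 τ hτ.1 (hτ.2 _ m1) (hτ.2 _ m2) (hτ.2 _ m3)]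
  have s2 := card_le_stepL H ([] ++ [b1] ++ [b2]) b3 C3 (by
    intro σ hσ
    rw [Subgroup.mem_inf] at hσ
    exact h3 σ hσ.1 (hσ.2 _ n1) (hσ.2 _ n2)) 1 (le_of_eq c3) (by rw [c3]; exact Nat.one_pos)
  have s1 := card_le_stepL H ([] ++ [b1]) b2 C2 (by
    intro σ hσ
    rw [Subgroup.mem_inf] at hσ
    exact h2 σ hσ.1 (hσ.2 _ k1)) _ s2.1 s2.2
  have s0 := card_le_stepL H [] b1 C1 (by
    intro σ hσ
    rw [Subgroup.mem_inf] at hσ
    exact h1 σ hσ.1) _ s1.1 s1.2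
  have e : H ⊓ fixingL ([] : List α) = H := by
    rw [fixingL_nil, inf_top_eq]
  rw [e, mul_one] at s0
  exact s0

end Cfsg.Agent.Helper9.J2B
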