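import Cfsg.Agent.Helper9.J2B.Sep

set_option autoImplicit false

/-! The number of the minimal vectors and of the reflections. -/

namespace Cfsg.Agent.Helper9.J2B

open Quaternion Cfsg.Spor

theorem star_mul_of_mul_star (w : ℍ[ℝ]) (h : w * star w = 1) : star w * w = 1 := by
  rw [Quaternion.star_mul_self, ← Quaternion.self_mul_star]; exact h

theorem rep_mem (R : Z24) (hR : R ∈ repList) :
    phi3 R ∈ icoLeech ∧ qip (phi3 R) (phi3 R) = 4 := by
  obtain ⟨h1, h2, h3⟩ := repList_min R hR
  exact ⟨phi3_mem R h1, (norm4_iff R).2 ⟨h2, h3⟩⟩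

/-- the minimal vector that belongs to a unit and a representative. -/
noncomputable def minOf (p : Z8 × Z24) : Fin 3 → ℍ[ℝ] := lmul (phi p.1) (phi3 p.2)

theorem minOf_mem (p : Z8 × Z24) (h1 : p.1 ∈ unitList) (h2 : p.2 ∈ repList) :
    minOf p ∈ icoLeech ∧ qip (minOf p) (minOf p) = 4 := by
  have hu := unitList_isUnit p.1 h1
  obtain ⟨m1, m2⟩ := rep_mem p.2 h2
  exact lmul_unit_mem (phi p.1) (phi_mem_icosians _ hu.1) (unit_mul_star _ hu) _ m1 m2

theorem exists_ne_zero (r : Fin 3 → ℍ[ℝ]) (h4 : qip r r = 4) : ∃ t, r t ≠ 0 := by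
  by_contra hcon
  push Not at hcon
  rw [qip_def, hcon 0, hcon 1, hcon 2] at h4
  simp only [zero_mul, add_zero] at h4
  have := congrArg (fun q : ℍ[ℝ] => q.re) h4
  simp [four_eq] at this

theorem minOf_injOn (p q : Z8 × Z24) (hp1 : p.1 ∈ unitList) (hp2 : p.2 ∈ repList)
    (hq1 : q.1 ∈ unitList) (hq2 : q.2 ∈ repList) (h : minOf p = minOf q) : p = q := by
  unfold minOf at h
  have hu := unitList_isUnit p.1 hp1
  have hu' := unitList_isUnit q.1 hq1
  have h1 : lmul (star (phi q.1) * phi p.1) (phi3 p.2) = phi3 q.2 := by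
    rw [← lmul_lmul, h, lmul_lmul, unit_star_mul _ hu', lmul_one]
  have hw : star (star (phi q.1) * phi p.1) * (star (phi q.1) * phi p.1) = 1 := by
    rw [star_mul, star_star, mul_assoc, ← mul_assoc (phi q.1), unit_mul_star _ hu', one_mul,
      unit_star_mul _ hu]
  have hR := sep p.2 q.2 hp2 hq2 _ hw h1
  obtain ⟨t, ht⟩ := exists_ne_zero _ (rep_mem p.2 hp2).2
  rw [← hR] at h
  have h2 := congrFun h t
  simp only [lmul_apply] at h2
  have h3 : (phi p.1 - phi q.1) * phi3 p.2 t = 0 := by rw [sub_mul, h2, sub_self]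
  rcases mul_eq_zero.1 h3 with h4 | h4
  · exact Prod.ext (phi_injective (sub_eq_zero.1 h4)) hR
  · exact absurd h4 ht

set_option linter.constructorNameAsVariable false in
/-- the minimal vectors are the multiples of the representatives by the units. -/
theorem min_eq_image : {r : Fin 3 → ℍ[ℝ] | r ∈ icoLeech ∧ qip r r = 4} =
    minOf '' ((unitList.toFinset ×ˢ repList.toFinset : Finset (Z8 × Z24)) : Set (Z8 × Z24)) := by
  ext r
  constructor
  · rintro ⟨hr, h4⟩
    obtain ⟨U, hU, R, hR, e⟩ := min_classify r hr h4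
    have hu := unitList_isUnit U hU
    refine ⟨(Z8.conj U, R), ?_, ?_⟩
    · simp only [Finset.coe_product, Set.mem_prod, Finset.mem_coe, List.mem_toFinset]
      exact ⟨unitList_conj U hU, hR⟩
    · unfold minOf
      dsimp only
      rw [← e, phi_conj, lmul_lmul, unit_star_mul _ hu, lmul_one]
  · rintro ⟨p, hp, rfl⟩
    simp only [Finset.coe_product, Set.mem_prod, Finset.mem_coe, List.mem_toFinset] at hp
    exact minOf_mem p hp.1 hp.2

set_option linter.constructorNameAsVariable false in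
theorem min_ncard : {r : Fin 3 → ℍ[ℝ] | r ∈ icoLeech ∧ qip r r = 4}.ncard = 37800 := by
  rw [min_eq_image, Set.InjOn.ncard_image]
  · rw [Set.ncard_coe_finset, Finset.card_product, List.toFinset_card_of_nodup unitList_nodup,
      List.toFinset_card_of_nodup repList_nodup, unitList_length, repList_length]
  · intro p hp q hq h
    simp only [Finset.coe_product, Set.mem_prod, Finset.mem_coe, List.mem_toFinset] at hp hq
    exact minOf_injOn p q hp.1 hp.2 hq.1 hq.2 h

/-! ### the reflections -/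

theorem reflPerm_congr (r r' : Fin 3 → ℍ[ℝ]) (hr : r ∈ icoLeech) (h4 : qip r r = 4)
    (hr' : r' ∈ icoLeech) (h4' : qip r' r' = 4) (h : ∀ x, qrefl r x = qrefl r' x) :
    reflPerm r hr h4 = reflPerm r' hr' h4' := by
  ext x : 1
  apply Subtype.ext
  rw [reflPerm_apply, reflPerm_apply]
  exact h x

open Classical in
/-- the reflection that belongs to a representative. -/
noncomputable def reflOf (R : Z24) : Equiv.Perm icoLeech :=
  if h : phi3 R ∈ icoLeech ∧ qip (phi3 R) (phi3 R) = 4 then reflPerm (phi3 R) h.1 h.2 else 1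

theorem reflOf_eq (R : Z24) (hR : R ∈ repList) :
    reflOf R = reflPerm (phi3 R) (rep_mem R hR).1 (rep_mem R hR).2 :=
  dif_pos (rep_mem R hR)

/-- every reflection is the reflection of a representative. -/
theorem reflPerm_eq_reflOf (r : Fin 3 → ℍ[ℝ]) (hr : r ∈ icoLeech) (h4 : qip r r = 4) :
    ∃ R ∈ repList, reflPerm r hr h4 = reflOf R := by
  obtain ⟨U, hU, R, hR, e⟩ := min_classify r hr h4
  have hu := unitList_isUnit U hU
  refine ⟨R, hR, ?_⟩
  rw [reflOf_eq R hR]
  apply reflPerm_congr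
  intro x
  rw [← e, qrefl_lmul_root _ (unit_star_mul U hu)]

theorem four_mul_cancel (a : ℍ[ℝ]) (h : (4 : ℝ) • a = ((4 : ℝ) : ℍ[ℝ])) : a = 1 := by
  have := congrArg (fun q : ℍ[ℝ] => (1 / 4 : ℝ) • q) h
  simp only [smul_smul] at this
  norm_num at this
  rw [this]
  ext <;> simp

theorem reflOf_injOn (R R' : Z24) (hR : R ∈ repList) (hR' : R' ∈ repList)
    (h : reflOf R = reflOf R') : R = R' := by
  rw [reflOf_eq R hR, reflOf_eq R' hR'] at h
  obtain ⟨m1, m2⟩ := rep_mem R hR
  obtain ⟨m1', m2'⟩ := rep_mem R' hR'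
  have h1 := congrArg (fun f : Equiv.Perm icoLeech => ((f ⟨phi3 R', m1'⟩ : icoLeech) : Fin 3 → ℍ[ℝ])) h
  simp only [reflPerm_apply] at h1
  rw [qrefl_root _ m2', qrefl_eq] at h1
  -- the second representative is a multiple of the first one
  have h2 : lmul ((1 / 4 : ℝ) • qip (phi3 R') (phi3 R)) (phi3 R) = phi3 R' := by
    have h3 : lmul ((1 / 2 : ℝ) • qip (phi3 R') (phi3 R)) (phi3 R) = (2 : ℝ) • phi3 R' := by
      have : lmul ((1 / 2 : ℝ) • qip (phi3 R') (phi3 R)) (phi3 R) = phi3 R' - -phi3 R' := by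
        rw [← h1]; abel
      rw [this, sub_neg_eq_add, two_smul]
    funext t
    have h4 := congrFun h3 t
    simp only [lmul_apply, Pi.smul_apply, smul_mul_assoc] at h4 ⊢
    have h5 := congrArg (fun q : ℍ[ℝ] => (1 / 2 : ℝ) • q) h4
    simp only [smul_smul] at h5
    norm_num at h5
    rw [← h5]
  have hw : ((1 / 4 : ℝ) • qip (phi3 R') (phi3 R)) * star ((1 / 4 : ℝ) • qip (phi3 R') (phi3 R)) = 1 := by
    have h6 := m2'
    rw [← h2, qip_lmul_left, qip_lmul_right, m2, four_eq, Quaternion.coe_mul_eq_smul,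
      mul_smul_comm] at h6
    exact four_mul_cancel _ h6
  exact sep R R' hR hR' _ (star_mul_of_mul_star _ hw) h2

set_option linter.constructorNameAsVariable false in
theorem refl_eq_image : {f : Equiv.Perm icoLeech | IsIcoReflection f} =
    reflOf '' ((repList.toFinset : Finset Z24) : Set Z24) := by
  ext f
  constructor
  · intro hf
    obtain ⟨r, hr, h4, rfl⟩ := (isIcoReflection_iff f).1 hf
    obtain ⟨R, hR, e⟩ := reflPerm_eq_reflOf r hr h4
    exact ⟨R, by simpa using hR, e.symm⟩
  · rintro ⟨R, hR, rfl⟩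
    have hR' : R ∈ repList := by simpa using hR
    rw [reflOf_eq R hR']
    exact isIcoReflection_reflPerm _ _ _

set_option linter.constructorNameAsVariable false in
theorem refl_ncard : {f : Equiv.Perm icoLeech | IsIcoReflection f}.ncard = 315 := by
  rw [refl_eq_image, Set.InjOn.ncard_image]
  · rw [Set.ncard_coe_finset, List.toFinset_card_of_nodup repList_nodup, repList_length]
  · intro R hR R' hR' h
    simp only [Finset.mem_coe, List.mem_toFinset] at hR hR'
    exact reflOf_injOn R R' hR hR' h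

end Cfsg.Agent.Helper9.J2B
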