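import Cfsg.Agent.Helper9.J2B.Act
import Cfsg.Agent.Helper9.J2B.Chain3
import Cfsg.Agent.Helper9.J2B.Count

set_option autoImplicit false

/-! The reflection group has at most 1209600 elements: an isometry is known by the images of
three vectors, and the images of these are restricted by the Hermitian products. -/

namespace Cfsg.Agent.Helper9.J2B

open Quaternion Cfsg.Spor MulAction

/-- the vector of the lattice that three quaternions in integer coordinates stand for, or zero. -/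
noncomputable def toLam (V : Z24) : icoLeech :=
  if h : inLam V then ⟨phi3 V, phi3_mem V h⟩ else ⟨phi3 ⟨Z8.zero, Z8.zero, Z8.zero⟩,
    phi3_mem _ (by decide)⟩

theorem toLam_val (V : Z24) (h : inLam V) : (toLam V : Fin 3 → ℍ[ℝ]) = phi3 V := by
  unfold toLam
  rw [dif_pos h]

def B1 : Z24 := ⟨⟨8, 0, 0, 0, 0, 0, 0, 0⟩, Z8.zero, Z8.zero⟩
def B2 : Z24 := ⟨⟨4, 0, 4, 0, 0, 0, 0, 0⟩, ⟨4, 0, 4, 0, 0, 0, 0, 0⟩, Z8.zero⟩
def B3 : Z24 := ⟨⟨4, 0, 2, 0, 1, -1, 1, 1⟩, ⟨2, 0, 0, 0, 1, 1, -1, 1⟩, ⟨2, 0, 0, 0, 1, 1, -1, 1⟩⟩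

theorem B_inLam : inLam B1 ∧ inLam B2 ∧ inLam B3 := by decide

theorem B_min : (nrm8 B1.x + nrm8 B1.y + nrm8 B1.z = 64 ∧ pq8 B1.x + pq8 B1.y + pq8 B1.z = 0) ∧
    (nrm8 B2.x + nrm8 B2.y + nrm8 B2.z = 64 ∧ pq8 B2.x + pq8 B2.y + pq8 B2.z = 0) ∧
    (nrm8 B3.x + nrm8 B3.y + nrm8 B3.z = 64 ∧ pq8 B3.x + pq8 B3.y + pq8 B3.z = 0) := by decide

/-- the minimal vectors with the first quaternion of the second vector of the base. -/
def cand2 : List Z24 := srch leafV (lvlsY ++ lvlsZ) (startA B2.x).1 (startA B2.x).2 []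

/-- the minimal vectors with the first quaternion of the third vector of the base and its
product with the second vector. -/
def cand3 : List Z24 :=
  (srch leafV (lvlsY ++ lvlsZ) (startA B3.x).1 (startA B3.x).2 []).filter
    fun V => qipZ V B2 == qipZ B3 B2

set_option maxRecDepth 1000000 in
set_option maxHeartbeats 0 in
theorem cand_length : cand2.length = 16 ∧ cand3.length = 2 := by decide +kernel

/-- the product with the first vector of the base gives twice the first quaternion. -/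
theorem qip_B1 (x : Fin 3 → ℍ[ℝ]) : qip x (phi3 B1) = (2 : ℝ) • x 0 := by
  rw [qip_def, phi3_zero, phi3_one, phi3_two]
  have h1 : phi B1.x = ((2 : ℝ) : ℍ[ℝ]) := by
    ext <;> simp [B1] <;> norm_num
  have h2 : phi B1.y = 0 := phi_zero
  have h3 : phi B1.z = 0 := phi_zero
  rw [h1, h2, h3, star_zero, mul_zero, mul_zero, add_zero, add_zero, Quaternion.star_coe,
    Quaternion.mul_coe_eq_smul]

/-- a minimal vector of the lattice in integer coordinates. -/
theorem min_coords (c : icoLeech) (h4 : qip (c : Fin 3 → ℍ[ℝ]) (c : Fin 3 → ℍ[ℝ]) = 4) :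
    ∃ V : Z24, inLam V ∧ (c : Fin 3 → ℍ[ℝ]) = phi3 V ∧ c = toLam V ∧
      nrm8 V.x + nrm8 V.y + nrm8 V.z = 64 ∧ pq8 V.x + pq8 V.y + pq8 V.z = 0 := by
  obtain ⟨V, hV, e⟩ := (mem_icoLeech_iff _).1 c.2
  rw [e] at h4
  obtain ⟨n1, n2⟩ := (norm4_iff V).1 h4
  exact ⟨V, hV, e, Subtype.ext (by rw [toLam_val V hV]; exact e), n1, n2⟩

theorem smul_two_inj (a b : ℍ[ℝ]) (h : (2 : ℝ) • a = (2 : ℝ) • b) : a = b := by
  have := congrArg (fun q : ℍ[ℝ] => (1 / 2 : ℝ) • q) h
  simpa [smul_smul] using this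

/-- the first quaternion of the image of a vector under an isometry that fixes the first
vector of the base. -/
theorem first_coord (σ : Equiv.Perm icoLeech) (hσ : σ ∈ isoSub) (h1 : σ (toLam B1) = toLam B1)
    (W V : Z24) (hW : inLam W) (hV : inLam V) (e : σ (toLam W) = toLam V) : V.x = W.x := by
  have h := hσ (toLam W) (toLam B1)
  rw [h1, e, toLam_val V hV, toLam_val W hW, toLam_val B1 B_inLam.1, qip_B1, qip_B1] at h
  exact phi_injective (smul_two_inj _ _ h)

open Classical in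
/-- the finite set of the vectors of the lattice that a list stands for. -/
noncomputable def candF (l : List Z24) : Finset icoLeech := l.toFinset.image toLam

theorem mem_candF (l : List Z24) (V : Z24) (h : V ∈ l) : toLam V ∈ candF l := by
  classical
  unfold candF
  rw [Finset.mem_image]
  exact ⟨V, List.mem_toFinset.2 h, rfl⟩

theorem candF_card (l : List Z24) : (candF l).card ≤ l.length := by
  classical
  unfold candF
  exact Finset.card_image_le.trans (List.toFinset_card_le l)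

theorem mem_cand2 (σ : Equiv.Perm icoLeech) (hσ : σ ∈ isoSub) (h1 : σ (toLam B1) = toLam B1) :
    σ (toLam B2) ∈ candF cand2 := by
  have h4 : qip (σ (toLam B2) : Fin 3 → ℍ[ℝ]) (σ (toLam B2) : Fin 3 → ℍ[ℝ]) = 4 := by
    rw [hσ, toLam_val B2 B_inLam.2.1]
    exact (norm4_iff B2).2 B_min.2.1
  obtain ⟨V, hV, -, e, n1, n2⟩ := min_coords _ h4
  have hx := first_coord σ hσ h1 B2 V B_inLam.2.1 hV e
  rw [e]
  apply mem_candF
  unfold cand2
  rw [← hx]
  exact mem_srchA V hV n1 n2 []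

theorem mem_cand3 (σ : Equiv.Perm icoLeech) (hσ : σ ∈ isoSub) (h1 : σ (toLam B1) = toLam B1)
    (h2 : σ (toLam B2) = toLam B2) :
    σ (toLam B3) ∈ candF cand3 := by
  have h4 : qip (σ (toLam B3) : Fin 3 → ℍ[ℝ]) (σ (toLam B3) : Fin 3 → ℍ[ℝ]) = 4 := by
    rw [hσ, toLam_val B3 B_inLam.2.2]
    exact (norm4_iff B3).2 B_min.2.2
  obtain ⟨V, hV, -, e, n1, n2⟩ := min_coords _ h4
  have hx := first_coord σ hσ h1 B3 V B_inLam.2.2 hV e
  have hq : qipZ V B2 = qipZ B3 B2 := by
    have h := hσ (toLam B3) (toLam B2)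
    rw [h2, e, toLam_val V hV, toLam_val B3 B_inLam.2.2, toLam_val B2 B_inLam.2.1, qip_phi3,
      qip_phi3] at h
    exact phi_injective (smul_quarter_inj _ _ h)
  rw [e]
  apply mem_candF
  unfold cand3
  rw [List.mem_filter]
  refine ⟨?_, by rw [hq]; exact beq_self_eq_true _⟩
  rw [← hx]
  exact mem_srchA V hV n1 n2 []

/-- an isometry that fixes the three vectors of the base is the identity. -/
theorem eq_one_of_fix (σ : Equiv.Perm icoLeech) (hσ : σ ∈ isoSub) (h1 : σ (toLam B1) = toLam B1)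
    (h2 : σ (toLam B2) = toLam B2) (h3 : σ (toLam B3) = toLam B3) : σ = 1 := by
  ext x : 1
  apply Subtype.ext
  rw [Equiv.Perm.one_apply]
  have k1 := hσ x (toLam B1)
  have k2 := hσ x (toLam B2)
  have k3 := hσ x (toLam B3)
  rw [h1, toLam_val B1 B_inLam.1, qip_B1, qip_B1] at k1
  rw [h2, toLam_val B2 B_inLam.2.1, qip_def, qip_def, phi3_zero, phi3_one, phi3_two] at k2
  rw [h3, toLam_val B3 B_inLam.2.2, qip_def, qip_def, phi3_zero, phi3_one, phi3_two] at k3
  have e0 : (σ x : Fin 3 → ℍ[ℝ]) 0 = (x : Fin 3 → ℍ[ℝ]) 0 := smul_two_inj _ _ k1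
  have hz : phi B2.z = 0 := phi_zero
  have hy : phi B2.y ≠ 0 := phi_ne_zero _ (by decide)
  have hz3 : phi B3.z ≠ 0 := phi_ne_zero _ (by decide)
  rw [e0, hz, star_zero, mul_zero, mul_zero, add_zero, add_zero, add_right_inj] at k2
  have e1 : (σ x : Fin 3 → ℍ[ℝ]) 1 = (x : Fin 3 → ℍ[ℝ]) 1 :=
    mul_right_cancel₀ (star_ne_zero.2 hy) k2
  rw [e0, e1, add_right_inj] at k3
  have e2 : (σ x : Fin 3 → ℍ[ℝ]) 2 = (x : Fin 3 → ℍ[ℝ]) 2 :=
    mul_right_cancel₀ (star_ne_zero.2 hz3) k3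
  funext t
  fin_cases t
  · exact e0
  · exact e1
  · exact e2

/-- the minimal vectors in the lattice, as a set in the lattice. -/
def minSet : Set icoLeech := {x | qip (x : Fin 3 → ℍ[ℝ]) (x : Fin 3 → ℍ[ℝ]) = 4}

theorem minSet_ncard : minSet.ncard = 37800 := by
  rw [← min_ncard, ← Set.ncard_image_of_injective minSet Subtype.val_injective]
  congr 1
  ext r
  constructor
  · rintro ⟨x, hx, rfl⟩
    exact ⟨x.2, hx⟩
  · rintro ⟨hr, h4⟩
    exact ⟨⟨r, hr⟩, h4, rfl⟩

theorem minSet_finite : minSet.Finite := by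
  apply Set.finite_of_ncard_ne_zero
  rw [minSet_ncard]
  norm_num

/-- the group of the isometries of the lattice is finite, of order at most 1209600. -/
theorem card_isoSub_le : Nat.card ↥isoSub ≤ 1209600 ∧ 0 < Nat.card ↥isoSub := by
  have s0 := card_le_chain3 isoSub (toLam B1) (toLam B2) (toLam B3) minSet_finite.toFinset
    (candF cand2) (candF cand3) (by
      intro σ hσ
      rw [Set.Finite.mem_toFinset]
      show qip (σ (toLam B1) : Fin 3 → ℍ[ℝ]) (σ (toLam B1) : Fin 3 → ℍ[ℝ]) = 4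
      rw [hσ, toLam_val B1 B_inLam.1]
      exact (norm4_iff B1).2 B_min.1)
    (fun σ hσ h1 => mem_cand2 σ hσ h1) (fun σ hσ h1 h2 => mem_cand3 σ hσ h1 h2)
    (fun σ hσ h1 h2 h3 => eq_one_of_fix σ hσ h1 h2 h3)
  refine ⟨s0.1.trans ?_, s0.2⟩
  have c0 : minSet_finite.toFinset.card = 37800 := by
    rw [← Set.ncard_eq_toFinset_card minSet minSet_finite, minSet_ncard]
  have c2 := candF_card cand2
  have c3 := candF_card cand3
  rw [cand_length.1] at c2
  rw [cand_length.2] at c3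
  rw [c0]
  calc 37800 * ((candF cand2).card * (candF cand3).card)
      ≤ 37800 * (16 * 2) :=
        Nat.mul_le_mul_left _ (Nat.mul_le_mul c2 c3)
    _ = 1209600 := by norm_num

end Cfsg.Agent.Helper9.J2B
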