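import Cfsg.Agent.Helper9.J2B.Data

set_option autoImplicit false

/-! The search for the minimal vectors whose first quaternion is a representative. -/

namespace Cfsg.Agent.Helper9.J2B

set_option maxRecDepth 1000000 in
set_option maxHeartbeats 0 in
theorem reps1_eq : runAll leafV (lvlsY ++ lvlsZ) (canonX.map startA) = reps1 := by decide +kernel

end Cfsg.Agent.Helper9.J2B
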