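import Cfsg.Agent.Helper9.J2B.Data

set_option autoImplicit false

/-! The search for the minimal vectors whose first quaternion is zero. -/

namespace Cfsg.Agent.Helper9.J2B

/-- the representatives that can come second after zero. -/
def canonY : List Z8 :=
  canonX.filter fun Y => decide (Valid lvlsY (codes8 Z8.zero).reverse (codes8 Y))

set_option maxRecDepth 1000000 in
set_option maxHeartbeats 0 in
theorem reps2_eq : runAll leafV lvlsZ (canonY.map startB) = reps2 := by decide +kernel

/-- the minimal vectors with two zeros and a representative. -/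
def reps3 : List Z24 :=
  (canonX.filter fun Z => decide (inLam ⟨Z8.zero, Z8.zero, Z⟩ ∧ nrm8 Z = 64 ∧ pq8 Z = 0)).map
    fun Z => ⟨Z8.zero, Z8.zero, Z⟩

set_option maxRecDepth 1000000 in
set_option maxHeartbeats 0 in
theorem reps3_eq : reps3 = [⟨Z8.zero, Z8.zero, ⟨-8, 0, 0, 0, 0, 0, 0, 0⟩⟩] := by decide +kernel

end Cfsg.Agent.Helper9.J2B
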