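import Cfsg.Agent.Helper9.J2B.DataX

set_option autoImplicit false

/-! Each icosian of small norm is taken to a representative by a unit. -/

namespace Cfsg.Agent.Helper9.J2B

/-- the unit with the number `p.2 / 128` takes the icosian to the representative with the number
`p.2 % 128`. -/
def chkPair (p : Z8 × Nat) : Bool :=
  p.1 == Z8.zero || (decide (p.2 / 128 < 120) && (decide (p.2 % 128 < 111) &&
    (Z8.mul (unitList.getD (p.2 / 128) Z8.zero) p.1 ==
      Z8.sm 4 (canonX.getD (p.2 % 128) Z8.zero))))

set_option maxRecDepth 1000000 in
set_option maxHeartbeats 0 in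
theorem chkPairs : xPairs.all chkPair = true := by decide +kernel

end Cfsg.Agent.Helper9.J2B
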