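import Cfsg.Agent.Helper9.J2B.DataX

set_option autoImplicit false

/-! The search for the icosians of small norm gives the list of the data. -/

namespace Cfsg.Agent.Helper9.J2B

set_option maxRecDepth 1000000 in
set_option maxHeartbeats 0 in
theorem xList_eq : xList = xPairs.map Prod.fst := by decide +kernel

end Cfsg.Agent.Helper9.J2B
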