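import Cfsg.Agent.Helper9.J2B.Enum

set_option autoImplicit false

/-! Data: the units of the icosian ring, representatives of the quaternions of small norm up to
units, and the representatives of the minimal vectors. -/

namespace Cfsg.Agent.Helper9.J2B

set_option maxRecDepth 1000000 in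
/-- the 120 units, in integer coordinates. -/
def unitList : List Z8 := [
  ⟨-4, 0, 0, 0, 0, 0, 0, 0⟩,
  ⟨-2, 0, -2, 0, -2, 0, -2, 0⟩,
  ⟨-2, 0, -2, 0, -2, 0, 2, 0⟩,
  ⟨-2, 0, -2, 0, 2, 0, -2, 0⟩,
  ⟨-2, 0, -2, 0, 2, 0, 2, 0⟩,
  ⟨-2, 0, -1, -1, -1, 1, 0, 0⟩,
  ⟨-2, 0, -1, -1, 1, -1, 0, 0⟩,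
  ⟨-2, 0, -1, 1, 0, 0, -1, -1⟩,
  ⟨-2, 0, -1, 1, 0, 0, 1, 1⟩,
  ⟨-2, 0, 0, 0, -1, -1, -1, 1⟩,
  ⟨-2, 0, 0, 0, -1, -1, 1, -1⟩,
  ⟨-2, 0, 0, 0, 1, 1, -1, 1⟩,
  ⟨-2, 0, 0, 0, 1, 1, 1, -1⟩,
  ⟨-2, 0, 1, -1, 0, 0, -1, -1⟩,
  ⟨-2, 0, 1, -1, 0, 0, 1, 1⟩,
  ⟨-2, 0, 1, 1, -1, 1, 0, 0⟩,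
  ⟨-2, 0, 1, 1, 1, -1, 0, 0⟩,
  ⟨-2, 0, 2, 0, -2, 0, -2, 0⟩,
  ⟨-2, 0, 2, 0, -2, 0, 2, 0⟩,
  ⟨-2, 0, 2, 0, 2, 0, -2, 0⟩,
  ⟨-2, 0, 2, 0, 2, 0, 2, 0⟩,
  ⟨-1, -1, -2, 0, 0, 0, -1, 1⟩,
  ⟨-1, -1, -2, 0, 0, 0, 1, -1⟩,
  ⟨-1, -1, -1, 1, -2, 0, 0, 0⟩,
  ⟨-1, -1, -1, 1, 2, 0, 0, 0⟩,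
  ⟨-1, -1, 0, 0, -1, 1, -2, 0⟩,
  ⟨-1, -1, 0, 0, -1, 1, 2, 0⟩,
  ⟨-1, -1, 0, 0, 1, -1, -2, 0⟩,
  ⟨-1, -1, 0, 0, 1, -1, 2, 0⟩,
  ⟨-1, -1, 1, -1, -2, 0, 0, 0⟩,
  ⟨-1, -1, 1, -1, 2, 0, 0, 0⟩,
  ⟨-1, -1, 2, 0, 0, 0, -1, 1⟩,
  ⟨-1, -1, 2, 0, 0, 0, 1, -1⟩,
  ⟨-1, 1, -2, 0, -1, -1, 0, 0⟩,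
  ⟨-1, 1, -2, 0, 1, 1, 0, 0⟩,
  ⟨-1, 1, -1, -1, 0, 0, -2, 0⟩,
  ⟨-1, 1, -1, -1, 0, 0, 2, 0⟩,
  ⟨-1, 1, 0, 0, -2, 0, -1, -1⟩,
  ⟨-1, 1, 0, 0, -2, 0, 1, 1⟩,
  ⟨-1, 1, 0, 0, 2, 0, -1, -1⟩,
  ⟨-1, 1, 0, 0, 2, 0, 1, 1⟩,
  ⟨-1, 1, 1, 1, 0, 0, -2, 0⟩,
  ⟨-1, 1, 1, 1, 0, 0, 2, 0⟩,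
  ⟨-1, 1, 2, 0, -1, -1, 0, 0⟩,
  ⟨-1, 1, 2, 0, 1, 1, 0, 0⟩,
  ⟨0, 0, -4, 0, 0, 0, 0, 0⟩,
  ⟨0, 0, -2, 0, -1, 1, -1, -1⟩,
  ⟨0, 0, -2, 0, -1, 1, 1, 1⟩,
  ⟨0, 0, -2, 0, 1, -1, -1, -1⟩,
  ⟨0, 0, -2, 0, 1, -1, 1, 1⟩,
  ⟨0, 0, -1, -1, -2, 0, -1, 1⟩,
  ⟨0, 0, -1, -1, -2, 0, 1, -1⟩,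
  ⟨0, 0, -1, -1, 2, 0, -1, 1⟩,
  ⟨0, 0, -1, -1, 2, 0, 1, -1⟩,
  ⟨0, 0, -1, 1, -1, -1, -2, 0⟩,
  ⟨0, 0, -1, 1, -1, -1, 2, 0⟩,
  ⟨0, 0, -1, 1, 1, 1, -2, 0⟩,
  ⟨0, 0, -1, 1, 1, 1, 2, 0⟩,
  ⟨0, 0, 0, 0, -4, 0, 0, 0⟩,
  ⟨0, 0, 0, 0, 0, 0, -4, 0⟩,
  ⟨0, 0, 0, 0, 0, 0, 4, 0⟩,
  ⟨0, 0, 0, 0, 4, 0, 0, 0⟩,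
  ⟨0, 0, 1, -1, -1, -1, -2, 0⟩,
  ⟨0, 0, 1, -1, -1, -1, 2, 0⟩,
  ⟨0, 0, 1, -1, 1, 1, -2, 0⟩,
  ⟨0, 0, 1, -1, 1, 1, 2, 0⟩,
  ⟨0, 0, 1, 1, -2, 0, -1, 1⟩,
  ⟨0, 0, 1, 1, -2, 0, 1, -1⟩,
  ⟨0, 0, 1, 1, 2, 0, -1, 1⟩,
  ⟨0, 0, 1, 1, 2, 0, 1, -1⟩,
  ⟨0, 0, 2, 0, -1, 1, -1, -1⟩,
  ⟨0, 0, 2, 0, -1, 1, 1, 1⟩,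
  ⟨0, 0, 2, 0, 1, -1, -1, -1⟩,
  ⟨0, 0, 2, 0, 1, -1, 1, 1⟩,
  ⟨0, 0, 4, 0, 0, 0, 0, 0⟩,
  ⟨1, -1, -2, 0, -1, -1, 0, 0⟩,
  ⟨1, -1, -2, 0, 1, 1, 0, 0⟩,
  ⟨1, -1, -1, -1, 0, 0, -2, 0⟩,
  ⟨1, -1, -1, -1, 0, 0, 2, 0⟩,
  ⟨1, -1, 0, 0, -2, 0, -1, -1⟩,
  ⟨1, -1, 0, 0, -2, 0, 1, 1⟩,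
  ⟨1, -1, 0, 0, 2, 0, -1, -1⟩,
  ⟨1, -1, 0, 0, 2, 0, 1, 1⟩,
  ⟨1, -1, 1, 1, 0, 0, -2, 0⟩,
  ⟨1, -1, 1, 1, 0, 0, 2, 0⟩,
  ⟨1, -1, 2, 0, -1, -1, 0, 0⟩,
  ⟨1, -1, 2, 0, 1, 1, 0, 0⟩,
  ⟨1, 1, -2, 0, 0, 0, -1, 1⟩,
  ⟨1, 1, -2, 0, 0, 0, 1, -1⟩,
  ⟨1, 1, -1, 1, -2, 0, 0, 0⟩,
  ⟨1, 1, -1, 1, 2, 0, 0, 0⟩,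
  ⟨1, 1, 0, 0, -1, 1, -2, 0⟩,
  ⟨1, 1, 0, 0, -1, 1, 2, 0⟩,
  ⟨1, 1, 0, 0, 1, -1, -2, 0⟩,
  ⟨1, 1, 0, 0, 1, -1, 2, 0⟩,
  ⟨1, 1, 1, -1, -2, 0, 0, 0⟩,
  ⟨1, 1, 1, -1, 2, 0, 0, 0⟩,
  ⟨1, 1, 2, 0, 0, 0, -1, 1⟩,
  ⟨1, 1, 2, 0, 0, 0, 1, -1⟩,
  ⟨2, 0, -2, 0, -2, 0, -2, 0⟩,
  ⟨2, 0, -2, 0, -2, 0, 2, 0⟩,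
  ⟨2, 0, -2, 0, 2, 0, -2, 0⟩,
  ⟨2, 0, -2, 0, 2, 0, 2, 0⟩,
  ⟨2, 0, -1, -1, -1, 1, 0, 0⟩,
  ⟨2, 0, -1, -1, 1, -1, 0, 0⟩,
  ⟨2, 0, -1, 1, 0, 0, -1, -1⟩,
  ⟨2, 0, -1, 1, 0, 0, 1, 1⟩,
  ⟨2, 0, 0, 0, -1, -1, -1, 1⟩,
  ⟨2, 0, 0, 0, -1, -1, 1, -1⟩,
  ⟨2, 0, 0, 0, 1, 1, -1, 1⟩,
  ⟨2, 0, 0, 0, 1, 1, 1, -1⟩,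
  ⟨2, 0, 1, -1, 0, 0, -1, -1⟩,
  ⟨2, 0, 1, -1, 0, 0, 1, 1⟩,
  ⟨2, 0, 1, 1, -1, 1, 0, 0⟩,
  ⟨2, 0, 1, 1, 1, -1, 0, 0⟩,
  ⟨2, 0, 2, 0, -2, 0, -2, 0⟩,
  ⟨2, 0, 2, 0, -2, 0, 2, 0⟩,
  ⟨2, 0, 2, 0, 2, 0, -2, 0⟩,
  ⟨2, 0, 2, 0, 2, 0, 2, 0⟩,
  ⟨4, 0, 0, 0, 0, 0, 0, 0⟩]

set_option maxRecDepth 1000000 in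
/-- representatives of the nonzero icosians of small norm, up to units on the left. -/
def canonX : List Z8 := [
  ⟨-8, 0, 0, 0, 0, 0, 0, 0⟩,
  ⟨-7, -1, -2, 0, -1, -1, 0, 0⟩,
  ⟨-7, -1, -2, 0, 1, 1, 0, 0⟩,
  ⟨-7, -1, -1, -1, 0, 0, -2, 0⟩,
  ⟨-7, -1, -1, -1, 0, 0, 2, 0⟩,
  ⟨-7, -1, 0, 0, -2, 0, -1, -1⟩,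
  ⟨-7, -1, 0, 0, -2, 0, 1, 1⟩,
  ⟨-7, -1, 0, 0, 2, 0, -1, -1⟩,
  ⟨-7, -1, 0, 0, 2, 0, 1, 1⟩,
  ⟨-7, -1, 1, 1, 0, 0, -2, 0⟩,
  ⟨-7, -1, 1, 1, 0, 0, 2, 0⟩,
  ⟨-7, -1, 2, 0, -1, -1, 0, 0⟩,
  ⟨-7, -1, 2, 0, 1, 1, 0, 0⟩,
  ⟨-7, 1, -2, 0, 0, 0, -1, 1⟩,
  ⟨-7, 1, -2, 0, 0, 0, 1, -1⟩,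
  ⟨-7, 1, -1, 1, -2, 0, 0, 0⟩,
  ⟨-7, 1, -1, 1, 2, 0, 0, 0⟩,
  ⟨-7, 1, 0, 0, -1, 1, -2, 0⟩,
  ⟨-7, 1, 0, 0, -1, 1, 2, 0⟩,
  ⟨-7, 1, 0, 0, 1, -1, -2, 0⟩,
  ⟨-7, 1, 0, 0, 1, -1, 2, 0⟩,
  ⟨-7, 1, 1, -1, -2, 0, 0, 0⟩,
  ⟨-7, 1, 1, -1, 2, 0, 0, 0⟩,
  ⟨-7, 1, 2, 0, 0, 0, -1, 1⟩,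
  ⟨-7, 1, 2, 0, 0, 0, 1, -1⟩,
  ⟨-6, -2, 0, 0, 0, 0, 0, 0⟩,
  ⟨-6, 0, -4, 0, -1, -1, -1, 1⟩,
  ⟨-6, 0, -4, 0, -1, -1, 1, -1⟩,
  ⟨-6, 0, -4, 0, 1, 1, -1, 1⟩,
  ⟨-6, 0, -4, 0, 1, 1, 1, -1⟩,
  ⟨-6, 0, -3, -1, 0, 0, -3, 1⟩,
  ⟨-6, 0, -3, -1, 0, 0, -1, -1⟩,
  ⟨-6, 0, -3, -1, 0, 0, 1, 1⟩,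
  ⟨-6, 0, -3, -1, 0, 0, 3, -1⟩,
  ⟨-6, 0, -3, 1, -3, -1, 0, 0⟩,
  ⟨-6, 0, -3, 1, -1, 1, 0, 0⟩,
  ⟨-6, 0, -3, 1, 1, -1, 0, 0⟩,
  ⟨-6, 0, -3, 1, 3, 1, 0, 0⟩,
  ⟨-6, 0, -2, 0, -2, 0, -2, 0⟩,
  ⟨-6, 0, -2, 0, -2, 0, 0, -2⟩,
  ⟨-6, 0, -2, 0, -2, 0, 2, 0⟩,
  ⟨-6, 0, -2, 0, 0, -2, -2, 0⟩,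
  ⟨-6, 0, -2, 0, 0, 2, 2, 0⟩,
  ⟨-6, 0, -2, 0, 2, 0, -2, 0⟩,
  ⟨-6, 0, -2, 0, 2, 0, 0, 2⟩,
  ⟨-6, 0, -2, 0, 2, 0, 2, 0⟩,
  ⟨-6, 0, -1, -1, -3, -1, 0, 0⟩,
  ⟨-6, 0, -1, -1, -1, 1, -4, 0⟩,
  ⟨-6, 0, -1, -1, -1, 1, 0, 0⟩,
  ⟨-6, 0, -1, -1, -1, 1, 4, 0⟩,
  ⟨-6, 0, -1, -1, 1, -1, -4, 0⟩,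
  ⟨-6, 0, -1, -1, 1, -1, 0, 0⟩,
  ⟨-6, 0, -1, -1, 1, -1, 4, 0⟩,
  ⟨-6, 0, -1, -1, 3, 1, 0, 0⟩,
  ⟨-6, 0, -1, 1, -4, 0, -1, -1⟩,
  ⟨-6, 0, -1, 1, -4, 0, 1, 1⟩,
  ⟨-6, 0, -1, 1, 0, 0, -3, 1⟩,
  ⟨-6, 0, -1, 1, 0, 0, -1, -1⟩,
  ⟨-6, 0, -1, 1, 0, 0, 1, 1⟩,
  ⟨-6, 0, -1, 1, 0, 0, 3, -1⟩,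
  ⟨-6, 0, -1, 1, 4, 0, -1, -1⟩,
  ⟨-6, 0, -1, 1, 4, 0, 1, 1⟩,
  ⟨-6, 0, 0, 0, -3, 1, -1, 1⟩,
  ⟨-6, 0, 0, 0, -3, 1, 1, -1⟩,
  ⟨-6, 0, 0, 0, -1, -1, -3, -1⟩,
  ⟨-6, 0, 0, 0, -1, -1, -1, 1⟩,
  ⟨-6, 0, 0, 0, -1, -1, 1, -1⟩,
  ⟨-6, 0, 0, 0, -1, -1, 3, 1⟩,
  ⟨-6, 0, 0, 0, 1, 1, -3, -1⟩,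
  ⟨-6, 0, 0, 0, 1, 1, 3, 1⟩,
  ⟨-6, 0, 0, 0, 3, -1, -1, 1⟩,
  ⟨-6, 0, 0, 0, 3, -1, 1, -1⟩,
  ⟨-6, 0, 1, -1, 0, 0, -3, 1⟩,
  ⟨-6, 0, 1, -1, 0, 0, 3, -1⟩,
  ⟨-6, 0, 1, 1, -3, -1, 0, 0⟩,
  ⟨-6, 0, 1, 1, 3, 1, 0, 0⟩,
  ⟨-6, 0, 3, -1, -1, 1, 0, 0⟩,
  ⟨-6, 0, 3, -1, 1, -1, 0, 0⟩,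
  ⟨-6, 0, 3, 1, 0, 0, -1, -1⟩,
  ⟨-6, 0, 3, 1, 0, 0, 1, 1⟩,
  ⟨-6, 2, 0, 0, 0, 0, 0, 0⟩,
  ⟨-5, -1, -3, -1, -2, 0, 0, 0⟩,
  ⟨-5, -1, -3, -1, 2, 0, 0, 0⟩,
  ⟨-5, -1, -2, 0, 0, 0, -3, -1⟩,
  ⟨-5, -1, -2, 0, 0, 0, -1, 1⟩,
  ⟨-5, -1, -2, 0, 0, 0, 1, -1⟩,
  ⟨-5, -1, -2, 0, 0, 0, 3, 1⟩,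
  ⟨-5, -1, -1, -1, -1, -1, 1, 1⟩,
  ⟨-5, -1, -1, 1, -2, 0, 0, 0⟩,
  ⟨-5, -1, -1, 1, 2, 0, 0, 0⟩,
  ⟨-5, -1, 0, 0, -1, 1, -2, 0⟩,
  ⟨-5, -1, 0, 0, -1, 1, 2, 0⟩,
  ⟨-5, 1, -3, 1, 0, 0, -2, 0⟩,
  ⟨-5, 1, -3, 1, 0, 0, 2, 0⟩,
  ⟨-5, 1, -2, 0, -3, 1, 0, 0⟩,
  ⟨-5, 1, -2, 0, -1, -1, 0, 0⟩,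
  ⟨-5, 1, -2, 0, 1, 1, 0, 0⟩,
  ⟨-5, 1, -2, 0, 3, -1, 0, 0⟩,
  ⟨-5, 1, -1, -1, 0, 0, -2, 0⟩,
  ⟨-5, 1, -1, -1, 0, 0, 2, 0⟩,
  ⟨-5, 1, -1, 1, -1, 1, -1, 1⟩,
  ⟨-5, 1, 0, 0, -2, 0, -1, -1⟩,
  ⟨-5, 1, 0, 0, -2, 0, 1, 1⟩,
  ⟨-4, 0, -4, 0, 0, 0, 0, 0⟩,
  ⟨-4, 0, -2, 0, -1, 1, -1, -1⟩,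
  ⟨-4, 0, -2, 0, -1, 1, 1, 1⟩,
  ⟨-4, 0, -2, 0, 1, -1, -1, -1⟩,
  ⟨-4, 0, -2, 0, 1, -1, 1, 1⟩,
  ⟨-4, 0, 0, 0, 0, 0, 0, 0⟩,
  ⟨-3, -1, -2, 0, -1, -1, 0, 0⟩,
  ⟨-3, 1, -2, 0, 0, 0, -1, 1⟩]

set_option maxRecDepth 1000000 in
/-- the minimal vectors whose first quaternion is a representative. -/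
def reps1 : List Z24 := [
  ⟨⟨-8, 0, 0, 0, 0, 0, 0, 0⟩, ⟨0, 0, 0, 0, 0, 0, 0, 0⟩, ⟨0, 0, 0, 0, 0, 0, 0, 0⟩⟩,
  ⟨⟨-4, 0, -4, 0, 0, 0, 0, 0⟩, ⟨-4, 0, -4, 0, 0, 0, 0, 0⟩, ⟨0, 0, 0, 0, 0, 0, 0, 0⟩⟩,
  ⟨⟨-4, 0, -4, 0, 0, 0, 0, 0⟩, ⟨-4, 0, 4, 0, 0, 0, 0, 0⟩, ⟨0, 0, 0, 0, 0, 0, 0, 0⟩⟩,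
  ⟨⟨-4, 0, -4, 0, 0, 0, 0, 0⟩, ⟨0, 0, 0, 0, -4, 0, -4, 0⟩, ⟨0, 0, 0, 0, 0, 0, 0, 0⟩⟩,
  ⟨⟨-4, 0, -4, 0, 0, 0, 0, 0⟩, ⟨0, 0, 0, 0, -4, 0, 4, 0⟩, ⟨0, 0, 0, 0, 0, 0, 0, 0⟩⟩,
  ⟨⟨-4, 0, -4, 0, 0, 0, 0, 0⟩, ⟨0, 0, 0, 0, 0, 0, 0, 0⟩, ⟨-4, 0, -4, 0, 0, 0, 0, 0⟩⟩,
  ⟨⟨-4, 0, -4, 0, 0, 0, 0, 0⟩, ⟨0, 0, 0, 0, 0, 0, 0, 0⟩, ⟨-4, 0, 4, 0, 0, 0, 0, 0⟩⟩,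
  ⟨⟨-4, 0, -4, 0, 0, 0, 0, 0⟩, ⟨0, 0, 0, 0, 0, 0, 0, 0⟩, ⟨0, 0, 0, 0, -4, 0, -4, 0⟩⟩,
  ⟨⟨-4, 0, -4, 0, 0, 0, 0, 0⟩, ⟨0, 0, 0, 0, 0, 0, 0, 0⟩, ⟨0, 0, 0, 0, -4, 0, 4, 0⟩⟩,
  ⟨⟨-4, 0, -4, 0, 0, 0, 0, 0⟩, ⟨0, 0, 0, 0, 0, 0, 0, 0⟩, ⟨0, 0, 0, 0, 4, 0, -4, 0⟩⟩,
  ⟨⟨-4, 0, -4, 0, 0, 0, 0, 0⟩, ⟨0, 0, 0, 0, 0, 0, 0, 0⟩, ⟨0, 0, 0, 0, 4, 0, 4, 0⟩⟩,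
  ⟨⟨-4, 0, -4, 0, 0, 0, 0, 0⟩, ⟨0, 0, 0, 0, 0, 0, 0, 0⟩, ⟨4, 0, -4, 0, 0, 0, 0, 0⟩⟩,
  ⟨⟨-4, 0, -4, 0, 0, 0, 0, 0⟩, ⟨0, 0, 0, 0, 0, 0, 0, 0⟩, ⟨4, 0, 4, 0, 0, 0, 0, 0⟩⟩,
  ⟨⟨-4, 0, -4, 0, 0, 0, 0, 0⟩, ⟨0, 0, 0, 0, 4, 0, -4, 0⟩, ⟨0, 0, 0, 0, 0, 0, 0, 0⟩⟩,
  ⟨⟨-4, 0, -4, 0, 0, 0, 0, 0⟩, ⟨0, 0, 0, 0, 4, 0, 4, 0⟩, ⟨0, 0, 0, 0, 0, 0, 0, 0⟩⟩,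
  ⟨⟨-4, 0, -4, 0, 0, 0, 0, 0⟩, ⟨4, 0, -4, 0, 0, 0, 0, 0⟩, ⟨0, 0, 0, 0, 0, 0, 0, 0⟩⟩,
  ⟨⟨-4, 0, -4, 0, 0, 0, 0, 0⟩, ⟨4, 0, 4, 0, 0, 0, 0, 0⟩, ⟨0, 0, 0, 0, 0, 0, 0, 0⟩⟩,
  ⟨⟨-4, 0, -2, 0, -1, 1, -1, -1⟩, ⟨-2, 0, 0, 0, -1, -1, 1, -1⟩, ⟨-2, 0, 0, 0, -1, -1, 1, -1⟩⟩,
  ⟨⟨-4, 0, -2, 0, -1, 1, -1, -1⟩, ⟨-2, 0, 0, 0, -1, -1, 1, -1⟩, ⟨2, 0, 0, 0, 1, 1, -1, 1⟩⟩,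
  ⟨⟨-4, 0, -2, 0, -1, 1, -1, -1⟩, ⟨-1, -1, 1, -1, 2, 0, 0, 0⟩, ⟨-1, -1, 1, -1, 2, 0, 0, 0⟩⟩,
  ⟨⟨-4, 0, -2, 0, -1, 1, -1, -1⟩, ⟨-1, -1, 1, -1, 2, 0, 0, 0⟩, ⟨1, 1, -1, 1, -2, 0, 0, 0⟩⟩,
  ⟨⟨-4, 0, -2, 0, -1, 1, -1, -1⟩, ⟨-1, 1, -1, -1, 0, 0, -2, 0⟩, ⟨-1, 1, -1, -1, 0, 0, -2, 0⟩⟩,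
  ⟨⟨-4, 0, -2, 0, -1, 1, -1, -1⟩, ⟨-1, 1, -1, -1, 0, 0, -2, 0⟩, ⟨1, -1, 1, 1, 0, 0, 2, 0⟩⟩,
  ⟨⟨-4, 0, -2, 0, -1, 1, -1, -1⟩, ⟨0, 0, -2, 0, 1, -1, 1, 1⟩, ⟨0, 0, -2, 0, 1, -1, 1, 1⟩⟩,
  ⟨⟨-4, 0, -2, 0, -1, 1, -1, -1⟩, ⟨0, 0, -2, 0, 1, -1, 1, 1⟩, ⟨0, 0, 2, 0, -1, 1, -1, -1⟩⟩,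
  ⟨⟨-4, 0, -2, 0, -1, 1, -1, -1⟩, ⟨0, 0, 2, 0, -1, 1, -1, -1⟩, ⟨0, 0, -2, 0, 1, -1, 1, 1⟩⟩,
  ⟨⟨-4, 0, -2, 0, -1, 1, -1, -1⟩, ⟨0, 0, 2, 0, -1, 1, -1, -1⟩, ⟨0, 0, 2, 0, -1, 1, -1, -1⟩⟩,
  ⟨⟨-4, 0, -2, 0, -1, 1, -1, -1⟩, ⟨1, -1, 1, 1, 0, 0, 2, 0⟩, ⟨-1, 1, -1, -1, 0, 0, -2, 0⟩⟩,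
  ⟨⟨-4, 0, -2, 0, -1, 1, -1, -1⟩, ⟨1, -1, 1, 1, 0, 0, 2, 0⟩, ⟨1, -1, 1, 1, 0, 0, 2, 0⟩⟩,
  ⟨⟨-4, 0, -2, 0, -1, 1, -1, -1⟩, ⟨1, 1, -1, 1, -2, 0, 0, 0⟩, ⟨-1, -1, 1, -1, 2, 0, 0, 0⟩⟩,
  ⟨⟨-4, 0, -2, 0, -1, 1, -1, -1⟩, ⟨1, 1, -1, 1, -2, 0, 0, 0⟩, ⟨1, 1, -1, 1, -2, 0, 0, 0⟩⟩,
  ⟨⟨-4, 0, -2, 0, -1, 1, -1, -1⟩, ⟨2, 0, 0, 0, 1, 1, -1, 1⟩, ⟨-2, 0, 0, 0, -1, -1, 1, -1⟩⟩,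
  ⟨⟨-4, 0, -2, 0, -1, 1, -1, -1⟩, ⟨2, 0, 0, 0, 1, 1, -1, 1⟩, ⟨2, 0, 0, 0, 1, 1, -1, 1⟩⟩,
  ⟨⟨-4, 0, -2, 0, -1, 1, 1, 1⟩, ⟨-2, 0, 0, 0, 1, 1, 1, -1⟩, ⟨-1, 1, 1, 1, 0, 0, -2, 0⟩⟩,
  ⟨⟨-4, 0, -2, 0, -1, 1, 1, 1⟩, ⟨-2, 0, 0, 0, 1, 1, 1, -1⟩, ⟨1, -1, -1, -1, 0, 0, 2, 0⟩⟩,
  ⟨⟨-4, 0, -2, 0, -1, 1, 1, 1⟩, ⟨-1, -1, -1, 1, -2, 0, 0, 0⟩, ⟨0, 0, -2, 0, 1, -1, -1, -1⟩⟩,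
  ⟨⟨-4, 0, -2, 0, -1, 1, 1, 1⟩, ⟨-1, -1, -1, 1, -2, 0, 0, 0⟩, ⟨0, 0, 2, 0, -1, 1, 1, 1⟩⟩,
  ⟨⟨-4, 0, -2, 0, -1, 1, 1, 1⟩, ⟨-1, 1, 1, 1, 0, 0, -2, 0⟩, ⟨-2, 0, 0, 0, 1, 1, 1, -1⟩⟩,
  ⟨⟨-4, 0, -2, 0, -1, 1, 1, 1⟩, ⟨-1, 1, 1, 1, 0, 0, -2, 0⟩, ⟨2, 0, 0, 0, -1, -1, -1, 1⟩⟩,
  ⟨⟨-4, 0, -2, 0, -1, 1, 1, 1⟩, ⟨0, 0, -2, 0, 1, -1, -1, -1⟩, ⟨-1, -1, -1, 1, -2, 0, 0, 0⟩⟩,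
  ⟨⟨-4, 0, -2, 0, -1, 1, 1, 1⟩, ⟨0, 0, -2, 0, 1, -1, -1, -1⟩, ⟨1, 1, 1, -1, 2, 0, 0, 0⟩⟩,
  ⟨⟨-4, 0, -2, 0, -1, 1, 1, 1⟩, ⟨0, 0, 2, 0, -1, 1, 1, 1⟩, ⟨-1, -1, -1, 1, -2, 0, 0, 0⟩⟩,
  ⟨⟨-4, 0, -2, 0, -1, 1, 1, 1⟩, ⟨0, 0, 2, 0, -1, 1, 1, 1⟩, ⟨1, 1, 1, -1, 2, 0, 0, 0⟩⟩,
  ⟨⟨-4, 0, -2, 0, -1, 1, 1, 1⟩, ⟨1, -1, -1, -1, 0, 0, 2, 0⟩, ⟨-2, 0, 0, 0, 1, 1, 1, -1⟩⟩,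
  ⟨⟨-4, 0, -2, 0, -1, 1, 1, 1⟩, ⟨1, -1, -1, -1, 0, 0, 2, 0⟩, ⟨2, 0, 0, 0, -1, -1, -1, 1⟩⟩,
  ⟨⟨-4, 0, -2, 0, -1, 1, 1, 1⟩, ⟨1, 1, 1, -1, 2, 0, 0, 0⟩, ⟨0, 0, -2, 0, 1, -1, -1, -1⟩⟩,
  ⟨⟨-4, 0, -2, 0, -1, 1, 1, 1⟩, ⟨1, 1, 1, -1, 2, 0, 0, 0⟩, ⟨0, 0, 2, 0, -1, 1, 1, 1⟩⟩,
  ⟨⟨-4, 0, -2, 0, -1, 1, 1, 1⟩, ⟨2, 0, 0, 0, -1, -1, -1, 1⟩, ⟨-1, 1, 1, 1, 0, 0, -2, 0⟩⟩,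
  ⟨⟨-4, 0, -2, 0, -1, 1, 1, 1⟩, ⟨2, 0, 0, 0, -1, -1, -1, 1⟩, ⟨1, -1, -1, -1, 0, 0, 2, 0⟩⟩,
  ⟨⟨-4, 0, -2, 0, 1, -1, -1, -1⟩, ⟨-2, 0, 0, 0, -1, -1, -1, 1⟩, ⟨-1, -1, -1, 1, 2, 0, 0, 0⟩⟩,
  ⟨⟨-4, 0, -2, 0, 1, -1, -1, -1⟩, ⟨-2, 0, 0, 0, -1, -1, -1, 1⟩, ⟨1, 1, 1, -1, -2, 0, 0, 0⟩⟩,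
  ⟨⟨-4, 0, -2, 0, 1, -1, -1, -1⟩, ⟨-1, -1, -1, 1, 2, 0, 0, 0⟩, ⟨-2, 0, 0, 0, -1, -1, -1, 1⟩⟩,
  ⟨⟨-4, 0, -2, 0, 1, -1, -1, -1⟩, ⟨-1, -1, -1, 1, 2, 0, 0, 0⟩, ⟨2, 0, 0, 0, 1, 1, 1, -1⟩⟩,
  ⟨⟨-4, 0, -2, 0, 1, -1, -1, -1⟩, ⟨-1, 1, 1, 1, 0, 0, 2, 0⟩, ⟨0, 0, -2, 0, -1, 1, 1, 1⟩⟩,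
  ⟨⟨-4, 0, -2, 0, 1, -1, -1, -1⟩, ⟨-1, 1, 1, 1, 0, 0, 2, 0⟩, ⟨0, 0, 2, 0, 1, -1, -1, -1⟩⟩,
  ⟨⟨-4, 0, -2, 0, 1, -1, -1, -1⟩, ⟨0, 0, -2, 0, -1, 1, 1, 1⟩, ⟨-1, 1, 1, 1, 0, 0, 2, 0⟩⟩,
  ⟨⟨-4, 0, -2, 0, 1, -1, -1, -1⟩, ⟨0, 0, -2, 0, -1, 1, 1, 1⟩, ⟨1, -1, -1, -1, 0, 0, -2, 0⟩⟩,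
  ⟨⟨-4, 0, -2, 0, 1, -1, -1, -1⟩, ⟨0, 0, 2, 0, 1, -1, -1, -1⟩, ⟨-1, 1, 1, 1, 0, 0, 2, 0⟩⟩,
  ⟨⟨-4, 0, -2, 0, 1, -1, -1, -1⟩, ⟨0, 0, 2, 0, 1, -1, -1, -1⟩, ⟨1, -1, -1, -1, 0, 0, -2, 0⟩⟩,
  ⟨⟨-4, 0, -2, 0, 1, -1, -1, -1⟩, ⟨1, -1, -1, -1, 0, 0, -2, 0⟩, ⟨0, 0, -2, 0, -1, 1, 1, 1⟩⟩,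
  ⟨⟨-4, 0, -2, 0, 1, -1, -1, -1⟩, ⟨1, -1, -1, -1, 0, 0, -2, 0⟩, ⟨0, 0, 2, 0, 1, -1, -1, -1⟩⟩,
  ⟨⟨-4, 0, -2, 0, 1, -1, -1, -1⟩, ⟨1, 1, 1, -1, -2, 0, 0, 0⟩, ⟨-2, 0, 0, 0, -1, -1, -1, 1⟩⟩,
  ⟨⟨-4, 0, -2, 0, 1, -1, -1, -1⟩, ⟨1, 1, 1, -1, -2, 0, 0, 0⟩, ⟨2, 0, 0, 0, 1, 1, 1, -1⟩⟩,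
  ⟨⟨-4, 0, -2, 0, 1, -1, -1, -1⟩, ⟨2, 0, 0, 0, 1, 1, 1, -1⟩, ⟨-1, -1, -1, 1, 2, 0, 0, 0⟩⟩,
  ⟨⟨-4, 0, -2, 0, 1, -1, -1, -1⟩, ⟨2, 0, 0, 0, 1, 1, 1, -1⟩, ⟨1, 1, 1, -1, -2, 0, 0, 0⟩⟩,
  ⟨⟨-4, 0, -2, 0, 1, -1, 1, 1⟩, ⟨-2, 0, 0, 0, 1, 1, -1, 1⟩, ⟨0, 0, -2, 0, -1, 1, -1, -1⟩⟩,
  ⟨⟨-4, 0, -2, 0, 1, -1, 1, 1⟩, ⟨-2, 0, 0, 0, 1, 1, -1, 1⟩, ⟨0, 0, 2, 0, 1, -1, 1, 1⟩⟩,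
  ⟨⟨-4, 0, -2, 0, 1, -1, 1, 1⟩, ⟨-1, -1, 1, -1, -2, 0, 0, 0⟩, ⟨-1, 1, -1, -1, 0, 0, 2, 0⟩⟩,
  ⟨⟨-4, 0, -2, 0, 1, -1, 1, 1⟩, ⟨-1, -1, 1, -1, -2, 0, 0, 0⟩, ⟨1, -1, 1, 1, 0, 0, -2, 0⟩⟩,
  ⟨⟨-4, 0, -2, 0, 1, -1, 1, 1⟩, ⟨-1, 1, -1, -1, 0, 0, 2, 0⟩, ⟨-1, -1, 1, -1, -2, 0, 0, 0⟩⟩,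
  ⟨⟨-4, 0, -2, 0, 1, -1, 1, 1⟩, ⟨-1, 1, -1, -1, 0, 0, 2, 0⟩, ⟨1, 1, -1, 1, 2, 0, 0, 0⟩⟩,
  ⟨⟨-4, 0, -2, 0, 1, -1, 1, 1⟩, ⟨0, 0, -2, 0, -1, 1, -1, -1⟩, ⟨-2, 0, 0, 0, 1, 1, -1, 1⟩⟩,
  ⟨⟨-4, 0, -2, 0, 1, -1, 1, 1⟩, ⟨0, 0, -2, 0, -1, 1, -1, -1⟩, ⟨2, 0, 0, 0, -1, -1, 1, -1⟩⟩,
  ⟨⟨-4, 0, -2, 0, 1, -1, 1, 1⟩, ⟨0, 0, 2, 0, 1, -1, 1, 1⟩, ⟨-2, 0, 0, 0, 1, 1, -1, 1⟩⟩,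
  ⟨⟨-4, 0, -2, 0, 1, -1, 1, 1⟩, ⟨0, 0, 2, 0, 1, -1, 1, 1⟩, ⟨2, 0, 0, 0, -1, -1, 1, -1⟩⟩,
  ⟨⟨-4, 0, -2, 0, 1, -1, 1, 1⟩, ⟨1, -1, 1, 1, 0, 0, -2, 0⟩, ⟨-1, -1, 1, -1, -2, 0, 0, 0⟩⟩,
  ⟨⟨-4, 0, -2, 0, 1, -1, 1, 1⟩, ⟨1, -1, 1, 1, 0, 0, -2, 0⟩, ⟨1, 1, -1, 1, 2, 0, 0, 0⟩⟩,
  ⟨⟨-4, 0, -2, 0, 1, -1, 1, 1⟩, ⟨1, 1, -1, 1, 2, 0, 0, 0⟩, ⟨-1, 1, -1, -1, 0, 0, 2, 0⟩⟩,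
  ⟨⟨-4, 0, -2, 0, 1, -1, 1, 1⟩, ⟨1, 1, -1, 1, 2, 0, 0, 0⟩, ⟨1, -1, 1, 1, 0, 0, -2, 0⟩⟩,
  ⟨⟨-4, 0, -2, 0, 1, -1, 1, 1⟩, ⟨2, 0, 0, 0, -1, -1, 1, -1⟩, ⟨0, 0, -2, 0, -1, 1, -1, -1⟩⟩,
  ⟨⟨-4, 0, -2, 0, 1, -1, 1, 1⟩, ⟨2, 0, 0, 0, -1, -1, 1, -1⟩, ⟨0, 0, 2, 0, 1, -1, 1, 1⟩⟩,
  ⟨⟨-4, 0, 0, 0, 0, 0, 0, 0⟩, ⟨-4, 0, 0, 0, 0, 0, 0, 0⟩, ⟨-2, 0, -2, 0, 2, 0, 0, 2⟩⟩,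
  ⟨⟨-4, 0, 0, 0, 0, 0, 0, 0⟩, ⟨-4, 0, 0, 0, 0, 0, 0, 0⟩, ⟨-2, 0, 0, 2, -2, 0, 2, 0⟩⟩,
  ⟨⟨-4, 0, 0, 0, 0, 0, 0, 0⟩, ⟨-4, 0, 0, 0, 0, 0, 0, 0⟩, ⟨-2, 0, 2, 0, 0, 2, -2, 0⟩⟩,
  ⟨⟨-4, 0, 0, 0, 0, 0, 0, 0⟩, ⟨-4, 0, 0, 0, 0, 0, 0, 0⟩, ⟨0, -2, -2, 0, -2, 0, -2, 0⟩⟩,
  ⟨⟨-4, 0, 0, 0, 0, 0, 0, 0⟩, ⟨-4, 0, 0, 0, 0, 0, 0, 0⟩, ⟨0, 2, 2, 0, 2, 0, 2, 0⟩⟩,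
  ⟨⟨-4, 0, 0, 0, 0, 0, 0, 0⟩, ⟨-4, 0, 0, 0, 0, 0, 0, 0⟩, ⟨2, 0, -2, 0, 0, -2, 2, 0⟩⟩,
  ⟨⟨-4, 0, 0, 0, 0, 0, 0, 0⟩, ⟨-4, 0, 0, 0, 0, 0, 0, 0⟩, ⟨2, 0, 0, -2, 2, 0, -2, 0⟩⟩,
  ⟨⟨-4, 0, 0, 0, 0, 0, 0, 0⟩, ⟨-4, 0, 0, 0, 0, 0, 0, 0⟩, ⟨2, 0, 2, 0, -2, 0, 0, -2⟩⟩,
  ⟨⟨-4, 0, 0, 0, 0, 0, 0, 0⟩, ⟨-2, 0, -2, 0, -2, 0, 0, -2⟩, ⟨0, 0, -4, 0, 0, 0, 0, 0⟩⟩,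
  ⟨⟨-4, 0, 0, 0, 0, 0, 0, 0⟩, ⟨-2, 0, -2, 0, -2, 0, 0, -2⟩, ⟨0, 0, 4, 0, 0, 0, 0, 0⟩⟩,
  ⟨⟨-4, 0, 0, 0, 0, 0, 0, 0⟩, ⟨-2, 0, -2, 0, 0, -2, -2, 0⟩, ⟨0, 0, 0, 0, 0, 0, -4, 0⟩⟩,
  ⟨⟨-4, 0, 0, 0, 0, 0, 0, 0⟩, ⟨-2, 0, -2, 0, 0, -2, -2, 0⟩, ⟨0, 0, 0, 0, 0, 0, 4, 0⟩⟩,
  ⟨⟨-4, 0, 0, 0, 0, 0, 0, 0⟩, ⟨-2, 0, -2, 0, 0, 2, 2, 0⟩, ⟨0, 0, 0, 0, -4, 0, 0, 0⟩⟩,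
  ⟨⟨-4, 0, 0, 0, 0, 0, 0, 0⟩, ⟨-2, 0, -2, 0, 0, 2, 2, 0⟩, ⟨0, 0, 0, 0, 4, 0, 0, 0⟩⟩,
  ⟨⟨-4, 0, 0, 0, 0, 0, 0, 0⟩, ⟨-2, 0, -2, 0, 2, 0, 0, 2⟩, ⟨-4, 0, 0, 0, 0, 0, 0, 0⟩⟩,
  ⟨⟨-4, 0, 0, 0, 0, 0, 0, 0⟩, ⟨-2, 0, -2, 0, 2, 0, 0, 2⟩, ⟨4, 0, 0, 0, 0, 0, 0, 0⟩⟩,
  ⟨⟨-4, 0, 0, 0, 0, 0, 0, 0⟩, ⟨-2, 0, 0, -2, -2, 0, -2, 0⟩, ⟨0, 0, 0, 0, -4, 0, 0, 0⟩⟩,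
  ⟨⟨-4, 0, 0, 0, 0, 0, 0, 0⟩, ⟨-2, 0, 0, -2, -2, 0, -2, 0⟩, ⟨0, 0, 0, 0, 4, 0, 0, 0⟩⟩,
  ⟨⟨-4, 0, 0, 0, 0, 0, 0, 0⟩, ⟨-2, 0, 0, -2, 2, 0, 2, 0⟩, ⟨0, 0, 0, 0, 0, 0, -4, 0⟩⟩,
  ⟨⟨-4, 0, 0, 0, 0, 0, 0, 0⟩, ⟨-2, 0, 0, -2, 2, 0, 2, 0⟩, ⟨0, 0, 0, 0, 0, 0, 4, 0⟩⟩,
  ⟨⟨-4, 0, 0, 0, 0, 0, 0, 0⟩, ⟨-2, 0, 0, 2, -2, 0, 2, 0⟩, ⟨-4, 0, 0, 0, 0, 0, 0, 0⟩⟩,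
  ⟨⟨-4, 0, 0, 0, 0, 0, 0, 0⟩, ⟨-2, 0, 0, 2, -2, 0, 2, 0⟩, ⟨4, 0, 0, 0, 0, 0, 0, 0⟩⟩,
  ⟨⟨-4, 0, 0, 0, 0, 0, 0, 0⟩, ⟨-2, 0, 0, 2, 2, 0, -2, 0⟩, ⟨0, 0, -4, 0, 0, 0, 0, 0⟩⟩,
  ⟨⟨-4, 0, 0, 0, 0, 0, 0, 0⟩, ⟨-2, 0, 0, 2, 2, 0, -2, 0⟩, ⟨0, 0, 4, 0, 0, 0, 0, 0⟩⟩,
  ⟨⟨-4, 0, 0, 0, 0, 0, 0, 0⟩, ⟨-2, 0, 2, 0, -2, 0, 0, 2⟩, ⟨0, 0, 0, 0, 0, 0, -4, 0⟩⟩,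
  ⟨⟨-4, 0, 0, 0, 0, 0, 0, 0⟩, ⟨-2, 0, 2, 0, -2, 0, 0, 2⟩, ⟨0, 0, 0, 0, 0, 0, 4, 0⟩⟩,
  ⟨⟨-4, 0, 0, 0, 0, 0, 0, 0⟩, ⟨-2, 0, 2, 0, 0, -2, 2, 0⟩, ⟨0, 0, -4, 0, 0, 0, 0, 0⟩⟩,
  ⟨⟨-4, 0, 0, 0, 0, 0, 0, 0⟩, ⟨-2, 0, 2, 0, 0, -2, 2, 0⟩, ⟨0, 0, 4, 0, 0, 0, 0, 0⟩⟩,
  ⟨⟨-4, 0, 0, 0, 0, 0, 0, 0⟩, ⟨-2, 0, 2, 0, 0, 2, -2, 0⟩, ⟨-4, 0, 0, 0, 0, 0, 0, 0⟩⟩,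
  ⟨⟨-4, 0, 0, 0, 0, 0, 0, 0⟩, ⟨-2, 0, 2, 0, 0, 2, -2, 0⟩, ⟨4, 0, 0, 0, 0, 0, 0, 0⟩⟩,
  ⟨⟨-4, 0, 0, 0, 0, 0, 0, 0⟩, ⟨-2, 0, 2, 0, 2, 0, 0, -2⟩, ⟨0, 0, 0, 0, -4, 0, 0, 0⟩⟩,
  ⟨⟨-4, 0, 0, 0, 0, 0, 0, 0⟩, ⟨-2, 0, 2, 0, 2, 0, 0, -2⟩, ⟨0, 0, 0, 0, 4, 0, 0, 0⟩⟩,
  ⟨⟨-4, 0, 0, 0, 0, 0, 0, 0⟩, ⟨-1, -1, -1, -1, -1, -1, 1, 1⟩, ⟨-1, 1, -1, 1, 1, -1, 1, -1⟩⟩,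
  ⟨⟨-4, 0, 0, 0, 0, 0, 0, 0⟩, ⟨-1, -1, -1, -1, -1, -1, 1, 1⟩, ⟨1, -1, 1, -1, -1, 1, -1, 1⟩⟩,
  ⟨⟨-4, 0, 0, 0, 0, 0, 0, 0⟩, ⟨-1, -1, -1, -1, 1, 1, -1, -1⟩, ⟨-1, 1, 1, -1, 1, -1, -1, 1⟩⟩,
  ⟨⟨-4, 0, 0, 0, 0, 0, 0, 0⟩, ⟨-1, -1, -1, -1, 1, 1, -1, -1⟩, ⟨1, -1, -1, 1, -1, 1, 1, -1⟩⟩,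
  ⟨⟨-4, 0, 0, 0, 0, 0, 0, 0⟩, ⟨-1, -1, 1, 1, -1, -1, -1, -1⟩, ⟨-1, 1, 1, -1, -1, 1, 1, -1⟩⟩,
  ⟨⟨-4, 0, 0, 0, 0, 0, 0, 0⟩, ⟨-1, -1, 1, 1, -1, -1, -1, -1⟩, ⟨1, -1, -1, 1, 1, -1, -1, 1⟩⟩,
  ⟨⟨-4, 0, 0, 0, 0, 0, 0, 0⟩, ⟨-1, -1, 1, 1, 1, 1, 1, 1⟩, ⟨-1, 1, -1, 1, -1, 1, -1, 1⟩⟩,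
  ⟨⟨-4, 0, 0, 0, 0, 0, 0, 0⟩, ⟨-1, -1, 1, 1, 1, 1, 1, 1⟩, ⟨1, -1, 1, -1, 1, -1, 1, -1⟩⟩,
  ⟨⟨-4, 0, 0, 0, 0, 0, 0, 0⟩, ⟨-1, 1, -1, 1, -1, 1, -1, 1⟩, ⟨-1, -1, 1, 1, 1, 1, 1, 1⟩⟩,
  ⟨⟨-4, 0, 0, 0, 0, 0, 0, 0⟩, ⟨-1, 1, -1, 1, -1, 1, -1, 1⟩, ⟨1, 1, -1, -1, -1, -1, -1, -1⟩⟩,
  ⟨⟨-4, 0, 0, 0, 0, 0, 0, 0⟩, ⟨-1, 1, -1, 1, 1, -1, 1, -1⟩, ⟨-1, -1, -1, -1, -1, -1, 1, 1⟩⟩,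
  ⟨⟨-4, 0, 0, 0, 0, 0, 0, 0⟩, ⟨-1, 1, -1, 1, 1, -1, 1, -1⟩, ⟨1, 1, 1, 1, 1, 1, -1, -1⟩⟩,
  ⟨⟨-4, 0, 0, 0, 0, 0, 0, 0⟩, ⟨-1, 1, 1, -1, -1, 1, 1, -1⟩, ⟨-1, -1, 1, 1, -1, -1, -1, -1⟩⟩,
  ⟨⟨-4, 0, 0, 0, 0, 0, 0, 0⟩, ⟨-1, 1, 1, -1, -1, 1, 1, -1⟩, ⟨1, 1, -1, -1, 1, 1, 1, 1⟩⟩,
  ⟨⟨-4, 0, 0, 0, 0, 0, 0, 0⟩, ⟨-1, 1, 1, -1, 1, -1, -1, 1⟩, ⟨-1, -1, -1, -1, 1, 1, -1, -1⟩⟩,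
  ⟨⟨-4, 0, 0, 0, 0, 0, 0, 0⟩, ⟨-1, 1, 1, -1, 1, -1, -1, 1⟩, ⟨1, 1, 1, 1, -1, -1, 1, 1⟩⟩,
  ⟨⟨-4, 0, 0, 0, 0, 0, 0, 0⟩, ⟨0, -2, -2, 0, -2, 0, -2, 0⟩, ⟨-4, 0, 0, 0, 0, 0, 0, 0⟩⟩,
  ⟨⟨-4, 0, 0, 0, 0, 0, 0, 0⟩, ⟨0, -2, -2, 0, -2, 0, -2, 0⟩, ⟨4, 0, 0, 0, 0, 0, 0, 0⟩⟩,
  ⟨⟨-4, 0, 0, 0, 0, 0, 0, 0⟩, ⟨0, -2, -2, 0, 2, 0, 2, 0⟩, ⟨0, 0, -4, 0, 0, 0, 0, 0⟩⟩,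
  ⟨⟨-4, 0, 0, 0, 0, 0, 0, 0⟩, ⟨0, -2, -2, 0, 2, 0, 2, 0⟩, ⟨0, 0, 4, 0, 0, 0, 0, 0⟩⟩,
  ⟨⟨-4, 0, 0, 0, 0, 0, 0, 0⟩, ⟨0, -2, 2, 0, -2, 0, 2, 0⟩, ⟨0, 0, 0, 0, -4, 0, 0, 0⟩⟩,
  ⟨⟨-4, 0, 0, 0, 0, 0, 0, 0⟩, ⟨0, -2, 2, 0, -2, 0, 2, 0⟩, ⟨0, 0, 0, 0, 4, 0, 0, 0⟩⟩,
  ⟨⟨-4, 0, 0, 0, 0, 0, 0, 0⟩, ⟨0, -2, 2, 0, 2, 0, -2, 0⟩, ⟨0, 0, 0, 0, 0, 0, -4, 0⟩⟩,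
  ⟨⟨-4, 0, 0, 0, 0, 0, 0, 0⟩, ⟨0, -2, 2, 0, 2, 0, -2, 0⟩, ⟨0, 0, 0, 0, 0, 0, 4, 0⟩⟩,
  ⟨⟨-4, 0, 0, 0, 0, 0, 0, 0⟩, ⟨0, 0, -4, 0, 0, 0, 0, 0⟩, ⟨-2, 0, -2, 0, -2, 0, 0, -2⟩⟩,
  ⟨⟨-4, 0, 0, 0, 0, 0, 0, 0⟩, ⟨0, 0, -4, 0, 0, 0, 0, 0⟩, ⟨-2, 0, 0, 2, 2, 0, -2, 0⟩⟩,
  ⟨⟨-4, 0, 0, 0, 0, 0, 0, 0⟩, ⟨0, 0, -4, 0, 0, 0, 0, 0⟩, ⟨-2, 0, 2, 0, 0, -2, 2, 0⟩⟩,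
  ⟨⟨-4, 0, 0, 0, 0, 0, 0, 0⟩, ⟨0, 0, -4, 0, 0, 0, 0, 0⟩, ⟨0, -2, -2, 0, 2, 0, 2, 0⟩⟩,
  ⟨⟨-4, 0, 0, 0, 0, 0, 0, 0⟩, ⟨0, 0, -4, 0, 0, 0, 0, 0⟩, ⟨0, 2, 2, 0, -2, 0, -2, 0⟩⟩,
  ⟨⟨-4, 0, 0, 0, 0, 0, 0, 0⟩, ⟨0, 0, -4, 0, 0, 0, 0, 0⟩, ⟨2, 0, -2, 0, 0, 2, -2, 0⟩⟩,
  ⟨⟨-4, 0, 0, 0, 0, 0, 0, 0⟩, ⟨0, 0, -4, 0, 0, 0, 0, 0⟩, ⟨2, 0, 0, -2, -2, 0, 2, 0⟩⟩,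
  ⟨⟨-4, 0, 0, 0, 0, 0, 0, 0⟩, ⟨0, 0, -4, 0, 0, 0, 0, 0⟩, ⟨2, 0, 2, 0, 2, 0, 0, 2⟩⟩,
  ⟨⟨-4, 0, 0, 0, 0, 0, 0, 0⟩, ⟨0, 0, 0, 0, -4, 0, 0, 0⟩, ⟨-2, 0, -2, 0, 0, 2, 2, 0⟩⟩,
  ⟨⟨-4, 0, 0, 0, 0, 0, 0, 0⟩, ⟨0, 0, 0, 0, -4, 0, 0, 0⟩, ⟨-2, 0, 0, -2, -2, 0, -2, 0⟩⟩,
  ⟨⟨-4, 0, 0, 0, 0, 0, 0, 0⟩, ⟨0, 0, 0, 0, -4, 0, 0, 0⟩, ⟨-2, 0, 2, 0, 2, 0, 0, -2⟩⟩,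
  ⟨⟨-4, 0, 0, 0, 0, 0, 0, 0⟩, ⟨0, 0, 0, 0, -4, 0, 0, 0⟩, ⟨0, -2, 2, 0, -2, 0, 2, 0⟩⟩,
  ⟨⟨-4, 0, 0, 0, 0, 0, 0, 0⟩, ⟨0, 0, 0, 0, -4, 0, 0, 0⟩, ⟨0, 2, -2, 0, 2, 0, -2, 0⟩⟩,
  ⟨⟨-4, 0, 0, 0, 0, 0, 0, 0⟩, ⟨0, 0, 0, 0, -4, 0, 0, 0⟩, ⟨2, 0, -2, 0, -2, 0, 0, 2⟩⟩,
  ⟨⟨-4, 0, 0, 0, 0, 0, 0, 0⟩, ⟨0, 0, 0, 0, -4, 0, 0, 0⟩, ⟨2, 0, 0, 2, 2, 0, 2, 0⟩⟩,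
  ⟨⟨-4, 0, 0, 0, 0, 0, 0, 0⟩, ⟨0, 0, 0, 0, -4, 0, 0, 0⟩, ⟨2, 0, 2, 0, 0, -2, -2, 0⟩⟩,
  ⟨⟨-4, 0, 0, 0, 0, 0, 0, 0⟩, ⟨0, 0, 0, 0, 0, 0, -4, 0⟩, ⟨-2, 0, -2, 0, 0, -2, -2, 0⟩⟩,
  ⟨⟨-4, 0, 0, 0, 0, 0, 0, 0⟩, ⟨0, 0, 0, 0, 0, 0, -4, 0⟩, ⟨-2, 0, 0, -2, 2, 0, 2, 0⟩⟩,
  ⟨⟨-4, 0, 0, 0, 0, 0, 0, 0⟩, ⟨0, 0, 0, 0, 0, 0, -4, 0⟩, ⟨-2, 0, 2, 0, -2, 0, 0, 2⟩⟩,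
  ⟨⟨-4, 0, 0, 0, 0, 0, 0, 0⟩, ⟨0, 0, 0, 0, 0, 0, -4, 0⟩, ⟨0, -2, 2, 0, 2, 0, -2, 0⟩⟩,
  ⟨⟨-4, 0, 0, 0, 0, 0, 0, 0⟩, ⟨0, 0, 0, 0, 0, 0, -4, 0⟩, ⟨0, 2, -2, 0, -2, 0, 2, 0⟩⟩,
  ⟨⟨-4, 0, 0, 0, 0, 0, 0, 0⟩, ⟨0, 0, 0, 0, 0, 0, -4, 0⟩, ⟨2, 0, -2, 0, 2, 0, 0, -2⟩⟩,
  ⟨⟨-4, 0, 0, 0, 0, 0, 0, 0⟩, ⟨0, 0, 0, 0, 0, 0, -4, 0⟩, ⟨2, 0, 0, 2, -2, 0, -2, 0⟩⟩,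
  ⟨⟨-4, 0, 0, 0, 0, 0, 0, 0⟩, ⟨0, 0, 0, 0, 0, 0, -4, 0⟩, ⟨2, 0, 2, 0, 0, 2, 2, 0⟩⟩,
  ⟨⟨-4, 0, 0, 0, 0, 0, 0, 0⟩, ⟨0, 0, 0, 0, 0, 0, 4, 0⟩, ⟨-2, 0, -2, 0, 0, -2, -2, 0⟩⟩,
  ⟨⟨-4, 0, 0, 0, 0, 0, 0, 0⟩, ⟨0, 0, 0, 0, 0, 0, 4, 0⟩, ⟨-2, 0, 0, -2, 2, 0, 2, 0⟩⟩,
  ⟨⟨-4, 0, 0, 0, 0, 0, 0, 0⟩, ⟨0, 0, 0, 0, 0, 0, 4, 0⟩, ⟨-2, 0, 2, 0, -2, 0, 0, 2⟩⟩,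
  ⟨⟨-4, 0, 0, 0, 0, 0, 0, 0⟩, ⟨0, 0, 0, 0, 0, 0, 4, 0⟩, ⟨0, -2, 2, 0, 2, 0, -2, 0⟩⟩,
  ⟨⟨-4, 0, 0, 0, 0, 0, 0, 0⟩, ⟨0, 0, 0, 0, 0, 0, 4, 0⟩, ⟨0, 2, -2, 0, -2, 0, 2, 0⟩⟩,
  ⟨⟨-4, 0, 0, 0, 0, 0, 0, 0⟩, ⟨0, 0, 0, 0, 0, 0, 4, 0⟩, ⟨2, 0, -2, 0, 2, 0, 0, -2⟩⟩,
  ⟨⟨-4, 0, 0, 0, 0, 0, 0, 0⟩, ⟨0, 0, 0, 0, 0, 0, 4, 0⟩, ⟨2, 0, 0, 2, -2, 0, -2, 0⟩⟩,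
  ⟨⟨-4, 0, 0, 0, 0, 0, 0, 0⟩, ⟨0, 0, 0, 0, 0, 0, 4, 0⟩, ⟨2, 0, 2, 0, 0, 2, 2, 0⟩⟩,
  ⟨⟨-4, 0, 0, 0, 0, 0, 0, 0⟩, ⟨0, 0, 0, 0, 4, 0, 0, 0⟩, ⟨-2, 0, -2, 0, 0, 2, 2, 0⟩⟩,
  ⟨⟨-4, 0, 0, 0, 0, 0, 0, 0⟩, ⟨0, 0, 0, 0, 4, 0, 0, 0⟩, ⟨-2, 0, 0, -2, -2, 0, -2, 0⟩⟩,
  ⟨⟨-4, 0, 0, 0, 0, 0, 0, 0⟩, ⟨0, 0, 0, 0, 4, 0, 0, 0⟩, ⟨-2, 0, 2, 0, 2, 0, 0, -2⟩⟩,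
  ⟨⟨-4, 0, 0, 0, 0, 0, 0, 0⟩, ⟨0, 0, 0, 0, 4, 0, 0, 0⟩, ⟨0, -2, 2, 0, -2, 0, 2, 0⟩⟩,
  ⟨⟨-4, 0, 0, 0, 0, 0, 0, 0⟩, ⟨0, 0, 0, 0, 4, 0, 0, 0⟩, ⟨0, 2, -2, 0, 2, 0, -2, 0⟩⟩,
  ⟨⟨-4, 0, 0, 0, 0, 0, 0, 0⟩, ⟨0, 0, 0, 0, 4, 0, 0, 0⟩, ⟨2, 0, -2, 0, -2, 0, 0, 2⟩⟩,
  ⟨⟨-4, 0, 0, 0, 0, 0, 0, 0⟩, ⟨0, 0, 0, 0, 4, 0, 0, 0⟩, ⟨2, 0, 0, 2, 2, 0, 2, 0⟩⟩,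
  ⟨⟨-4, 0, 0, 0, 0, 0, 0, 0⟩, ⟨0, 0, 0, 0, 4, 0, 0, 0⟩, ⟨2, 0, 2, 0, 0, -2, -2, 0⟩⟩,
  ⟨⟨-4, 0, 0, 0, 0, 0, 0, 0⟩, ⟨0, 0, 4, 0, 0, 0, 0, 0⟩, ⟨-2, 0, -2, 0, -2, 0, 0, -2⟩⟩,
  ⟨⟨-4, 0, 0, 0, 0, 0, 0, 0⟩, ⟨0, 0, 4, 0, 0, 0, 0, 0⟩, ⟨-2, 0, 0, 2, 2, 0, -2, 0⟩⟩,
  ⟨⟨-4, 0, 0, 0, 0, 0, 0, 0⟩, ⟨0, 0, 4, 0, 0, 0, 0, 0⟩, ⟨-2, 0, 2, 0, 0, -2, 2, 0⟩⟩,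
  ⟨⟨-4, 0, 0, 0, 0, 0, 0, 0⟩, ⟨0, 0, 4, 0, 0, 0, 0, 0⟩, ⟨0, -2, -2, 0, 2, 0, 2, 0⟩⟩,
  ⟨⟨-4, 0, 0, 0, 0, 0, 0, 0⟩, ⟨0, 0, 4, 0, 0, 0, 0, 0⟩, ⟨0, 2, 2, 0, -2, 0, -2, 0⟩⟩,
  ⟨⟨-4, 0, 0, 0, 0, 0, 0, 0⟩, ⟨0, 0, 4, 0, 0, 0, 0, 0⟩, ⟨2, 0, -2, 0, 0, 2, -2, 0⟩⟩,
  ⟨⟨-4, 0, 0, 0, 0, 0, 0, 0⟩, ⟨0, 0, 4, 0, 0, 0, 0, 0⟩, ⟨2, 0, 0, -2, -2, 0, 2, 0⟩⟩,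
  ⟨⟨-4, 0, 0, 0, 0, 0, 0, 0⟩, ⟨0, 0, 4, 0, 0, 0, 0, 0⟩, ⟨2, 0, 2, 0, 2, 0, 0, 2⟩⟩,
  ⟨⟨-4, 0, 0, 0, 0, 0, 0, 0⟩, ⟨0, 2, -2, 0, -2, 0, 2, 0⟩, ⟨0, 0, 0, 0, 0, 0, -4, 0⟩⟩,
  ⟨⟨-4, 0, 0, 0, 0, 0, 0, 0⟩, ⟨0, 2, -2, 0, -2, 0, 2, 0⟩, ⟨0, 0, 0, 0, 0, 0, 4, 0⟩⟩,
  ⟨⟨-4, 0, 0, 0, 0, 0, 0, 0⟩, ⟨0, 2, -2, 0, 2, 0, -2, 0⟩, ⟨0, 0, 0, 0, -4, 0, 0, 0⟩⟩,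
  ⟨⟨-4, 0, 0, 0, 0, 0, 0, 0⟩, ⟨0, 2, -2, 0, 2, 0, -2, 0⟩, ⟨0, 0, 0, 0, 4, 0, 0, 0⟩⟩,
  ⟨⟨-4, 0, 0, 0, 0, 0, 0, 0⟩, ⟨0, 2, 2, 0, -2, 0, -2, 0⟩, ⟨0, 0, -4, 0, 0, 0, 0, 0⟩⟩,
  ⟨⟨-4, 0, 0, 0, 0, 0, 0, 0⟩, ⟨0, 2, 2, 0, -2, 0, -2, 0⟩, ⟨0, 0, 4, 0, 0, 0, 0, 0⟩⟩,
  ⟨⟨-4, 0, 0, 0, 0, 0, 0, 0⟩, ⟨0, 2, 2, 0, 2, 0, 2, 0⟩, ⟨-4, 0, 0, 0, 0, 0, 0, 0⟩⟩,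
  ⟨⟨-4, 0, 0, 0, 0, 0, 0, 0⟩, ⟨0, 2, 2, 0, 2, 0, 2, 0⟩, ⟨4, 0, 0, 0, 0, 0, 0, 0⟩⟩,
  ⟨⟨-4, 0, 0, 0, 0, 0, 0, 0⟩, ⟨1, -1, -1, 1, -1, 1, 1, -1⟩, ⟨-1, -1, -1, -1, 1, 1, -1, -1⟩⟩,
  ⟨⟨-4, 0, 0, 0, 0, 0, 0, 0⟩, ⟨1, -1, -1, 1, -1, 1, 1, -1⟩, ⟨1, 1, 1, 1, -1, -1, 1, 1⟩⟩,
  ⟨⟨-4, 0, 0, 0, 0, 0, 0, 0⟩, ⟨1, -1, -1, 1, 1, -1, -1, 1⟩, ⟨-1, -1, 1, 1, -1, -1, -1, -1⟩⟩,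
  ⟨⟨-4, 0, 0, 0, 0, 0, 0, 0⟩, ⟨1, -1, -1, 1, 1, -1, -1, 1⟩, ⟨1, 1, -1, -1, 1, 1, 1, 1⟩⟩,
  ⟨⟨-4, 0, 0, 0, 0, 0, 0, 0⟩, ⟨1, -1, 1, -1, -1, 1, -1, 1⟩, ⟨-1, -1, -1, -1, -1, -1, 1, 1⟩⟩,
  ⟨⟨-4, 0, 0, 0, 0, 0, 0, 0⟩, ⟨1, -1, 1, -1, -1, 1, -1, 1⟩, ⟨1, 1, 1, 1, 1, 1, -1, -1⟩⟩,
  ⟨⟨-4, 0, 0, 0, 0, 0, 0, 0⟩, ⟨1, -1, 1, -1, 1, -1, 1, -1⟩, ⟨-1, -1, 1, 1, 1, 1, 1, 1⟩⟩,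
  ⟨⟨-4, 0, 0, 0, 0, 0, 0, 0⟩, ⟨1, -1, 1, -1, 1, -1, 1, -1⟩, ⟨1, 1, -1, -1, -1, -1, -1, -1⟩⟩,
  ⟨⟨-4, 0, 0, 0, 0, 0, 0, 0⟩, ⟨1, 1, -1, -1, -1, -1, -1, -1⟩, ⟨-1, 1, -1, 1, -1, 1, -1, 1⟩⟩,
  ⟨⟨-4, 0, 0, 0, 0, 0, 0, 0⟩, ⟨1, 1, -1, -1, -1, -1, -1, -1⟩, ⟨1, -1, 1, -1, 1, -1, 1, -1⟩⟩,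
  ⟨⟨-4, 0, 0, 0, 0, 0, 0, 0⟩, ⟨1, 1, -1, -1, 1, 1, 1, 1⟩, ⟨-1, 1, 1, -1, -1, 1, 1, -1⟩⟩,
  ⟨⟨-4, 0, 0, 0, 0, 0, 0, 0⟩, ⟨1, 1, -1, -1, 1, 1, 1, 1⟩, ⟨1, -1, -1, 1, 1, -1, -1, 1⟩⟩,
  ⟨⟨-4, 0, 0, 0, 0, 0, 0, 0⟩, ⟨1, 1, 1, 1, -1, -1, 1, 1⟩, ⟨-1, 1, 1, -1, 1, -1, -1, 1⟩⟩,
  ⟨⟨-4, 0, 0, 0, 0, 0, 0, 0⟩, ⟨1, 1, 1, 1, -1, -1, 1, 1⟩, ⟨1, -1, -1, 1, -1, 1, 1, -1⟩⟩,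
  ⟨⟨-4, 0, 0, 0, 0, 0, 0, 0⟩, ⟨1, 1, 1, 1, 1, 1, -1, -1⟩, ⟨-1, 1, -1, 1, 1, -1, 1, -1⟩⟩,
  ⟨⟨-4, 0, 0, 0, 0, 0, 0, 0⟩, ⟨1, 1, 1, 1, 1, 1, -1, -1⟩, ⟨1, -1, 1, -1, -1, 1, -1, 1⟩⟩,
  ⟨⟨-4, 0, 0, 0, 0, 0, 0, 0⟩, ⟨2, 0, -2, 0, -2, 0, 0, 2⟩, ⟨0, 0, 0, 0, -4, 0, 0, 0⟩⟩,
  ⟨⟨-4, 0, 0, 0, 0, 0, 0, 0⟩, ⟨2, 0, -2, 0, -2, 0, 0, 2⟩, ⟨0, 0, 0, 0, 4, 0, 0, 0⟩⟩,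
  ⟨⟨-4, 0, 0, 0, 0, 0, 0, 0⟩, ⟨2, 0, -2, 0, 0, -2, 2, 0⟩, ⟨-4, 0, 0, 0, 0, 0, 0, 0⟩⟩,
  ⟨⟨-4, 0, 0, 0, 0, 0, 0, 0⟩, ⟨2, 0, -2, 0, 0, -2, 2, 0⟩, ⟨4, 0, 0, 0, 0, 0, 0, 0⟩⟩,
  ⟨⟨-4, 0, 0, 0, 0, 0, 0, 0⟩, ⟨2, 0, -2, 0, 0, 2, -2, 0⟩, ⟨0, 0, -4, 0, 0, 0, 0, 0⟩⟩,
  ⟨⟨-4, 0, 0, 0, 0, 0, 0, 0⟩, ⟨2, 0, -2, 0, 0, 2, -2, 0⟩, ⟨0, 0, 4, 0, 0, 0, 0, 0⟩⟩,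
  ⟨⟨-4, 0, 0, 0, 0, 0, 0, 0⟩, ⟨2, 0, -2, 0, 2, 0, 0, -2⟩, ⟨0, 0, 0, 0, 0, 0, -4, 0⟩⟩,
  ⟨⟨-4, 0, 0, 0, 0, 0, 0, 0⟩, ⟨2, 0, -2, 0, 2, 0, 0, -2⟩, ⟨0, 0, 0, 0, 0, 0, 4, 0⟩⟩,
  ⟨⟨-4, 0, 0, 0, 0, 0, 0, 0⟩, ⟨2, 0, 0, -2, -2, 0, 2, 0⟩, ⟨0, 0, -4, 0, 0, 0, 0, 0⟩⟩,
  ⟨⟨-4, 0, 0, 0, 0, 0, 0, 0⟩, ⟨2, 0, 0, -2, -2, 0, 2, 0⟩, ⟨0, 0, 4, 0, 0, 0, 0, 0⟩⟩,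
  ⟨⟨-4, 0, 0, 0, 0, 0, 0, 0⟩, ⟨2, 0, 0, -2, 2, 0, -2, 0⟩, ⟨-4, 0, 0, 0, 0, 0, 0, 0⟩⟩,
  ⟨⟨-4, 0, 0, 0, 0, 0, 0, 0⟩, ⟨2, 0, 0, -2, 2, 0, -2, 0⟩, ⟨4, 0, 0, 0, 0, 0, 0, 0⟩⟩,
  ⟨⟨-4, 0, 0, 0, 0, 0, 0, 0⟩, ⟨2, 0, 0, 2, -2, 0, -2, 0⟩, ⟨0, 0, 0, 0, 0, 0, -4, 0⟩⟩,
  ⟨⟨-4, 0, 0, 0, 0, 0, 0, 0⟩, ⟨2, 0, 0, 2, -2, 0, -2, 0⟩, ⟨0, 0, 0, 0, 0, 0, 4, 0⟩⟩,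
  ⟨⟨-4, 0, 0, 0, 0, 0, 0, 0⟩, ⟨2, 0, 0, 2, 2, 0, 2, 0⟩, ⟨0, 0, 0, 0, -4, 0, 0, 0⟩⟩,
  ⟨⟨-4, 0, 0, 0, 0, 0, 0, 0⟩, ⟨2, 0, 0, 2, 2, 0, 2, 0⟩, ⟨0, 0, 0, 0, 4, 0, 0, 0⟩⟩,
  ⟨⟨-4, 0, 0, 0, 0, 0, 0, 0⟩, ⟨2, 0, 2, 0, -2, 0, 0, -2⟩, ⟨-4, 0, 0, 0, 0, 0, 0, 0⟩⟩,
  ⟨⟨-4, 0, 0, 0, 0, 0, 0, 0⟩, ⟨2, 0, 2, 0, -2, 0, 0, -2⟩, ⟨4, 0, 0, 0, 0, 0, 0, 0⟩⟩,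
  ⟨⟨-4, 0, 0, 0, 0, 0, 0, 0⟩, ⟨2, 0, 2, 0, 0, -2, -2, 0⟩, ⟨0, 0, 0, 0, -4, 0, 0, 0⟩⟩,
  ⟨⟨-4, 0, 0, 0, 0, 0, 0, 0⟩, ⟨2, 0, 2, 0, 0, -2, -2, 0⟩, ⟨0, 0, 0, 0, 4, 0, 0, 0⟩⟩,
  ⟨⟨-4, 0, 0, 0, 0, 0, 0, 0⟩, ⟨2, 0, 2, 0, 0, 2, 2, 0⟩, ⟨0, 0, 0, 0, 0, 0, -4, 0⟩⟩,
  ⟨⟨-4, 0, 0, 0, 0, 0, 0, 0⟩, ⟨2, 0, 2, 0, 0, 2, 2, 0⟩, ⟨0, 0, 0, 0, 0, 0, 4, 0⟩⟩,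
  ⟨⟨-4, 0, 0, 0, 0, 0, 0, 0⟩, ⟨2, 0, 2, 0, 2, 0, 0, 2⟩, ⟨0, 0, -4, 0, 0, 0, 0, 0⟩⟩,
  ⟨⟨-4, 0, 0, 0, 0, 0, 0, 0⟩, ⟨2, 0, 2, 0, 2, 0, 0, 2⟩, ⟨0, 0, 4, 0, 0, 0, 0, 0⟩⟩,
  ⟨⟨-4, 0, 0, 0, 0, 0, 0, 0⟩, ⟨4, 0, 0, 0, 0, 0, 0, 0⟩, ⟨-2, 0, -2, 0, 2, 0, 0, 2⟩⟩,
  ⟨⟨-4, 0, 0, 0, 0, 0, 0, 0⟩, ⟨4, 0, 0, 0, 0, 0, 0, 0⟩, ⟨-2, 0, 0, 2, -2, 0, 2, 0⟩⟩,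
  ⟨⟨-4, 0, 0, 0, 0, 0, 0, 0⟩, ⟨4, 0, 0, 0, 0, 0, 0, 0⟩, ⟨-2, 0, 2, 0, 0, 2, -2, 0⟩⟩,
  ⟨⟨-4, 0, 0, 0, 0, 0, 0, 0⟩, ⟨4, 0, 0, 0, 0, 0, 0, 0⟩, ⟨0, -2, -2, 0, -2, 0, -2, 0⟩⟩,
  ⟨⟨-4, 0, 0, 0, 0, 0, 0, 0⟩, ⟨4, 0, 0, 0, 0, 0, 0, 0⟩, ⟨0, 2, 2, 0, 2, 0, 2, 0⟩⟩,
  ⟨⟨-4, 0, 0, 0, 0, 0, 0, 0⟩, ⟨4, 0, 0, 0, 0, 0, 0, 0⟩, ⟨2, 0, -2, 0, 0, -2, 2, 0⟩⟩,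
  ⟨⟨-4, 0, 0, 0, 0, 0, 0, 0⟩, ⟨4, 0, 0, 0, 0, 0, 0, 0⟩, ⟨2, 0, 0, -2, 2, 0, -2, 0⟩⟩,
  ⟨⟨-4, 0, 0, 0, 0, 0, 0, 0⟩, ⟨4, 0, 0, 0, 0, 0, 0, 0⟩, ⟨2, 0, 2, 0, -2, 0, 0, -2⟩⟩,
  ⟨⟨-3, -1, -2, 0, -1, -1, 0, 0⟩, ⟨-3, 1, 0, 0, 1, -1, -2, 0⟩, ⟨-1, 1, -2, 0, 1, 1, 0, 0⟩⟩,
  ⟨⟨-3, -1, -2, 0, -1, -1, 0, 0⟩, ⟨-3, 1, 0, 0, 1, -1, -2, 0⟩, ⟨1, -1, 2, 0, -1, -1, 0, 0⟩⟩,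
  ⟨⟨-3, -1, -2, 0, -1, -1, 0, 0⟩, ⟨-2, 0, -1, 1, 0, 0, 3, -1⟩, ⟨0, 0, -1, -1, -2, 0, 1, -1⟩⟩,
  ⟨⟨-3, -1, -2, 0, -1, -1, 0, 0⟩, ⟨-2, 0, -1, 1, 0, 0, 3, -1⟩, ⟨0, 0, 1, 1, 2, 0, -1, 1⟩⟩,
  ⟨⟨-3, -1, -2, 0, -1, -1, 0, 0⟩, ⟨-2, 0, 1, -1, 0, 0, 1, 1⟩, ⟨0, 0, -3, 1, -2, 0, -1, 1⟩⟩,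
  ⟨⟨-3, -1, -2, 0, -1, -1, 0, 0⟩, ⟨-2, 0, 1, -1, 0, 0, 1, 1⟩, ⟨0, 0, 3, -1, 2, 0, 1, -1⟩⟩,
  ⟨⟨-3, -1, -2, 0, -1, -1, 0, 0⟩, ⟨-1, -1, 0, 0, -1, 1, -2, 0⟩, ⟨-1, 1, 2, 0, -3, 1, 0, 0⟩⟩,
  ⟨⟨-3, -1, -2, 0, -1, -1, 0, 0⟩, ⟨-1, -1, 0, 0, -1, 1, -2, 0⟩, ⟨1, -1, -2, 0, 3, -1, 0, 0⟩⟩,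
  ⟨⟨-3, -1, -2, 0, -1, -1, 0, 0⟩, ⟨-1, 1, -2, 0, 1, 1, 0, 0⟩, ⟨-3, 1, 0, 0, 1, -1, -2, 0⟩⟩,
  ⟨⟨-3, -1, -2, 0, -1, -1, 0, 0⟩, ⟨-1, 1, -2, 0, 1, 1, 0, 0⟩, ⟨3, -1, 0, 0, -1, 1, 2, 0⟩⟩,
  ⟨⟨-3, -1, -2, 0, -1, -1, 0, 0⟩, ⟨-1, 1, 2, 0, -3, 1, 0, 0⟩, ⟨-1, -1, 0, 0, -1, 1, -2, 0⟩⟩,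
  ⟨⟨-3, -1, -2, 0, -1, -1, 0, 0⟩, ⟨-1, 1, 2, 0, -3, 1, 0, 0⟩, ⟨1, 1, 0, 0, 1, -1, 2, 0⟩⟩,
  ⟨⟨-3, -1, -2, 0, -1, -1, 0, 0⟩, ⟨0, 0, -3, 1, -2, 0, -1, 1⟩, ⟨-2, 0, 1, -1, 0, 0, 1, 1⟩⟩,
  ⟨⟨-3, -1, -2, 0, -1, -1, 0, 0⟩, ⟨0, 0, -3, 1, -2, 0, -1, 1⟩, ⟨2, 0, -1, 1, 0, 0, -1, -1⟩⟩,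
  ⟨⟨-3, -1, -2, 0, -1, -1, 0, 0⟩, ⟨0, 0, -1, -1, -2, 0, 1, -1⟩, ⟨-2, 0, -1, 1, 0, 0, 3, -1⟩⟩,
  ⟨⟨-3, -1, -2, 0, -1, -1, 0, 0⟩, ⟨0, 0, -1, -1, -2, 0, 1, -1⟩, ⟨2, 0, 1, -1, 0, 0, -3, 1⟩⟩,
  ⟨⟨-3, -1, -2, 0, -1, -1, 0, 0⟩, ⟨0, 0, 1, 1, 2, 0, -1, 1⟩, ⟨-2, 0, -1, 1, 0, 0, 3, -1⟩⟩,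
  ⟨⟨-3, -1, -2, 0, -1, -1, 0, 0⟩, ⟨0, 0, 1, 1, 2, 0, -1, 1⟩, ⟨2, 0, 1, -1, 0, 0, -3, 1⟩⟩,
  ⟨⟨-3, -1, -2, 0, -1, -1, 0, 0⟩, ⟨0, 0, 3, -1, 2, 0, 1, -1⟩, ⟨-2, 0, 1, -1, 0, 0, 1, 1⟩⟩,
  ⟨⟨-3, -1, -2, 0, -1, -1, 0, 0⟩, ⟨0, 0, 3, -1, 2, 0, 1, -1⟩, ⟨2, 0, -1, 1, 0, 0, -1, -1⟩⟩,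
  ⟨⟨-3, -1, -2, 0, -1, -1, 0, 0⟩, ⟨1, -1, -2, 0, 3, -1, 0, 0⟩, ⟨-1, -1, 0, 0, -1, 1, -2, 0⟩⟩,
  ⟨⟨-3, -1, -2, 0, -1, -1, 0, 0⟩, ⟨1, -1, -2, 0, 3, -1, 0, 0⟩, ⟨1, 1, 0, 0, 1, -1, 2, 0⟩⟩,
  ⟨⟨-3, -1, -2, 0, -1, -1, 0, 0⟩, ⟨1, -1, 2, 0, -1, -1, 0, 0⟩, ⟨-3, 1, 0, 0, 1, -1, -2, 0⟩⟩,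
  ⟨⟨-3, -1, -2, 0, -1, -1, 0, 0⟩, ⟨1, -1, 2, 0, -1, -1, 0, 0⟩, ⟨3, -1, 0, 0, -1, 1, 2, 0⟩⟩,
  ⟨⟨-3, -1, -2, 0, -1, -1, 0, 0⟩, ⟨1, 1, 0, 0, 1, -1, 2, 0⟩, ⟨-1, 1, 2, 0, -3, 1, 0, 0⟩⟩,
  ⟨⟨-3, -1, -2, 0, -1, -1, 0, 0⟩, ⟨1, 1, 0, 0, 1, -1, 2, 0⟩, ⟨1, -1, -2, 0, 3, -1, 0, 0⟩⟩,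
  ⟨⟨-3, -1, -2, 0, -1, -1, 0, 0⟩, ⟨2, 0, -1, 1, 0, 0, -1, -1⟩, ⟨0, 0, -3, 1, -2, 0, -1, 1⟩⟩,
  ⟨⟨-3, -1, -2, 0, -1, -1, 0, 0⟩, ⟨2, 0, -1, 1, 0, 0, -1, -1⟩, ⟨0, 0, 3, -1, 2, 0, 1, -1⟩⟩,
  ⟨⟨-3, -1, -2, 0, -1, -1, 0, 0⟩, ⟨2, 0, 1, -1, 0, 0, -3, 1⟩, ⟨0, 0, -1, -1, -2, 0, 1, -1⟩⟩,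
  ⟨⟨-3, -1, -2, 0, -1, -1, 0, 0⟩, ⟨2, 0, 1, -1, 0, 0, -3, 1⟩, ⟨0, 0, 1, 1, 2, 0, -1, 1⟩⟩,
  ⟨⟨-3, -1, -2, 0, -1, -1, 0, 0⟩, ⟨3, -1, 0, 0, -1, 1, 2, 0⟩, ⟨-1, 1, -2, 0, 1, 1, 0, 0⟩⟩,
  ⟨⟨-3, -1, -2, 0, -1, -1, 0, 0⟩, ⟨3, -1, 0, 0, -1, 1, 2, 0⟩, ⟨1, -1, 2, 0, -1, -1, 0, 0⟩⟩,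
  ⟨⟨-3, 1, -2, 0, 0, 0, -1, 1⟩, ⟨-3, -1, 0, 0, 2, 0, 1, 1⟩, ⟨0, 0, -1, 1, -1, -1, -2, 0⟩⟩,
  ⟨⟨-3, 1, -2, 0, 0, 0, -1, 1⟩, ⟨-3, -1, 0, 0, 2, 0, 1, 1⟩, ⟨0, 0, 1, -1, 1, 1, 2, 0⟩⟩,
  ⟨⟨-3, 1, -2, 0, 0, 0, -1, 1⟩, ⟨-2, 0, -1, -1, -3, -1, 0, 0⟩, ⟨-1, -1, -2, 0, 0, 0, 1, -1⟩⟩,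
  ⟨⟨-3, 1, -2, 0, 0, 0, -1, 1⟩, ⟨-2, 0, -1, -1, -3, -1, 0, 0⟩, ⟨1, 1, 2, 0, 0, 0, -1, 1⟩⟩,
  ⟨⟨-3, 1, -2, 0, 0, 0, -1, 1⟩, ⟨-2, 0, 1, 1, -1, 1, 0, 0⟩, ⟨-1, -1, 2, 0, 0, 0, -3, -1⟩⟩,
  ⟨⟨-3, 1, -2, 0, 0, 0, -1, 1⟩, ⟨-2, 0, 1, 1, -1, 1, 0, 0⟩, ⟨1, 1, -2, 0, 0, 0, 3, 1⟩⟩,
  ⟨⟨-3, 1, -2, 0, 0, 0, -1, 1⟩, ⟨-1, -1, -2, 0, 0, 0, 1, -1⟩, ⟨-2, 0, -1, -1, -3, -1, 0, 0⟩⟩,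
  ⟨⟨-3, 1, -2, 0, 0, 0, -1, 1⟩, ⟨-1, -1, -2, 0, 0, 0, 1, -1⟩, ⟨2, 0, 1, 1, 3, 1, 0, 0⟩⟩,
  ⟨⟨-3, 1, -2, 0, 0, 0, -1, 1⟩, ⟨-1, -1, 2, 0, 0, 0, -3, -1⟩, ⟨-2, 0, 1, 1, -1, 1, 0, 0⟩⟩,
  ⟨⟨-3, 1, -2, 0, 0, 0, -1, 1⟩, ⟨-1, -1, 2, 0, 0, 0, -3, -1⟩, ⟨2, 0, -1, -1, 1, -1, 0, 0⟩⟩,
  ⟨⟨-3, 1, -2, 0, 0, 0, -1, 1⟩, ⟨-1, 1, 0, 0, 2, 0, -1, -1⟩, ⟨0, 0, -3, -1, 1, 1, -2, 0⟩⟩,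
  ⟨⟨-3, 1, -2, 0, 0, 0, -1, 1⟩, ⟨-1, 1, 0, 0, 2, 0, -1, -1⟩, ⟨0, 0, 3, 1, -1, -1, 2, 0⟩⟩,
  ⟨⟨-3, 1, -2, 0, 0, 0, -1, 1⟩, ⟨0, 0, -3, -1, 1, 1, -2, 0⟩, ⟨-1, 1, 0, 0, 2, 0, -1, -1⟩⟩,
  ⟨⟨-3, 1, -2, 0, 0, 0, -1, 1⟩, ⟨0, 0, -3, -1, 1, 1, -2, 0⟩, ⟨1, -1, 0, 0, -2, 0, 1, 1⟩⟩,
  ⟨⟨-3, 1, -2, 0, 0, 0, -1, 1⟩, ⟨0, 0, -1, 1, -1, -1, -2, 0⟩, ⟨-3, -1, 0, 0, 2, 0, 1, 1⟩⟩,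
  ⟨⟨-3, 1, -2, 0, 0, 0, -1, 1⟩, ⟨0, 0, -1, 1, -1, -1, -2, 0⟩, ⟨3, 1, 0, 0, -2, 0, -1, -1⟩⟩,
  ⟨⟨-3, 1, -2, 0, 0, 0, -1, 1⟩, ⟨0, 0, 1, -1, 1, 1, 2, 0⟩, ⟨-3, -1, 0, 0, 2, 0, 1, 1⟩⟩,
  ⟨⟨-3, 1, -2, 0, 0, 0, -1, 1⟩, ⟨0, 0, 1, -1, 1, 1, 2, 0⟩, ⟨3, 1, 0, 0, -2, 0, -1, -1⟩⟩,
  ⟨⟨-3, 1, -2, 0, 0, 0, -1, 1⟩, ⟨0, 0, 3, 1, -1, -1, 2, 0⟩, ⟨-1, 1, 0, 0, 2, 0, -1, -1⟩⟩,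
  ⟨⟨-3, 1, -2, 0, 0, 0, -1, 1⟩, ⟨0, 0, 3, 1, -1, -1, 2, 0⟩, ⟨1, -1, 0, 0, -2, 0, 1, 1⟩⟩,
  ⟨⟨-3, 1, -2, 0, 0, 0, -1, 1⟩, ⟨1, -1, 0, 0, -2, 0, 1, 1⟩, ⟨0, 0, -3, -1, 1, 1, -2, 0⟩⟩,
  ⟨⟨-3, 1, -2, 0, 0, 0, -1, 1⟩, ⟨1, -1, 0, 0, -2, 0, 1, 1⟩, ⟨0, 0, 3, 1, -1, -1, 2, 0⟩⟩,
  ⟨⟨-3, 1, -2, 0, 0, 0, -1, 1⟩, ⟨1, 1, -2, 0, 0, 0, 3, 1⟩, ⟨-2, 0, 1, 1, -1, 1, 0, 0⟩⟩,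
  ⟨⟨-3, 1, -2, 0, 0, 0, -1, 1⟩, ⟨1, 1, -2, 0, 0, 0, 3, 1⟩, ⟨2, 0, -1, -1, 1, -1, 0, 0⟩⟩,
  ⟨⟨-3, 1, -2, 0, 0, 0, -1, 1⟩, ⟨1, 1, 2, 0, 0, 0, -1, 1⟩, ⟨-2, 0, -1, -1, -3, -1, 0, 0⟩⟩,
  ⟨⟨-3, 1, -2, 0, 0, 0, -1, 1⟩, ⟨1, 1, 2, 0, 0, 0, -1, 1⟩, ⟨2, 0, 1, 1, 3, 1, 0, 0⟩⟩,
  ⟨⟨-3, 1, -2, 0, 0, 0, -1, 1⟩, ⟨2, 0, -1, -1, 1, -1, 0, 0⟩, ⟨-1, -1, 2, 0, 0, 0, -3, -1⟩⟩,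
  ⟨⟨-3, 1, -2, 0, 0, 0, -1, 1⟩, ⟨2, 0, -1, -1, 1, -1, 0, 0⟩, ⟨1, 1, -2, 0, 0, 0, 3, 1⟩⟩,
  ⟨⟨-3, 1, -2, 0, 0, 0, -1, 1⟩, ⟨2, 0, 1, 1, 3, 1, 0, 0⟩, ⟨-1, -1, -2, 0, 0, 0, 1, -1⟩⟩,
  ⟨⟨-3, 1, -2, 0, 0, 0, -1, 1⟩, ⟨2, 0, 1, 1, 3, 1, 0, 0⟩, ⟨1, 1, 2, 0, 0, 0, -1, 1⟩⟩,
  ⟨⟨-3, 1, -2, 0, 0, 0, -1, 1⟩, ⟨3, 1, 0, 0, -2, 0, -1, -1⟩, ⟨0, 0, -1, 1, -1, -1, -2, 0⟩⟩,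
  ⟨⟨-3, 1, -2, 0, 0, 0, -1, 1⟩, ⟨3, 1, 0, 0, -2, 0, -1, -1⟩, ⟨0, 0, 1, -1, 1, 1, 2, 0⟩⟩]

set_option maxRecDepth 1000000 in
/-- the minimal vectors whose first quaternion is zero and whose second one is a representative. -/
def reps2 : List Z24 := [
  ⟨⟨0, 0, 0, 0, 0, 0, 0, 0⟩, ⟨-8, 0, 0, 0, 0, 0, 0, 0⟩, ⟨0, 0, 0, 0, 0, 0, 0, 0⟩⟩,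
  ⟨⟨0, 0, 0, 0, 0, 0, 0, 0⟩, ⟨-4, 0, -4, 0, 0, 0, 0, 0⟩, ⟨-4, 0, -4, 0, 0, 0, 0, 0⟩⟩,
  ⟨⟨0, 0, 0, 0, 0, 0, 0, 0⟩, ⟨-4, 0, -4, 0, 0, 0, 0, 0⟩, ⟨-4, 0, 4, 0, 0, 0, 0, 0⟩⟩,
  ⟨⟨0, 0, 0, 0, 0, 0, 0, 0⟩, ⟨-4, 0, -4, 0, 0, 0, 0, 0⟩, ⟨0, 0, 0, 0, -4, 0, -4, 0⟩⟩,
  ⟨⟨0, 0, 0, 0, 0, 0, 0, 0⟩, ⟨-4, 0, -4, 0, 0, 0, 0, 0⟩, ⟨0, 0, 0, 0, -4, 0, 4, 0⟩⟩,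
  ⟨⟨0, 0, 0, 0, 0, 0, 0, 0⟩, ⟨-4, 0, -4, 0, 0, 0, 0, 0⟩, ⟨0, 0, 0, 0, 4, 0, -4, 0⟩⟩,
  ⟨⟨0, 0, 0, 0, 0, 0, 0, 0⟩, ⟨-4, 0, -4, 0, 0, 0, 0, 0⟩, ⟨0, 0, 0, 0, 4, 0, 4, 0⟩⟩,
  ⟨⟨0, 0, 0, 0, 0, 0, 0, 0⟩, ⟨-4, 0, -4, 0, 0, 0, 0, 0⟩, ⟨4, 0, -4, 0, 0, 0, 0, 0⟩⟩,
  ⟨⟨0, 0, 0, 0, 0, 0, 0, 0⟩, ⟨-4, 0, -4, 0, 0, 0, 0, 0⟩, ⟨4, 0, 4, 0, 0, 0, 0, 0⟩⟩]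

end Cfsg.Agent.Helper9.J2B
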