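import Cfsg.Agent.Helper9.J2B.Data

set_option autoImplicit false

/-! Data: the icosians of small norm, each with a unit that takes it to a representative. -/

namespace Cfsg.Agent.Helper9.J2B

set_option maxRecDepth 1000000 in
def xPairs0 : List (Z8 × Nat) := [
  (⟨-8, 0, 0, 0, 0, 0, 0, 0⟩, 15232),
  (⟨-7, -1, -2, 0, -1, -1, 0, 0⟩, 15233),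
  (⟨-7, -1, -2, 0, 1, 1, 0, 0⟩, 15234),
  (⟨-7, -1, -1, -1, 0, 0, -2, 0⟩, 15235),
  (⟨-7, -1, -1, -1, 0, 0, 2, 0⟩, 15236),
  (⟨-7, -1, 0, 0, -2, 0, -1, -1⟩, 15237),
  (⟨-7, -1, 0, 0, -2, 0, 1, 1⟩, 15238),
  (⟨-7, -1, 0, 0, 2, 0, -1, -1⟩, 15239),
  (⟨-7, -1, 0, 0, 2, 0, 1, 1⟩, 15240),
  (⟨-7, -1, 1, 1, 0, 0, -2, 0⟩, 15241),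
  (⟨-7, -1, 1, 1, 0, 0, 2, 0⟩, 15242),
  (⟨-7, -1, 2, 0, -1, -1, 0, 0⟩, 15243),
  (⟨-7, -1, 2, 0, 1, 1, 0, 0⟩, 15244),
  (⟨-7, 1, -2, 0, 0, 0, -1, 1⟩, 15245),
  (⟨-7, 1, -2, 0, 0, 0, 1, -1⟩, 15246),
  (⟨-7, 1, -1, 1, -2, 0, 0, 0⟩, 15247),
  (⟨-7, 1, -1, 1, 2, 0, 0, 0⟩, 15248),
  (⟨-7, 1, 0, 0, -1, 1, -2, 0⟩, 15249),
  (⟨-7, 1, 0, 0, -1, 1, 2, 0⟩, 15250),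
  (⟨-7, 1, 0, 0, 1, -1, -2, 0⟩, 15251),
  (⟨-7, 1, 0, 0, 1, -1, 2, 0⟩, 15252),
  (⟨-7, 1, 1, -1, -2, 0, 0, 0⟩, 15253),
  (⟨-7, 1, 1, -1, 2, 0, 0, 0⟩, 15254),
  (⟨-7, 1, 2, 0, 0, 0, -1, 1⟩, 15255),
  (⟨-7, 1, 2, 0, 0, 0, 1, -1⟩, 15256),
  (⟨-6, -2, 0, 0, 0, 0, 0, 0⟩, 15257),
  (⟨-6, 0, -4, 0, -1, -1, -1, 1⟩, 15258),
  (⟨-6, 0, -4, 0, -1, -1, 1, -1⟩, 15259),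
  (⟨-6, 0, -4, 0, 1, 1, -1, 1⟩, 15260),
  (⟨-6, 0, -4, 0, 1, 1, 1, -1⟩, 15261),
  (⟨-6, 0, -3, -1, 0, 0, -3, 1⟩, 15262),
  (⟨-6, 0, -3, -1, 0, 0, -1, -1⟩, 15263),
  (⟨-6, 0, -3, -1, 0, 0, 1, 1⟩, 15264),
  (⟨-6, 0, -3, -1, 0, 0, 3, -1⟩, 15265),
  (⟨-6, 0, -3, 1, -3, -1, 0, 0⟩, 15266),
  (⟨-6, 0, -3, 1, -1, 1, 0, 0⟩, 15267),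
  (⟨-6, 0, -3, 1, 1, -1, 0, 0⟩, 15268),
  (⟨-6, 0, -3, 1, 3, 1, 0, 0⟩, 15269),
  (⟨-6, 0, -2, 0, -2, 0, -2, 0⟩, 15270),
  (⟨-6, 0, -2, 0, -2, 0, 0, -2⟩, 15271),
  (⟨-6, 0, -2, 0, -2, 0, 0, 2⟩, 13725),
  (⟨-6, 0, -2, 0, -2, 0, 2, 0⟩, 15272),
  (⟨-6, 0, -2, 0, 0, -2, -2, 0⟩, 15273),
  (⟨-6, 0, -2, 0, 0, -2, 2, 0⟩, 13852),
  (⟨-6, 0, -2, 0, 0, 2, -2, 0⟩, 13979),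
  (⟨-6, 0, -2, 0, 0, 2, 2, 0⟩, 15274),
  (⟨-6, 0, -2, 0, 2, 0, -2, 0⟩, 15275),
  (⟨-6, 0, -2, 0, 2, 0, 0, -2⟩, 14106),
  (⟨-6, 0, -2, 0, 2, 0, 0, 2⟩, 15276),
  (⟨-6, 0, -2, 0, 2, 0, 2, 0⟩, 15277),
  (⟨-6, 0, -1, -1, -3, -1, 0, 0⟩, 15278),
  (⟨-6, 0, -1, -1, -1, 1, -4, 0⟩, 15279),
  (⟨-6, 0, -1, -1, -1, 1, 0, 0⟩, 15280),
  (⟨-6, 0, -1, -1, -1, 1, 4, 0⟩, 15281),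
  (⟨-6, 0, -1, -1, 1, -1, -4, 0⟩, 15282),
  (⟨-6, 0, -1, -1, 1, -1, 0, 0⟩, 15283),
  (⟨-6, 0, -1, -1, 1, -1, 4, 0⟩, 15284),
  (⟨-6, 0, -1, -1, 3, 1, 0, 0⟩, 15285),
  (⟨-6, 0, -1, 1, -4, 0, -1, -1⟩, 15286),
  (⟨-6, 0, -1, 1, -4, 0, 1, 1⟩, 15287),
  (⟨-6, 0, -1, 1, 0, 0, -3, 1⟩, 15288),
  (⟨-6, 0, -1, 1, 0, 0, -1, -1⟩, 15289),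
  (⟨-6, 0, -1, 1, 0, 0, 1, 1⟩, 15290),
  (⟨-6, 0, -1, 1, 0, 0, 3, -1⟩, 15291),
  (⟨-6, 0, -1, 1, 4, 0, -1, -1⟩, 15292),
  (⟨-6, 0, -1, 1, 4, 0, 1, 1⟩, 15293),
  (⟨-6, 0, 0, -2, -2, 0, -2, 0⟩, 14252),
  (⟨-6, 0, 0, -2, -2, 0, 2, 0⟩, 14390),
  (⟨-6, 0, 0, -2, 2, 0, -2, 0⟩, 14269),
  (⟨-6, 0, 0, -2, 2, 0, 2, 0⟩, 14375),
  (⟨-6, 0, 0, 0, -3, 1, -3, -1⟩, 14757),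
  (⟨-6, 0, 0, 0, -3, 1, -1, 1⟩, 15294),
  (⟨-6, 0, 0, 0, -3, 1, 1, -1⟩, 15295),
  (⟨-6, 0, 0, 0, -3, 1, 3, 1⟩, 14878),
  (⟨-6, 0, 0, 0, -1, -1, -3, -1⟩, 15296),
  (⟨-6, 0, 0, 0, -1, -1, -1, 1⟩, 15297),
  (⟨-6, 0, 0, 0, -1, -1, 1, -1⟩, 15298),
  (⟨-6, 0, 0, 0, -1, -1, 3, 1⟩, 15299),
  (⟨-6, 0, 0, 0, 1, 1, -3, -1⟩, 15300),
  (⟨-6, 0, 0, 0, 1, 1, -1, 1⟩, 14018),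
  (⟨-6, 0, 0, 0, 1, 1, 1, -1⟩, 14145),
  (⟨-6, 0, 0, 0, 1, 1, 3, 1⟩, 15301),
  (⟨-6, 0, 0, 0, 3, -1, -3, -1⟩, 15009),
  (⟨-6, 0, 0, 0, 3, -1, -1, 1⟩, 15302),
  (⟨-6, 0, 0, 0, 3, -1, 1, -1⟩, 15303),
  (⟨-6, 0, 0, 0, 3, -1, 3, 1⟩, 15138),
  (⟨-6, 0, 0, 2, -2, 0, -2, 0⟩, 14514),
  (⟨-6, 0, 0, 2, -2, 0, 2, 0⟩, 14505),
  (⟨-6, 0, 0, 2, 2, 0, -2, 0⟩, 14634),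
  (⟨-6, 0, 0, 2, 2, 0, 2, 0⟩, 14641),
  (⟨-6, 0, 1, -1, -4, 0, -1, -1⟩, 14749),
  (⟨-6, 0, 1, -1, -4, 0, 1, 1⟩, 14898),
  (⟨-6, 0, 1, -1, 0, 0, -3, 1⟩, 15304),
  (⟨-6, 0, 1, -1, 0, 0, -1, -1⟩, 14266),
  (⟨-6, 0, 1, -1, 0, 0, 1, 1⟩, 14393),
  (⟨-6, 0, 1, -1, 0, 0, 3, -1⟩, 15305),
  (⟨-6, 0, 1, -1, 4, 0, -1, -1⟩, 15025),
  (⟨-6, 0, 1, -1, 4, 0, 1, 1⟩, 15130),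
  (⟨-6, 0, 1, 1, -3, -1, 0, 0⟩, 15306),
  (⟨-6, 0, 1, 1, -1, 1, -4, 0⟩, 14781),
  (⟨-6, 0, 1, 1, -1, 1, 0, 0⟩, 14515),
  (⟨-6, 0, 1, 1, -1, 1, 4, 0⟩, 14876),
  (⟨-6, 0, 1, 1, 1, -1, -4, 0⟩, 15003),
  (⟨-6, 0, 1, 1, 1, -1, 0, 0⟩, 14640),
  (⟨-6, 0, 1, 1, 1, -1, 4, 0⟩, 15158),
  (⟨-6, 0, 1, 1, 3, 1, 0, 0⟩, 15307),
  (⟨-6, 0, 2, 0, -2, 0, -2, 0⟩, 14765),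
  (⟨-6, 0, 2, 0, -2, 0, 0, -2⟩, 14263),
  (⟨-6, 0, 2, 0, -2, 0, 0, 2⟩, 13738),
  (⟨-6, 0, 2, 0, -2, 0, 2, 0⟩, 14891),
  (⟨-6, 0, 2, 0, 0, -2, -2, 0⟩, 14639),
  (⟨-6, 0, 2, 0, 0, -2, 2, 0⟩, 13868),
  (⟨-6, 0, 2, 0, 0, 2, -2, 0⟩, 13991),
  (⟨-6, 0, 2, 0, 0, 2, 2, 0⟩, 14516),
  (⟨-6, 0, 2, 0, 2, 0, -2, 0⟩, 15016),
  (⟨-6, 0, 2, 0, 2, 0, 0, -2⟩, 14121),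
  (⟨-6, 0, 2, 0, 2, 0, 0, 2⟩, 14396),
  (⟨-6, 0, 2, 0, 2, 0, 2, 0⟩, 15142),
  (⟨-6, 0, 3, -1, -3, -1, 0, 0⟩, 14753),
  (⟨-6, 0, 3, -1, -1, 1, 0, 0⟩, 15308),
  (⟨-6, 0, 3, -1, 1, -1, 0, 0⟩, 15309),
  (⟨-6, 0, 3, -1, 3, 1, 0, 0⟩, 15134),
  (⟨-6, 0, 3, 1, 0, 0, -3, 1⟩, 15010),
  (⟨-6, 0, 3, 1, 0, 0, -1, -1⟩, 15310),
  (⟨-6, 0, 3, 1, 0, 0, 1, 1⟩, 15311),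
  (⟨-6, 0, 3, 1, 0, 0, 3, -1⟩, 14885),
  (⟨-6, 0, 4, 0, -1, -1, -1, 1⟩, 14772),
  (⟨-6, 0, 4, 0, -1, -1, 1, -1⟩, 14908),
  (⟨-6, 0, 4, 0, 1, 1, -1, 1⟩, 15031),
  (⟨-6, 0, 4, 0, 1, 1, 1, -1⟩, 15151),
  (⟨-6, 2, 0, 0, 0, 0, 0, 0⟩, 15312),
  (⟨-5, -1, -5, 1, -2, 0, 0, 0⟩, 12733),
  (⟨-5, -1, -5, 1, 2, 0, 0, 0⟩, 13110),
  (⟨-5, -1, -4, 0, -3, -1, -2, 0⟩, 12680),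
  (⟨-5, -1, -4, 0, -3, -1, 2, 0⟩, 12809),
  (⟨-5, -1, -4, 0, -1, 1, -2, 0⟩, 12747),
  (⟨-5, -1, -4, 0, -1, 1, 2, 0⟩, 12868),
  (⟨-5, -1, -4, 0, 1, -1, -2, 0⟩, 12995),
  (⟨-5, -1, -4, 0, 1, -1, 2, 0⟩, 13130),
  (⟨-5, -1, -4, 0, 3, 1, -2, 0⟩, 12938),
  (⟨-5, -1, -4, 0, 3, 1, 2, 0⟩, 13061),
  (⟨-5, -1, -3, -1, -2, 0, -4, 0⟩, 12684),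
  (⟨-5, -1, -3, -1, -2, 0, 0, 0⟩, 15313),
  (⟨-5, -1, -3, -1, -2, 0, 4, 0⟩, 12807),
  (⟨-5, -1, -3, -1, 0, -2, 0, 0⟩, 13322),
  (⟨-5, -1, -3, -1, 0, 2, 0, 0⟩, 13193),
  (⟨-5, -1, -3, -1, 2, 0, -4, 0⟩, 12934),
  (⟨-5, -1, -3, -1, 2, 0, 0, 0⟩, 15314),
  (⟨-5, -1, -3, -1, 2, 0, 4, 0⟩, 13067),
  (⟨-5, -1, -3, 1, -3, 1, -1, -1⟩, 13489),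
  (⟨-5, -1, -3, 1, -3, 1, 1, 1⟩, 13607),
  (⟨-5, -1, -3, 1, -1, -1, -3, 1⟩, 13756),
  (⟨-5, -1, -3, 1, -1, -1, -1, -1⟩, 13472),
  (⟨-5, -1, -3, 1, -1, -1, 1, 1⟩, 13632),
  (⟨-5, -1, -3, 1, -1, -1, 3, -1⟩, 13866),
  (⟨-5, -1, -3, 1, 1, 1, -3, 1⟩, 13993),
  (⟨-5, -1, -3, 1, 1, 1, -1, -1⟩, 13509),
  (⟨-5, -1, -3, 1, 1, 1, 1, 1⟩, 13599),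
  (⟨-5, -1, -3, 1, 1, 1, 3, -1⟩, 14135),
  (⟨-5, -1, -3, 1, 3, -1, -1, -1⟩, 13484),
  (⟨-5, -1, -3, 1, 3, -1, 1, 1⟩, 13618),
  (⟨-5, -1, -2, -2, -1, 1, -2, 0⟩, 13195),
  (⟨-5, -1, -2, -2, -1, 1, 2, 0⟩, 13194),
  (⟨-5, -1, -2, -2, 1, -1, -2, 0⟩, 13321),
  (⟨-5, -1, -2, -2, 1, -1, 2, 0⟩, 13324),
  (⟨-5, -1, -2, 0, -4, 0, -3, -1⟩, 12682),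
  (⟨-5, -1, -2, 0, -4, 0, -1, 1⟩, 12741),
  (⟨-5, -1, -2, 0, -4, 0, 1, -1⟩, 12878),
  (⟨-5, -1, -2, 0, -4, 0, 3, 1⟩, 12812),
  (⟨-5, -1, -2, 0, -2, -2, -1, 1⟩, 13703),
  (⟨-5, -1, -2, 0, -2, -2, 1, -1⟩, 13826),
  (⟨-5, -1, -2, 0, -2, 2, -1, 1⟩, 13986),
  (⟨-5, -1, -2, 0, -2, 2, 1, -1⟩, 11826),
  (⟨-5, -1, -2, 0, 0, 0, -5, 1⟩, 12983),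
  (⟨-5, -1, -2, 0, 0, 0, -3, -1⟩, 15315),
  (⟨-5, -1, -2, 0, 0, 0, -1, 1⟩, 15316),
  (⟨-5, -1, -2, 0, 0, 0, 1, -1⟩, 15317),
  (⟨-5, -1, -2, 0, 0, 0, 3, 1⟩, 15318),
  (⟨-5, -1, -2, 0, 0, 0, 5, -1⟩, 12860),
  (⟨-5, -1, -2, 0, 2, -2, -1, 1⟩, 11953),
  (⟨-5, -1, -2, 0, 2, -2, 1, -1⟩, 13861),
  (⟨-5, -1, -2, 0, 2, 2, -1, 1⟩, 13953),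
  (⟨-5, -1, -2, 0, 2, 2, 1, -1⟩, 14086),
  (⟨-5, -1, -2, 0, 4, 0, -3, -1⟩, 12939),
  (⟨-5, -1, -2, 0, 4, 0, -1, 1⟩, 13007),
  (⟨-5, -1, -2, 0, 4, 0, 1, -1⟩, 13120),
  (⟨-5, -1, -2, 0, 4, 0, 3, 1⟩, 13065),
  (⟨-5, -1, -2, 2, -1, 1, -2, 0⟩, 14494),
  (⟨-5, -1, -2, 2, -1, 1, 2, 0⟩, 14490),
  (⟨-5, -1, -2, 2, 1, -1, -2, 0⟩, 14621),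
  (⟨-5, -1, -2, 2, 1, -1, 2, 0⟩, 14625),
  (⟨-5, -1, -1, -1, -3, 1, -3, 1⟩, 11700),
  (⟨-5, -1, -1, -1, -3, 1, -1, -1⟩, 13258),
  (⟨-5, -1, -1, -1, -3, 1, 1, 1⟩, 13263),
  (⟨-5, -1, -1, -1, -3, 1, 3, -1⟩, 11817),
  (⟨-5, -1, -1, -1, -1, -1, -3, 1⟩, 13764),
  (⟨-5, -1, -1, -1, -1, -1, -1, -1⟩, 14294),
  (⟨-5, -1, -1, -1, -1, -1, 1, 1⟩, 15319),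
  (⟨-5, -1, -1, -1, -1, -1, 3, -1⟩, 13877),
  (⟨-5, -1, -1, -1, 1, 1, -3, 1⟩, 13998),
  (⟨-5, -1, -1, -1, 1, 1, -1, -1⟩, 14167),
  (⟨-5, -1, -1, -1, 1, 1, 1, 1⟩, 14419),
  (⟨-5, -1, -1, -1, 1, 1, 3, -1⟩, 14147),
  (⟨-5, -1, -1, -1, 3, -1, -3, 1⟩, 11946),
  (⟨-5, -1, -1, -1, 3, -1, -1, -1⟩, 13390),
  (⟨-5, -1, -1, -1, 3, -1, 1, 1⟩, 13387),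
  (⟨-5, -1, -1, -1, 3, -1, 3, -1⟩, 12079),
  (⟨-5, -1, -1, 1, -2, 0, -4, 0⟩, 12751),
  (⟨-5, -1, -1, 1, -2, 0, -2, -2⟩, 13444),
  (⟨-5, -1, -1, 1, -2, 0, -2, 2⟩, 13733),
  (⟨-5, -1, -1, 1, -2, 0, 0, 0⟩, 15320),
  (⟨-5, -1, -1, 1, -2, 0, 2, -2⟩, 13492),
  (⟨-5, -1, -1, 1, -2, 0, 2, 2⟩, 13573),
  (⟨-5, -1, -1, 1, -2, 0, 4, 0⟩, 12875),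
  (⟨-5, -1, -1, 1, 0, -2, 0, 0⟩, 14623),
  (⟨-5, -1, -1, 1, 0, 2, 0, 0⟩, 14496),
  (⟨-5, -1, -1, 1, 2, 0, -4, 0⟩, 13002),
  (⟨-5, -1, -1, 1, 2, 0, -2, -2⟩, 13448),
  (⟨-5, -1, -1, 1, 2, 0, -2, 2⟩, 13615),
  (⟨-5, -1, -1, 1, 2, 0, 0, 0⟩, 15321),
  (⟨-5, -1, -1, 1, 2, 0, 2, -2⟩, 14114),
  (⟨-5, -1, -1, 1, 2, 0, 2, 2⟩, 13571),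
  (⟨-5, -1, -1, 1, 2, 0, 4, 0⟩, 13134),
  (⟨-5, -1, 0, -2, 0, 0, -3, -1⟩, 14216),
  (⟨-5, -1, 0, -2, 0, 0, -1, 1⟩, 14400),
  (⟨-5, -1, 0, -2, 0, 0, 1, -1⟩, 14277),
  (⟨-5, -1, 0, -2, 0, 0, 3, 1⟩, 14341),
  (⟨-5, -1, 0, 0, -5, 1, -2, 0⟩, 14748),
  (⟨-5, -1, 0, 0, -5, 1, 2, 0⟩, 14895),
  (⟨-5, -1, 0, 0, -3, -1, -2, 0⟩, 14802),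
  (⟨-5, -1, 0, 0, -3, -1, 0, -2⟩, 13836),
  (⟨-5, -1, 0, 0, -3, -1, 0, 2⟩, 13698),
  (⟨-5, -1, 0, 0, -3, -1, 2, 0⟩, 14931),
  (⟨-5, -1, 0, 0, -1, 1, -2, 0⟩, 15322),
  (⟨-5, -1, 0, 0, -1, 1, 0, -2⟩, 14126),
  (⟨-5, -1, 0, 0, -1, 1, 0, 2⟩, 14026),
  (⟨-5, -1, 0, 0, -1, 1, 2, 0⟩, 15323),
  (⟨-5, -1, 0, 0, 1, -1, -2, 0⟩, 11995),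
  (⟨-5, -1, 0, 0, 1, -1, 0, -2⟩, 13899),
  (⟨-5, -1, 0, 0, 1, -1, 0, 2⟩, 13749),
  (⟨-5, -1, 0, 0, 1, -1, 2, 0⟩, 12122),
  (⟨-5, -1, 0, 0, 3, 1, -2, 0⟩, 15062),
  (⟨-5, -1, 0, 0, 3, 1, 0, -2⟩, 14081),
  (⟨-5, -1, 0, 0, 3, 1, 0, 2⟩, 13963),
  (⟨-5, -1, 0, 0, 3, 1, 2, 0⟩, 15185),
  (⟨-5, -1, 0, 0, 5, -1, -2, 0⟩, 15028),
  (⟨-5, -1, 0, 0, 5, -1, 2, 0⟩, 15131),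
  (⟨-5, -1, 0, 2, 0, 0, -3, -1⟩, 13446),
  (⟨-5, -1, 0, 2, 0, 0, -1, 1⟩, 13636),
  (⟨-5, -1, 0, 2, 0, 0, 1, -1⟩, 13507),
  (⟨-5, -1, 0, 2, 0, 0, 3, 1⟩, 13575),
  (⟨-5, -1, 1, -1, -2, 0, -4, 0⟩, 14773),
  (⟨-5, -1, 1, -1, -2, 0, -2, -2⟩, 14214),
  (⟨-5, -1, 1, -1, -2, 0, -2, 2⟩, 12443),
  (⟨-5, -1, 1, -1, -2, 0, 0, 0⟩, 12249),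
  (⟨-5, -1, 1, -1, -2, 0, 2, -2⟩, 12574),
  (⟨-5, -1, 1, -1, -2, 0, 2, 2⟩, 14345),
  (⟨-5, -1, 1, -1, -2, 0, 4, 0⟩, 14879),
  (⟨-5, -1, 1, -1, 0, -2, 0, 0⟩, 13391),
  (⟨-5, -1, 1, -1, 0, 2, 0, 0⟩, 13262),
  (⟨-5, -1, 1, -1, 2, 0, -4, 0⟩, 15008),
  (⟨-5, -1, 1, -1, 2, 0, -2, -2⟩, 14218),
  (⟨-5, -1, 1, -1, 2, 0, -2, 2⟩, 12449),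
  (⟨-5, -1, 1, -1, 2, 0, 0, 0⟩, 12376),
  (⟨-5, -1, 1, -1, 2, 0, 2, -2⟩, 12572),
  (⟨-5, -1, 1, -1, 2, 0, 2, 2⟩, 14343),
  (⟨-5, -1, 1, -1, 2, 0, 4, 0⟩, 15150),
  (⟨-5, -1, 1, 1, -3, 1, -3, 1⟩, 14764),
  (⟨-5, -1, 1, 1, -3, 1, -1, -1⟩, 14495),
  (⟨-5, -1, 1, 1, -3, 1, 1, 1⟩, 14510),
  (⟨-5, -1, 1, 1, -3, 1, 3, -1⟩, 14491),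
  (⟨-5, -1, 1, 1, -1, -1, -3, 1⟩, 13771),
  (⟨-5, -1, 1, 1, -1, -1, -1, -1⟩, 13527),
  (⟨-5, -1, 1, 1, -1, -1, 1, 1⟩, 14673),
  (⟨-5, -1, 1, 1, -1, -1, 3, -1⟩, 13893),
  (⟨-5, -1, 1, 1, 1, 1, -3, 1⟩, 14016),
  (⟨-5, -1, 1, 1, 1, 1, -1, -1⟩, 14546),
  (⟨-5, -1, 1, 1, 1, 1, 1, 1⟩, 14551),
  (⟨-5, -1, 1, 1, 1, 1, 3, -1⟩, 14154),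
  (⟨-5, -1, 1, 1, 3, -1, -3, 1⟩, 14620),
  (⟨-5, -1, 1, 1, 3, -1, -1, -1⟩, 14645),
  (⟨-5, -1, 1, 1, 3, -1, 1, 1⟩, 14624),
  (⟨-5, -1, 1, 1, 3, -1, 3, -1⟩, 15143),
  (⟨-5, -1, 2, -2, -1, 1, -2, 0⟩, 12220),
  (⟨-5, -1, 2, -2, -1, 1, 2, 0⟩, 12197),
  (⟨-5, -1, 2, -2, 1, -1, -2, 0⟩, 12322),
  (⟨-5, -1, 2, -2, 1, -1, 2, 0⟩, 12343),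
  (⟨-5, -1, 2, 0, -4, 0, -3, -1⟩, 14722),
  (⟨-5, -1, 2, 0, -4, 0, -1, 1⟩, 14752),
  (⟨-5, -1, 2, 0, -4, 0, 1, -1⟩, 14916),
  (⟨-5, -1, 2, 0, -4, 0, 3, 1⟩, 14851),
  (⟨-5, -1, 2, 0, -2, -2, -1, 1⟩, 13708),
  (⟨-5, -1, 2, 0, -2, -2, 1, -1⟩, 13832),
  (⟨-5, -1, 2, 0, -2, 2, -1, 1⟩, 14006),
  (⟨-5, -1, 2, 0, -2, 2, 1, -1⟩, 14497),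
  (⟨-5, -1, 2, 0, 0, 0, -5, 1⟩, 15002),
  (⟨-5, -1, 2, 0, 0, 0, -3, -1⟩, 15057),
  (⟨-5, -1, 2, 0, 0, 0, -1, 1⟩, 12501),
  (⟨-5, -1, 2, 0, 0, 0, 1, -1⟩, 12628),
  (⟨-5, -1, 2, 0, 0, 0, 3, 1⟩, 14930),
  (⟨-5, -1, 2, 0, 0, 0, 5, -1⟩, 14877),
  (⟨-5, -1, 2, 0, 2, -2, -1, 1⟩, 14622),
  (⟨-5, -1, 2, 0, 2, -2, 1, -1⟩, 13885),
  (⟨-5, -1, 2, 0, 2, 2, -1, 1⟩, 13957),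
  (⟨-5, -1, 2, 0, 2, 2, 1, -1⟩, 14091),
  (⟨-5, -1, 2, 0, 4, 0, -3, -1⟩, 14980),
  (⟨-5, -1, 2, 0, 4, 0, -1, 1⟩, 15043),
  (⟨-5, -1, 2, 0, 4, 0, 1, -1⟩, 15135),
  (⟨-5, -1, 2, 0, 4, 0, 3, 1⟩, 15105),
  (⟨-5, -1, 2, 2, -1, 1, -2, 0⟩, 14467),
  (⟨-5, -1, 2, 2, -1, 1, 2, 0⟩, 14465),
  (⟨-5, -1, 2, 2, 1, -1, -2, 0⟩, 14594),
  (⟨-5, -1, 2, 2, 1, -1, 2, 0⟩, 14596),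
  (⟨-5, -1, 3, -1, -3, 1, -1, -1⟩, 14762),
  (⟨-5, -1, 3, -1, -3, 1, 1, 1⟩, 12221),
  (⟨-5, -1, 3, -1, -1, -1, -3, 1⟩, 12455),
  (⟨-5, -1, 3, -1, -1, -1, -1, -1⟩, 14275),
  (⟨-5, -1, 3, -1, -1, -1, 1, 1⟩, 14414),
  (⟨-5, -1, 3, -1, -1, -1, 3, -1⟩, 12570),
  (⟨-5, -1, 3, -1, 1, 1, -3, 1⟩, 12445),
  (⟨-5, -1, 3, -1, 1, 1, -1, -1⟩, 14287),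
  (⟨-5, -1, 3, -1, 1, 1, 1, 1⟩, 14404),
  (⟨-5, -1, 3, -1, 1, 1, 3, -1⟩, 12588),
  (⟨-5, -1, 3, -1, 3, -1, -1, -1⟩, 12342),
  (⟨-5, -1, 3, -1, 3, -1, 1, 1⟩, 15145),
  (⟨-5, -1, 3, 1, -2, 0, -4, 0⟩, 14728),
  (⟨-5, -1, 3, 1, -2, 0, 0, 0⟩, 14806),
  (⟨-5, -1, 3, 1, -2, 0, 4, 0⟩, 14850),
  (⟨-5, -1, 3, 1, 0, -2, 0, 0⟩, 14595),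
  (⟨-5, -1, 3, 1, 0, 2, 0, 0⟩, 14468),
  (⟨-5, -1, 3, 1, 2, 0, -4, 0⟩, 14977),
  (⟨-5, -1, 3, 1, 2, 0, 0, 0⟩, 15187),
  (⟨-5, -1, 3, 1, 2, 0, 4, 0⟩, 15109),
  (⟨-5, -1, 4, 0, -3, -1, -2, 0⟩, 14724),
  (⟨-5, -1, 4, 0, -3, -1, 2, 0⟩, 14855),
  (⟨-5, -1, 4, 0, -1, 1, -2, 0⟩, 14789),
  (⟨-5, -1, 4, 0, -1, 1, 2, 0⟩, 14901),
  (⟨-5, -1, 4, 0, 1, -1, -2, 0⟩, 15022),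
  (⟨-5, -1, 4, 0, 1, -1, 2, 0⟩, 15168),
  (⟨-5, -1, 4, 0, 3, 1, -2, 0⟩, 14982),
  (⟨-5, -1, 4, 0, 3, 1, 2, 0⟩, 15107),
  (⟨-5, -1, 5, -1, -2, 0, 0, 0⟩, 14769),
  (⟨-5, -1, 5, -1, 2, 0, 0, 0⟩, 15154),
  (⟨-5, 1, -5, -1, 0, 0, -2, 0⟩, 12977),
  (⟨-5, 1, -5, -1, 0, 0, 2, 0⟩, 12850),
  (⟨-5, 1, -4, 0, -2, 0, -3, 1⟩, 12694),
  (⟨-5, 1, -4, 0, -2, 0, -1, -1⟩, 12743),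
  (⟨-5, 1, -4, 0, -2, 0, 1, 1⟩, 12872),
  (⟨-5, 1, -4, 0, -2, 0, 3, -1⟩, 12819),
  (⟨-5, 1, -4, 0, 2, 0, -3, 1⟩, 12946),
  (⟨-5, 1, -4, 0, 2, 0, -1, -1⟩, 13001),
  (⟨-5, 1, -4, 0, 2, 0, 1, 1⟩, 13118),
  (⟨-5, 1, -4, 0, 2, 0, 3, -1⟩, 13077),
  (⟨-5, 1, -3, -1, -3, -1, -1, 1⟩, 13735),
  (⟨-5, 1, -3, -1, -3, -1, 1, -1⟩, 13871),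
  (⟨-5, 1, -3, -1, -1, 1, -3, -1⟩, 13225),
  (⟨-5, 1, -3, -1, -1, 1, -1, 1⟩, 13254),
  (⟨-5, 1, -3, -1, -1, 1, 1, -1⟩, 13220),
  (⟨-5, 1, -3, -1, -1, 1, 3, 1⟩, 13245),
  (⟨-5, 1, -3, -1, 1, -1, -3, -1⟩, 13366),
  (⟨-5, 1, -3, -1, 1, -1, -1, 1⟩, 13347),
  (⟨-5, 1, -3, -1, 1, -1, 1, -1⟩, 13375),
  (⟨-5, 1, -3, -1, 1, -1, 3, 1⟩, 13354),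
  (⟨-5, 1, -3, -1, 3, 1, -1, 1⟩, 14004),
  (⟨-5, 1, -3, -1, 3, 1, 1, -1⟩, 14124),
  (⟨-5, 1, -3, 1, -4, 0, -2, 0⟩, 12692),
  (⟨-5, 1, -3, 1, -4, 0, 2, 0⟩, 12823),
  (⟨-5, 1, -3, 1, 0, 0, -2, 0⟩, 15324),
  (⟨-5, 1, -3, 1, 0, 0, 0, -2⟩, 13462),
  (⟨-5, 1, -3, 1, 0, 0, 0, 2⟩, 13589),
  (⟨-5, 1, -3, 1, 0, 0, 2, 0⟩, 15325),
  (⟨-5, 1, -3, 1, 4, 0, -2, 0⟩, 12952),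
  (⟨-5, 1, -3, 1, 4, 0, 2, 0⟩, 13073),
  (⟨-5, 1, -2, -2, -2, 0, -1, -1⟩, 14236),
  (⟨-5, 1, -2, -2, -2, 0, 1, 1⟩, 14370),
  (⟨-5, 1, -2, -2, 2, 0, -1, -1⟩, 14245),
  (⟨-5, 1, -2, -2, 2, 0, 1, 1⟩, 14363),
  (⟨-5, 1, -2, 0, -5, -1, 0, 0⟩, 12724),
  (⟨-5, 1, -2, 0, -3, 1, -4, 0⟩, 12696),
  (⟨-5, 1, -2, 0, -3, 1, 0, 0⟩, 15326),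
  (⟨-5, 1, -2, 0, -3, 1, 4, 0⟩, 12822),
  (⟨-5, 1, -2, 0, -1, -1, -4, 0⟩, 12749),
  (⟨-5, 1, -2, 0, -1, -1, -2, -2⟩, 10173),
  (⟨-5, 1, -2, 0, -1, -1, -2, 2⟩, 13710),
  (⟨-5, 1, -2, 0, -1, -1, 0, 0⟩, 15327),
  (⟨-5, 1, -2, 0, -1, -1, 2, -2⟩, 13841),
  (⟨-5, 1, -2, 0, -1, -1, 2, 2⟩, 13729),
  (⟨-5, 1, -2, 0, -1, -1, 4, 0⟩, 12870),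
  (⟨-5, 1, -2, 0, 1, 1, -4, 0⟩, 12991),
  (⟨-5, 1, -2, 0, 1, 1, -2, -2⟩, 14110),
  (⟨-5, 1, -2, 0, 1, 1, -2, 2⟩, 13972),
  (⟨-5, 1, -2, 0, 1, 1, 0, 0⟩, 15328),
  (⟨-5, 1, -2, 0, 1, 1, 2, -2⟩, 14093),
  (⟨-5, 1, -2, 0, 1, 1, 2, 2⟩, 10550),
  (⟨-5, 1, -2, 0, 1, 1, 4, 0⟩, 13132),
  (⟨-5, 1, -2, 0, 3, -1, -4, 0⟩, 12949),
  (⟨-5, 1, -2, 0, 3, -1, 0, 0⟩, 15329),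
  (⟨-5, 1, -2, 0, 3, -1, 4, 0⟩, 13079),
  (⟨-5, 1, -2, 0, 5, 1, 0, 0⟩, 13103),
  (⟨-5, 1, -2, 2, -2, 0, -1, -1⟩, 13461),
  (⟨-5, 1, -2, 2, -2, 0, 1, 1⟩, 13592),
  (⟨-5, 1, -2, 2, 2, 0, -1, -1⟩, 13463),
  (⟨-5, 1, -2, 2, 2, 0, 1, 1⟩, 13590),
  (⟨-5, 1, -1, -1, -4, 0, -2, 0⟩, 12745),
  (⟨-5, 1, -1, -1, -4, 0, 2, 0⟩, 12877),
  (⟨-5, 1, -1, -1, -2, -2, -2, 0⟩, 13367),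
  (⟨-5, 1, -1, -1, -2, -2, 2, 0⟩, 13854),
  (⟨-5, 1, -1, -1, -2, 2, -2, 0⟩, 13203),
  (⟨-5, 1, -1, -1, -2, 2, 2, 0⟩, 13200),
  (⟨-5, 1, -1, -1, 0, 0, -2, 0⟩, 15330),
  (⟨-5, 1, -1, -1, 0, 0, 0, -2⟩, 14243),
  (⟨-5, 1, -1, -1, 0, 0, 0, 2⟩, 14372),
  (⟨-5, 1, -1, -1, 0, 0, 2, 0⟩, 15331),
  (⟨-5, 1, -1, -1, 2, -2, -2, 0⟩, 13327),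
  (⟨-5, 1, -1, -1, 2, -2, 2, 0⟩, 13330),
  (⟨-5, 1, -1, -1, 2, 2, -2, 0⟩, 13985),
  (⟨-5, 1, -1, -1, 2, 2, 2, 0⟩, 13244),
  (⟨-5, 1, -1, -1, 4, 0, -2, 0⟩, 13004),
  (⟨-5, 1, -1, -1, 4, 0, 2, 0⟩, 13128),
  (⟨-5, 1, -1, 1, -3, -1, -3, -1⟩, 10156),
  (⟨-5, 1, -1, 1, -3, -1, -1, 1⟩, 13755),
  (⟨-5, 1, -1, 1, -3, -1, 1, -1⟩, 13886),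
  (⟨-5, 1, -1, 1, -3, -1, 3, 1⟩, 10300),
  (⟨-5, 1, -1, 1, -1, 1, -3, -1⟩, 13516),
  (⟨-5, 1, -1, 1, -1, 1, -1, 1⟩, 15332),
  (⟨-5, 1, -1, 1, -1, 1, 1, -1⟩, 14561),
  (⟨-5, 1, -1, 1, -1, 1, 3, 1⟩, 13641),
  (⟨-5, 1, -1, 1, 1, -1, -3, -1⟩, 13512),
  (⟨-5, 1, -1, 1, 1, -1, -1, 1⟩, 14686),
  (⟨-5, 1, -1, 1, 1, -1, 1, -1⟩, 13924),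
  (⟨-5, 1, -1, 1, 1, -1, 3, 1⟩, 13645),
  (⟨-5, 1, -1, 1, 3, 1, -3, -1⟩, 10423),
  (⟨-5, 1, -1, 1, 3, 1, -1, 1⟩, 14023),
  (⟨-5, 1, -1, 1, 3, 1, 1, -1⟩, 14136),
  (⟨-5, 1, -1, 1, 3, 1, 3, 1⟩, 10535),
  (⟨-5, 1, 0, -2, -3, 1, 0, 0⟩, 13204),
  (⟨-5, 1, 0, -2, -1, -1, 0, 0⟩, 13374),
  (⟨-5, 1, 0, -2, 1, 1, 0, 0⟩, 13255),
  (⟨-5, 1, 0, -2, 3, -1, 0, 0⟩, 13329),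
  (⟨-5, 1, 0, 0, -2, 0, -5, -1⟩, 14780),
  (⟨-5, 1, 0, 0, -2, 0, -3, 1⟩, 14817),
  (⟨-5, 1, 0, 0, -2, 0, -1, -1⟩, 15333),
  (⟨-5, 1, 0, 0, -2, 0, 1, 1⟩, 15334),
  (⟨-5, 1, 0, 0, -2, 0, 3, -1⟩, 14940),
  (⟨-5, 1, 0, 0, -2, 0, 5, 1⟩, 14874),
  (⟨-5, 1, 0, 0, 0, -2, -3, 1⟩, 13720),
  (⟨-5, 1, 0, 0, 0, -2, -1, -1⟩, 13880),
  (⟨-5, 1, 0, 0, 0, -2, 1, 1⟩, 13769),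
  (⟨-5, 1, 0, 0, 0, -2, 3, -1⟩, 13837),
  (⟨-5, 1, 0, 0, 0, 2, -3, 1⟩, 13966),
  (⟨-5, 1, 0, 0, 0, 2, -1, -1⟩, 14152),
  (⟨-5, 1, 0, 0, 0, 2, 1, 1⟩, 14011),
  (⟨-5, 1, 0, 0, 0, 2, 3, -1⟩, 14103),
  (⟨-5, 1, 0, 0, 2, 0, -5, -1⟩, 15005),
  (⟨-5, 1, 0, 0, 2, 0, -3, 1⟩, 15069),
  (⟨-5, 1, 0, 0, 2, 0, -1, -1⟩, 10470),
  (⟨-5, 1, 0, 0, 2, 0, 1, 1⟩, 10597),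
  (⟨-5, 1, 0, 0, 2, 0, 3, -1⟩, 15198),
  (⟨-5, 1, 0, 0, 2, 0, 5, 1⟩, 15159),
  (⟨-5, 1, 0, 2, -3, 1, 0, 0⟩, 14483),
  (⟨-5, 1, 0, 2, -1, -1, 0, 0⟩, 14655),
  (⟨-5, 1, 0, 2, 1, 1, 0, 0⟩, 14534),
  (⟨-5, 1, 0, 2, 3, -1, 0, 0⟩, 14610),
  (⟨-5, 1, 1, -1, -3, -1, -3, -1⟩, 14234),
  (⟨-5, 1, 1, -1, -3, -1, -1, 1⟩, 13759),
  (⟨-5, 1, 1, -1, -3, -1, 1, -1⟩, 13896),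
  (⟨-5, 1, 1, -1, -3, -1, 3, 1⟩, 14889),
  (⟨-5, 1, 1, -1, -1, 1, -3, -1⟩, 14264),
  (⟨-5, 1, 1, -1, -1, 1, -1, 1⟩, 14428),
  (⟨-5, 1, 1, -1, -1, 1, 1, -1⟩, 14308),
  (⟨-5, 1, 1, -1, -1, 1, 3, 1⟩, 14371),
  (⟨-5, 1, 1, -1, 1, -1, -3, -1⟩, 14244),
  (⟨-5, 1, 1, -1, 1, -1, -1, 1⟩, 13412),
  (⟨-5, 1, 1, -1, 1, -1, 1, -1⟩, 14301),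
  (⟨-5, 1, 1, -1, 1, -1, 3, 1⟩, 14395),
  (⟨-5, 1, 1, -1, 3, 1, -3, -1⟩, 15018),
  (⟨-5, 1, 1, -1, 3, 1, -1, 1⟩, 14025),
  (⟨-5, 1, 1, -1, 3, 1, 1, -1⟩, 14150),
  (⟨-5, 1, 1, -1, 3, 1, 3, 1⟩, 14365),
  (⟨-5, 1, 1, 1, -4, 0, -2, 0⟩, 14756),
  (⟨-5, 1, 1, 1, -4, 0, 2, 0⟩, 14904),
  (⟨-5, 1, 1, 1, -2, -2, -2, 0⟩, 10917),
  (⟨-5, 1, 1, 1, -2, -2, 2, 0⟩, 10909),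
  (⟨-5, 1, 1, 1, -2, 2, -2, 0⟩, 14486),
  (⟨-5, 1, 1, 1, -2, 2, 2, 0⟩, 14484),
  (⟨-5, 1, 1, 1, 0, 0, -2, 0⟩, 10723),
  (⟨-5, 1, 1, 1, 0, 0, 0, -2⟩, 13517),
  (⟨-5, 1, 1, 1, 0, 0, 0, 2⟩, 13644),
  (⟨-5, 1, 1, 1, 0, 0, 2, 0⟩, 10850),
  (⟨-5, 1, 1, 1, 2, -2, -2, 0⟩, 14609),
  (⟨-5, 1, 1, 1, 2, -2, 2, 0⟩, 14613),
  (⟨-5, 1, 1, 1, 2, 2, -2, 0⟩, 11034),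
  (⟨-5, 1, 1, 1, 2, 2, 2, 0⟩, 11042),
  (⟨-5, 1, 1, 1, 4, 0, -2, 0⟩, 15035),
  (⟨-5, 1, 1, 1, 4, 0, 2, 0⟩, 15139),
  (⟨-5, 1, 2, -2, -2, 0, -1, -1⟩, 14221),
  (⟨-5, 1, 2, -2, -2, 0, 1, 1⟩, 14351),
  (⟨-5, 1, 2, -2, 2, 0, -1, -1⟩, 14224),
  (⟨-5, 1, 2, -2, 2, 0, 1, 1⟩, 14350),
  (⟨-5, 1, 2, 0, -5, -1, 0, 0⟩, 14747),
  (⟨-5, 1, 2, 0, -3, 1, -4, 0⟩, 14736),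
  (⟨-5, 1, 2, 0, -3, 1, 0, 0⟩, 14813),
  (⟨-5, 1, 2, 0, -3, 1, 4, 0⟩, 14861),
  (⟨-5, 1, 2, 0, -1, -1, -4, 0⟩, 14791),
  (⟨-5, 1, 2, 0, -1, -1, -2, -2⟩, 14242),
  (⟨-5, 1, 2, 0, -1, -1, -2, 2⟩, 13714),
  (⟨-5, 1, 2, 0, -1, -1, 0, 0⟩, 10976),
  (⟨-5, 1, 2, 0, -1, -1, 2, -2⟩, 13847),
  (⟨-5, 1, 2, 0, -1, -1, 2, 2⟩, 13745),
  (⟨-5, 1, 2, 0, -1, -1, 4, 0⟩, 14884),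
  (⟨-5, 1, 2, 0, 1, 1, -4, 0⟩, 15011),
  (⟨-5, 1, 2, 0, 1, 1, -2, -2⟩, 14130),
  (⟨-5, 1, 2, 0, 1, 1, -2, 2⟩, 13976),
  (⟨-5, 1, 2, 0, 1, 1, 0, 0⟩, 11103),
  (⟨-5, 1, 2, 0, 1, 1, 2, -2⟩, 14099),
  (⟨-5, 1, 2, 0, 1, 1, 2, 2⟩, 14373),
  (⟨-5, 1, 2, 0, 1, 1, 4, 0⟩, 15166),
  (⟨-5, 1, 2, 0, 3, -1, -4, 0⟩, 14990),
  (⟨-5, 1, 2, 0, 3, -1, 0, 0⟩, 15196),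
  (⟨-5, 1, 2, 0, 3, -1, 4, 0⟩, 15119),
  (⟨-5, 1, 2, 0, 5, 1, 0, 0⟩, 15132),
  (⟨-5, 1, 2, 2, -2, 0, -1, -1⟩, 10657),
  (⟨-5, 1, 2, 2, -2, 0, 1, 1⟩, 10799),
  (⟨-5, 1, 2, 2, 2, 0, -1, -1⟩, 10676),
  (⟨-5, 1, 2, 2, 2, 0, 1, 1⟩, 10782),
  (⟨-5, 1, 3, -1, -4, 0, -2, 0⟩, 14734),
  (⟨-5, 1, 3, -1, -4, 0, 2, 0⟩, 14867),
  (⟨-5, 1, 3, -1, 0, 0, -2, 0⟩, 15070),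
  (⟨-5, 1, 3, -1, 0, 0, 0, -2⟩, 14223),
  (⟨-5, 1, 3, -1, 0, 0, 0, 2⟩, 14352),
  (⟨-5, 1, 3, -1, 0, 0, 2, 0⟩, 14945),
  (⟨-5, 1, 3, -1, 4, 0, -2, 0⟩, 14994),
  (⟨-5, 1, 3, -1, 4, 0, 2, 0⟩, 15117),
  (⟨-5, 1, 3, 1, -3, -1, -1, 1⟩, 10908),
  (⟨-5, 1, 3, 1, -3, -1, 1, -1⟩, 10922),
  (⟨-5, 1, 3, 1, -1, 1, -3, -1⟩, 10673),
  (⟨-5, 1, 3, 1, -1, 1, -1, 1⟩, 14541),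
  (⟨-5, 1, 3, 1, -1, 1, 1, -1⟩, 14535),
  (⟨-5, 1, 3, 1, -1, 1, 3, 1⟩, 14892),
  (⟨-5, 1, 3, 1, 1, -1, -3, -1⟩, 15015),
  (⟨-5, 1, 3, 1, 1, -1, -1, 1⟩, 14654),
  (⟨-5, 1, 3, 1, 1, -1, 1, -1⟩, 14668),
  (⟨-5, 1, 3, 1, 1, -1, 3, 1⟩, 10802),
  (⟨-5, 1, 3, 1, 3, 1, -1, 1⟩, 11049),
  (⟨-5, 1, 3, 1, 3, 1, 1, -1⟩, 11035),
  (⟨-5, 1, 4, 0, -2, 0, -3, 1⟩, 14740),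
  (⟨-5, 1, 4, 0, -2, 0, -1, -1⟩, 14779),
  (⟨-5, 1, 4, 0, -2, 0, 1, 1⟩, 14918),
  (⟨-5, 1, 4, 0, -2, 0, 3, -1⟩, 14864),
  (⟨-5, 1, 4, 0, 2, 0, -3, 1⟩, 14991),
  (⟨-5, 1, 4, 0, 2, 0, -1, -1⟩, 15039),
  (⟨-5, 1, 4, 0, 2, 0, 1, 1⟩, 15160),
  (⟨-5, 1, 4, 0, 2, 0, 3, -1⟩, 15121),
  (⟨-5, 1, 5, 1, 0, 0, -2, 0⟩, 15030),
  (⟨-5, 1, 5, 1, 0, 0, 2, 0⟩, 14909),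
  (⟨-4, -2, -4, 0, -1, -1, -1, 1⟩, 11147),
  (⟨-4, -2, -4, 0, -1, -1, 1, -1⟩, 11270),
  (⟨-4, -2, -4, 0, 1, 1, -1, 1⟩, 11143),
  (⟨-4, -2, -4, 0, 1, 1, 1, -1⟩, 11276),
  (⟨-4, -2, -3, -1, 0, 0, -3, 1⟩, 11141),
  (⟨-4, -2, -3, -1, 0, 0, -1, -1⟩, 11289),
  (⟨-4, -2, -3, -1, 0, 0, 1, 1⟩, 11161),
  (⟨-4, -2, -3, -1, 0, 0, 3, -1⟩, 11272),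
  (⟨-4, -2, -3, 1, -3, -1, 0, 0⟩, 11395),
  (⟨-4, -2, -3, 1, -1, 1, 0, 0⟩, 11445),
  (⟨-4, -2, -3, 1, 1, -1, 0, 0⟩, 11566),
  (⟨-4, -2, -3, 1, 3, 1, 0, 0⟩, 11524),
  (⟨-4, -2, -2, 0, -2, 0, -2, 0⟩, 11735),
  (⟨-4, -2, -2, 0, -2, 0, 0, -2⟩, 11275),
  (⟨-4, -2, -2, 0, -2, 0, 0, 2⟩, 11146),
  (⟨-4, -2, -2, 0, -2, 0, 2, 0⟩, 11474),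
  (⟨-4, -2, -2, 0, 0, -2, -2, 0⟩, 11908),
  (⟨-4, -2, -2, 0, 0, -2, 2, 0⟩, 12037),
  (⟨-4, -2, -2, 0, 0, 2, -2, 0⟩, 11656),
  (⟨-4, -2, -2, 0, 0, 2, 2, 0⟩, 11779),
  (⟨-4, -2, -2, 0, 2, 0, -2, 0⟩, 11601),
  (⟨-4, -2, -2, 0, 2, 0, 0, -2⟩, 11273),
  (⟨-4, -2, -2, 0, 2, 0, 0, 2⟩, 11148),
  (⟨-4, -2, -2, 0, 2, 0, 2, 0⟩, 11607),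
  (⟨-4, -2, -1, -1, -3, -1, 0, 0⟩, 12185),
  (⟨-4, -2, -1, -1, -1, 1, -4, 0⟩, 11652),
  (⟨-4, -2, -1, -1, -1, 1, 0, 0⟩, 11734),
  (⟨-4, -2, -1, -1, -1, 1, 4, 0⟩, 11777),
  (⟨-4, -2, -1, -1, 1, -1, -4, 0⟩, 11906),
  (⟨-4, -2, -1, -1, 1, -1, 0, 0⟩, 12115),
  (⟨-4, -2, -1, -1, 1, -1, 4, 0⟩, 12035),
  (⟨-4, -2, -1, -1, 3, 1, 0, 0⟩, 12313),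
  (⟨-4, -2, -1, 1, -4, 0, -1, -1⟩, 11399),
  (⟨-4, -2, -1, 1, -4, 0, 1, 1⟩, 11396),
  (⟨-4, -2, -1, 1, 0, 0, -3, 1⟩, 11214),
  (⟨-4, -2, -1, 1, 0, 0, -1, -1⟩, 13526),
  (⟨-4, -2, -1, 1, 0, 0, 1, 1⟩, 13651),
  (⟨-4, -2, -1, 1, 0, 0, 3, -1⟩, 11343),
  (⟨-4, -2, -1, 1, 4, 0, -1, -1⟩, 11523),
  (⟨-4, -2, -1, 1, 4, 0, 1, 1⟩, 11526),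
  (⟨-4, -2, 0, -2, -2, 0, -2, 0⟩, 12167),
  (⟨-4, -2, 0, -2, -2, 0, 2, 0⟩, 12162),
  (⟨-4, -2, 0, -2, 2, 0, -2, 0⟩, 12289),
  (⟨-4, -2, 0, -2, 2, 0, 2, 0⟩, 12294),
  (⟨-4, -2, 0, 0, -3, 1, -3, -1⟩, 11649),
  (⟨-4, -2, 0, 0, -3, 1, -1, 1⟩, 11715),
  (⟨-4, -2, 0, 0, -3, 1, 1, -1⟩, 11840),
  (⟨-4, -2, 0, 0, -3, 1, 3, 1⟩, 11787),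
  (⟨-4, -2, 0, 0, -1, -1, -3, -1⟩, 11929),
  (⟨-4, -2, 0, 0, -1, -1, -1, 1⟩, 11990),
  (⟨-4, -2, 0, 0, -1, -1, 1, -1⟩, 12625),
  (⟨-4, -2, 0, 0, -1, -1, 3, 1⟩, 12057),
  (⟨-4, -2, 0, 0, 1, 1, -3, -1⟩, 11673),
  (⟨-4, -2, 0, 0, 1, 1, -1, 1⟩, 12498),
  (⟨-4, -2, 0, 0, 1, 1, 1, -1⟩, 11859),
  (⟨-4, -2, 0, 0, 1, 1, 3, 1⟩, 11801),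
  (⟨-4, -2, 0, 0, 3, -1, -3, -1⟩, 11916),
  (⟨-4, -2, 0, 0, 3, -1, -1, 1⟩, 11973),
  (⟨-4, -2, 0, 0, 3, -1, 1, -1⟩, 12100),
  (⟨-4, -2, 0, 0, 3, -1, 3, 1⟩, 12034),
  (⟨-4, -2, 0, 2, -2, 0, -2, 0⟩, 11404),
  (⟨-4, -2, 0, 2, -2, 0, 2, 0⟩, 11400),
  (⟨-4, -2, 0, 2, 2, 0, -2, 0⟩, 11525),
  (⟨-4, -2, 0, 2, 2, 0, 2, 0⟩, 11531),
  (⟨-4, -2, 1, -1, -4, 0, -1, -1⟩, 12169),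
  (⟨-4, -2, 1, -1, -4, 0, 1, 1⟩, 12168),
  (⟨-4, -2, 1, -1, 0, 0, -3, 1⟩, 12447),
  (⟨-4, -2, 1, -1, 0, 0, -1, -1⟩, 12626),
  (⟨-4, -2, 1, -1, 0, 0, 1, 1⟩, 12497),
  (⟨-4, -2, 1, -1, 0, 0, 3, -1⟩, 12576),
  (⟨-4, -2, 1, -1, 4, 0, -1, -1⟩, 12293),
  (⟨-4, -2, 1, -1, 4, 0, 1, 1⟩, 12298),
  (⟨-4, -2, 1, 1, -3, -1, 0, 0⟩, 11417),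
  (⟨-4, -2, 1, 1, -1, 1, -4, 0⟩, 11659),
  (⟨-4, -2, 1, 1, -1, 1, 0, 0⟩, 14545),
  (⟨-4, -2, 1, 1, -1, 1, 4, 0⟩, 11785),
  (⟨-4, -2, 1, 1, 1, -1, -4, 0⟩, 11914),
  (⟨-4, -2, 1, 1, 1, -1, 0, 0⟩, 14674),
  (⟨-4, -2, 1, 1, 1, -1, 4, 0⟩, 12044),
  (⟨-4, -2, 1, 1, 3, 1, 0, 0⟩, 11545),
  (⟨-4, -2, 2, 0, -2, 0, -2, 0⟩, 12499),
  (⟨-4, -2, 2, 0, -2, 0, 0, -2⟩, 12547),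
  (⟨-4, -2, 2, 0, -2, 0, 0, 2⟩, 12417),
  (⟨-4, -2, 2, 0, -2, 0, 2, 0⟩, 12631),
  (⟨-4, -2, 2, 0, 0, -2, -2, 0⟩, 11910),
  (⟨-4, -2, 2, 0, 0, -2, 2, 0⟩, 12041),
  (⟨-4, -2, 2, 0, 0, 2, -2, 0⟩, 11658),
  (⟨-4, -2, 2, 0, 0, 2, 2, 0⟩, 11783),
  (⟨-4, -2, 2, 0, 2, 0, -2, 0⟩, 15063),
  (⟨-4, -2, 2, 0, 2, 0, 0, -2⟩, 12546),
  (⟨-4, -2, 2, 0, 2, 0, 0, 2⟩, 12420),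
  (⟨-4, -2, 2, 0, 2, 0, 2, 0⟩, 12630),
  (⟨-4, -2, 3, -1, -3, -1, 0, 0⟩, 12170),
  (⟨-4, -2, 3, -1, -1, 1, 0, 0⟩, 12235),
  (⟨-4, -2, 3, -1, 1, -1, 0, 0⟩, 12362),
  (⟨-4, -2, 3, -1, 3, 1, 0, 0⟩, 12297),
  (⟨-4, -2, 3, 1, 0, 0, -3, 1⟩, 12423),
  (⟨-4, -2, 3, 1, 0, 0, -1, -1⟩, 12569),
  (⟨-4, -2, 3, 1, 0, 0, 1, 1⟩, 12441),
  (⟨-4, -2, 3, 1, 0, 0, 3, -1⟩, 12550),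
  (⟨-4, -2, 4, 0, -1, -1, -1, 1⟩, 12421),
  (⟨-4, -2, 4, 0, -1, -1, 1, -1⟩, 12545),
  (⟨-4, -2, 4, 0, 1, 1, -1, 1⟩, 12418),
  (⟨-4, -2, 4, 0, 1, 1, 1, -1⟩, 12552),
  (⟨-4, 0, -6, 0, -1, 1, -1, -1⟩, 12732),
  (⟨-4, 0, -6, 0, -1, 1, 1, 1⟩, 12847),
  (⟨-4, 0, -6, 0, 1, -1, -1, -1⟩, 12980),
  (⟨-4, 0, -6, 0, 1, -1, 1, 1⟩, 13111),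
  (⟨-4, 0, -5, -1, -2, 0, -3, -1⟩, 12679),
  (⟨-4, 0, -5, -1, -2, 0, -1, 1⟩, 12725),
  (⟨-4, 0, -5, -1, -2, 0, 1, -1⟩, 12864),
  (⟨-4, 0, -5, -1, -2, 0, 3, 1⟩, 12803),
  (⟨-4, 0, -5, -1, 2, 0, -3, -1⟩, 12932),
  (⟨-4, 0, -5, -1, 2, 0, -1, 1⟩, 12997),
  (⟨-4, 0, -5, -1, 2, 0, 1, -1⟩, 13102),
  (⟨-4, 0, -5, -1, 2, 0, 3, 1⟩, 13062),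
  (⟨-4, 0, -5, 1, -3, 1, -2, 0⟩, 12688),
  (⟨-4, 0, -5, 1, -3, 1, 2, 0⟩, 12817),
  (⟨-4, 0, -5, 1, -1, -1, -2, 0⟩, 12742),
  (⟨-4, 0, -5, 1, -1, -1, 2, 0⟩, 12856),
  (⟨-4, 0, -5, 1, 1, 1, -2, 0⟩, 12987),
  (⟨-4, 0, -5, 1, 1, 1, 2, 0⟩, 13119),
  (⟨-4, 0, -5, 1, 3, -1, -2, 0⟩, 12948),
  (⟨-4, 0, -5, 1, 3, -1, 2, 0⟩, 13071),
  (⟨-4, 0, -4, -2, -1, 1, -1, -1⟩, 13185),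
  (⟨-4, 0, -4, -2, -1, 1, 1, 1⟩, 13192),
  (⟨-4, 0, -4, -2, 1, -1, -1, -1⟩, 13317),
  (⟨-4, 0, -4, -2, 1, -1, 1, 1⟩, 13314),
  (⟨-4, 0, -4, 0, -4, 0, -4, 0⟩, 12672),
  (⟨-4, 0, -4, 0, -4, 0, 0, 0⟩, 12717),
  (⟨-4, 0, -4, 0, -4, 0, 4, 0⟩, 12800),
  (⟨-4, 0, -4, 0, -2, -2, 0, 0⟩, 9675),
  (⟨-4, 0, -4, 0, -2, 2, 0, 0⟩, 13240),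
  (⟨-4, 0, -4, 0, 0, 0, -4, 0⟩, 12968),
  (⟨-4, 0, -4, 0, 0, 0, -2, -2⟩, 13493),
  (⟨-4, 0, -4, 0, 0, 0, -2, 2⟩, 11209),
  (⟨-4, 0, -4, 0, 0, 0, 0, 0⟩, 15335),
  (⟨-4, 0, -4, 0, 0, 0, 2, -2⟩, 11336),
  (⟨-4, 0, -4, 0, 0, 0, 2, 2⟩, 13614),
  (⟨-4, 0, -4, 0, 0, 0, 4, 0⟩, 12843),
  (⟨-4, 0, -4, 0, 2, -2, 0, 0⟩, 13371),
  (⟨-4, 0, -4, 0, 2, 2, 0, 0⟩, 9802),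
  (⟨-4, 0, -4, 0, 4, 0, -4, 0⟩, 12928),
  (⟨-4, 0, -4, 0, 4, 0, 0, 0⟩, 13094),
  (⟨-4, 0, -4, 0, 4, 0, 4, 0⟩, 13056),
  (⟨-4, 0, -4, 2, -1, 1, -1, -1⟩, 13458),
  (⟨-4, 0, -4, 2, -1, 1, 1, 1⟩, 13582),
  (⟨-4, 0, -4, 2, 1, -1, -1, -1⟩, 13453),
  (⟨-4, 0, -4, 2, 1, -1, 1, 1⟩, 13587),
  (⟨-4, 0, -3, -1, -5, -1, -2, 0⟩, 12676),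
  (⟨-4, 0, -3, -1, -5, -1, 2, 0⟩, 12811),
  (⟨-4, 0, -3, -1, -3, 1, -2, 0⟩, 13249),
  (⟨-4, 0, -3, -1, -3, 1, 0, -2⟩, 13218),
  (⟨-4, 0, -3, -1, -3, 1, 0, 2⟩, 6460),
  (⟨-4, 0, -3, -1, -3, 1, 2, 0⟩, 13242),
  (⟨-4, 0, -3, -1, -1, -1, -2, 0⟩, 13400),
  (⟨-4, 0, -3, -1, -1, -1, 0, -2⟩, 13892),
  (⟨-4, 0, -3, -1, -1, -1, 0, 2⟩, 13727),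
  (⟨-4, 0, -3, -1, -1, -1, 2, 0⟩, 13403),
  (⟨-4, 0, -3, -1, 1, 1, -2, 0⟩, 13019),
  (⟨-4, 0, -3, -1, 1, 1, 0, -2⟩, 14112),
  (⟨-4, 0, -3, -1, 1, 1, 0, 2⟩, 14019),
  (⟨-4, 0, -3, -1, 1, 1, 2, 0⟩, 13273),
  (⟨-4, 0, -3, -1, 3, -1, -2, 0⟩, 13369),
  (⟨-4, 0, -3, -1, 3, -1, 0, -2⟩, 6839),
  (⟨-4, 0, -3, -1, 3, -1, 0, 2⟩, 13349),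
  (⟨-4, 0, -3, -1, 3, -1, 2, 0⟩, 13121),
  (⟨-4, 0, -3, -1, 5, 1, -2, 0⟩, 12940),
  (⟨-4, 0, -3, -1, 5, 1, 2, 0⟩, 13059),
  (⟨-4, 0, -3, 1, -2, 0, -5, 1⟩, 12695),
  (⟨-4, 0, -3, 1, -2, 0, -3, -1⟩, 13488),
  (⟨-4, 0, -3, 1, -2, 0, -1, 1⟩, 13669),
  (⟨-4, 0, -3, 1, -2, 0, 1, -1⟩, 13539),
  (⟨-4, 0, -3, 1, -2, 0, 3, 1⟩, 13634),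
  (⟨-4, 0, -3, 1, -2, 0, 5, -1⟩, 12816),
  (⟨-4, 0, -3, 1, 0, -2, -3, -1⟩, 13470),
  (⟨-4, 0, -3, 1, 0, -2, -1, 1⟩, 13767),
  (⟨-4, 0, -3, 1, 0, -2, 1, -1⟩, 13859),
  (⟨-4, 0, -3, 1, 0, -2, 3, 1⟩, 7087),
  (⟨-4, 0, -3, 1, 0, 2, -3, -1⟩, 7220),
  (⟨-4, 0, -3, 1, 0, 2, -1, 1⟩, 13988),
  (⟨-4, 0, -3, 1, 0, 2, 1, -1⟩, 14142),
  (⟨-4, 0, -3, 1, 0, 2, 3, 1⟩, 13601),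
  (⟨-4, 0, -3, 1, 2, 0, -5, 1⟩, 12943),
  (⟨-4, 0, -3, 1, 2, 0, -3, -1⟩, 12994),
  (⟨-4, 0, -3, 1, 2, 0, -1, 1⟩, 13666),
  (⟨-4, 0, -3, 1, 2, 0, 1, -1⟩, 13157),
  (⟨-4, 0, -3, 1, 2, 0, 3, 1⟩, 13619),
  (⟨-4, 0, -3, 1, 2, 0, 5, -1⟩, 13080),
  (⟨-4, 0, -2, -2, -4, 0, 0, 0⟩, 13251),
  (⟨-4, 0, -2, -2, -2, -2, 0, 0⟩, 13318),
  (⟨-4, 0, -2, -2, -2, 2, 0, 0⟩, 13184),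
  (⟨-4, 0, -2, -2, 0, 0, -4, 0⟩, 9935),
  (⟨-4, 0, -2, -2, 0, 0, -2, -2⟩, 14210),
  (⟨-4, 0, -2, -2, 0, 0, -2, 2⟩, 14377),
  (⟨-4, 0, -2, -2, 0, 0, 0, 0⟩, 13402),
  (⟨-4, 0, -2, -2, 0, 0, 2, -2⟩, 14250),
  (⟨-4, 0, -2, -2, 0, 0, 2, 2⟩, 14337),
  (⟨-4, 0, -2, -2, 0, 0, 4, 0⟩, 10062),
  (⟨-4, 0, -2, -2, 2, -2, 0, 0⟩, 13312),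
  (⟨-4, 0, -2, -2, 2, 2, 0, 0⟩, 13191),
  (⟨-4, 0, -2, -2, 4, 0, 0, 0⟩, 13380),
  (⟨-4, 0, -2, 0, -5, 1, -3, 1⟩, 12690),
  (⟨-4, 0, -2, 0, -5, 1, -1, -1⟩, 12731),
  (⟨-4, 0, -2, 0, -5, 1, 1, 1⟩, 12876),
  (⟨-4, 0, -2, 0, -5, 1, 3, -1⟩, 12824),
  (⟨-4, 0, -2, 0, -3, -1, -5, -1⟩, 12683),
  (⟨-4, 0, -2, 0, -3, -1, -3, 1⟩, 13753),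
  (⟨-4, 0, -2, 0, -3, -1, -1, -1⟩, 13914),
  (⟨-4, 0, -2, 0, -3, -1, 1, 1⟩, 13781),
  (⟨-4, 0, -2, 0, -3, -1, 3, -1⟩, 13872),
  (⟨-4, 0, -2, 0, -3, -1, 5, 1⟩, 12808),
  (⟨-4, 0, -2, 0, -1, 1, -5, -1⟩, 12750),
  (⟨-4, 0, -2, 0, -1, 1, -3, 1⟩, 14047),
  (⟨-4, 0, -2, 0, -1, 1, -1, -1⟩, 15336),
  (⟨-4, 0, -2, 0, -1, 1, 1, 1⟩, 15337),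
  (⟨-4, 0, -2, 0, -1, 1, 3, -1⟩, 14182),
  (⟨-4, 0, -2, 0, -1, 1, 5, 1⟩, 12853),
  (⟨-4, 0, -2, 0, 1, -1, -5, -1⟩, 12974),
  (⟨-4, 0, -2, 0, 1, -1, -3, 1⟩, 13030),
  (⟨-4, 0, -2, 0, 1, -1, -1, -1⟩, 15338),
  (⟨-4, 0, -2, 0, 1, -1, 1, 1⟩, 15339),
  (⟨-4, 0, -2, 0, 1, -1, 3, -1⟩, 13920),
  (⟨-4, 0, -2, 0, 1, -1, 5, 1⟩, 13135),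
  (⟨-4, 0, -2, 0, 3, 1, -5, -1⟩, 12933),
  (⟨-4, 0, -2, 0, 3, 1, -3, 1⟩, 14003),
  (⟨-4, 0, -2, 0, 3, 1, -1, -1⟩, 14164),
  (⟨-4, 0, -2, 0, 3, 1, 1, 1⟩, 13146),
  (⟨-4, 0, -2, 0, 3, 1, 3, -1⟩, 14138),
  (⟨-4, 0, -2, 0, 3, 1, 5, 1⟩, 13068),
  (⟨-4, 0, -2, 0, 5, -1, -3, 1⟩, 12951),
  (⟨-4, 0, -2, 0, 5, -1, -1, -1⟩, 13005),
  (⟨-4, 0, -2, 0, 5, -1, 1, 1⟩, 13112),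
  (⟨-4, 0, -2, 0, 5, -1, 3, -1⟩, 13075),
  (⟨-4, 0, -2, 2, -4, 0, 0, 0⟩, 11469),
  (⟨-4, 0, -2, 2, -2, -2, 0, 0⟩, 14631),
  (⟨-4, 0, -2, 2, -2, 2, 0, 0⟩, 14477),
  (⟨-4, 0, -2, 2, 0, 0, -4, 0⟩, 13502),
  (⟨-4, 0, -2, 2, 0, 0, -2, -2⟩, 13440),
  (⟨-4, 0, -2, 2, 0, 0, -2, 2⟩, 13585),
  (⟨-4, 0, -2, 2, 0, 0, 0, 0⟩, 13542),
  (⟨-4, 0, -2, 2, 0, 0, 2, -2⟩, 13460),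
  (⟨-4, 0, -2, 2, 0, 0, 2, 2⟩, 13568),
  (⟨-4, 0, -2, 2, 0, 0, 4, 0⟩, 13639),
  (⟨-4, 0, -2, 2, 2, -2, 0, 0⟩, 14606),
  (⟨-4, 0, -2, 2, 2, 2, 0, 0⟩, 14508),
  (⟨-4, 0, -2, 2, 4, 0, 0, 0⟩, 11596),
  (⟨-4, 0, -1, -1, -6, 0, -1, 1⟩, 12721),
  (⟨-4, 0, -1, -1, -6, 0, 1, -1⟩, 7484),
  (⟨-4, 0, -1, -1, -4, -2, -1, 1⟩, 13701),
  (⟨-4, 0, -1, -1, -4, -2, 1, -1⟩, 13827),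
  (⟨-4, 0, -1, -1, -4, 2, -1, 1⟩, 13207),
  (⟨-4, 0, -1, -1, -4, 2, 1, -1⟩, 13199),
  (⟨-4, 0, -1, -1, -2, 0, -5, 1⟩, 12748),
  (⟨-4, 0, -1, -1, -2, 0, -3, -1⟩, 14292),
  (⟨-4, 0, -1, -1, -2, 0, -1, 1⟩, 13800),
  (⟨-4, 0, -1, -1, -2, 0, 1, -1⟩, 14313),
  (⟨-4, 0, -1, -1, -2, 0, 3, 1⟩, 14424),
  (⟨-4, 0, -1, -1, -2, 0, 5, -1⟩, 12871),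
  (⟨-4, 0, -1, -1, 0, -2, -3, -1⟩, 13386),
  (⟨-4, 0, -1, -1, 0, -2, -1, 1⟩, 13370),
  (⟨-4, 0, -1, -1, 0, -2, 1, -1⟩, 13867),
  (⟨-4, 0, -1, -1, 0, -2, 3, 1⟩, 13381),
  (⟨-4, 0, -1, -1, 0, 2, -3, -1⟩, 13248),
  (⟨-4, 0, -1, -1, 0, 2, -1, 1⟩, 13992),
  (⟨-4, 0, -1, -1, 0, 2, 1, -1⟩, 13241),
  (⟨-4, 0, -1, -1, 0, 2, 3, 1⟩, 13259),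
  (⟨-4, 0, -1, -1, 2, 0, -5, 1⟩, 12990),
  (⟨-4, 0, -1, -1, 2, 0, -3, -1⟩, 14297),
  (⟨-4, 0, -1, -1, 2, 0, -1, 1⟩, 14442),
  (⟨-4, 0, -1, -1, 2, 0, 1, -1⟩, 14187),
  (⟨-4, 0, -1, -1, 2, 0, 3, 1⟩, 14421),
  (⟨-4, 0, -1, -1, 2, 0, 5, -1⟩, 13133),
  (⟨-4, 0, -1, -1, 4, -2, -1, 1⟩, 13328),
  (⟨-4, 0, -1, -1, 4, -2, 1, -1⟩, 13336),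
  (⟨-4, 0, -1, -1, 4, 2, -1, 1⟩, 13956),
  (⟨-4, 0, -1, -1, 4, 2, 1, -1⟩, 14088),
  (⟨-4, 0, -1, -1, 6, 0, -1, 1⟩, 7863),
  (⟨-4, 0, -1, -1, 6, 0, 1, -1⟩, 13106),
  (⟨-4, 0, -1, 1, -5, -1, -2, 0⟩, 12739),
  (⟨-4, 0, -1, 1, -5, -1, 2, 0⟩, 12879),
  (⟨-4, 0, -1, 1, -3, 1, -2, 0⟩, 14562),
  (⟨-4, 0, -1, 1, -3, 1, 0, -2⟩, 13513),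
  (⟨-4, 0, -1, 1, -3, 1, 0, 2⟩, 13631),
  (⟨-4, 0, -1, 1, -3, 1, 2, 0⟩, 14559),
  (⟨-4, 0, -1, 1, -1, -1, -6, 0⟩, 7604),
  (⟨-4, 0, -1, 1, -1, -1, -4, -2⟩, 13443),
  (⟨-4, 0, -1, 1, -1, -1, -4, 2⟩, 13712),
  (⟨-4, 0, -1, 1, -1, -1, -2, 0⟩, 14696),
  (⟨-4, 0, -1, 1, -1, -1, 0, -2⟩, 13491),
  (⟨-4, 0, -1, 1, -1, -1, 0, 2⟩, 13741),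
  (⟨-4, 0, -1, 1, -1, -1, 2, 0⟩, 13929),
  (⟨-4, 0, -1, 1, -1, -1, 4, -2⟩, 13842),
  (⟨-4, 0, -1, 1, -1, -1, 4, 2⟩, 13579),
  (⟨-4, 0, -1, 1, -1, -1, 6, 0⟩, 12861),
  (⟨-4, 0, -1, 1, 1, 1, -6, 0⟩, 12982),
  (⟨-4, 0, -1, 1, 1, 1, -4, -2⟩, 13452),
  (⟨-4, 0, -1, 1, 1, 1, -4, 2⟩, 13971),
  (⟨-4, 0, -1, 1, 1, 1, -2, 0⟩, 14058),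
  (⟨-4, 0, -1, 1, 1, 1, 0, -2⟩, 14118),
  (⟨-4, 0, -1, 1, 1, 1, 0, 2⟩, 13616),
  (⟨-4, 0, -1, 1, 1, 1, 2, 0⟩, 14571),
  (⟨-4, 0, -1, 1, 1, 1, 4, -2⟩, 14095),
  (⟨-4, 0, -1, 1, 1, 1, 4, 2⟩, 13572),
  (⟨-4, 0, -1, 1, 1, 1, 6, 0⟩, 7727),
  (⟨-4, 0, -1, 1, 3, -1, -2, 0⟩, 14688),
  (⟨-4, 0, -1, 1, 3, -1, 0, -2⟩, 13510),
  (⟨-4, 0, -1, 1, 3, -1, 0, 2⟩, 13640),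
  (⟨-4, 0, -1, 1, 3, -1, 2, 0⟩, 14691),
  (⟨-4, 0, -1, 1, 5, 1, -2, 0⟩, 13006),
  (⟨-4, 0, -1, 1, 5, 1, 2, 0⟩, 13124),
  (⟨-4, 0, 0, -2, -3, -1, -3, 1⟩, 7973),
  (⟨-4, 0, 0, -2, -3, -1, -1, -1⟩, 14240),
  (⟨-4, 0, 0, -2, -3, -1, 1, 1⟩, 14410),
  (⟨-4, 0, 0, -2, -3, -1, 3, -1⟩, 6589),
  (⟨-4, 0, 0, -2, -1, 1, -3, 1⟩, 13261),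
  (⟨-4, 0, 0, -2, -1, 1, -1, -1⟩, 13250),
  (⟨-4, 0, 0, -2, -1, 1, 1, 1⟩, 14374),
  (⟨-4, 0, 0, -2, -1, 1, 3, -1⟩, 13243),
  (⟨-4, 0, 0, -2, 1, -1, -3, 1⟩, 13368),
  (⟨-4, 0, 0, -2, 1, -1, -1, -1⟩, 14253),
  (⟨-4, 0, 0, -2, 1, -1, 1, 1⟩, 14402),
  (⟨-4, 0, 0, -2, 1, -1, 3, -1⟩, 13388),
  (⟨-4, 0, 0, -2, 3, 1, -3, 1⟩, 6710),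
  (⟨-4, 0, 0, -2, 3, 1, -1, -1⟩, 14283),
  (⟨-4, 0, 0, -2, 3, 1, 1, 1⟩, 14367),
  (⟨-4, 0, 0, -2, 3, 1, 3, -1⟩, 8354),
  (⟨-4, 0, 0, 0, -4, 0, -4, 0⟩, 14763),
  (⟨-4, 0, 0, 0, -4, 0, -2, -2⟩, 10181),
  (⟨-4, 0, 0, 0, -4, 0, -2, 2⟩, 13731),
  (⟨-4, 0, 0, 0, -4, 0, 0, 0⟩, 14823),
  (⟨-4, 0, 0, 0, -4, 0, 2, -2⟩, 13900),
  (⟨-4, 0, 0, 0, -4, 0, 2, 2⟩, 10308),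
  (⟨-4, 0, 0, 0, -4, 0, 4, 0⟩, 14886),
  (⟨-4, 0, 0, 0, -2, -2, -4, 0⟩, 13774),
  (⟨-4, 0, 0, 0, -2, -2, -2, -2⟩, 13833),
  (⟨-4, 0, 0, 0, -2, -2, -2, 2⟩, 13696),
  (⟨-4, 0, 0, 0, -2, -2, 0, 0⟩, 13908),
  (⟨-4, 0, 0, 0, -2, -2, 2, -2⟩, 13824),
  (⟨-4, 0, 0, 0, -2, -2, 2, 2⟩, 13700),
  (⟨-4, 0, 0, 0, -2, -2, 4, 0⟩, 13856),
  (⟨-4, 0, 0, 0, -2, 2, -4, 0⟩, 11719),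
  (⟨-4, 0, 0, 0, -2, 2, -2, -2⟩, 9004),
  (⟨-4, 0, 0, 0, -2, 2, -2, 2⟩, 13967),
  (⟨-4, 0, 0, 0, -2, 2, 0, 0⟩, 14563),
  (⟨-4, 0, 0, 0, -2, 2, 2, -2⟩, 14101),
  (⟨-4, 0, 0, 0, -2, 2, 2, 2⟩, 9129),
  (⟨-4, 0, 0, 0, -2, 2, 4, 0⟩, 11846),
  (⟨-4, 0, 0, 0, 0, 0, -4, 0⟩, 15079),
  (⟨-4, 0, 0, 0, 0, 0, -2, -2⟩, 14296),
  (⟨-4, 0, 0, 0, 0, 0, -2, 2⟩, 13792),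
  (⟨-4, 0, 0, 0, 0, 0, 0, 0⟩, 15340),
  (⟨-4, 0, 0, 0, 0, 0, 2, -2⟩, 14175),
  (⟨-4, 0, 0, 0, 0, 0, 2, 2⟩, 14425),
  (⟨-4, 0, 0, 0, 0, 0, 4, 0⟩, 14951),
  (⟨-4, 0, 0, 0, 2, -2, -4, 0⟩, 11967),
  (⟨-4, 0, 0, 0, 2, -2, -2, -2⟩, 9258),
  (⟨-4, 0, 0, 0, 2, -2, -2, 2⟩, 13718),
  (⟨-4, 0, 0, 0, 2, -2, 0, 0⟩, 14690),
  (⟨-4, 0, 0, 0, 2, -2, 2, -2⟩, 13840),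
  (⟨-4, 0, 0, 0, 2, -2, 2, 2⟩, 9383),
  (⟨-4, 0, 0, 0, 2, -2, 4, 0⟩, 12094),
  (⟨-4, 0, 0, 0, 2, 2, -4, 0⟩, 13983),
  (⟨-4, 0, 0, 0, 2, 2, -2, -2⟩, 14083),
  (⟨-4, 0, 0, 0, 2, 2, -2, 2⟩, 13952),
  (⟨-4, 0, 0, 0, 2, 2, 0, 0⟩, 14037),
  (⟨-4, 0, 0, 0, 2, 2, 2, -2⟩, 14080),
  (⟨-4, 0, 0, 0, 2, 2, 2, 2⟩, 13962),
  (⟨-4, 0, 0, 0, 2, 2, 4, 0⟩, 14159),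
  (⟨-4, 0, 0, 0, 4, 0, -4, 0⟩, 15021),
  (⟨-4, 0, 0, 0, 4, 0, -2, -2⟩, 10435),
  (⟨-4, 0, 0, 0, 4, 0, -2, 2⟩, 14029),
  (⟨-4, 0, 0, 0, 4, 0, 0, 0⟩, 15207),
  (⟨-4, 0, 0, 0, 4, 0, 2, -2⟩, 14116),
  (⟨-4, 0, 0, 0, 4, 0, 2, 2⟩, 10560),
  (⟨-4, 0, 0, 0, 4, 0, 4, 0⟩, 15144),
  (⟨-4, 0, 0, 2, -3, -1, -3, 1⟩, 6961),
  (⟨-4, 0, 0, 2, -3, -1, -1, -1⟩, 13486),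
  (⟨-4, 0, 0, 2, -3, -1, 1, 1⟩, 13646),
  (⟨-4, 0, 0, 2, -3, -1, 3, -1⟩, 8606),
  (⟨-4, 0, 0, 2, -1, 1, -3, 1⟩, 14536),
  (⟨-4, 0, 0, 2, -1, 1, -1, -1⟩, 14507),
  (⟨-4, 0, 0, 2, -1, 1, 1, 1⟩, 14529),
  (⟨-4, 0, 0, 2, -1, 1, 3, -1⟩, 14500),
  (⟨-4, 0, 0, 2, 1, -1, -3, 1⟩, 14627),
  (⟨-4, 0, 0, 2, 1, -1, -1, -1⟩, 13505),
  (⟨-4, 0, 0, 2, 1, -1, 1, 1⟩, 14632),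
  (⟨-4, 0, 0, 2, 1, -1, 3, -1⟩, 14665),
  (⟨-4, 0, 0, 2, 3, 1, -3, 1⟩, 8737),
  (⟨-4, 0, 0, 2, 3, 1, -1, -1⟩, 13519),
  (⟨-4, 0, 0, 2, 3, 1, 1, 1⟩, 13621),
  (⟨-4, 0, 0, 2, 3, 1, 3, -1⟩, 7346),
  (⟨-4, 0, 1, -1, -5, -1, -2, 0⟩, 14751),
  (⟨-4, 0, 1, -1, -5, -1, 2, 0⟩, 14912),
  (⟨-4, 0, 1, -1, -3, 1, -2, 0⟩, 14816),
  (⟨-4, 0, 1, -1, -3, 1, 0, -2⟩, 14270),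
  (⟨-4, 0, 1, -1, -3, 1, 0, 2⟩, 14392),
  (⟨-4, 0, 1, -1, -3, 1, 2, 0⟩, 14946),
  (⟨-4, 0, 1, -1, -1, -1, -6, 0⟩, 7601),
  (⟨-4, 0, 1, -1, -1, -1, -4, -2⟩, 14209),
  (⟨-4, 0, 1, -1, -1, -1, -4, 2⟩, 13713),
  (⟨-4, 0, 1, -1, -1, -1, -2, 0⟩, 14315),
  (⟨-4, 0, 1, -1, -1, -1, 0, -2⟩, 14248),
  (⟨-4, 0, 1, -1, -1, -1, 0, 2⟩, 13744),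
  (⟨-4, 0, 1, -1, -1, -1, 2, 0⟩, 14954),
  (⟨-4, 0, 1, -1, -1, -1, 4, -2⟩, 13846),
  (⟨-4, 0, 1, -1, -1, -1, 4, 2⟩, 14346),
  (⟨-4, 0, 1, -1, -1, -1, 6, 0⟩, 14875),
  (⟨-4, 0, 1, -1, 1, 1, -6, 0⟩, 15004),
  (⟨-4, 0, 1, -1, 1, 1, -4, -2⟩, 14217),
  (⟨-4, 0, 1, -1, 1, 1, -4, 2⟩, 13973),
  (⟨-4, 0, 1, -1, 1, 1, -2, 0⟩, 15081),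
  (⟨-4, 0, 1, -1, 1, 1, 0, -2⟩, 14131),
  (⟨-4, 0, 1, -1, 1, 1, 0, 2⟩, 14379),
  (⟨-4, 0, 1, -1, 1, 1, 2, 0⟩, 14440),
  (⟨-4, 0, 1, -1, 1, 1, 4, -2⟩, 14100),
  (⟨-4, 0, 1, -1, 1, 1, 4, 2⟩, 14338),
  (⟨-4, 0, 1, -1, 1, 1, 6, 0⟩, 7730),
  (⟨-4, 0, 1, -1, 3, -1, -2, 0⟩, 15075),
  (⟨-4, 0, 1, -1, 3, -1, 0, -2⟩, 14267),
  (⟨-4, 0, 1, -1, 3, -1, 0, 2⟩, 14407),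
  (⟨-4, 0, 1, -1, 3, -1, 2, 0⟩, 15199),
  (⟨-4, 0, 1, -1, 5, 1, -2, 0⟩, 15045),
  (⟨-4, 0, 1, -1, 5, 1, 2, 0⟩, 15136),
  (⟨-4, 0, 1, 1, -6, 0, -1, 1⟩, 14746),
  (⟨-4, 0, 1, 1, -6, 0, 1, -1⟩, 7485),
  (⟨-4, 0, 1, 1, -4, -2, -1, 1⟩, 13706),
  (⟨-4, 0, 1, 1, -4, -2, 1, -1⟩, 13830),
  (⟨-4, 0, 1, 1, -4, 2, -1, 1⟩, 14485),
  (⟨-4, 0, 1, 1, -4, 2, 1, -1⟩, 14478),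
  (⟨-4, 0, 1, 1, -2, 0, -5, 1⟩, 14790),
  (⟨-4, 0, 1, 1, -2, 0, -3, -1⟩, 14809),
  (⟨-4, 0, 1, 1, -2, 0, -1, 1⟩, 14827),
  (⟨-4, 0, 1, 1, -2, 0, 1, -1⟩, 14570),
  (⟨-4, 0, 1, 1, -2, 0, 3, 1⟩, 14932),
  (⟨-4, 0, 1, 1, -2, 0, 5, -1⟩, 14883),
  (⟨-4, 0, 1, 1, 0, -2, -3, -1⟩, 14660),
  (⟨-4, 0, 1, 1, 0, -2, -1, 1⟩, 14630),
  (⟨-4, 0, 1, 1, 0, -2, 1, -1⟩, 13882),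
  (⟨-4, 0, 1, 1, 0, -2, 3, 1⟩, 14638),
  (⟨-4, 0, 1, 1, 0, 2, -3, -1⟩, 14517),
  (⟨-4, 0, 1, 1, 0, 2, -1, 1⟩, 14009),
  (⟨-4, 0, 1, 1, 0, 2, 1, -1⟩, 14509),
  (⟨-4, 0, 1, 1, 0, 2, 3, 1⟩, 14531),
  (⟨-4, 0, 1, 1, 2, 0, -5, 1⟩, 15012),
  (⟨-4, 0, 1, 1, 2, 0, -3, -1⟩, 15061),
  (⟨-4, 0, 1, 1, 2, 0, -1, 1⟩, 14697),
  (⟨-4, 0, 1, 1, 2, 0, 1, -1⟩, 15208),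
  (⟨-4, 0, 1, 1, 2, 0, 3, 1⟩, 15192),
  (⟨-4, 0, 1, 1, 2, 0, 5, -1⟩, 15167),
  (⟨-4, 0, 1, 1, 4, -2, -1, 1⟩, 14605),
  (⟨-4, 0, 1, 1, 4, -2, 1, -1⟩, 14614),
  (⟨-4, 0, 1, 1, 4, 2, -1, 1⟩, 13959),
  (⟨-4, 0, 1, 1, 4, 2, 1, -1⟩, 14089),
  (⟨-4, 0, 1, 1, 6, 0, -1, 1⟩, 7862),
  (⟨-4, 0, 1, 1, 6, 0, 1, -1⟩, 15133),
  (⟨-4, 0, 2, -2, -4, 0, 0, 0⟩, 12196),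
  (⟨-4, 0, 2, -2, -2, -2, 0, 0⟩, 7978),
  (⟨-4, 0, 2, -2, -2, 2, 0, 0⟩, 13208),
  (⟨-4, 0, 2, -2, 0, 0, -4, 0⟩, 14278),
  (⟨-4, 0, 2, -2, 0, 0, -2, -2⟩, 14208),
  (⟨-4, 0, 2, -2, 0, 0, -2, 2⟩, 14355),
  (⟨-4, 0, 2, -2, 0, 0, 0, 0⟩, 14437),
  (⟨-4, 0, 2, -2, 0, 0, 2, -2⟩, 14226),
  (⟨-4, 0, 2, -2, 0, 0, 2, 2⟩, 14336),
  (⟨-4, 0, 2, -2, 0, 0, 4, 0⟩, 14399),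
  (⟨-4, 0, 2, -2, 2, -2, 0, 0⟩, 13335),
  (⟨-4, 0, 2, -2, 2, 2, 0, 0⟩, 8361),
  (⟨-4, 0, 2, -2, 4, 0, 0, 0⟩, 12323),
  (⟨-4, 0, 2, 0, -5, 1, -3, 1⟩, 14733),
  (⟨-4, 0, 2, 0, -5, 1, -1, -1⟩, 14755),
  (⟨-4, 0, 2, 0, -5, 1, 1, 1⟩, 14920),
  (⟨-4, 0, 2, 0, -5, 1, 3, -1⟩, 14865),
  (⟨-4, 0, 2, 0, -3, -1, -5, -1⟩, 14727),
  (⟨-4, 0, 2, 0, -3, -1, -3, 1⟩, 14771),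
  (⟨-4, 0, 2, 0, -3, -1, -1, -1⟩, 14805),
  (⟨-4, 0, 2, 0, -3, -1, 1, 1⟩, 13787),
  (⟨-4, 0, 2, 0, -3, -1, 3, -1⟩, 14905),
  (⟨-4, 0, 2, 0, -3, -1, 5, 1⟩, 14849),
  (⟨-4, 0, 2, 0, -1, 1, -5, -1⟩, 14795),
  (⟨-4, 0, 2, 0, -1, 1, -3, 1⟩, 14053),
  (⟨-4, 0, 2, 0, -1, 1, -1, -1⟩, 9067),
  (⟨-4, 0, 2, 0, -1, 1, 1, 1⟩, 9194),
  (⟨-4, 0, 2, 0, -1, 1, 3, -1⟩, 14944),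
  (⟨-4, 0, 2, 0, -1, 1, 5, 1⟩, 14880),
  (⟨-4, 0, 2, 0, 1, -1, -5, -1⟩, 15007),
  (⟨-4, 0, 2, 0, 1, -1, -3, 1⟩, 15071),
  (⟨-4, 0, 2, 0, 1, -1, -1, -1⟩, 9321),
  (⟨-4, 0, 2, 0, 1, -1, 1, 1⟩, 9448),
  (⟨-4, 0, 2, 0, 1, -1, 3, -1⟩, 15205),
  (⟨-4, 0, 2, 0, 1, -1, 5, 1⟩, 15178),
  (⟨-4, 0, 2, 0, 3, 1, -5, -1⟩, 14978),
  (⟨-4, 0, 2, 0, 3, 1, -3, 1⟩, 15034),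
  (⟨-4, 0, 2, 0, 3, 1, -1, -1⟩, 15067),
  (⟨-4, 0, 2, 0, 3, 1, 1, 1⟩, 15188),
  (⟨-4, 0, 2, 0, 3, 1, 3, -1⟩, 15152),
  (⟨-4, 0, 2, 0, 3, 1, 5, 1⟩, 15110),
  (⟨-4, 0, 2, 0, 5, -1, -3, 1⟩, 14996),
  (⟨-4, 0, 2, 0, 5, -1, -1, -1⟩, 15049),
  (⟨-4, 0, 2, 0, 5, -1, 1, 1⟩, 15140),
  (⟨-4, 0, 2, 0, 5, -1, 3, -1⟩, 15118),
  (⟨-4, 0, 2, 2, -4, 0, 0, 0⟩, 14528),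
  (⟨-4, 0, 2, 2, -2, -2, 0, 0⟩, 14597),
  (⟨-4, 0, 2, 2, -2, 2, 0, 0⟩, 14464),
  (⟨-4, 0, 2, 2, 0, 0, -4, 0⟩, 10656),
  (⟨-4, 0, 2, 2, 0, 0, -2, -2⟩, 13451),
  (⟨-4, 0, 2, 2, 0, 0, -2, 2⟩, 8743),
  (⟨-4, 0, 2, 2, 0, 0, 0, 0⟩, 14683),
  (⟨-4, 0, 2, 2, 0, 0, 2, -2⟩, 8620),
  (⟨-4, 0, 2, 2, 0, 0, 2, 2⟩, 13580),
  (⟨-4, 0, 2, 2, 0, 0, 4, 0⟩, 10783),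
  (⟨-4, 0, 2, 2, 2, -2, 0, 0⟩, 14592),
  (⟨-4, 0, 2, 2, 2, 2, 0, 0⟩, 14472),
  (⟨-4, 0, 2, 2, 4, 0, 0, 0⟩, 14661),
  (⟨-4, 0, 3, -1, -2, 0, -5, 1⟩, 14742),
  (⟨-4, 0, 3, -1, -2, 0, -3, -1⟩, 14273),
  (⟨-4, 0, 3, -1, -2, 0, -1, 1⟩, 14819),
  (⟨-4, 0, 3, -1, -2, 0, 1, -1⟩, 14310),
  (⟨-4, 0, 3, -1, -2, 0, 3, 1⟩, 14899),
  (⟨-4, 0, 3, -1, -2, 0, 5, -1⟩, 14862),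
  (⟨-4, 0, 3, -1, 0, -2, -3, -1⟩, 9244),
  (⟨-4, 0, 3, -1, 0, -2, -1, 1⟩, 13772),
  (⟨-4, 0, 3, -1, 0, -2, 1, -1⟩, 13894),
  (⟨-4, 0, 3, -1, 0, -2, 3, 1⟩, 8101),
  (⟨-4, 0, 3, -1, 0, 2, -3, -1⟩, 8226),
  (⟨-4, 0, 3, -1, 0, 2, -1, 1⟩, 14015),
  (⟨-4, 0, 3, -1, 0, 2, 1, -1⟩, 14157),
  (⟨-4, 0, 3, -1, 0, 2, 3, 1⟩, 9115),
  (⟨-4, 0, 3, -1, 2, 0, -5, 1⟩, 14989),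
  (⟨-4, 0, 3, -1, 2, 0, -3, -1⟩, 15024),
  (⟨-4, 0, 3, -1, 2, 0, -1, 1⟩, 15078),
  (⟨-4, 0, 3, -1, 2, 0, 1, -1⟩, 15202),
  (⟨-4, 0, 3, -1, 2, 0, 3, 1⟩, 15169),
  (⟨-4, 0, 3, -1, 2, 0, 5, -1⟩, 15125),
  (⟨-4, 0, 3, 1, -5, -1, -2, 0⟩, 14721),
  (⟨-4, 0, 3, 1, -5, -1, 2, 0⟩, 14857),
  (⟨-4, 0, 3, 1, -3, 1, -2, 0⟩, 14778),
  (⟨-4, 0, 3, 1, -3, 1, 0, -2⟩, 8986),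
  (⟨-4, 0, 3, 1, -3, 1, 0, 2⟩, 8481),
  (⟨-4, 0, 3, 1, -3, 1, 2, 0⟩, 14530),
  (⟨-4, 0, 3, 1, -1, -1, -2, 0⟩, 14682),
  (⟨-4, 0, 3, 1, -1, -1, 0, -2⟩, 13903),
  (⟨-4, 0, 3, 1, -1, -1, 0, 2⟩, 13765),
  (⟨-4, 0, 3, 1, -1, -1, 2, 0⟩, 14937),
  (⟨-4, 0, 3, 1, 1, 1, -2, 0⟩, 15064),
  (⟨-4, 0, 3, 1, 1, 1, 0, -2⟩, 14144),
  (⟨-4, 0, 3, 1, 1, 1, 0, 2⟩, 14030),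
  (⟨-4, 0, 3, 1, 1, 1, 2, 0⟩, 15194),
  (⟨-4, 0, 3, 1, 3, -1, -2, 0⟩, 15042),
  (⟨-4, 0, 3, 1, 3, -1, 0, -2⟩, 8862),
  (⟨-4, 0, 3, 1, 3, -1, 0, 2⟩, 9373),
  (⟨-4, 0, 3, 1, 3, -1, 2, 0⟩, 15161),
  (⟨-4, 0, 3, 1, 5, 1, -2, 0⟩, 14986),
  (⟨-4, 0, 3, 1, 5, 1, 2, 0⟩, 15106),
  (⟨-4, 0, 4, -2, -1, 1, -1, -1⟩, 14231),
  (⟨-4, 0, 4, -2, -1, 1, 1, 1⟩, 14353),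
  (⟨-4, 0, 4, -2, 1, -1, -1, -1⟩, 14228),
  (⟨-4, 0, 4, -2, 1, -1, 1, 1⟩, 14360),
  (⟨-4, 0, 4, 0, -4, 0, -4, 0⟩, 14720),
  (⟨-4, 0, 4, 0, -4, 0, 0, 0⟩, 14760),
  (⟨-4, 0, 4, 0, -4, 0, 4, 0⟩, 14848),
  (⟨-4, 0, 4, 0, -2, -2, 0, 0⟩, 10933),
  (⟨-4, 0, 4, 0, -2, 2, 0, 0⟩, 14537),
  (⟨-4, 0, 4, 0, 0, 0, -4, 0⟩, 15014),
  (⟨-4, 0, 4, 0, 0, 0, -2, -2⟩, 14282),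
  (⟨-4, 0, 4, 0, 0, 0, -2, 2⟩, 12475),
  (⟨-4, 0, 4, 0, 0, 0, 0, 0⟩, 9575),
  (⟨-4, 0, 4, 0, 0, 0, 2, -2⟩, 12600),
  (⟨-4, 0, 4, 0, 0, 0, 2, 2⟩, 14411),
  (⟨-4, 0, 4, 0, 0, 0, 4, 0⟩, 14893),
  (⟨-4, 0, 4, 0, 2, -2, 0, 0⟩, 14664),
  (⟨-4, 0, 4, 0, 2, 2, 0, 0⟩, 11054),
  (⟨-4, 0, 4, 0, 4, 0, -4, 0⟩, 14976),
  (⟨-4, 0, 4, 0, 4, 0, 0, 0⟩, 15147),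
  (⟨-4, 0, 4, 0, 4, 0, 4, 0⟩, 15104),
  (⟨-4, 0, 4, 2, -1, 1, -1, -1⟩, 14471),
  (⟨-4, 0, 4, 2, -1, 1, 1, 1⟩, 14475),
  (⟨-4, 0, 4, 2, 1, -1, -1, -1⟩, 14604),
  (⟨-4, 0, 4, 2, 1, -1, 1, 1⟩, 14598),
  (⟨-4, 0, 5, -1, -3, 1, -2, 0⟩, 14738),
  (⟨-4, 0, 5, -1, -3, 1, 2, 0⟩, 14870),
  (⟨-4, 0, 5, -1, -1, -1, -2, 0⟩, 14793),
  (⟨-4, 0, 5, -1, -1, -1, 2, 0⟩, 14919),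
  (⟨-4, 0, 5, -1, 1, 1, -2, 0⟩, 15038),
  (⟨-4, 0, 5, -1, 1, 1, 2, 0⟩, 15176),
  (⟨-4, 0, 5, -1, 3, -1, -2, 0⟩, 14997),
  (⟨-4, 0, 5, -1, 3, -1, 2, 0⟩, 15123),
  (⟨-4, 0, 5, 1, -2, 0, -3, -1⟩, 14730),
  (⟨-4, 0, 5, 1, -2, 0, -1, 1⟩, 14787),
  (⟨-4, 0, 5, 1, -2, 0, 1, -1⟩, 14923),
  (⟨-4, 0, 5, 1, -2, 0, 3, 1⟩, 14856),
  (⟨-4, 0, 5, 1, 2, 0, -3, -1⟩, 14981),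
  (⟨-4, 0, 5, 1, 2, 0, -1, 1⟩, 15050),
  (⟨-4, 0, 5, 1, 2, 0, 1, -1⟩, 15172),
  (⟨-4, 0, 5, 1, 2, 0, 3, 1⟩, 15113),
  (⟨-4, 0, 6, 0, -1, 1, -1, -1⟩, 9500),
  (⟨-4, 0, 6, 0, -1, 1, 1, 1⟩, 9498),
  (⟨-4, 0, 6, 0, 1, -1, -1, -1⟩, 9501),
  (⟨-4, 0, 6, 0, 1, -1, 1, 1⟩, 9499),
  (⟨-4, 2, -4, 0, -1, -1, -1, 1⟩, 9617),
  (⟨-4, 2, -4, 0, -1, -1, 1, -1⟩, 9624),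
  (⟨-4, 2, -4, 0, 1, 1, -1, 1⟩, 9751),
  (⟨-4, 2, -4, 0, 1, 1, 1, -1⟩, 9748),
  (⟨-4, 2, -3, -1, 0, 0, -3, 1⟩, 9872),
  (⟨-4, 2, -3, -1, 0, 0, -1, -1⟩, 9915),
  (⟨-4, 2, -3, -1, 0, 0, 1, 1⟩, 10040),
  (⟨-4, 2, -3, -1, 0, 0, 3, -1⟩, 9999),
  (⟨-4, 2, -3, 1, -3, -1, 0, 0⟩, 9618),
  (⟨-4, 2, -3, 1, -1, 1, 0, 0⟩, 9808),
  (⟨-4, 2, -3, 1, 1, -1, 0, 0⟩, 9680),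
  (⟨-4, 2, -3, 1, 3, 1, 0, 0⟩, 9747),
  (⟨-4, 2, -2, 0, -2, 0, -2, 0⟩, 9949),
  (⟨-4, 2, -2, 0, -2, 0, 0, -2⟩, 10128),
  (⟨-4, 2, -2, 0, -2, 0, 0, 2⟩, 10259),
  (⟨-4, 2, -2, 0, -2, 0, 2, 0⟩, 10084),
  (⟨-4, 2, -2, 0, 0, -2, -2, 0⟩, 9623),
  (⟨-4, 2, -2, 0, 0, -2, 2, 0⟩, 9622),
  (⟨-4, 2, -2, 0, 0, 2, -2, 0⟩, 9749),
  (⟨-4, 2, -2, 0, 0, 2, 2, 0⟩, 9752),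
  (⟨-4, 2, -2, 0, 2, 0, -2, 0⟩, 10468),
  (⟨-4, 2, -2, 0, 2, 0, 0, -2⟩, 10386),
  (⟨-4, 2, -2, 0, 2, 0, 0, 2⟩, 10511),
  (⟨-4, 2, -2, 0, 2, 0, 2, 0⟩, 10076),
  (⟨-4, 2, -1, -1, -3, -1, 0, 0⟩, 9676),
  (⟨-4, 2, -1, -1, -1, 1, -4, 0⟩, 9871),
  (⟨-4, 2, -1, -1, -1, 1, 0, 0⟩, 13281),
  (⟨-4, 2, -1, -1, -1, 1, 4, 0⟩, 10001),
  (⟨-4, 2, -1, -1, 1, -1, -4, 0⟩, 9876),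
  (⟨-4, 2, -1, -1, 1, -1, 0, 0⟩, 13406),
  (⟨-4, 2, -1, -1, 1, -1, 4, 0⟩, 10000),
  (⟨-4, 2, -1, -1, 3, 1, 0, 0⟩, 9805),
  (⟨-4, 2, -1, 1, -4, 0, -1, -1⟩, 10125),
  (⟨-4, 2, -1, 1, -4, 0, 1, 1⟩, 10256),
  (⟨-4, 2, -1, 1, 0, 0, -3, 1⟩, 10704),
  (⟨-4, 2, -1, 1, 0, 0, -1, -1⟩, 10462),
  (⟨-4, 2, -1, 1, 0, 0, 1, 1⟩, 10337),
  (⟨-4, 2, -1, 1, 0, 0, 3, -1⟩, 10832),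
  (⟨-4, 2, -1, 1, 4, 0, -1, -1⟩, 10383),
  (⟨-4, 2, -1, 1, 4, 0, 1, 1⟩, 10510),
  (⟨-4, 2, 0, -2, -2, 0, -2, 0⟩, 9874),
  (⟨-4, 2, 0, -2, -2, 0, 2, 0⟩, 10007),
  (⟨-4, 2, 0, -2, 2, 0, -2, 0⟩, 9880),
  (⟨-4, 2, 0, -2, 2, 0, 2, 0⟩, 10003),
  (⟨-4, 2, 0, 0, -3, 1, -3, -1⟩, 10135),
  (⟨-4, 2, 0, 0, -3, 1, -1, 1⟩, 10320),
  (⟨-4, 2, 0, 0, -3, 1, 1, -1⟩, 10192),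
  (⟨-4, 2, 0, 0, -3, 1, 3, 1⟩, 10254),
  (⟨-4, 2, 0, 0, -1, -1, -3, -1⟩, 10182),
  (⟨-4, 2, 0, 0, -1, -1, -1, 1⟩, 10972),
  (⟨-4, 2, 0, 0, -1, -1, 1, -1⟩, 10209),
  (⟨-4, 2, 0, 0, -1, -1, 3, 1⟩, 10311),
  (⟨-4, 2, 0, 0, 1, 1, -3, -1⟩, 10430),
  (⟨-4, 2, 0, 0, 1, 1, -1, 1⟩, 10590),
  (⟨-4, 2, 0, 0, 1, 1, 1, -1⟩, 11101),
  (⟨-4, 2, 0, 0, 1, 1, 3, 1⟩, 10559),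
  (⟨-4, 2, 0, 0, 3, -1, -3, -1⟩, 10381),
  (⟨-4, 2, 0, 0, 3, -1, -1, 1⟩, 10576),
  (⟨-4, 2, 0, 0, 3, -1, 1, -1⟩, 10448),
  (⟨-4, 2, 0, 0, 3, -1, 3, 1⟩, 10520),
  (⟨-4, 2, 0, 2, -2, 0, -2, 0⟩, 10638),
  (⟨-4, 2, 0, 2, -2, 0, 2, 0⟩, 10769),
  (⟨-4, 2, 0, 2, 2, 0, -2, 0⟩, 10644),
  (⟨-4, 2, 0, 2, 2, 0, 2, 0⟩, 10765),
  (⟨-4, 2, 1, -1, -4, 0, -1, -1⟩, 10134),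
  (⟨-4, 2, 1, -1, -4, 0, 1, 1⟩, 10264),
  (⟨-4, 2, 1, -1, 0, 0, -3, 1⟩, 9936),
  (⟨-4, 2, 1, -1, 0, 0, -1, -1⟩, 14300),
  (⟨-4, 2, 1, -1, 0, 0, 1, 1⟩, 14429),
  (⟨-4, 2, 1, -1, 0, 0, 3, -1⟩, 10064),
  (⟨-4, 2, 1, -1, 4, 0, -1, -1⟩, 10391),
  (⟨-4, 2, 1, -1, 4, 0, 1, 1⟩, 10517),
  (⟨-4, 2, 1, 1, -3, -1, 0, 0⟩, 10915),
  (⟨-4, 2, 1, 1, -1, 1, -4, 0⟩, 10642),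
  (⟨-4, 2, 1, 1, -1, 1, 0, 0⟩, 11100),
  (⟨-4, 2, 1, 1, -1, 1, 4, 0⟩, 10773),
  (⟨-4, 2, 1, 1, 1, -1, -4, 0⟩, 10646),
  (⟨-4, 2, 1, 1, 1, -1, 0, 0⟩, 10973),
  (⟨-4, 2, 1, 1, 1, -1, 4, 0⟩, 10771),
  (⟨-4, 2, 1, 1, 3, 1, 0, 0⟩, 11044),
  (⟨-4, 2, 2, 0, -2, 0, -2, 0⟩, 10980),
  (⟨-4, 2, 2, 0, -2, 0, 0, -2⟩, 10132),
  (⟨-4, 2, 2, 0, -2, 0, 0, 2⟩, 10262),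
  (⟨-4, 2, 2, 0, -2, 0, 2, 0⟩, 10974),
  (⟨-4, 2, 2, 0, 0, -2, -2, 0⟩, 10896),
  (⟨-4, 2, 2, 0, 0, -2, 2, 0⟩, 10894),
  (⟨-4, 2, 2, 0, 0, 2, -2, 0⟩, 11021),
  (⟨-4, 2, 2, 0, 0, 2, 2, 0⟩, 11023),
  (⟨-4, 2, 2, 0, 2, 0, -2, 0⟩, 11105),
  (⟨-4, 2, 2, 0, 2, 0, 0, -2⟩, 10389),
  (⟨-4, 2, 2, 0, 2, 0, 0, 2⟩, 10513),
  (⟨-4, 2, 2, 0, 2, 0, 2, 0⟩, 15204),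
  (⟨-4, 2, 3, -1, -3, -1, 0, 0⟩, 10897),
  (⟨-4, 2, 3, -1, -1, 1, 0, 0⟩, 11088),
  (⟨-4, 2, 3, -1, 1, -1, 0, 0⟩, 10960),
  (⟨-4, 2, 3, -1, 3, 1, 0, 0⟩, 11028),
  (⟨-4, 2, 3, 1, 0, 0, -3, 1⟩, 10645),
  (⟨-4, 2, 3, 1, 0, 0, -1, -1⟩, 10697),
  (⟨-4, 2, 3, 1, 0, 0, 1, 1⟩, 10824),
  (⟨-4, 2, 3, 1, 0, 0, 3, -1⟩, 10774),
  (⟨-4, 2, 4, 0, -1, -1, -1, 1⟩, 10893),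
  (⟨-4, 2, 4, 0, -1, -1, 1, -1⟩, 10898),
  (⟨-4, 2, 4, 0, 1, 1, -1, 1⟩, 11027),
  (⟨-4, 2, 4, 0, 1, 1, 1, -1⟩, 11022),
  (⟨-3, -3, -2, 0, 0, 0, -1, 1⟩, 11145),
  (⟨-3, -3, -2, 0, 0, 0, 1, -1⟩, 11274),
  (⟨-3, -3, -1, 1, -2, 0, 0, 0⟩, 11394),
  (⟨-3, -3, -1, 1, 2, 0, 0, 0⟩, 11521),
  (⟨-3, -3, 0, 0, -1, 1, -2, 0⟩, 11654),
  (⟨-3, -3, 0, 0, -1, 1, 2, 0⟩, 11781),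
  (⟨-3, -3, 0, 0, 1, -1, -2, 0⟩, 11912),
  (⟨-3, -3, 0, 0, 1, -1, 2, 0⟩, 12039),
  (⟨-3, -3, 1, -1, -2, 0, 0, 0⟩, 12172),
  (⟨-3, -3, 1, -1, 2, 0, 0, 0⟩, 12299),
  (⟨-3, -3, 2, 0, 0, 0, -1, 1⟩, 12419),
  (⟨-3, -3, 2, 0, 0, 0, 1, -1⟩, 12548),
  (⟨-3, -1, -6, 0, -3, 1, 0, 0⟩, 12709),
  (⟨-3, -1, -6, 0, -1, -1, 0, 0⟩, 5839),
  (⟨-3, -1, -6, 0, 1, 1, 0, 0⟩, 5838),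
  (⟨-3, -1, -6, 0, 3, -1, 0, 0⟩, 13090),
  (⟨-3, -1, -5, -1, -4, 0, -2, 0⟩, 12674),
  (⟨-3, -1, -5, -1, -4, 0, 2, 0⟩, 12805),
  (⟨-3, -1, -5, -1, 0, 0, -2, 0⟩, 13014),
  (⟨-3, -1, -5, -1, 0, 0, 0, -2⟩, 11267),
  (⟨-3, -1, -5, -1, 0, 0, 0, 2⟩, 11140),
  (⟨-3, -1, -5, -1, 0, 0, 2, 0⟩, 12883),
  (⟨-3, -1, -5, -1, 4, 0, -2, 0⟩, 12936),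
  (⟨-3, -1, -5, -1, 4, 0, 2, 0⟩, 13057),
  (⟨-3, -1, -5, 1, -3, -1, -1, 1⟩, 12716),
  (⟨-3, -1, -5, 1, -3, -1, 1, -1⟩, 11442),
  (⟨-3, -1, -5, 1, -1, 1, -3, -1⟩, 13482),
  (⟨-3, -1, -5, 1, -1, 1, -1, 1⟩, 11207),
  (⟨-3, -1, -5, 1, -1, 1, 1, -1⟩, 11340),
  (⟨-3, -1, -5, 1, -1, 1, 3, 1⟩, 13595),
  (⟨-3, -1, -5, 1, 1, -1, -3, -1⟩, 13468),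
  (⟨-3, -1, -5, 1, 1, -1, -1, 1⟩, 11213),
  (⟨-3, -1, -5, 1, 1, -1, 1, -1⟩, 11326),
  (⟨-3, -1, -5, 1, 1, -1, 3, 1⟩, 13609),
  (⟨-3, -1, -5, 1, 3, 1, -1, 1⟩, 11569),
  (⟨-3, -1, -5, 1, 3, 1, 1, -1⟩, 13095),
  (⟨-3, -1, -4, -2, -3, 1, 0, 0⟩, 13190),
  (⟨-3, -1, -4, -2, -1, -1, 0, 0⟩, 13337),
  (⟨-3, -1, -4, -2, 1, 1, 0, 0⟩, 13209),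
  (⟨-3, -1, -4, -2, 3, -1, 0, 0⟩, 13319),
  (⟨-3, -1, -4, 0, -2, 0, -5, -1⟩, 12681),
  (⟨-3, -1, -4, 0, -2, 0, -3, 1⟩, 11202),
  (⟨-3, -1, -4, 0, -2, 0, -1, -1⟩, 12761),
  (⟨-3, -1, -4, 0, -2, 0, 1, 1⟩, 12890),
  (⟨-3, -1, -4, 0, -2, 0, 3, -1⟩, 12857),
  (⟨-3, -1, -4, 0, -2, 0, 5, 1⟩, 12802),
  (⟨-3, -1, -4, 0, 0, -2, -3, 1⟩, 11937),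
  (⟨-3, -1, -4, 0, 0, -2, -1, -1⟩, 6213),
  (⟨-3, -1, -4, 0, 0, -2, 1, 1⟩, 6350),
  (⟨-3, -1, -4, 0, 0, -2, 3, -1⟩, 13853),
  (⟨-3, -1, -4, 0, 0, 2, -3, 1⟩, 13978),
  (⟨-3, -1, -4, 0, 0, 2, -1, -1⟩, 5967),
  (⟨-3, -1, -4, 0, 0, 2, 1, 1⟩, 6080),
  (⟨-3, -1, -4, 0, 0, 2, 3, -1⟩, 11806),
  (⟨-3, -1, -4, 0, 2, 0, -5, -1⟩, 12929),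
  (⟨-3, -1, -4, 0, 2, 0, -3, 1⟩, 12986),
  (⟨-3, -1, -4, 0, 2, 0, -1, -1⟩, 11354),
  (⟨-3, -1, -4, 0, 2, 0, 1, 1⟩, 13144),
  (⟨-3, -1, -4, 0, 2, 0, 3, -1⟩, 13122),
  (⟨-3, -1, -4, 0, 2, 0, 5, 1⟩, 13066),
  (⟨-3, -1, -4, 2, -3, 1, 0, 0⟩, 11414),
  (⟨-3, -1, -4, 2, -1, -1, 0, 0⟩, 11464),
  (⟨-3, -1, -4, 2, 1, 1, 0, 0⟩, 11593),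
  (⟨-3, -1, -4, 2, 3, -1, 0, 0⟩, 11541),
  (⟨-3, -1, -3, -1, -5, 1, -1, 1⟩, 12714),
  (⟨-3, -1, -3, -1, -5, 1, 1, -1⟩, 13239),
  (⟨-3, -1, -3, -1, -3, -1, -3, -1⟩, 12697),
  (⟨-3, -1, -3, -1, -3, -1, -1, 1⟩, 13779),
  (⟨-3, -1, -3, -1, -3, -1, 1, -1⟩, 11351),
  (⟨-3, -1, -3, -1, -3, -1, 3, 1⟩, 12825),
  (⟨-3, -1, -3, -1, -1, 1, -5, 1⟩, 11175),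
  (⟨-3, -1, -3, -1, -1, 1, -3, -1⟩, 11730),
  (⟨-3, -1, -3, -1, -1, 1, -1, 1⟩, 11221),
  (⟨-3, -1, -3, -1, -1, 1, 1, -1⟩, 13272),
  (⟨-3, -1, -3, -1, -1, 1, 3, 1⟩, 11863),
  (⟨-3, -1, -3, -1, -1, 1, 5, -1⟩, 11802),
  (⟨-3, -1, -3, -1, 1, -1, -5, 1⟩, 11933),
  (⟨-3, -1, -3, -1, 1, -1, -3, -1⟩, 13015),
  (⟨-3, -1, -3, -1, 1, -1, -1, 1⟩, 13401),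
  (⟨-3, -1, -3, -1, 1, -1, 1, -1⟩, 11348),
  (⟨-3, -1, -3, -1, 1, -1, 3, 1⟩, 12113),
  (⟨-3, -1, -3, -1, 1, -1, 5, -1⟩, 11308),
  (⟨-3, -1, -3, -1, 3, 1, -3, -1⟩, 12953),
  (⟨-3, -1, -3, -1, 3, 1, -1, 1⟩, 14039),
  (⟨-3, -1, -3, -1, 3, 1, 1, -1⟩, 14166),
  (⟨-3, -1, -3, -1, 3, 1, 3, 1⟩, 13081),
  (⟨-3, -1, -3, -1, 5, -1, -1, 1⟩, 13372),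
  (⟨-3, -1, -3, -1, 5, -1, 1, -1⟩, 13097),
  (⟨-3, -1, -3, 1, -4, 0, -2, 0⟩, 12730),
  (⟨-3, -1, -3, 1, -4, 0, 0, -2⟩, 13473),
  (⟨-3, -1, -3, 1, -4, 0, 0, 2⟩, 13622),
  (⟨-3, -1, -3, 1, -4, 0, 2, 0⟩, 11443),
  (⟨-3, -1, -3, 1, -2, -2, -2, 0⟩, 6965),
  (⟨-3, -1, -3, 1, -2, -2, 2, 0⟩, 7108),
  (⟨-3, -1, -3, 1, -2, 2, -2, 0⟩, 11718),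
  (⟨-3, -1, -3, 1, -2, 2, 2, 0⟩, 11848),
  (⟨-3, -1, -3, 1, 0, 0, -6, 0⟩, 12962),
  (⟨-3, -1, -3, 1, 0, 0, -4, -2⟩, 13442),
  (⟨-3, -1, -3, 1, 0, 0, -4, 2⟩, 11160),
  (⟨-3, -1, -3, 1, 0, 0, -2, 0⟩, 13545),
  (⟨-3, -1, -3, 1, 0, 0, 0, -2⟩, 13485),
  (⟨-3, -1, -3, 1, 0, 0, 0, 2⟩, 13606),
  (⟨-3, -1, -3, 1, 0, 0, 2, 0⟩, 13674),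
  (⟨-3, -1, -3, 1, 0, 0, 4, -2⟩, 11287),
  (⟨-3, -1, -3, 1, 0, 0, 4, 2⟩, 13569),
  (⟨-3, -1, -3, 1, 0, 0, 6, 0⟩, 12837),
  (⟨-3, -1, -3, 1, 2, -2, -2, 0⟩, 11977),
  (⟨-3, -1, -3, 1, 2, -2, 2, 0⟩, 12095),
  (⟨-3, -1, -3, 1, 2, 2, -2, 0⟩, 7235),
  (⟨-3, -1, -3, 1, 2, 2, 2, 0⟩, 7342),
  (⟨-3, -1, -3, 1, 4, 0, -2, 0⟩, 11568),
  (⟨-3, -1, -3, 1, 4, 0, 0, -2⟩, 13501),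
  (⟨-3, -1, -3, 1, 4, 0, 0, 2⟩, 13598),
  (⟨-3, -1, -3, 1, 4, 0, 2, 0⟩, 13113),
  (⟨-3, -1, -2, -2, -2, 0, -3, 1⟩, 6478),
  (⟨-3, -1, -2, -2, -2, 0, -1, -1⟩, 12243),
  (⟨-3, -1, -2, -2, -2, 0, 1, 1⟩, 12242),
  (⟨-3, -1, -2, -2, -2, 0, 3, -1⟩, 6603),
  (⟨-3, -1, -2, -2, 0, -2, -1, -1⟩, 13323),
  (⟨-3, -1, -2, -2, 0, -2, 1, 1⟩, 13320),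
  (⟨-3, -1, -2, -2, 0, 2, -1, -1⟩, 13189),
  (⟨-3, -1, -2, -2, 0, 2, 1, 1⟩, 13196),
  (⟨-3, -1, -2, -2, 2, 0, -3, 1⟩, 6730),
  (⟨-3, -1, -2, -2, 2, 0, -1, -1⟩, 12369),
  (⟨-3, -1, -2, -2, 2, 0, 1, 1⟩, 12374),
  (⟨-3, -1, -2, -2, 2, 0, 3, -1⟩, 6863),
  (⟨-3, -1, -2, 0, -5, -1, -4, 0⟩, 12678),
  (⟨-3, -1, -2, 0, -5, -1, 0, 0⟩, 12758),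
  (⟨-3, -1, -2, 0, -5, -1, 4, 0⟩, 12810),
  (⟨-3, -1, -2, 0, -3, 1, -4, 0⟩, 11699),
  (⟨-3, -1, -2, 0, -3, 1, -2, -2⟩, 5955),
  (⟨-3, -1, -2, 0, -3, 1, -2, 2⟩, 11195),
  (⟨-3, -1, -2, 0, -3, 1, 0, 0⟩, 11755),
  (⟨-3, -1, -2, 0, -3, 1, 2, -2⟩, 11341),
  (⟨-3, -1, -2, 0, -3, 1, 2, 2⟩, 6094),
  (⟨-3, -1, -2, 0, -3, 1, 4, 0⟩, 11841),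
  (⟨-3, -1, -2, 0, -1, -1, -4, 0⟩, 11989),
  (⟨-3, -1, -2, 0, -1, -1, -2, -2⟩, 13522),
  (⟨-3, -1, -2, 0, -1, -1, -2, 2⟩, 13739),
  (⟨-3, -1, -2, 0, -1, -1, 0, 0⟩, 15341),
  (⟨-3, -1, -2, 0, -1, -1, 2, -2⟩, 11329),
  (⟨-3, -1, -2, 0, -1, -1, 2, 2⟩, 13778),
  (⟨-3, -1, -2, 0, -1, -1, 4, 0⟩, 12889),
  (⟨-3, -1, -2, 0, -1, 3, 0, 0⟩, 11709),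
  (⟨-3, -1, -2, 0, 1, -3, 0, 0⟩, 12086),
  (⟨-3, -1, -2, 0, 1, 1, -4, 0⟩, 13016),
  (⟨-3, -1, -2, 0, 1, 1, -2, -2⟩, 14161),
  (⟨-3, -1, -2, 0, 1, 1, -2, 2⟩, 14017),
  (⟨-3, -1, -2, 0, 1, 1, 0, 0⟩, 14061),
  (⟨-3, -1, -2, 0, 1, 1, 2, -2⟩, 14120),
  (⟨-3, -1, -2, 0, 1, 1, 2, 2⟩, 13649),
  (⟨-3, -1, -2, 0, 1, 1, 4, 0⟩, 11860),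
  (⟨-3, -1, -2, 0, 3, -1, -4, 0⟩, 12993),
  (⟨-3, -1, -2, 0, 3, -1, -2, -2⟩, 6223),
  (⟨-3, -1, -2, 0, 3, -1, -2, 2⟩, 11212),
  (⟨-3, -1, -2, 0, 3, -1, 0, 0⟩, 12136),
  (⟨-3, -1, -2, 0, 3, -1, 2, -2⟩, 11320),
  (⟨-3, -1, -2, 0, 3, -1, 2, 2⟩, 6340),
  (⟨-3, -1, -2, 0, 3, -1, 4, 0⟩, 12080),
  (⟨-3, -1, -2, 0, 5, 1, -4, 0⟩, 12937),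
  (⟨-3, -1, -2, 0, 5, 1, 0, 0⟩, 13139),
  (⟨-3, -1, -2, 0, 5, 1, 4, 0⟩, 13063),
  (⟨-3, -1, -2, 2, -2, 0, -3, 1⟩, 11468),
  (⟨-3, -1, -2, 2, -2, 0, -1, -1⟩, 13480),
  (⟨-3, -1, -2, 2, -2, 0, 1, 1⟩, 13625),
  (⟨-3, -1, -2, 2, -2, 0, 3, -1⟩, 11462),
  (⟨-3, -1, -2, 2, 0, -2, -1, -1⟩, 13466),
  (⟨-3, -1, -2, 2, 0, -2, 1, 1⟩, 14619),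
  (⟨-3, -1, -2, 2, 0, 2, -1, -1⟩, 14492),
  (⟨-3, -1, -2, 2, 0, 2, 1, 1⟩, 13597),
  (⟨-3, -1, -2, 2, 2, 0, -3, 1⟩, 11583),
  (⟨-3, -1, -2, 2, 2, 0, -1, -1⟩, 13498),
  (⟨-3, -1, -2, 2, 2, 0, 1, 1⟩, 13611),
  (⟨-3, -1, -2, 2, 2, 0, 3, -1⟩, 11597),
  (⟨-3, -1, -1, -1, -4, 0, -2, 0⟩, 12763),
  (⟨-3, -1, -1, -1, -4, 0, 0, -2⟩, 6607),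
  (⟨-3, -1, -1, -1, -4, 0, 0, 2⟩, 6475),
  (⟨-3, -1, -1, -1, -4, 0, 2, 0⟩, 12244),
  (⟨-3, -1, -1, -1, -2, -2, -2, 0⟩, 11985),
  (⟨-3, -1, -1, -1, -2, -2, 0, -2⟩, 13831),
  (⟨-3, -1, -1, -1, -2, -2, 0, 2⟩, 13699),
  (⟨-3, -1, -1, -1, -2, -2, 2, 0⟩, 13906),
  (⟨-3, -1, -1, -1, -2, 2, -2, 0⟩, 11693),
  (⟨-3, -1, -1, -1, -2, 2, 0, -2⟩, 13238),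
  (⟨-3, -1, -1, -1, -2, 2, 0, 2⟩, 14007),
  (⟨-3, -1, -1, -1, -2, 2, 2, 0⟩, 11827),
  (⟨-3, -1, -1, -1, 0, 0, -6, 0⟩, 7621),
  (⟨-3, -1, -1, -1, 0, 0, -4, -2⟩, 14233),
  (⟨-3, -1, -1, -1, 0, 0, -4, 2⟩, 11199),
  (⟨-3, -1, -1, -1, 0, 0, -2, 0⟩, 12397),
  (⟨-3, -1, -1, -1, 0, 0, 0, -2⟩, 14299),
  (⟨-3, -1, -1, -1, 0, 0, 0, 2⟩, 11227),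
  (⟨-3, -1, -1, -1, 0, 0, 2, 0⟩, 11885),
  (⟨-3, -1, -1, -1, 0, 0, 4, -2⟩, 11334),
  (⟨-3, -1, -1, -1, 0, 0, 4, 2⟩, 14361),
  (⟨-3, -1, -1, -1, 0, 0, 6, 0⟩, 7744),
  (⟨-3, -1, -1, -1, 2, -2, -2, 0⟩, 11952),
  (⟨-3, -1, -1, -1, 2, -2, 0, -2⟩, 13884),
  (⟨-3, -1, -1, -1, 2, -2, 0, 2⟩, 13373),
  (⟨-3, -1, -1, -1, 2, -2, 2, 0⟩, 12070),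
  (⟨-3, -1, -1, -1, 2, 2, -2, 0⟩, 14033),
  (⟨-3, -1, -1, -1, 2, 2, 0, -2⟩, 14084),
  (⟨-3, -1, -1, -1, 2, 2, 0, 2⟩, 13958),
  (⟨-3, -1, -1, -1, 2, 2, 2, 0⟩, 11858),
  (⟨-3, -1, -1, -1, 4, 0, -2, 0⟩, 12373),
  (⟨-3, -1, -1, -1, 4, 0, 0, -2⟩, 6858),
  (⟨-3, -1, -1, -1, 4, 0, 0, 2⟩, 6734),
  (⟨-3, -1, -1, -1, 4, 0, 2, 0⟩, 12379),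
  (⟨-3, -1, -1, 1, -5, 1, -3, -1⟩, 11689),
  (⟨-3, -1, -1, 1, -5, 1, -1, 1⟩, 11465),
  (⟨-3, -1, -1, 1, -5, 1, 1, -1⟩, 11463),
  (⟨-3, -1, -1, 1, -5, 1, 3, 1⟩, 11444),
  (⟨-3, -1, -1, 1, -3, -1, -5, 1⟩, 6954),
  (⟨-3, -1, -1, 1, -3, -1, -3, -1⟩, 13521),
  (⟨-3, -1, -1, 1, -3, -1, -1, 1⟩, 13785),
  (⟨-3, -1, -1, 1, -3, -1, 1, -1⟩, 13915),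
  (⟨-3, -1, -1, 1, -3, -1, 3, 1⟩, 11479),
  (⟨-3, -1, -1, 1, -3, -1, 5, -1⟩, 13873),
  (⟨-3, -1, -1, 1, -1, 1, -5, 1⟩, 11725),
  (⟨-3, -1, -1, 1, -1, 1, -3, -1⟩, 13531),
  (⟨-3, -1, -1, 1, -1, 1, -1, 1⟩, 13672),
  (⟨-3, -1, -1, 1, -1, 1, 1, -1⟩, 14567),
  (⟨-3, -1, -1, 1, -1, 1, 3, 1⟩, 13653),
  (⟨-3, -1, -1, 1, -1, 1, 5, -1⟩, 11832),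
  (⟨-3, -1, -1, 1, 1, -1, -5, 1⟩, 11963),
  (⟨-3, -1, -1, 1, 1, -1, -3, -1⟩, 13524),
  (⟨-3, -1, -1, 1, 1, -1, -1, 1⟩, 14695),
  (⟨-3, -1, -1, 1, 1, -1, 1, -1⟩, 13547),
  (⟨-3, -1, -1, 1, 1, -1, 3, 1⟩, 12123),
  (⟨-3, -1, -1, 1, 1, -1, 5, -1⟩, 12108),
  (⟨-3, -1, -1, 1, 3, 1, -5, 1⟩, 14002),
  (⟨-3, -1, -1, 1, 3, 1, -3, -1⟩, 7255),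
  (⟨-3, -1, -1, 1, 3, 1, -1, 1⟩, 11611),
  (⟨-3, -1, -1, 1, 3, 1, 1, -1⟩, 14168),
  (⟨-3, -1, -1, 1, 3, 1, 3, 1⟩, 13650),
  (⟨-3, -1, -1, 1, 3, 1, 5, -1⟩, 7337),
  (⟨-3, -1, -1, 1, 5, -1, -3, -1⟩, 11567),
  (⟨-3, -1, -1, 1, 5, -1, -1, 1⟩, 11582),
  (⟨-3, -1, -1, 1, 5, -1, 1, -1⟩, 11592),
  (⟨-3, -1, -1, 1, 5, -1, 3, 1⟩, 12074),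
  (⟨-3, -1, -1, 3, 0, 0, -2, 0⟩, 13495),
  (⟨-3, -1, -1, 3, 0, 0, 2, 0⟩, 13628),
  (⟨-3, -1, 0, -2, -5, -1, 0, 0⟩, 12161),
  (⟨-3, -1, 0, -2, -3, 1, -4, 0⟩, 11681),
  (⟨-3, -1, 0, -2, -3, 1, 0, 0⟩, 12203),
  (⟨-3, -1, 0, -2, -3, 1, 4, 0⟩, 12188),
  (⟨-3, -1, 0, -2, -1, -1, -4, 0⟩, 8011),
  (⟨-3, -1, 0, -2, -1, -1, -2, -2⟩, 14212),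
  (⟨-3, -1, 0, -2, -1, -1, -2, 2⟩, 13743),
  (⟨-3, -1, 0, -2, -1, -1, 0, 0⟩, 12245),
  (⟨-3, -1, 0, -2, -1, -1, 2, -2⟩, 14257),
  (⟨-3, -1, 0, -2, -1, -1, 2, 2⟩, 14347),
  (⟨-3, -1, 0, -2, -1, -1, 4, 0⟩, 8132),
  (⟨-3, -1, 0, -2, 1, 1, -4, 0⟩, 8259),
  (⟨-3, -1, 0, -2, 1, 1, -2, -2⟩, 14220),
  (⟨-3, -1, 0, -2, 1, 1, -2, 2⟩, 14386),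
  (⟨-3, -1, 0, -2, 1, 1, 0, 0⟩, 12372),
  (⟨-3, -1, 0, -2, 1, 1, 2, -2⟩, 14132),
  (⟨-3, -1, 0, -2, 1, 1, 2, 2⟩, 14339),
  (⟨-3, -1, 0, -2, 1, 1, 4, 0⟩, 8394),
  (⟨-3, -1, 0, -2, 3, -1, -4, 0⟩, 12315),
  (⟨-3, -1, 0, -2, 3, -1, 0, 0⟩, 12328),
  (⟨-3, -1, 0, -2, 3, -1, 4, 0⟩, 12062),
  (⟨-3, -1, 0, -2, 5, 1, 0, 0⟩, 12290),
  (⟨-3, -1, 0, 0, -6, 0, -3, 1⟩, 14750),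
  (⟨-3, -1, 0, 0, -6, 0, -1, -1⟩, 7499),
  (⟨-3, -1, 0, 0, -6, 0, 1, 1⟩, 7477),
  (⟨-3, -1, 0, 0, -6, 0, 3, -1⟩, 7461),
  (⟨-3, -1, 0, 0, -4, -2, -3, 1⟩, 13705),
  (⟨-3, -1, 0, 0, -4, -2, -1, -1⟩, 13849),
  (⟨-3, -1, 0, 0, -4, -2, 1, 1⟩, 13721),
  (⟨-3, -1, 0, 0, -4, -2, 3, -1⟩, 13828),
  (⟨-3, -1, 0, 0, -4, 2, -3, 1⟩, 11668),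
  (⟨-3, -1, 0, 0, -4, 2, -1, -1⟩, 11684),
  (⟨-3, -1, 0, 0, -4, 2, 1, 1⟩, 11853),
  (⟨-3, -1, 0, 0, -4, 2, 3, -1⟩, 11795),
  (⟨-3, -1, 0, 0, -2, 0, -5, -1⟩, 7638),
  (⟨-3, -1, 0, 0, -2, 0, -3, 1⟩, 12522),
  (⟨-3, -1, 0, 0, -2, 0, -1, -1⟩, 11757),
  (⟨-3, -1, 0, 0, -2, 0, -1, 3⟩, 13724),
  (⟨-3, -1, 0, 0, -2, 0, 1, -3⟩, 12591),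
  (⟨-3, -1, 0, 0, -2, 0, 1, 1⟩, 12525),
  (⟨-3, -1, 0, 0, -2, 0, 3, -1⟩, 14952),
  (⟨-3, -1, 0, 0, -2, 0, 5, 1⟩, 14929),
  (⟨-3, -1, 0, 0, 0, -2, -5, -1⟩, 11909),
  (⟨-3, -1, 0, 0, 0, -2, -3, 1⟩, 11944),
  (⟨-3, -1, 0, 0, 0, -2, -1, -1⟩, 13913),
  (⟨-3, -1, 0, 0, 0, -2, 1, 1⟩, 12120),
  (⟨-3, -1, 0, 0, 0, -2, 3, -1⟩, 13869),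
  (⟨-3, -1, 0, 0, 0, -2, 5, 1⟩, 12038),
  (⟨-3, -1, 0, 0, 0, 2, -5, -1⟩, 11655),
  (⟨-3, -1, 0, 0, 0, 2, -3, 1⟩, 13990),
  (⟨-3, -1, 0, 0, 0, 2, -1, -1⟩, 11737),
  (⟨-3, -1, 0, 0, 0, 2, 1, 1⟩, 14040),
  (⟨-3, -1, 0, 0, 0, 2, 3, -1⟩, 11819),
  (⟨-3, -1, 0, 0, 0, 2, 5, 1⟩, 11784),
  (⟨-3, -1, 0, 0, 2, 0, -5, -1⟩, 15058),
  (⟨-3, -1, 0, 0, 2, 0, -3, 1⟩, 15083),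
  (⟨-3, -1, 0, 0, 2, 0, -1, -1⟩, 14189),
  (⟨-3, -1, 0, 0, 2, 0, -1, 3⟩, 12468),
  (⟨-3, -1, 0, 0, 2, 0, 1, -3⟩, 14107),
  (⟨-3, -1, 0, 0, 2, 0, 1, 1⟩, 15213),
  (⟨-3, -1, 0, 0, 2, 0, 3, -1⟩, 12649),
  (⟨-3, -1, 0, 0, 2, 0, 5, 1⟩, 7763),
  (⟨-3, -1, 0, 0, 4, -2, -3, 1⟩, 11922),
  (⟨-3, -1, 0, 0, 4, -2, -1, -1⟩, 11980),
  (⟨-3, -1, 0, 0, 4, -2, 1, 1⟩, 12067),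
  (⟨-3, -1, 0, 0, 4, -2, 3, -1⟩, 12049),
  (⟨-3, -1, 0, 0, 4, 2, -3, 1⟩, 13955),
  (⟨-3, -1, 0, 0, 4, 2, -1, -1⟩, 14105),
  (⟨-3, -1, 0, 0, 4, 2, 1, 1⟩, 13977),
  (⟨-3, -1, 0, 0, 4, 2, 3, -1⟩, 14090),
  (⟨-3, -1, 0, 0, 6, 0, -3, 1⟩, 7842),
  (⟨-3, -1, 0, 0, 6, 0, -1, -1⟩, 7854),
  (⟨-3, -1, 0, 0, 6, 0, 1, 1⟩, 7882),
  (⟨-3, -1, 0, 0, 6, 0, 3, -1⟩, 15137),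
  (⟨-3, -1, 0, 2, -5, -1, 0, 0⟩, 11403),
  (⟨-3, -1, 0, 2, -3, 1, -4, 0⟩, 14511),
  (⟨-3, -1, 0, 2, -3, 1, 0, 0⟩, 14502),
  (⟨-3, -1, 0, 2, -3, 1, 4, 0⟩, 14498),
  (⟨-3, -1, 0, 2, -1, -1, -4, 0⟩, 6981),
  (⟨-3, -1, 0, 2, -1, -1, -2, -2⟩, 13441),
  (⟨-3, -1, 0, 2, -1, -1, -2, 2⟩, 13757),
  (⟨-3, -1, 0, 2, -1, -1, 0, 0⟩, 14677),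
  (⟨-3, -1, 0, 2, -1, -1, 2, -2⟩, 8604),
  (⟨-3, -1, 0, 2, -1, -1, 2, 2⟩, 13577),
  (⟨-3, -1, 0, 2, -1, -1, 4, 0⟩, 7093),
  (⟨-3, -1, 0, 2, 1, 1, -4, 0⟩, 7214),
  (⟨-3, -1, 0, 2, 1, 1, -2, -2⟩, 13450),
  (⟨-3, -1, 0, 2, 1, 1, -2, 2⟩, 8731),
  (⟨-3, -1, 0, 2, 1, 1, 0, 0⟩, 14548),
  (⟨-3, -1, 0, 2, 1, 1, 2, -2⟩, 14134),
  (⟨-3, -1, 0, 2, 1, 1, 2, 2⟩, 13570),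
  (⟨-3, -1, 0, 2, 1, 1, 4, 0⟩, 7360),
  (⟨-3, -1, 0, 2, 3, -1, -4, 0⟩, 14629),
  (⟨-3, -1, 0, 2, 3, -1, 0, 0⟩, 14637),
  (⟨-3, -1, 0, 2, 3, -1, 4, 0⟩, 14644),
  (⟨-3, -1, 0, 2, 5, 1, 0, 0⟩, 11532),
  (⟨-3, -1, 1, -3, 0, 0, -2, 0⟩, 12314),
  (⟨-3, -1, 1, -3, 0, 0, 2, 0⟩, 12189),
  (⟨-3, -1, 1, -1, -5, 1, -3, -1⟩, 11675),
  (⟨-3, -1, 1, -1, -5, 1, -1, 1⟩, 12230),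
  (⟨-3, -1, 1, -1, -5, 1, 1, -1⟩, 12216),
  (⟨-3, -1, 1, -1, -5, 1, 3, 1⟩, 12204),
  (⟨-3, -1, 1, -1, -3, -1, -5, 1⟩, 7997),
  (⟨-3, -1, 1, -1, -3, -1, -3, -1⟩, 14295),
  (⟨-3, -1, 1, -1, -3, -1, -1, 1⟩, 13786),
  (⟨-3, -1, 1, -1, -3, -1, 1, -1⟩, 12248),
  (⟨-3, -1, 1, -1, -3, -1, 3, 1⟩, 12246),
  (⟨-3, -1, 1, -1, -3, -1, 5, -1⟩, 14887),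
  (⟨-3, -1, 1, -1, -1, 1, -5, 1⟩, 11721),
  (⟨-3, -1, 1, -1, -1, 1, -3, -1⟩, 11733),
  (⟨-3, -1, 1, -1, -1, 1, -1, 1⟩, 12519),
  (⟨-3, -1, 1, -1, -1, 1, 1, -1⟩, 11882),
  (⟨-3, -1, 1, -1, -1, 1, 3, 1⟩, 14426),
  (⟨-3, -1, 1, -1, -1, 1, 5, -1⟩, 11812),
  (⟨-3, -1, 1, -1, 1, -1, -5, 1⟩, 11939),
  (⟨-3, -1, 1, -1, 1, -1, -3, -1⟩, 11994),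
  (⟨-3, -1, 1, -1, 1, -1, -1, 1⟩, 12009),
  (⟨-3, -1, 1, -1, 1, -1, 1, -1⟩, 12647),
  (⟨-3, -1, 1, -1, 1, -1, 3, 1⟩, 12116),
  (⟨-3, -1, 1, -1, 1, -1, 5, -1⟩, 12104),
  (⟨-3, -1, 1, -1, 3, 1, -5, 1⟩, 15020),
  (⟨-3, -1, 1, -1, 3, 1, -3, -1⟩, 12371),
  (⟨-3, -1, 1, -1, 3, 1, -1, 1⟩, 12377),
  (⟨-3, -1, 1, -1, 3, 1, 1, -1⟩, 12378),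
  (⟨-3, -1, 1, -1, 3, 1, 3, 1⟩, 15191),
  (⟨-3, -1, 1, -1, 3, 1, 5, -1⟩, 8374),
  (⟨-3, -1, 1, -1, 5, -1, -3, -1⟩, 12327),
  (⟨-3, -1, 1, -1, 5, -1, -1, 1⟩, 12347),
  (⟨-3, -1, 1, -1, 5, -1, 1, -1⟩, 12351),
  (⟨-3, -1, 1, -1, 5, -1, 3, 1⟩, 12060),
  (⟨-3, -1, 1, 1, -4, 0, -2, 0⟩, 14804),
  (⟨-3, -1, 1, 1, -4, 0, 0, -2⟩, 8629),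
  (⟨-3, -1, 1, 1, -4, 0, 0, 2⟩, 8479),
  (⟨-3, -1, 1, 1, -4, 0, 2, 0⟩, 14938),
  (⟨-3, -1, 1, 1, -2, -2, -2, 0⟩, 14675),
  (⟨-3, -1, 1, 1, -2, -2, 0, -2⟩, 13834),
  (⟨-3, -1, 1, 1, -2, -2, 0, 2⟩, 13704),
  (⟨-3, -1, 1, 1, -2, -2, 2, 0⟩, 13910),
  (⟨-3, -1, 1, 1, -2, 2, -2, 0⟩, 14512),
  (⟨-3, -1, 1, 1, -2, 2, 0, -2⟩, 14493),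
  (⟨-3, -1, 1, 1, -2, 2, 0, 2⟩, 9138),
  (⟨-3, -1, 1, 1, -2, 2, 2, 0⟩, 14504),
  (⟨-3, -1, 1, 1, 0, 0, -6, 0⟩, 7619),
  (⟨-3, -1, 1, 1, 0, 0, -4, -2⟩, 13465),
  (⟨-3, -1, 1, 1, 0, 0, -4, 2⟩, 12487),
  (⟨-3, -1, 1, 1, 0, 0, -2, 0⟩, 15085),
  (⟨-3, -1, 1, 1, 0, 0, 0, -2⟩, 12634),
  (⟨-3, -1, 1, 1, 0, 0, 0, 2⟩, 13658),
  (⟨-3, -1, 1, 1, 0, 0, 2, 0⟩, 14573),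
  (⟨-3, -1, 1, 1, 0, 0, 4, -2⟩, 12606),
  (⟨-3, -1, 1, 1, 0, 0, 4, 2⟩, 13593),
  (⟨-3, -1, 1, 1, 0, 0, 6, 0⟩, 7748),
  (⟨-3, -1, 1, 1, 2, -2, -2, 0⟩, 14635),
  (⟨-3, -1, 1, 1, 2, -2, 0, -2⟩, 9265),
  (⟨-3, -1, 1, 1, 2, -2, 0, 2⟩, 14618),
  (⟨-3, -1, 1, 1, 2, -2, 2, 0⟩, 14643),
  (⟨-3, -1, 1, 1, 2, 2, -2, 0⟩, 14035),
  (⟨-3, -1, 1, 1, 2, 2, 0, -2⟩, 14085),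
  (⟨-3, -1, 1, 1, 2, 2, 0, 2⟩, 13961),
  (⟨-3, -1, 1, 1, 2, 2, 2, 0⟩, 14550),
  (⟨-3, -1, 1, 1, 4, 0, -2, 0⟩, 11610),
  (⟨-3, -1, 1, 1, 4, 0, 0, -2⟩, 8864),
  (⟨-3, -1, 1, 1, 4, 0, 0, 2⟩, 8750),
  (⟨-3, -1, 1, 1, 4, 0, 2, 0⟩, 15189),
  (⟨-3, -1, 2, -2, -2, 0, -3, 1⟩, 12231),
  (⟨-3, -1, 2, -2, -2, 0, -1, -1⟩, 12217)]

set_option maxRecDepth 1000000 in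
def xPairs1 : List (Z8 × Nat) := [
  (⟨-3, -1, 2, -2, -2, 0, 1, 1⟩, 12205),
  (⟨-3, -1, 2, -2, -2, 0, 3, -1⟩, 12195),
  (⟨-3, -1, 2, -2, 0, -2, -1, -1⟩, 14260),
  (⟨-3, -1, 2, -2, 0, -2, 1, 1⟩, 8124),
  (⟨-3, -1, 2, -2, 0, 2, -1, -1⟩, 8247),
  (⟨-3, -1, 2, -2, 0, 2, 1, 1⟩, 14383),
  (⟨-3, -1, 2, -2, 2, 0, -3, 1⟩, 12324),
  (⟨-3, -1, 2, -2, 2, 0, -1, -1⟩, 12326),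
  (⟨-3, -1, 2, -2, 2, 0, 1, 1⟩, 12346),
  (⟨-3, -1, 2, -2, 2, 0, 3, -1⟩, 12350),
  (⟨-3, -1, 2, 0, -5, -1, -4, 0⟩, 14723),
  (⟨-3, -1, 2, 0, -5, -1, 0, 0⟩, 14801),
  (⟨-3, -1, 2, 0, -5, -1, 4, 0⟩, 14853),
  (⟨-3, -1, 2, 0, -3, 1, -4, 0⟩, 11714),
  (⟨-3, -1, 2, 0, -3, 1, -2, -2⟩, 8992),
  (⟨-3, -1, 2, 0, -3, 1, -2, 2⟩, 12452),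
  (⟨-3, -1, 2, 0, -3, 1, 0, 0⟩, 14825),
  (⟨-3, -1, 2, 0, -3, 1, 2, -2⟩, 12616),
  (⟨-3, -1, 2, 0, -3, 1, 2, 2⟩, 9152),
  (⟨-3, -1, 2, 0, -3, 1, 4, 0⟩, 14896),
  (⟨-3, -1, 2, 0, -1, -1, -4, 0⟩, 11992),
  (⟨-3, -1, 2, 0, -1, -1, -2, -2⟩, 12627),
  (⟨-3, -1, 2, 0, -1, -1, -2, 2⟩, 12482),
  (⟨-3, -1, 2, 0, -1, -1, 0, 0⟩, 12653),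
  (⟨-3, -1, 2, 0, -1, -1, 2, -2⟩, 12582),
  (⟨-3, -1, 2, 0, -1, -1, 2, 2⟩, 9427),
  (⟨-3, -1, 2, 0, -1, -1, 4, 0⟩, 14933),
  (⟨-3, -1, 2, 0, -1, 3, 0, 0⟩, 14513),
  (⟨-3, -1, 2, 0, 1, -3, 0, 0⟩, 14642),
  (⟨-3, -1, 2, 0, 1, 1, -4, 0⟩, 15060),
  (⟨-3, -1, 2, 0, 1, 1, -2, -2⟩, 9046),
  (⟨-3, -1, 2, 0, 1, 1, -2, 2⟩, 12461),
  (⟨-3, -1, 2, 0, 1, 1, 0, 0⟩, 5741),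
  (⟨-3, -1, 2, 0, 1, 1, 2, -2⟩, 14146),
  (⟨-3, -1, 2, 0, 1, 1, 2, 2⟩, 12502),
  (⟨-3, -1, 2, 0, 1, 1, 4, 0⟩, 11865),
  (⟨-3, -1, 2, 0, 3, -1, -4, 0⟩, 15027),
  (⟨-3, -1, 2, 0, 3, -1, -2, -2⟩, 9285),
  (⟨-3, -1, 2, 0, 3, -1, -2, 2⟩, 12489),
  (⟨-3, -1, 2, 0, 3, -1, 0, 0⟩, 15210),
  (⟨-3, -1, 2, 0, 3, -1, 2, -2⟩, 12579),
  (⟨-3, -1, 2, 0, 3, -1, 2, 2⟩, 9375),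
  (⟨-3, -1, 2, 0, 3, -1, 4, 0⟩, 15170),
  (⟨-3, -1, 2, 0, 5, 1, -4, 0⟩, 14984),
  (⟨-3, -1, 2, 0, 5, 1, 0, 0⟩, 15186),
  (⟨-3, -1, 2, 0, 5, 1, 4, 0⟩, 15108),
  (⟨-3, -1, 2, 2, -2, 0, -3, 1⟩, 8501),
  (⟨-3, -1, 2, 2, -2, 0, -1, -1⟩, 14547),
  (⟨-3, -1, 2, 2, -2, 0, 1, 1⟩, 8530),
  (⟨-3, -1, 2, 2, -2, 0, 3, -1⟩, 8608),
  (⟨-3, -1, 2, 2, 0, -2, -1, -1⟩, 14599),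
  (⟨-3, -1, 2, 2, 0, -2, 1, 1⟩, 14593),
  (⟨-3, -1, 2, 2, 0, 2, -1, -1⟩, 14466),
  (⟨-3, -1, 2, 2, 0, 2, 1, 1⟩, 14470),
  (⟨-3, -1, 2, 2, 2, 0, -3, 1⟩, 8735),
  (⟨-3, -1, 2, 2, 2, 0, -1, -1⟩, 8913),
  (⟨-3, -1, 2, 2, 2, 0, 1, 1⟩, 14678),
  (⟨-3, -1, 2, 2, 2, 0, 3, -1⟩, 8878),
  (⟨-3, -1, 3, -1, -4, 0, -2, 0⟩, 14768),
  (⟨-3, -1, 3, -1, -4, 0, 0, -2⟩, 12594),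
  (⟨-3, -1, 3, -1, -4, 0, 0, 2⟩, 12450),
  (⟨-3, -1, 3, -1, -4, 0, 2, 0⟩, 12218),
  (⟨-3, -1, 3, -1, -2, -2, -2, 0⟩, 8005),
  (⟨-3, -1, 3, -1, -2, -2, 2, 0⟩, 8139),
  (⟨-3, -1, 3, -1, -2, 2, -2, 0⟩, 11707),
  (⟨-3, -1, 3, -1, -2, 2, 2, 0⟩, 11847),
  (⟨-3, -1, 3, -1, 0, 0, -6, 0⟩, 15006),
  (⟨-3, -1, 3, -1, 0, 0, -4, -2⟩, 14219),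
  (⟨-3, -1, 3, -1, 0, 0, -4, 2⟩, 12430),
  (⟨-3, -1, 3, -1, 0, 0, -2, 0⟩, 12520),
  (⟨-3, -1, 3, -1, 0, 0, 0, -2⟩, 12587),
  (⟨-3, -1, 3, -1, 0, 0, 0, 2⟩, 12456),
  (⟨-3, -1, 3, -1, 0, 0, 2, 0⟩, 12651),
  (⟨-3, -1, 3, -1, 0, 0, 4, -2⟩, 12557),
  (⟨-3, -1, 3, -1, 0, 0, 4, 2⟩, 14348),
  (⟨-3, -1, 3, -1, 0, 0, 6, 0⟩, 14881),
  (⟨-3, -1, 3, -1, 2, -2, -2, 0⟩, 11966),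
  (⟨-3, -1, 3, -1, 2, -2, 2, 0⟩, 12088),
  (⟨-3, -1, 3, -1, 2, 2, -2, 0⟩, 8266),
  (⟨-3, -1, 3, -1, 2, 2, 2, 0⟩, 8384),
  (⟨-3, -1, 3, -1, 4, 0, -2, 0⟩, 12345),
  (⟨-3, -1, 3, -1, 4, 0, 0, -2⟩, 12581),
  (⟨-3, -1, 3, -1, 4, 0, 0, 2⟩, 12465),
  (⟨-3, -1, 3, -1, 4, 0, 2, 0⟩, 15155),
  (⟨-3, -1, 3, 1, -5, 1, -1, 1⟩, 8477),
  (⟨-3, -1, 3, 1, -5, 1, 1, -1⟩, 14503),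
  (⟨-3, -1, 3, 1, -3, -1, -3, -1⟩, 14745),
  (⟨-3, -1, 3, 1, -3, -1, -1, 1⟩, 14807),
  (⟨-3, -1, 3, 1, -3, -1, 1, -1⟩, 8658),
  (⟨-3, -1, 3, 1, -3, -1, 3, 1⟩, 14873),
  (⟨-3, -1, 3, 1, -1, 1, -5, 1⟩, 12476),
  (⟨-3, -1, 3, 1, -1, 1, -3, -1⟩, 9047),
  (⟨-3, -1, 3, 1, -1, 1, -1, 1⟩, 12505),
  (⟨-3, -1, 3, 1, -1, 1, 1, -1⟩, 14549),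
  (⟨-3, -1, 3, 1, -1, 1, 3, 1⟩, 9171),
  (⟨-3, -1, 3, 1, -1, 1, 5, -1⟩, 14890),
  (⟨-3, -1, 3, 1, 1, -1, -5, 1⟩, 15017),
  (⟨-3, -1, 3, 1, 1, -1, -3, -1⟩, 9302),
  (⟨-3, -1, 3, 1, 1, -1, -1, 1⟩, 14676),
  (⟨-3, -1, 3, 1, 1, -1, 1, -1⟩, 12632),
  (⟨-3, -1, 3, 1, 1, -1, 3, 1⟩, 14679),
  (⟨-3, -1, 3, 1, 1, -1, 5, -1⟩, 12599),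
  (⟨-3, -1, 3, 1, 3, 1, -3, -1⟩, 15001),
  (⟨-3, -1, 3, 1, 3, 1, -1, 1⟩, 8785),
  (⟨-3, -1, 3, 1, 3, 1, 1, -1⟩, 8919),
  (⟨-3, -1, 3, 1, 3, 1, 3, 1⟩, 15129),
  (⟨-3, -1, 3, 1, 5, -1, -1, 1⟩, 14636),
  (⟨-3, -1, 3, 1, 5, -1, 1, -1⟩, 8858),
  (⟨-3, -1, 4, -2, -3, 1, 0, 0⟩, 12176),
  (⟨-3, -1, 4, -2, -1, -1, 0, 0⟩, 12219),
  (⟨-3, -1, 4, -2, 1, 1, 0, 0⟩, 12344),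
  (⟨-3, -1, 4, -2, 3, -1, 0, 0⟩, 12303),
  (⟨-3, -1, 4, 0, -2, 0, -5, -1⟩, 14732),
  (⟨-3, -1, 4, 0, -2, 0, -3, 1⟩, 12473),
  (⟨-3, -1, 4, 0, -2, 0, -1, -1⟩, 14811),
  (⟨-3, -1, 4, 0, -2, 0, 1, 1⟩, 12504),
  (⟨-3, -1, 4, 0, -2, 0, 3, -1⟩, 12609),
  (⟨-3, -1, 4, 0, -2, 0, 5, 1⟩, 14852),
  (⟨-3, -1, 4, 0, 0, -2, -3, 1⟩, 11959),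
  (⟨-3, -1, 4, 0, 0, -2, -1, -1⟩, 9248),
  (⟨-3, -1, 4, 0, 0, -2, 1, 1⟩, 9412),
  (⟨-3, -1, 4, 0, 0, -2, 3, -1⟩, 12578),
  (⟨-3, -1, 4, 0, 0, 2, -3, 1⟩, 12453),
  (⟨-3, -1, 4, 0, 0, 2, -1, -1⟩, 9027),
  (⟨-3, -1, 4, 0, 0, 2, 1, 1⟩, 9119),
  (⟨-3, -1, 4, 0, 0, 2, 3, -1⟩, 11836),
  (⟨-3, -1, 4, 0, 2, 0, -5, -1⟩, 14979),
  (⟨-3, -1, 4, 0, 2, 0, -3, 1⟩, 15041),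
  (⟨-3, -1, 4, 0, 2, 0, -1, -1⟩, 12633),
  (⟨-3, -1, 4, 0, 2, 0, 1, 1⟩, 12507),
  (⟨-3, -1, 4, 0, 2, 0, 3, -1⟩, 12602),
  (⟨-3, -1, 4, 0, 2, 0, 5, 1⟩, 15115),
  (⟨-3, -1, 4, 2, -3, 1, 0, 0⟩, 14469),
  (⟨-3, -1, 4, 2, -1, -1, 0, 0⟩, 14617),
  (⟨-3, -1, 4, 2, 1, 1, 0, 0⟩, 14489),
  (⟨-3, -1, 4, 2, 3, -1, 0, 0⟩, 14600),
  (⟨-3, -1, 5, -1, -3, -1, -1, 1⟩, 12470),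
  (⟨-3, -1, 5, -1, -3, -1, 1, -1⟩, 12585),
  (⟨-3, -1, 5, -1, -1, 1, -3, -1⟩, 9012),
  (⟨-3, -1, 5, -1, -1, 1, -1, 1⟩, 12451),
  (⟨-3, -1, 5, -1, -1, 1, 1, -1⟩, 12614),
  (⟨-3, -1, 5, -1, -1, 1, 3, 1⟩, 9127),
  (⟨-3, -1, 5, -1, 1, -1, -3, -1⟩, 9260),
  (⟨-3, -1, 5, -1, 1, -1, -1, 1⟩, 12479),
  (⟨-3, -1, 5, -1, 1, -1, 1, -1⟩, 12580),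
  (⟨-3, -1, 5, -1, 1, -1, 3, 1⟩, 9391),
  (⟨-3, -1, 5, -1, 3, 1, -1, 1⟩, 12458),
  (⟨-3, -1, 5, -1, 3, 1, 1, -1⟩, 12605),
  (⟨-3, -1, 5, 1, -4, 0, -2, 0⟩, 14726),
  (⟨-3, -1, 5, 1, -4, 0, 2, 0⟩, 14860),
  (⟨-3, -1, 5, 1, 0, 0, -2, 0⟩, 9554),
  (⟨-3, -1, 5, 1, 0, 0, 0, -2⟩, 12553),
  (⟨-3, -1, 5, 1, 0, 0, 0, 2⟩, 12426),
  (⟨-3, -1, 5, 1, 0, 0, 2, 0⟩, 9553),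
  (⟨-3, -1, 5, 1, 4, 0, -2, 0⟩, 14987),
  (⟨-3, -1, 5, 1, 4, 0, 2, 0⟩, 15111),
  (⟨-3, -1, 6, 0, -3, 1, 0, 0⟩, 9502),
  (⟨-3, -1, 6, 0, -1, -1, 0, 0⟩, 9503),
  (⟨-3, -1, 6, 0, 1, 1, 0, 0⟩, 9504),
  (⟨-3, -1, 6, 0, 3, -1, 0, 0⟩, 9505),
  (⟨-3, 1, -6, 0, 0, 0, -3, -1⟩, 12961),
  (⟨-3, 1, -6, 0, 0, 0, -1, 1⟩, 5836),
  (⟨-3, 1, -6, 0, 0, 0, 1, -1⟩, 5837),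
  (⟨-3, 1, -6, 0, 0, 0, 3, 1⟩, 12830),
  (⟨-3, 1, -5, -1, -3, 1, -1, -1⟩, 13210),
  (⟨-3, 1, -5, -1, -3, 1, 1, 1⟩, 13228),
  (⟨-3, 1, -5, -1, -1, -1, -3, 1⟩, 9917),
  (⟨-3, 1, -5, -1, -1, -1, -1, -1⟩, 9678),
  (⟨-3, 1, -5, -1, -1, -1, 1, 1⟩, 9668),
  (⟨-3, 1, -5, -1, -1, -1, 3, -1⟩, 12841),
  (⟨-3, 1, -5, -1, 1, 1, -3, 1⟩, 12970),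
  (⟨-3, 1, -5, -1, 1, 1, -1, -1⟩, 9795),
  (⟨-3, 1, -5, -1, 1, 1, 1, 1⟩, 9807),
  (⟨-3, 1, -5, -1, 1, 1, 3, -1⟩, 10038),
  (⟨-3, 1, -5, -1, 3, -1, -1, -1⟩, 13351),
  (⟨-3, 1, -5, -1, 3, -1, 1, 1⟩, 13341),
  (⟨-3, 1, -5, 1, -2, 0, -4, 0⟩, 12691),
  (⟨-3, 1, -5, 1, -2, 0, 0, 0⟩, 12769),
  (⟨-3, 1, -5, 1, -2, 0, 4, 0⟩, 12813),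
  (⟨-3, 1, -5, 1, 0, -2, 0, 0⟩, 9616),
  (⟨-3, 1, -5, 1, 0, 2, 0, 0⟩, 9743),
  (⟨-3, 1, -5, 1, 2, 0, -4, 0⟩, 12942),
  (⟨-3, 1, -5, 1, 2, 0, 0, 0⟩, 13150),
  (⟨-3, 1, -5, 1, 2, 0, 4, 0⟩, 13074),
  (⟨-3, 1, -4, -2, 0, 0, -3, -1⟩, 9866),
  (⟨-3, 1, -4, -2, 0, 0, -1, 1⟩, 9931),
  (⟨-3, 1, -4, -2, 0, 0, 1, -1⟩, 10058),
  (⟨-3, 1, -4, -2, 0, 0, 3, 1⟩, 9993),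
  (⟨-3, 1, -4, 0, -5, 1, -2, 0⟩, 12686),
  (⟨-3, 1, -4, 0, -5, 1, 2, 0⟩, 12821),
  (⟨-3, 1, -4, 0, -3, -1, -2, 0⟩, 12723),
  (⟨-3, 1, -4, 0, -3, -1, 0, -2⟩, 10149),
  (⟨-3, 1, -4, 0, -3, -1, 0, 2⟩, 13723),
  (⟨-3, 1, -4, 0, -3, -1, 2, 0⟩, 12865),
  (⟨-3, 1, -4, 0, -1, 1, -2, 0⟩, 9830),
  (⟨-3, 1, -4, 0, -1, 1, 0, -2⟩, 5958),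
  (⟨-3, 1, -4, 0, -1, 1, 0, 2⟩, 6093),
  (⟨-3, 1, -4, 0, -1, 1, 2, 0⟩, 12898),
  (⟨-3, 1, -4, 0, 1, -1, -2, 0⟩, 13027),
  (⟨-3, 1, -4, 0, 1, -1, 0, -2⟩, 6220),
  (⟨-3, 1, -4, 0, 1, -1, 0, 2⟩, 6335),
  (⟨-3, 1, -4, 0, 1, -1, 2, 0⟩, 13158),
  (⟨-3, 1, -4, 0, 3, 1, -2, 0⟩, 9793),
  (⟨-3, 1, -4, 0, 3, 1, 0, -2⟩, 14108),
  (⟨-3, 1, -4, 0, 3, 1, 0, 2⟩, 10530),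
  (⟨-3, 1, -4, 0, 3, 1, 2, 0⟩, 13104),
  (⟨-3, 1, -4, 0, 5, -1, -2, 0⟩, 12950),
  (⟨-3, 1, -4, 0, 5, -1, 2, 0⟩, 13069),
  (⟨-3, 1, -4, 2, 0, 0, -3, -1⟩, 13457),
  (⟨-3, 1, -4, 2, 0, 0, -1, 1⟩, 13648),
  (⟨-3, 1, -4, 2, 0, 0, 1, -1⟩, 13520),
  (⟨-3, 1, -4, 2, 0, 0, 3, 1⟩, 13588),
  (⟨-3, 1, -3, -1, -6, 0, 0, 0⟩, 12705),
  (⟨-3, 1, -3, -1, -4, -2, 0, 0⟩, 9612),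
  (⟨-3, 1, -3, -1, -4, 2, 0, 0⟩, 13197),
  (⟨-3, 1, -3, -1, -2, 0, -4, 0⟩, 9914),
  (⟨-3, 1, -3, -1, -2, 0, -2, -2⟩, 10187),
  (⟨-3, 1, -3, -1, -2, 0, -2, 2⟩, 6471),
  (⟨-3, 1, -3, -1, -2, 0, 0, 0⟩, 13291),
  (⟨-3, 1, -3, -1, -2, 0, 2, -2⟩, 6584),
  (⟨-3, 1, -3, -1, -2, 0, 2, 2⟩, 10304),
  (⟨-3, 1, -3, -1, -2, 0, 4, 0⟩, 12851),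
  (⟨-3, 1, -3, -1, 0, -2, -4, 0⟩, 13346),
  (⟨-3, 1, -3, -1, 0, -2, 0, 0⟩, 13352),
  (⟨-3, 1, -3, -1, 0, -2, 4, 0⟩, 13361),
  (⟨-3, 1, -3, -1, 0, 2, -4, 0⟩, 13234),
  (⟨-3, 1, -3, -1, 0, 2, 0, 0⟩, 13227),
  (⟨-3, 1, -3, -1, 0, 2, 4, 0⟩, 13221),
  (⟨-3, 1, -3, -1, 2, 0, -4, 0⟩, 12976),
  (⟨-3, 1, -3, -1, 2, 0, -2, -2⟩, 10437),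
  (⟨-3, 1, -3, -1, 2, 0, -2, 2⟩, 6715),
  (⟨-3, 1, -3, -1, 2, 0, 0, 0⟩, 13416),
  (⟨-3, 1, -3, -1, 2, 0, 2, -2⟩, 6846),
  (⟨-3, 1, -3, -1, 2, 0, 2, 2⟩, 10570),
  (⟨-3, 1, -3, -1, 2, 0, 4, 0⟩, 10041),
  (⟨-3, 1, -3, -1, 4, -2, 0, 0⟩, 13326),
  (⟨-3, 1, -3, -1, 4, 2, 0, 0⟩, 9739),
  (⟨-3, 1, -3, -1, 6, 0, 0, 0⟩, 13086),
  (⟨-3, 1, -3, 1, -5, -1, -1, -1⟩, 10140),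
  (⟨-3, 1, -3, 1, -5, -1, 1, 1⟩, 9642),
  (⟨-3, 1, -3, 1, -3, 1, -3, 1⟩, 12752),
  (⟨-3, 1, -3, 1, -3, 1, -1, -1⟩, 10212),
  (⟨-3, 1, -3, 1, -3, 1, 1, 1⟩, 10332),
  (⟨-3, 1, -3, 1, -3, 1, 3, -1⟩, 12880),
  (⟨-3, 1, -3, 1, -1, -1, -5, -1⟩, 13487),
  (⟨-3, 1, -3, 1, -1, -1, -3, 1⟩, 9700),
  (⟨-3, 1, -3, 1, -1, -1, -1, -1⟩, 13538),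
  (⟨-3, 1, -3, 1, -1, -1, 1, 1⟩, 9696),
  (⟨-3, 1, -3, 1, -1, -1, 3, -1⟩, 13918),
  (⟨-3, 1, -3, 1, -1, -1, 5, 1⟩, 12844),
  (⟨-3, 1, -3, 1, 1, 1, -5, -1⟩, 12967),
  (⟨-3, 1, -3, 1, 1, 1, -3, 1⟩, 14049),
  (⟨-3, 1, -3, 1, 1, 1, -1, -1⟩, 9823),
  (⟨-3, 1, -3, 1, 1, 1, 1, 1⟩, 13667),
  (⟨-3, 1, -3, 1, 1, 1, 3, -1⟩, 14180),
  (⟨-3, 1, -3, 1, 1, 1, 5, 1⟩, 13620),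
  (⟨-3, 1, -3, 1, 3, -1, -3, 1⟩, 13008),
  (⟨-3, 1, -3, 1, 3, -1, -1, -1⟩, 10461),
  (⟨-3, 1, -3, 1, 3, -1, 1, 1⟩, 13156),
  (⟨-3, 1, -3, 1, 3, -1, 3, -1⟩, 13136),
  (⟨-3, 1, -3, 1, 5, 1, -1, -1⟩, 9769),
  (⟨-3, 1, -3, 1, 5, 1, 1, 1⟩, 10523),
  (⟨-3, 1, -2, -2, -3, -1, -2, 0⟩, 9925),
  (⟨-3, 1, -2, -2, -3, -1, 2, 0⟩, 10063),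
  (⟨-3, 1, -2, -2, -1, 1, -2, 0⟩, 13235),
  (⟨-3, 1, -2, -2, -1, 1, 0, -2⟩, 13211),
  (⟨-3, 1, -2, -2, -1, 1, 0, 2⟩, 14362),
  (⟨-3, 1, -2, -2, -1, 1, 2, 0⟩, 13229),
  (⟨-3, 1, -2, -2, 1, -1, -2, 0⟩, 13350),
  (⟨-3, 1, -2, -2, 1, -1, 0, -2⟩, 14237),
  (⟨-3, 1, -2, -2, 1, -1, 0, 2⟩, 13340),
  (⟨-3, 1, -2, -2, 1, -1, 2, 0⟩, 13360),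
  (⟨-3, 1, -2, -2, 3, 1, -2, 0⟩, 9934),
  (⟨-3, 1, -2, -2, 3, 1, 2, 0⟩, 10048),
  (⟨-3, 1, -2, 0, -4, 0, -5, 1⟩, 12693),
  (⟨-3, 1, -2, 0, -4, 0, -3, -1⟩, 12738),
  (⟨-3, 1, -2, 0, -4, 0, -1, 1⟩, 12771),
  (⟨-3, 1, -2, 0, -4, 0, 1, -1⟩, 10208),
  (⟨-3, 1, -2, 0, -4, 0, 3, 1⟩, 10297),
  (⟨-3, 1, -2, 0, -4, 0, 5, -1⟩, 12820),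
  (⟨-3, 1, -2, 0, -2, -2, -3, -1⟩, 9679),
  (⟨-3, 1, -2, 0, -2, -2, -1, 1⟩, 13762),
  (⟨-3, 1, -2, 0, -2, -2, 1, -1⟩, 13862),
  (⟨-3, 1, -2, 0, -2, -2, 3, 1⟩, 9653),
  (⟨-3, 1, -2, 0, -2, 2, -3, -1⟩, 5965),
  (⟨-3, 1, -2, 0, -2, 2, -1, 1⟩, 14045),
  (⟨-3, 1, -2, 0, -2, 2, 1, -1⟩, 13276),
  (⟨-3, 1, -2, 0, -2, 2, 3, 1⟩, 6087),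
  (⟨-3, 1, -2, 0, 0, 0, -5, 1⟩, 13022),
  (⟨-3, 1, -2, 0, 0, 0, -3, -1⟩, 10473),
  (⟨-3, 1, -2, 0, 0, 0, -1, -3⟩, 10417),
  (⟨-3, 1, -2, 0, 0, 0, -1, 1⟩, 15342),
  (⟨-3, 1, -2, 0, 0, 0, 1, -1⟩, 14190),
  (⟨-3, 1, -2, 0, 0, 0, 1, 3⟩, 10290),
  (⟨-3, 1, -2, 0, 0, 0, 3, 1⟩, 10346),
  (⟨-3, 1, -2, 0, 0, 0, 5, -1⟩, 12897),
  (⟨-3, 1, -2, 0, 2, -2, -3, -1⟩, 6206),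
  (⟨-3, 1, -2, 0, 2, -2, -1, 1⟩, 13405),
  (⟨-3, 1, -2, 0, 2, -2, 1, -1⟩, 13916),
  (⟨-3, 1, -2, 0, 2, -2, 3, 1⟩, 6348),
  (⟨-3, 1, -2, 0, 2, 2, -3, -1⟩, 9774),
  (⟨-3, 1, -2, 0, 2, 2, -1, 1⟩, 13997),
  (⟨-3, 1, -2, 0, 2, 2, 1, -1⟩, 9794),
  (⟨-3, 1, -2, 0, 2, 2, 3, 1⟩, 9806),
  (⟨-3, 1, -2, 0, 4, 0, -5, 1⟩, 12945),
  (⟨-3, 1, -2, 0, 4, 0, -3, -1⟩, 10426),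
  (⟨-3, 1, -2, 0, 4, 0, -1, 1⟩, 10591),
  (⟨-3, 1, -2, 0, 4, 0, 1, -1⟩, 13154),
  (⟨-3, 1, -2, 0, 4, 0, 3, 1⟩, 10562),
  (⟨-3, 1, -2, 0, 4, 0, 5, -1⟩, 13078),
  (⟨-3, 1, -2, 2, -3, -1, -2, 0⟩, 6985),
  (⟨-3, 1, -2, 2, -3, -1, 2, 0⟩, 7116),
  (⟨-3, 1, -2, 2, -1, 1, -2, 0⟩, 10717),
  (⟨-3, 1, -2, 2, -1, 1, 0, -2⟩, 13464),
  (⟨-3, 1, -2, 2, -1, 1, 0, 2⟩, 13586),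
  (⟨-3, 1, -2, 2, -1, 1, 2, 0⟩, 10846),
  (⟨-3, 1, -2, 2, 1, -1, -2, 0⟩, 10721),
  (⟨-3, 1, -2, 2, 1, -1, 0, -2⟩, 13459),
  (⟨-3, 1, -2, 2, 1, -1, 0, 2⟩, 13591),
  (⟨-3, 1, -2, 2, 1, -1, 2, 0⟩, 10844),
  (⟨-3, 1, -2, 2, 3, 1, -2, 0⟩, 7245),
  (⟨-3, 1, -2, 2, 3, 1, 2, 0⟩, 7368),
  (⟨-3, 1, -1, -3, -2, 0, 0, 0⟩, 13236),
  (⟨-3, 1, -1, -3, 2, 0, 0, 0⟩, 13359),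
  (⟨-3, 1, -1, -1, -5, -1, -3, 1⟩, 13750),
  (⟨-3, 1, -1, -1, -5, -1, -1, -1⟩, 10165),
  (⟨-3, 1, -1, -1, -5, -1, 1, 1⟩, 10318),
  (⟨-3, 1, -1, -1, -5, -1, 3, -1⟩, 6572),
  (⟨-3, 1, -1, -1, -3, 1, -5, -1⟩, 9911),
  (⟨-3, 1, -1, -1, -3, 1, -3, 1⟩, 9956),
  (⟨-3, 1, -1, -1, -3, 1, -1, -1⟩, 13279),
  (⟨-3, 1, -1, -1, -3, 1, 1, 1⟩, 10341),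
  (⟨-3, 1, -1, -1, -3, 1, 3, -1⟩, 13277),
  (⟨-3, 1, -1, -1, -3, 1, 5, 1⟩, 10279),
  (⟨-3, 1, -1, -1, -1, -1, -5, -1⟩, 9923),
  (⟨-3, 1, -1, -1, -1, -1, -3, 1⟩, 13797),
  (⟨-3, 1, -1, -1, -1, -1, -1, -1⟩, 14311),
  (⟨-3, 1, -1, -1, -1, -1, 1, 1⟩, 13417),
  (⟨-3, 1, -1, -1, -1, -1, 3, -1⟩, 13922),
  (⟨-3, 1, -1, -1, -1, -1, 5, 1⟩, 10059),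
  (⟨-3, 1, -1, -1, 1, 1, -5, -1⟩, 9930),
  (⟨-3, 1, -1, -1, 1, 1, -3, 1⟩, 14051),
  (⟨-3, 1, -1, -1, 1, 1, -1, -1⟩, 13290),
  (⟨-3, 1, -1, -1, 1, 1, 1, 1⟩, 14439),
  (⟨-3, 1, -1, -1, 1, 1, 3, -1⟩, 10085),
  (⟨-3, 1, -1, -1, 1, 1, 5, 1⟩, 10052),
  (⟨-3, 1, -1, -1, 3, -1, -5, -1⟩, 10412),
  (⟨-3, 1, -1, -1, 3, -1, -3, 1⟩, 13404),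
  (⟨-3, 1, -1, -1, 3, -1, -1, -1⟩, 13413),
  (⟨-3, 1, -1, -1, 3, -1, 1, 1⟩, 13408),
  (⟨-3, 1, -1, -1, 3, -1, 3, -1⟩, 6884),
  (⟨-3, 1, -1, -1, 3, -1, 5, 1⟩, 10044),
  (⟨-3, 1, -1, -1, 5, 1, -3, 1⟩, 6695),
  (⟨-3, 1, -1, -1, 5, 1, -1, -1⟩, 10447),
  (⟨-3, 1, -1, -1, 5, 1, 1, 1⟩, 10542),
  (⟨-3, 1, -1, -1, 5, 1, 3, -1⟩, 14141),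
  (⟨-3, 1, -1, 1, -6, 0, 0, 0⟩, 7494),
  (⟨-3, 1, -1, 1, -4, -2, 0, 0⟩, 9669),
  (⟨-3, 1, -1, 1, -4, 2, 0, 0⟩, 14544),
  (⟨-3, 1, -1, 1, -2, 0, -4, 0⟩, 10720),
  (⟨-3, 1, -1, 1, -2, 0, -2, -2⟩, 10170),
  (⟨-3, 1, -1, 1, -2, 0, -2, 2⟩, 13789),
  (⟨-3, 1, -1, 1, -2, 0, 0, 0⟩, 10222),
  (⟨-3, 1, -1, 1, -2, 0, 2, -2⟩, 10205),
  (⟨-3, 1, -1, 1, -2, 0, 2, 2⟩, 10283),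
  (⟨-3, 1, -1, 1, -2, 0, 4, 0⟩, 10853),
  (⟨-3, 1, -1, 1, 0, -2, -4, 0⟩, 6988),
  (⟨-3, 1, -1, 1, 0, -2, -2, -2⟩, 13490),
  (⟨-3, 1, -1, 1, 0, -2, -2, 2⟩, 13716),
  (⟨-3, 1, -1, 1, 0, -2, 0, 0⟩, 14693),
  (⟨-3, 1, -1, 1, 0, -2, 2, -2⟩, 13839),
  (⟨-3, 1, -1, 1, 0, -2, 2, 2⟩, 13748),
  (⟨-3, 1, -1, 1, 0, -2, 4, 0⟩, 7112),
  (⟨-3, 1, -1, 1, 0, 2, -4, 0⟩, 7241),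
  (⟨-3, 1, -1, 1, 0, 2, -2, -2⟩, 14127),
  (⟨-3, 1, -1, 1, 0, 2, -2, 2⟩, 13968),
  (⟨-3, 1, -1, 1, 0, 2, 0, 0⟩, 9829),
  (⟨-3, 1, -1, 1, 0, 2, 2, -2⟩, 14097),
  (⟨-3, 1, -1, 1, 0, 2, 2, 2⟩, 13617),
  (⟨-3, 1, -1, 1, 0, 2, 4, 0⟩, 7373),
  (⟨-3, 1, -1, 1, 2, 0, -4, 0⟩, 13029),
  (⟨-3, 1, -1, 1, 2, 0, -2, -2⟩, 10408),
  (⟨-3, 1, -1, 1, 2, 0, -2, 2⟩, 10588),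
  (⟨-3, 1, -1, 1, 2, 0, 0, 0⟩, 10862),
  (⟨-3, 1, -1, 1, 2, 0, 2, -2⟩, 14172),
  (⟨-3, 1, -1, 1, 2, 0, 2, 2⟩, 10553),
  (⟨-3, 1, -1, 1, 2, 0, 4, 0⟩, 10847),
  (⟨-3, 1, -1, 1, 4, -2, 0, 0⟩, 14672),
  (⟨-3, 1, -1, 1, 4, 2, 0, 0⟩, 9792),
  (⟨-3, 1, -1, 1, 6, 0, 0, 0⟩, 7871),
  (⟨-3, 1, 0, -2, -4, 0, -3, -1⟩, 14238),
  (⟨-3, 1, 0, -2, -4, 0, -1, 1⟩, 6459),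
  (⟨-3, 1, 0, -2, -4, 0, 1, -1⟩, 6598),
  (⟨-3, 1, 0, -2, -4, 0, 3, 1⟩, 14391),
  (⟨-3, 1, 0, -2, -2, -2, -1, 1⟩, 7965),
  (⟨-3, 1, 0, -2, -2, -2, 1, -1⟩, 13874),
  (⟨-3, 1, 0, -2, -2, 2, -1, 1⟩, 13206),
  (⟨-3, 1, 0, -2, -2, 2, 1, -1⟩, 13198),
  (⟨-3, 1, 0, -2, 0, 0, -5, 1⟩, 9879),
  (⟨-3, 1, 0, -2, 0, 0, -3, -1⟩, 14251),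
  (⟨-3, 1, 0, -2, 0, 0, -1, 1⟩, 14431),
  (⟨-3, 1, 0, -2, 0, 0, 1, -1⟩, 14304),
  (⟨-3, 1, 0, -2, 0, 0, 3, 1⟩, 14376),
  (⟨-3, 1, 0, -2, 0, 0, 5, -1⟩, 10008),
  (⟨-3, 1, 0, -2, 2, -2, -1, 1⟩, 13325),
  (⟨-3, 1, 0, -2, 2, -2, 1, -1⟩, 13333),
  (⟨-3, 1, 0, -2, 2, 2, -1, 1⟩, 14001),
  (⟨-3, 1, 0, -2, 2, 2, 1, -1⟩, 8346),
  (⟨-3, 1, 0, -2, 4, 0, -3, -1⟩, 14268),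
  (⟨-3, 1, 0, -2, 4, 0, -1, 1⟩, 6719),
  (⟨-3, 1, 0, -2, 4, 0, 1, -1⟩, 6840),
  (⟨-3, 1, 0, -2, 4, 0, 3, 1⟩, 14369),
  (⟨-3, 1, 0, 0, -5, 1, -2, 0⟩, 14812),
  (⟨-3, 1, 0, 0, -5, 1, 0, -2⟩, 10130),
  (⟨-3, 1, 0, 0, -5, 1, 0, 2⟩, 10257),
  (⟨-3, 1, 0, 0, -5, 1, 2, 0⟩, 7521),
  (⟨-3, 1, 0, 0, -3, -1, -6, 0⟩, 7585),
  (⟨-3, 1, 0, 0, -3, -1, -4, -2⟩, 10120),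
  (⟨-3, 1, 0, 0, -3, -1, -4, 2⟩, 13711),
  (⟨-3, 1, 0, 0, -3, -1, -2, 0⟩, 14826),
  (⟨-3, 1, 0, 0, -3, -1, 0, -2⟩, 10157),
  (⟨-3, 1, 0, 0, -3, -1, 0, 2⟩, 13736),
  (⟨-3, 1, 0, 0, -3, -1, 2, 0⟩, 10984),
  (⟨-3, 1, 0, 0, -3, -1, 4, -2⟩, 13845),
  (⟨-3, 1, 0, 0, -3, -1, 4, 2⟩, 10247),
  (⟨-3, 1, 0, 0, -3, -1, 6, 0⟩, 14882),
  (⟨-3, 1, 0, 0, -1, -3, -2, 0⟩, 10940),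
  (⟨-3, 1, 0, 0, -1, -3, 2, 0⟩, 13850),
  (⟨-3, 1, 0, 0, -1, 1, -6, 0⟩, 7611),
  (⟨-3, 1, 0, 0, -1, 1, -4, -2⟩, 10191),
  (⟨-3, 1, 0, 0, -1, 1, -4, 2⟩, 14032),
  (⟨-3, 1, 0, 0, -1, 1, -2, 0⟩, 11118),
  (⟨-3, 1, 0, 0, -1, 1, 0, -2⟩, 14178),
  (⟨-3, 1, 0, 0, -1, 1, 0, 2⟩, 10338),
  (⟨-3, 1, 0, 0, -1, 1, 2, 0⟩, 14958),
  (⟨-3, 1, 0, 0, -1, 1, 4, -2⟩, 14160),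
  (⟨-3, 1, 0, 0, -1, 1, 4, 2⟩, 10271),
  (⟨-3, 1, 0, 0, -1, 1, 6, 0⟩, 7752),
  (⟨-3, 1, 0, 0, 1, -1, -6, 0⟩, 7625),
  (⟨-3, 1, 0, 0, 1, -1, -4, -2⟩, 10400),
  (⟨-3, 1, 0, 0, 1, -1, -4, 2⟩, 13776),
  (⟨-3, 1, 0, 0, 1, -1, -2, 0⟩, 10478),
  (⟨-3, 1, 0, 0, 1, -1, 0, -2⟩, 10467),
  (⟨-3, 1, 0, 0, 1, -1, 0, 2⟩, 13795),
  (⟨-3, 1, 0, 0, 1, -1, 2, 0⟩, 13934),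
  (⟨-3, 1, 0, 0, 1, -1, 4, -2⟩, 13904),
  (⟨-3, 1, 0, 0, 1, -1, 4, 2⟩, 10574),
  (⟨-3, 1, 0, 0, 1, -1, 6, 0⟩, 7736),
  (⟨-3, 1, 0, 0, 1, 3, -2, 0⟩, 13981),
  (⟨-3, 1, 0, 0, 1, 3, 2, 0⟩, 11063),
  (⟨-3, 1, 0, 0, 3, 1, -6, 0⟩, 15013),
  (⟨-3, 1, 0, 0, 3, 1, -4, -2⟩, 10374),
  (⟨-3, 1, 0, 0, 3, 1, -4, 2⟩, 13974),
  (⟨-3, 1, 0, 0, 3, 1, -2, 0⟩, 11115),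
  (⟨-3, 1, 0, 0, 3, 1, 0, -2⟩, 14123),
  (⟨-3, 1, 0, 0, 3, 1, 0, 2⟩, 10534),
  (⟨-3, 1, 0, 0, 3, 1, 2, 0⟩, 15209),
  (⟨-3, 1, 0, 0, 3, 1, 4, -2⟩, 14096),
  (⟨-3, 1, 0, 0, 3, 1, 4, 2⟩, 10501),
  (⟨-3, 1, 0, 0, 3, 1, 6, 0⟩, 7710),
  (⟨-3, 1, 0, 0, 5, -1, -2, 0⟩, 7902),
  (⟨-3, 1, 0, 0, 5, -1, 0, -2⟩, 10388),
  (⟨-3, 1, 0, 0, 5, -1, 0, 2⟩, 10515),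
  (⟨-3, 1, 0, 0, 5, -1, 2, 0⟩, 15197),
  (⟨-3, 1, 0, 2, -4, 0, -3, -1⟩, 10653),
  (⟨-3, 1, 0, 2, -4, 0, -1, 1⟩, 8519),
  (⟨-3, 1, 0, 2, -4, 0, 1, -1⟩, 8648),
  (⟨-3, 1, 0, 2, -4, 0, 3, 1⟩, 10277),
  (⟨-3, 1, 0, 2, -2, -2, -1, 1⟩, 14646),
  (⟨-3, 1, 0, 2, -2, -2, 1, -1⟩, 13879),
  (⟨-3, 1, 0, 2, -2, 2, -1, 1⟩, 14487),
  (⟨-3, 1, 0, 2, -2, 2, 1, -1⟩, 14480),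
  (⟨-3, 1, 0, 2, 0, 0, -5, 1⟩, 10637),
  (⟨-3, 1, 0, 2, 0, 0, -3, -1⟩, 10669),
  (⟨-3, 1, 0, 2, 0, 0, -1, 1⟩, 10719),
  (⟨-3, 1, 0, 2, 0, 0, 1, -1⟩, 10848),
  (⟨-3, 1, 0, 2, 0, 0, 3, 1⟩, 10790),
  (⟨-3, 1, 0, 2, 0, 0, 5, -1⟩, 10766),
  (⟨-3, 1, 0, 2, 2, -2, -1, 1⟩, 14607),
  (⟨-3, 1, 0, 2, 2, -2, 1, -1⟩, 14616),
  (⟨-3, 1, 0, 2, 2, 2, -1, 1⟩, 14012),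
  (⟨-3, 1, 0, 2, 2, 2, 1, -1⟩, 14525),
  (⟨-3, 1, 0, 2, 4, 0, -3, -1⟩, 10402),
  (⟨-3, 1, 0, 2, 4, 0, -1, 1⟩, 8777),
  (⟨-3, 1, 0, 2, 4, 0, 1, -1⟩, 8894),
  (⟨-3, 1, 0, 2, 4, 0, 3, 1⟩, 10778),
  (⟨-3, 1, 1, -1, -6, 0, 0, 0⟩, 7495),
  (⟨-3, 1, 1, -1, -4, -2, 0, 0⟩, 10948),
  (⟨-3, 1, 1, -1, -4, 2, 0, 0⟩, 13264),
  (⟨-3, 1, 1, -1, -2, 0, -4, 0⟩, 9958),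
  (⟨-3, 1, 1, -1, -2, 0, -2, -2⟩, 14246),
  (⟨-3, 1, 1, -1, -2, 0, -2, 2⟩, 13790),
  (⟨-3, 1, 1, -1, -2, 0, 0, 0⟩, 14318),
  (⟨-3, 1, 1, -1, -2, 0, 2, -2⟩, 14302),
  (⟨-3, 1, 1, -1, -2, 0, 2, 2⟩, 14394),
  (⟨-3, 1, 1, -1, -2, 0, 4, 0⟩, 14943),
  (⟨-3, 1, 1, -1, 0, -2, -4, 0⟩, 7995),
  (⟨-3, 1, 1, -1, 0, -2, -2, -2⟩, 14235),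
  (⟨-3, 1, 1, -1, 0, -2, -2, 2⟩, 13717),
  (⟨-3, 1, 1, -1, 0, -2, 0, 0⟩, 13414),
  (⟨-3, 1, 1, -1, 0, -2, 2, -2⟩, 13843),
  (⟨-3, 1, 1, -1, 0, -2, 2, 2⟩, 9398),
  (⟨-3, 1, 1, -1, 0, -2, 4, 0⟩, 8099),
  (⟨-3, 1, 1, -1, 0, 2, -4, 0⟩, 8228),
  (⟨-3, 1, 1, -1, 0, 2, -2, -2⟩, 9021),
  (⟨-3, 1, 1, -1, 0, 2, -2, 2⟩, 13970),
  (⟨-3, 1, 1, -1, 0, 2, 0, 0⟩, 11110),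
  (⟨-3, 1, 1, -1, 0, 2, 2, -2⟩, 14102),
  (⟨-3, 1, 1, -1, 0, 2, 2, 2⟩, 14364),
  (⟨-3, 1, 1, -1, 0, 2, 4, 0⟩, 8376),
  (⟨-3, 1, 1, -1, 2, 0, -4, 0⟩, 15072),
  (⟨-3, 1, 1, -1, 2, 0, -2, -2⟩, 14265),
  (⟨-3, 1, 1, -1, 2, 0, -2, 2⟩, 14433),
  (⟨-3, 1, 1, -1, 2, 0, 0, 0⟩, 15214),
  (⟨-3, 1, 1, -1, 2, 0, 2, -2⟩, 14177),
  (⟨-3, 1, 1, -1, 2, 0, 2, 2⟩, 14381),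
  (⟨-3, 1, 1, -1, 2, 0, 4, 0⟩, 15206),
  (⟨-3, 1, 1, -1, 4, -2, 0, 0⟩, 13392),
  (⟨-3, 1, 1, -1, 4, 2, 0, 0⟩, 11075),
  (⟨-3, 1, 1, -1, 6, 0, 0, 0⟩, 7870),
  (⟨-3, 1, 1, 1, -5, -1, -3, 1⟩, 14761),
  (⟨-3, 1, 1, 1, -5, -1, -1, -1⟩, 10144),
  (⟨-3, 1, 1, 1, -5, -1, 1, 1⟩, 10315),
  (⟨-3, 1, 1, 1, -5, -1, 3, -1⟩, 8626),
  (⟨-3, 1, 1, 1, -3, 1, -5, -1⟩, 10666),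
  (⟨-3, 1, 1, 1, -3, 1, -3, 1⟩, 10718),
  (⟨-3, 1, 1, 1, -3, 1, -1, -1⟩, 10214),
  (⟨-3, 1, 1, 1, -3, 1, 1, 1⟩, 10336),
  (⟨-3, 1, 1, 1, -3, 1, 3, -1⟩, 14948),
  (⟨-3, 1, 1, 1, -3, 1, 5, 1⟩, 10269),
  (⟨-3, 1, 1, 1, -1, -1, -5, -1⟩, 10677),
  (⟨-3, 1, 1, 1, -1, -1, -3, 1⟩, 10722),
  (⟨-3, 1, 1, 1, -1, -1, -1, -1⟩, 10219),
  (⟨-3, 1, 1, 1, -1, -1, 1, 1⟩, 10983),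
  (⟨-3, 1, 1, 1, -1, -1, 3, -1⟩, 13926),
  (⟨-3, 1, 1, 1, -1, -1, 5, 1⟩, 10816),
  (⟨-3, 1, 1, 1, 1, 1, -5, -1⟩, 10693),
  (⟨-3, 1, 1, 1, 1, 1, -3, 1⟩, 10726),
  (⟨-3, 1, 1, 1, 1, 1, -1, -1⟩, 11111),
  (⟨-3, 1, 1, 1, 1, 1, 1, 1⟩, 10600),
  (⟨-3, 1, 1, 1, 1, 1, 3, -1⟩, 10851),
  (⟨-3, 1, 1, 1, 1, 1, 5, 1⟩, 10798),
  (⟨-3, 1, 1, 1, 3, -1, -5, -1⟩, 10394),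
  (⟨-3, 1, 1, 1, 3, -1, -3, 1⟩, 14692),
  (⟨-3, 1, 1, 1, 3, -1, -1, -1⟩, 10463),
  (⟨-3, 1, 1, 1, 3, -1, 1, 1⟩, 14694),
  (⟨-3, 1, 1, 1, 3, -1, 3, -1⟩, 10849),
  (⟨-3, 1, 1, 1, 3, -1, 5, 1⟩, 10793),
  (⟨-3, 1, 1, 1, 5, 1, -3, 1⟩, 8753),
  (⟨-3, 1, 1, 1, 5, 1, -1, -1⟩, 10442),
  (⟨-3, 1, 1, 1, 5, 1, 1, 1⟩, 10527),
  (⟨-3, 1, 1, 1, 5, 1, 3, -1⟩, 15146),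
  (⟨-3, 1, 1, 3, -2, 0, 0, 0⟩, 10651),
  (⟨-3, 1, 1, 3, 2, 0, 0, 0⟩, 10780),
  (⟨-3, 1, 2, -2, -3, -1, -2, 0⟩, 7971),
  (⟨-3, 1, 2, -2, -3, -1, 2, 0⟩, 8120),
  (⟨-3, 1, 2, -2, -1, 1, -2, 0⟩, 8285),
  (⟨-3, 1, 2, -2, -1, 1, 0, -2⟩, 14225),
  (⟨-3, 1, 2, -2, -1, 1, 0, 2⟩, 14349),
  (⟨-3, 1, 2, -2, -1, 1, 2, 0⟩, 14430),
  (⟨-3, 1, 2, -2, 1, -1, -2, 0⟩, 14305),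
  (⟨-3, 1, 2, -2, 1, -1, 0, -2⟩, 14222),
  (⟨-3, 1, 2, -2, 1, -1, 0, 2⟩, 14356),
  (⟨-3, 1, 2, -2, 1, -1, 2, 0⟩, 8156),
  (⟨-3, 1, 2, -2, 3, 1, -2, 0⟩, 8251),
  (⟨-3, 1, 2, -2, 3, 1, 2, 0⟩, 8356),
  (⟨-3, 1, 2, 0, -4, 0, -5, 1⟩, 14739),
  (⟨-3, 1, 2, 0, -4, 0, -3, -1⟩, 14777),
  (⟨-3, 1, 2, 0, -4, 0, -1, 1⟩, 14815),
  (⟨-3, 1, 2, 0, -4, 0, 1, -1⟩, 10211),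
  (⟨-3, 1, 2, 0, -4, 0, 3, 1⟩, 14913),
  (⟨-3, 1, 2, 0, -4, 0, 5, -1⟩, 14863),
  (⟨-3, 1, 2, 0, -2, -2, -3, -1⟩, 10955),
  (⟨-3, 1, 2, 0, -2, -2, -1, 1⟩, 10923),
  (⟨-3, 1, 2, 0, -2, -2, 1, -1⟩, 13889),
  (⟨-3, 1, 2, 0, -2, -2, 3, 1⟩, 10911),
  (⟨-3, 1, 2, 0, -2, 2, -3, -1⟩, 9030),
  (⟨-3, 1, 2, 0, -2, 2, -1, 1⟩, 9185),
  (⟨-3, 1, 2, 0, -2, 2, 1, -1⟩, 11102),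
  (⟨-3, 1, 2, 0, -2, 2, 3, 1⟩, 9124),
  (⟨-3, 1, 2, 0, 0, 0, -5, 1⟩, 15068),
  (⟨-3, 1, 2, 0, 0, 0, -3, -1⟩, 15080),
  (⟨-3, 1, 2, 0, 0, 0, -1, -3⟩, 14262),
  (⟨-3, 1, 2, 0, 0, 0, -1, 1⟩, 10990),
  (⟨-3, 1, 2, 0, 0, 0, 1, -1⟩, 4206),
  (⟨-3, 1, 2, 0, 0, 0, 1, 3⟩, 14397),
  (⟨-3, 1, 2, 0, 0, 0, 3, 1⟩, 14955),
  (⟨-3, 1, 2, 0, 0, 0, 5, -1⟩, 14941),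
  (⟨-3, 1, 2, 0, 2, -2, -3, -1⟩, 9251),
  (⟨-3, 1, 2, 0, 2, -2, -1, 1⟩, 10977),
  (⟨-3, 1, 2, 0, 2, -2, 1, -1⟩, 9310),
  (⟨-3, 1, 2, 0, 2, -2, 3, 1⟩, 9407),
  (⟨-3, 1, 2, 0, 2, 2, -3, -1⟩, 11040),
  (⟨-3, 1, 2, 0, 2, 2, -1, 1⟩, 11073),
  (⟨-3, 1, 2, 0, 2, 2, 1, -1⟩, 11048),
  (⟨-3, 1, 2, 0, 2, 2, 3, 1⟩, 11082),
  (⟨-3, 1, 2, 0, 4, 0, -5, 1⟩, 14992),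
  (⟨-3, 1, 2, 0, 4, 0, -3, -1⟩, 10433),
  (⟨-3, 1, 2, 0, 4, 0, -1, 1⟩, 10594),
  (⟨-3, 1, 2, 0, 4, 0, 1, -1⟩, 15200),
  (⟨-3, 1, 2, 0, 4, 0, 3, 1⟩, 15162),
  (⟨-3, 1, 2, 0, 4, 0, 5, -1⟩, 15122),
  (⟨-3, 1, 2, 2, -3, -1, -2, 0⟩, 10655),
  (⟨-3, 1, 2, 2, -3, -1, 2, 0⟩, 10820),
  (⟨-3, 1, 2, 2, -1, 1, -2, 0⟩, 10664),
  (⟨-3, 1, 2, 2, -1, 1, 0, -2⟩, 14524),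
  (⟨-3, 1, 2, 2, -1, 1, 0, 2⟩, 8500),
  (⟨-3, 1, 2, 2, -1, 1, 2, 0⟩, 10800),
  (⟨-3, 1, 2, 2, 1, -1, -2, 0⟩, 10675),
  (⟨-3, 1, 2, 2, 1, -1, 0, -2⟩, 8879),
  (⟨-3, 1, 2, 2, 1, -1, 0, 2⟩, 14647),
  (⟨-3, 1, 2, 2, 1, -1, 2, 0⟩, 10795),
  (⟨-3, 1, 2, 2, 3, 1, -2, 0⟩, 10691),
  (⟨-3, 1, 2, 2, 3, 1, 2, 0⟩, 10784),
  (⟨-3, 1, 3, -1, -5, -1, -1, -1⟩, 14759),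
  (⟨-3, 1, 3, -1, -5, -1, 1, 1⟩, 10927),
  (⟨-3, 1, 3, -1, -3, 1, -3, 1⟩, 14800),
  (⟨-3, 1, 3, -1, -3, 1, -1, -1⟩, 9057),
  (⟨-3, 1, 3, -1, -3, 1, 1, 1⟩, 14436),
  (⟨-3, 1, 3, -1, -3, 1, 3, -1⟩, 14928),
  (⟨-3, 1, 3, -1, -1, -1, -5, -1⟩, 14249),
  (⟨-3, 1, 3, -1, -1, -1, -3, 1⟩, 8029),
  (⟨-3, 1, 3, -1, -1, -1, -1, -1⟩, 14303),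
  (⟨-3, 1, 3, -1, -1, -1, 1, 1⟩, 10978),
  (⟨-3, 1, 3, -1, -1, -1, 3, -1⟩, 8164),
  (⟨-3, 1, 3, -1, -1, -1, 5, 1⟩, 8092),
  (⟨-3, 1, 3, -1, 1, 1, -5, -1⟩, 8219),
  (⟨-3, 1, 3, -1, 1, 1, -3, 1⟩, 15076),
  (⟨-3, 1, 3, -1, 1, 1, -1, -1⟩, 11107),
  (⟨-3, 1, 3, -1, 1, 1, 1, 1⟩, 14432),
  (⟨-3, 1, 3, -1, 1, 1, 3, -1⟩, 8412),
  (⟨-3, 1, 3, -1, 1, 1, 5, 1⟩, 14378),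
  (⟨-3, 1, 3, -1, 3, -1, -3, 1⟩, 15056),
  (⟨-3, 1, 3, -1, 3, -1, -1, -1⟩, 9316),
  (⟨-3, 1, 3, -1, 3, -1, 1, 1⟩, 9438),
  (⟨-3, 1, 3, -1, 3, -1, 3, -1⟩, 15184),
  (⟨-3, 1, 3, -1, 5, 1, -1, -1⟩, 11060),
  (⟨-3, 1, 3, -1, 5, 1, 1, 1⟩, 15148),
  (⟨-3, 1, 3, 1, -6, 0, 0, 0⟩, 14754),
  (⟨-3, 1, 3, 1, -4, -2, 0, 0⟩, 10882),
  (⟨-3, 1, 3, 1, -4, 2, 0, 0⟩, 14488),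
  (⟨-3, 1, 3, 1, -2, 0, -4, 0⟩, 10672),
  (⟨-3, 1, 3, 1, -2, 0, -2, -2⟩, 10179),
  (⟨-3, 1, 3, 1, -2, 0, -2, 2⟩, 8521),
  (⟨-3, 1, 3, 1, -2, 0, 0, 0⟩, 10985),
  (⟨-3, 1, 3, 1, -2, 0, 2, -2⟩, 8646),
  (⟨-3, 1, 3, 1, -2, 0, 2, 2⟩, 10293),
  (⟨-3, 1, 3, 1, -2, 0, 4, 0⟩, 14906),
  (⟨-3, 1, 3, 1, 0, -2, -4, 0⟩, 10941),
  (⟨-3, 1, 3, 1, 0, -2, 0, 0⟩, 10925),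
  (⟨-3, 1, 3, 1, 0, -2, 4, 0⟩, 10913),
  (⟨-3, 1, 3, 1, 0, 2, -4, 0⟩, 11038),
  (⟨-3, 1, 3, 1, 0, 2, 0, 0⟩, 11046),
  (⟨-3, 1, 3, 1, 0, 2, 4, 0⟩, 11062),
  (⟨-3, 1, 3, 1, 2, 0, -4, 0⟩, 15033),
  (⟨-3, 1, 3, 1, 2, 0, -2, -2⟩, 10414),
  (⟨-3, 1, 3, 1, 2, 0, -2, 2⟩, 8767),
  (⟨-3, 1, 3, 1, 2, 0, 0, 0⟩, 11114),
  (⟨-3, 1, 3, 1, 2, 0, 2, -2⟩, 8904),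
  (⟨-3, 1, 3, 1, 2, 0, 2, 2⟩, 10564),
  (⟨-3, 1, 3, 1, 2, 0, 4, 0⟩, 10803),
  (⟨-3, 1, 3, 1, 4, -2, 0, 0⟩, 14615),
  (⟨-3, 1, 3, 1, 4, 2, 0, 0⟩, 11009),
  (⟨-3, 1, 3, 1, 6, 0, 0, 0⟩, 15141),
  (⟨-3, 1, 4, -2, 0, 0, -3, -1⟩, 14227),
  (⟨-3, 1, 4, -2, 0, 0, -1, 1⟩, 14416),
  (⟨-3, 1, 4, -2, 0, 0, 1, -1⟩, 14288),
  (⟨-3, 1, 4, -2, 0, 0, 3, 1⟩, 14354),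
  (⟨-3, 1, 4, 0, -5, 1, -2, 0⟩, 14735),
  (⟨-3, 1, 4, 0, -5, 1, 2, 0⟩, 14871),
  (⟨-3, 1, 4, 0, -3, -1, -2, 0⟩, 14786),
  (⟨-3, 1, 4, 0, -3, -1, 0, -2⟩, 10164),
  (⟨-3, 1, 4, 0, -3, -1, 0, 2⟩, 10910),
  (⟨-3, 1, 4, 0, -3, -1, 2, 0⟩, 10928),
  (⟨-3, 1, 4, 0, -1, 1, -2, 0⟩, 11106),
  (⟨-3, 1, 4, 0, -1, 1, 0, -2⟩, 8996),
  (⟨-3, 1, 4, 0, -1, 1, 0, 2⟩, 9159),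
  (⟨-3, 1, 4, 0, -1, 1, 2, 0⟩, 11109),
  (⟨-3, 1, 4, 0, 1, -1, -2, 0⟩, 15077),
  (⟨-3, 1, 4, 0, 1, -1, 0, -2⟩, 9278),
  (⟨-3, 1, 4, 0, 1, -1, 0, 2⟩, 9379),
  (⟨-3, 1, 4, 0, 1, -1, 2, 0⟩, 10979),
  (⟨-3, 1, 4, 0, 3, 1, -2, 0⟩, 11059),
  (⟨-3, 1, 4, 0, 3, 1, 0, -2⟩, 11041),
  (⟨-3, 1, 4, 0, 3, 1, 0, 2⟩, 10543),
  (⟨-3, 1, 4, 0, 3, 1, 2, 0⟩, 11074),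
  (⟨-3, 1, 4, 0, 5, -1, -2, 0⟩, 15000),
  (⟨-3, 1, 4, 0, 5, -1, 2, 0⟩, 15120),
  (⟨-3, 1, 4, 2, 0, 0, -3, -1⟩, 10628),
  (⟨-3, 1, 4, 2, 0, 0, -1, 1⟩, 10670),
  (⟨-3, 1, 4, 2, 0, 0, 1, -1⟩, 10805),
  (⟨-3, 1, 4, 2, 0, 0, 3, 1⟩, 10755),
  (⟨-3, 1, 5, -1, -2, 0, -4, 0⟩, 14744),
  (⟨-3, 1, 5, -1, -2, 0, 0, 0⟩, 9564),
  (⟨-3, 1, 5, -1, -2, 0, 4, 0⟩, 14868),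
  (⟨-3, 1, 5, -1, 0, -2, 0, 0⟩, 10902),
  (⟨-3, 1, 5, -1, 0, 2, 0, 0⟩, 11029),
  (⟨-3, 1, 5, -1, 2, 0, -4, 0⟩, 14993),
  (⟨-3, 1, 5, -1, 2, 0, 0, 0⟩, 9565),
  (⟨-3, 1, 5, -1, 2, 0, 4, 0⟩, 15127),
  (⟨-3, 1, 5, 1, -3, 1, -1, -1⟩, 9001),
  (⟨-3, 1, 5, 1, -3, 1, 1, 1⟩, 9148),
  (⟨-3, 1, 5, 1, -1, -1, -3, 1⟩, 10924),
  (⟨-3, 1, 5, 1, -1, -1, -1, -1⟩, 10949),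
  (⟨-3, 1, 5, 1, -1, -1, 1, 1⟩, 10912),
  (⟨-3, 1, 5, 1, -1, -1, 3, -1⟩, 10929),
  (⟨-3, 1, 5, 1, 1, 1, -3, 1⟩, 11058),
  (⟨-3, 1, 5, 1, 1, 1, -1, -1⟩, 11039),
  (⟨-3, 1, 5, 1, 1, 1, 1, 1⟩, 11072),
  (⟨-3, 1, 5, 1, 1, 1, 3, -1⟩, 11047),
  (⟨-3, 1, 5, 1, 3, -1, -1, -1⟩, 9271),
  (⟨-3, 1, 5, 1, 3, -1, 1, 1⟩, 9386),
  (⟨-3, 1, 6, 0, 0, 0, -3, -1⟩, 9509),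
  (⟨-3, 1, 6, 0, 0, 0, -1, 1⟩, 9508),
  (⟨-3, 1, 6, 0, 0, 0, 1, -1⟩, 9507),
  (⟨-3, 1, 6, 0, 0, 0, 3, 1⟩, 9506),
  (⟨-3, 3, -2, 0, -1, -1, 0, 0⟩, 9621),
  (⟨-3, 3, -2, 0, 1, 1, 0, 0⟩, 9750),
  (⟨-3, 3, -1, -1, 0, 0, -2, 0⟩, 9870),
  (⟨-3, 3, -1, -1, 0, 0, 2, 0⟩, 9997),
  (⟨-3, 3, 0, 0, -2, 0, -1, -1⟩, 10131),
  (⟨-3, 3, 0, 0, -2, 0, 1, 1⟩, 10260),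
  (⟨-3, 3, 0, 0, 2, 0, -1, -1⟩, 10385),
  (⟨-3, 3, 0, 0, 2, 0, 1, 1⟩, 10514),
  (⟨-3, 3, 1, 1, 0, 0, -2, 0⟩, 10648),
  (⟨-3, 3, 1, 1, 0, 0, 2, 0⟩, 10775),
  (⟨-3, 3, 2, 0, -1, -1, 0, 0⟩, 10895),
  (⟨-3, 3, 2, 0, 1, 1, 0, 0⟩, 11024),
  (⟨-2, -2, -5, -1, -2, 0, -1, 1⟩, 11137),
  (⟨-2, -2, -5, -1, -2, 0, 1, -1⟩, 11268),
  (⟨-2, -2, -5, -1, 2, 0, -1, 1⟩, 11139),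
  (⟨-2, -2, -5, -1, 2, 0, 1, -1⟩, 11266),
  (⟨-2, -2, -5, 1, -1, -1, -2, 0⟩, 11439),
  (⟨-2, -2, -5, 1, -1, -1, 2, 0⟩, 11422),
  (⟨-2, -2, -5, 1, 1, 1, -2, 0⟩, 11553),
  (⟨-2, -2, -5, 1, 1, 1, 2, 0⟩, 11572),
  (⟨-2, -2, -4, 0, -4, 0, 0, 0⟩, 11423),
  (⟨-2, -2, -4, 0, -2, -2, 0, 0⟩, 4236),
  (⟨-2, -2, -4, 0, -2, 2, 0, 0⟩, 11692),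
  (⟨-2, -2, -4, 0, 0, 0, -4, 0⟩, 11200),
  (⟨-2, -2, -4, 0, 0, 0, -2, -2⟩, 11269),
  (⟨-2, -2, -4, 0, 0, 0, -2, 2⟩, 11136),
  (⟨-2, -2, -4, 0, 0, 0, 0, 0⟩, 11355),
  (⟨-2, -2, -4, 0, 0, 0, 2, -2⟩, 11264),
  (⟨-2, -2, -4, 0, 0, 0, 2, 2⟩, 11144),
  (⟨-2, -2, -4, 0, 0, 0, 4, 0⟩, 11333),
  (⟨-2, -2, -4, 0, 2, -2, 0, 0⟩, 12071),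
  (⟨-2, -2, -4, 0, 2, 2, 0, 0⟩, 4363),
  (⟨-2, -2, -4, 0, 4, 0, 0, 0⟩, 11552),
  (⟨-2, -2, -3, -1, -3, 1, -2, 0⟩, 11680),
  (⟨-2, -2, -3, -1, -3, 1, 2, 0⟩, 11822),
  (⟨-2, -2, -3, -1, -1, -1, -2, 0⟩, 11986),
  (⟨-2, -2, -3, -1, -1, -1, 0, -2⟩, 11265),
  (⟨-2, -2, -3, -1, -1, -1, 0, 2⟩, 11142),
  (⟨-2, -2, -3, -1, -1, -1, 2, 0⟩, 11350),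
  (⟨-2, -2, -3, -1, 1, 1, -2, 0⟩, 11219),
  (⟨-2, -2, -3, -1, 1, 1, 0, -2⟩, 11271),
  (⟨-2, -2, -3, -1, 1, 1, 0, 2⟩, 11138),
  (⟨-2, -2, -3, -1, 1, 1, 2, 0⟩, 11857),
  (⟨-2, -2, -3, -1, 3, -1, -2, 0⟩, 11957),
  (⟨-2, -2, -3, -1, 3, -1, 2, 0⟩, 12063),
  (⟨-2, -2, -3, 1, -2, 0, -3, -1⟩, 11460),
  (⟨-2, -2, -3, 1, -2, 0, -1, 1⟩, 11440),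
  (⟨-2, -2, -3, 1, -2, 0, 1, -1⟩, 11435),
  (⟨-2, -2, -3, 1, -2, 0, 3, 1⟩, 11424),
  (⟨-2, -2, -3, 1, 0, -2, -1, 1⟩, 11956),
  (⟨-2, -2, -3, 1, 0, -2, 1, -1⟩, 11319),
  (⟨-2, -2, -3, 1, 0, 2, -1, 1⟩, 11196),
  (⟨-2, -2, -3, 1, 0, 2, 1, -1⟩, 11823),
  (⟨-2, -2, -3, 1, 2, 0, -3, -1⟩, 11551),
  (⟨-2, -2, -3, 1, 2, 0, -1, 1⟩, 11560),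
  (⟨-2, -2, -3, 1, 2, 0, 1, -1⟩, 11571),
  (⟨-2, -2, -3, 1, 2, 0, 3, 1⟩, 11587),
  (⟨-2, -2, -2, -2, -4, 0, 0, 0⟩, 12163),
  (⟨-2, -2, -2, -2, 0, 0, -4, 0⟩, 4490),
  (⟨-2, -2, -2, -2, 0, 0, 0, 0⟩, 12375),
  (⟨-2, -2, -2, -2, 0, 0, 4, 0⟩, 4617),
  (⟨-2, -2, -2, -2, 4, 0, 0, 0⟩, 12292),
  (⟨-2, -2, -2, 0, -5, 1, -1, -1⟩, 11674),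
  (⟨-2, -2, -2, 0, -5, 1, 1, 1⟩, 11425),
  (⟨-2, -2, -2, 0, -3, -1, -3, 1⟩, 11210),
  (⟨-2, -2, -2, 0, -3, -1, -1, -1⟩, 11475),
  (⟨-2, -2, -2, 0, -3, -1, 1, 1⟩, 11473),
  (⟨-2, -2, -2, 0, -3, -1, 3, -1⟩, 11331),
  (⟨-2, -2, -2, 0, -1, 1, -5, -1⟩, 11651),
  (⟨-2, -2, -2, 0, -1, 1, -3, 1⟩, 11193),
  (⟨-2, -2, -2, 0, -1, 1, -1, -1⟩, 11732),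
  (⟨-2, -2, -2, 0, -1, 1, 1, 1⟩, 11225),
  (⟨-2, -2, -2, 0, -1, 1, 3, -1⟩, 11814),
  (⟨-2, -2, -2, 0, -1, 1, 5, 1⟩, 11782),
  (⟨-2, -2, -2, 0, 1, -1, -5, -1⟩, 11911),
  (⟨-2, -2, -2, 0, 1, -1, -3, 1⟩, 11949),
  (⟨-2, -2, -2, 0, 1, -1, -1, -1⟩, 11352),
  (⟨-2, -2, -2, 0, 1, -1, 1, 1⟩, 12117),
  (⟨-2, -2, -2, 0, 1, -1, 3, -1⟩, 11322),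
  (⟨-2, -2, -2, 0, 1, -1, 5, 1⟩, 12036),
  (⟨-2, -2, -2, 0, 3, 1, -3, 1⟩, 11204),
  (⟨-2, -2, -2, 0, 3, 1, -1, -1⟩, 11602),
  (⟨-2, -2, -2, 0, 3, 1, 1, 1⟩, 11606),
  (⟨-2, -2, -2, 0, 3, 1, 3, -1⟩, 11339),
  (⟨-2, -2, -2, 0, 5, -1, -1, -1⟩, 11550),
  (⟨-2, -2, -2, 0, 5, -1, 1, 1⟩, 12061),
  (⟨-2, -2, -2, 2, -4, 0, 0, 0⟩, 11392),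
  (⟨-2, -2, -2, 2, 0, 0, -4, 0⟩, 11559),
  (⟨-2, -2, -2, 2, 0, 0, 0, 0⟩, 11586),
  (⟨-2, -2, -2, 2, 0, 0, 4, 0⟩, 11436),
  (⟨-2, -2, -2, 2, 4, 0, 0, 0⟩, 11520),
  (⟨-2, -2, -1, -1, -2, 0, -5, 1⟩, 11190),
  (⟨-2, -2, -1, -1, -2, 0, -3, -1⟩, 11729),
  (⟨-2, -2, -1, -1, -2, 0, -1, 1⟩, 11224),
  (⟨-2, -2, -1, -1, -2, 0, 1, -1⟩, 12250),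
  (⟨-2, -2, -1, -1, -2, 0, 3, 1⟩, 4947),
  (⟨-2, -2, -1, -1, -2, 0, 5, -1⟩, 11810),
  (⟨-2, -2, -1, -1, 0, -2, -3, -1⟩, 11907),
  (⟨-2, -2, -1, -1, 0, -2, -1, 1⟩, 11936),
  (⟨-2, -2, -1, -1, 0, -2, 1, -1⟩, 12096),
  (⟨-2, -2, -1, -1, 0, -2, 3, 1⟩, 12033),
  (⟨-2, -2, -1, -1, 0, 2, -3, -1⟩, 11650),
  (⟨-2, -2, -1, -1, 0, 2, -1, 1⟩, 11717),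
  (⟨-2, -2, -1, -1, 0, 2, 1, -1⟩, 11807),
  (⟨-2, -2, -1, -1, 0, 2, 3, 1⟩, 11780),
  (⟨-2, -2, -1, -1, 2, 0, -5, 1⟩, 11941),
  (⟨-2, -2, -1, -1, 2, 0, -3, -1⟩, 5078),
  (⟨-2, -2, -1, -1, 2, 0, -1, 1⟩, 11226),
  (⟨-2, -2, -1, -1, 2, 0, 1, -1⟩, 11353),
  (⟨-2, -2, -1, -1, 2, 0, 3, 1⟩, 12114),
  (⟨-2, -2, -1, -1, 2, 0, 5, -1⟩, 11325),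
  (⟨-2, -2, -1, 1, -5, -1, -2, 0⟩, 11397),
  (⟨-2, -2, -1, 1, -5, -1, 2, 0⟩, 11393),
  (⟨-2, -2, -1, 1, -3, 1, -2, 0⟩, 11713),
  (⟨-2, -2, -1, 1, -3, 1, 0, -2⟩, 11452),
  (⟨-2, -2, -1, 1, -3, 1, 0, 2⟩, 11441),
  (⟨-2, -2, -1, 1, -3, 1, 2, 0⟩, 11437),
  (⟨-2, -2, -1, 1, -1, -1, -2, 0⟩, 11482),
  (⟨-2, -2, -1, 1, -1, -1, 0, -2⟩, 11338),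
  (⟨-2, -2, -1, 1, -1, -1, 0, 2⟩, 11215),
  (⟨-2, -2, -1, 1, -1, -1, 2, 0⟩, 11476),
  (⟨-2, -2, -1, 1, 1, 1, -2, 0⟩, 11605),
  (⟨-2, -2, -1, 1, 1, 1, 0, -2⟩, 11342),
  (⟨-2, -2, -1, 1, 1, 1, 0, 2⟩, 11211),
  (⟨-2, -2, -1, 1, 1, 1, 2, 0⟩, 11866),
  (⟨-2, -2, -1, 1, 3, -1, -2, 0⟩, 11558),
  (⟨-2, -2, -1, 1, 3, -1, 0, -2⟩, 11570),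
  (⟨-2, -2, -1, 1, 3, -1, 0, 2⟩, 11575),
  (⟨-2, -2, -1, 1, 3, -1, 2, 0⟩, 11585),
  (⟨-2, -2, -1, 1, 5, 1, -2, 0⟩, 11522),
  (⟨-2, -2, -1, 1, 5, 1, 2, 0⟩, 11528),
  (⟨-2, -2, 0, -2, -3, -1, -1, -1⟩, 12165),
  (⟨-2, -2, 0, -2, -3, -1, 1, 1⟩, 12164),
  (⟨-2, -2, 0, -2, -1, 1, -3, 1⟩, 11697),
  (⟨-2, -2, 0, -2, -1, 1, -1, -1⟩, 12228),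
  (⟨-2, -2, 0, -2, -1, 1, 1, 1⟩, 12213),
  (⟨-2, -2, 0, -2, -1, 1, 3, -1⟩, 11803),
  (⟨-2, -2, 0, -2, 1, -1, -3, 1⟩, 11932),
  (⟨-2, -2, 0, -2, 1, -1, -1, -1⟩, 12334),
  (⟨-2, -2, 0, -2, 1, -1, 1, 1⟩, 12355),
  (⟨-2, -2, 0, -2, 1, -1, 3, -1⟩, 12082),
  (⟨-2, -2, 0, -2, 3, 1, -1, -1⟩, 12291),
  (⟨-2, -2, 0, -2, 3, 1, 1, 1⟩, 12296),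
  (⟨-2, -2, 0, 0, -4, 0, -4, 0⟩, 11694),
  (⟨-2, -2, 0, 0, -4, 0, -2, -2⟩, 4744),
  (⟨-2, -2, 0, 0, -4, 0, -2, 2⟩, 12457),
  (⟨-2, -2, 0, 0, -4, 0, 0, 0⟩, 11477),
  (⟨-2, -2, 0, 0, -4, 0, 2, -2⟩, 4780),
  (⟨-2, -2, 0, 0, -4, 0, 2, 2⟩, 4871),
  (⟨-2, -2, 0, 0, -4, 0, 4, 0⟩, 11850),
  (⟨-2, -2, 0, 0, -2, -2, -4, 0⟩, 11905),
  (⟨-2, -2, 0, 0, -2, -2, 0, 0⟩, 11991),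
  (⟨-2, -2, 0, 0, -2, -2, 4, 0⟩, 12043),
  (⟨-2, -2, 0, 0, -2, 2, -4, 0⟩, 11648),
  (⟨-2, -2, 0, 0, -2, 2, 0, 0⟩, 11706),
  (⟨-2, -2, 0, 0, -2, 2, 4, 0⟩, 11776),
  (⟨-2, -2, 0, 0, 0, 0, -4, 0⟩, 11993),
  (⟨-2, -2, 0, 0, 0, 0, -2, -2⟩, 5079),
  (⟨-2, -2, 0, 0, 0, 0, -2, 2⟩, 12467),
  (⟨-2, -2, 0, 0, 0, 0, 0, 0⟩, 11629),
  (⟨-2, -2, 0, 0, 0, 0, 2, -2⟩, 12592),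
  (⟨-2, -2, 0, 0, 0, 0, 2, 2⟩, 12503),
  (⟨-2, -2, 0, 0, 0, 0, 4, 0⟩, 11864),
  (⟨-2, -2, 0, 0, 2, -2, -4, 0⟩, 11904),
  (⟨-2, -2, 0, 0, 2, -2, 0, 0⟩, 12089),
  (⟨-2, -2, 0, 0, 2, -2, 4, 0⟩, 12032),
  (⟨-2, -2, 0, 0, 2, 2, -4, 0⟩, 11660),
  (⟨-2, -2, 0, 0, 2, 2, 0, 0⟩, 5719),
  (⟨-2, -2, 0, 0, 2, 2, 4, 0⟩, 11778),
  (⟨-2, -2, 0, 0, 4, 0, -4, 0⟩, 11979),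
  (⟨-2, -2, 0, 0, 4, 0, -2, -2⟩, 4998),
  (⟨-2, -2, 0, 0, 4, 0, -2, 2⟩, 5159),
  (⟨-2, -2, 0, 0, 4, 0, 0, 0⟩, 11604),
  (⟨-2, -2, 0, 0, 4, 0, 2, -2⟩, 12586),
  (⟨-2, -2, 0, 0, 4, 0, 2, 2⟩, 5125),
  (⟨-2, -2, 0, 0, 4, 0, 4, 0⟩, 12085),
  (⟨-2, -2, 0, 2, -3, -1, -1, -1⟩, 11401),
  (⟨-2, -2, 0, 2, -3, -1, 1, 1⟩, 11398),
  (⟨-2, -2, 0, 2, -1, 1, -3, 1⟩, 5300),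
  (⟨-2, -2, 0, 2, -1, 1, -1, -1⟩, 11467),
  (⟨-2, -2, 0, 2, -1, 1, 1, 1⟩, 11461),
  (⟨-2, -2, 0, 2, -1, 1, 3, -1⟩, 11453),
  (⟨-2, -2, 0, 2, 1, -1, -3, 1⟩, 11574),
  (⟨-2, -2, 0, 2, 1, -1, -1, -1⟩, 11584),
  (⟨-2, -2, 0, 2, 1, -1, 1, 1⟩, 11594),
  (⟨-2, -2, 0, 2, 1, -1, 3, -1⟩, 5423),
  (⟨-2, -2, 0, 2, 3, 1, -1, -1⟩, 11527),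
  (⟨-2, -2, 0, 2, 3, 1, 1, 1⟩, 11530),
  (⟨-2, -2, 1, -1, -5, -1, -2, 0⟩, 12171),
  (⟨-2, -2, 1, -1, -5, -1, 2, 0⟩, 12166),
  (⟨-2, -2, 1, -1, -3, 1, -2, 0⟩, 11688),
  (⟨-2, -2, 1, -1, -3, 1, 0, -2⟩, 4797),
  (⟨-2, -2, 1, -1, -3, 1, 0, 2⟩, 12442),
  (⟨-2, -2, 1, -1, -3, 1, 2, 0⟩, 11842),
  (⟨-2, -2, 1, -1, -1, -1, -2, 0⟩, 11988),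
  (⟨-2, -2, 1, -1, -1, -1, 0, -2⟩, 12575),
  (⟨-2, -2, 1, -1, -1, -1, 0, 2⟩, 12462),
  (⟨-2, -2, 1, -1, -1, -1, 2, 0⟩, 12251),
  (⟨-2, -2, 1, -1, 1, 1, -2, 0⟩, 11739),
  (⟨-2, -2, 1, -1, 1, 1, 0, -2⟩, 12597),
  (⟨-2, -2, 1, -1, 1, 1, 0, 2⟩, 12448),
  (⟨-2, -2, 1, -1, 1, 1, 2, 0⟩, 11861),
  (⟨-2, -2, 1, -1, 3, -1, -2, 0⟩, 12354),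
  (⟨-2, -2, 1, -1, 3, -1, 0, -2⟩, 12573),
  (⟨-2, -2, 1, -1, 3, -1, 0, 2⟩, 5174),
  (⟨-2, -2, 1, -1, 3, -1, 2, 0⟩, 12075),
  (⟨-2, -2, 1, -1, 5, 1, -2, 0⟩, 12295),
  (⟨-2, -2, 1, -1, 5, 1, 2, 0⟩, 12300),
  (⟨-2, -2, 1, 1, -2, 0, -5, 1⟩, 5281),
  (⟨-2, -2, 1, 1, -2, 0, -3, -1⟩, 5330),
  (⟨-2, -2, 1, 1, -2, 0, -1, 1⟩, 11483),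
  (⟨-2, -2, 1, 1, -2, 0, 1, -1⟩, 11481),
  (⟨-2, -2, 1, 1, -2, 0, 3, 1⟩, 11478),
  (⟨-2, -2, 1, 1, -2, 0, 5, -1⟩, 5426),
  (⟨-2, -2, 1, 1, 0, -2, -3, -1⟩, 11915),
  (⟨-2, -2, 1, 1, 0, -2, -1, 1⟩, 11971),
  (⟨-2, -2, 1, 1, 0, -2, 1, -1⟩, 12110),
  (⟨-2, -2, 1, 1, 0, -2, 3, 1⟩, 12042),
  (⟨-2, -2, 1, 1, 0, 2, -3, -1⟩, 11657),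
  (⟨-2, -2, 1, 1, 0, 2, -1, 1⟩, 11727),
  (⟨-2, -2, 1, 1, 0, 2, 1, -1⟩, 11844),
  (⟨-2, -2, 1, 1, 0, 2, 3, 1⟩, 11788),
  (⟨-2, -2, 1, 1, 2, 0, -5, 1⟩, 5297),
  (⟨-2, -2, 1, 1, 2, 0, -3, -1⟩, 11603),
  (⟨-2, -2, 1, 1, 2, 0, -1, 1⟩, 11608),
  (⟨-2, -2, 1, 1, 2, 0, 1, -1⟩, 12635),
  (⟨-2, -2, 1, 1, 2, 0, 3, 1⟩, 5457),
  (⟨-2, -2, 1, 1, 2, 0, 5, -1⟩, 5406),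
  (⟨-2, -2, 2, -2, -4, 0, 0, 0⟩, 12160),
  (⟨-2, -2, 2, -2, 0, 0, -4, 0⟩, 12329),
  (⟨-2, -2, 2, -2, 0, 0, 0, 0⟩, 12353),
  (⟨-2, -2, 2, -2, 0, 0, 4, 0⟩, 12202),
  (⟨-2, -2, 2, -2, 4, 0, 0, 0⟩, 12288),
  (⟨-2, -2, 2, 0, -5, 1, -1, -1⟩, 11682),
  (⟨-2, -2, 2, 0, -5, 1, 1, 1⟩, 4924),
  (⟨-2, -2, 2, 0, -3, -1, -3, 1⟩, 12480),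
  (⟨-2, -2, 2, 0, -3, -1, -1, -1⟩, 4822),
  (⟨-2, -2, 2, 0, -3, -1, 1, 1⟩, 5586),
  (⟨-2, -2, 2, 0, -3, -1, 3, -1⟩, 12590),
  (⟨-2, -2, 2, 0, -1, 1, -5, -1⟩, 11653),
  (⟨-2, -2, 2, 0, -1, 1, -3, 1⟩, 12459),
  (⟨-2, -2, 2, 0, -1, 1, -1, -1⟩, 11736),
  (⟨-2, -2, 2, 0, -1, 1, 1, 1⟩, 12500),
  (⟨-2, -2, 2, 0, -1, 1, 3, -1⟩, 11833),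
  (⟨-2, -2, 2, 0, -1, 1, 5, 1⟩, 11786),
  (⟨-2, -2, 2, 0, 1, -1, -5, -1⟩, 11913),
  (⟨-2, -2, 2, 0, 1, -1, -3, 1⟩, 11962),
  (⟨-2, -2, 2, 0, 1, -1, -1, -1⟩, 12629),
  (⟨-2, -2, 2, 0, 1, -1, 1, 1⟩, 12121),
  (⟨-2, -2, 2, 0, 1, -1, 3, -1⟩, 12584),
  (⟨-2, -2, 2, 0, 1, -1, 5, 1⟩, 12040),
  (⟨-2, -2, 2, 0, 3, 1, -3, 1⟩, 12469),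
  (⟨-2, -2, 2, 0, 3, 1, -1, -1⟩, 5713),
  (⟨-2, -2, 2, 0, 3, 1, 1, 1⟩, 5203),
  (⟨-2, -2, 2, 0, 3, 1, 3, -1⟩, 12613),
  (⟨-2, -2, 2, 0, 5, -1, -1, -1⟩, 5047),
  (⟨-2, -2, 2, 0, 5, -1, 1, 1⟩, 12069),
  (⟨-2, -2, 2, 2, -4, 0, 0, 0⟩, 11402),
  (⟨-2, -2, 2, 2, 0, 0, -4, 0⟩, 5252),
  (⟨-2, -2, 2, 2, 0, 0, 0, 0⟩, 5335),
  (⟨-2, -2, 2, 2, 0, 0, 4, 0⟩, 5379),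
  (⟨-2, -2, 2, 2, 4, 0, 0, 0⟩, 11529),
  (⟨-2, -2, 3, -1, -2, 0, -3, -1⟩, 12238),
  (⟨-2, -2, 3, -1, -2, 0, -1, 1⟩, 12454),
  (⟨-2, -2, 3, -1, -2, 0, 1, -1⟩, 12595),
  (⟨-2, -2, 3, -1, -2, 0, 3, 1⟩, 12229),
  (⟨-2, -2, 3, -1, 0, -2, -1, 1⟩, 5533),
  (⟨-2, -2, 3, -1, 0, -2, 1, -1⟩, 12571),
  (⟨-2, -2, 3, -1, 0, 2, -1, 1⟩, 12444),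
  (⟨-2, -2, 3, -1, 0, 2, 1, -1⟩, 5658),
  (⟨-2, -2, 3, -1, 2, 0, -3, -1⟩, 12352),
  (⟨-2, -2, 3, -1, 2, 0, -1, 1⟩, 12464),
  (⟨-2, -2, 3, -1, 2, 0, 1, -1⟩, 12589),
  (⟨-2, -2, 3, -1, 2, 0, 3, 1⟩, 12367),
  (⟨-2, -2, 3, 1, -3, 1, -2, 0⟩, 11722),
  (⟨-2, -2, 3, 1, -3, 1, 2, 0⟩, 11854),
  (⟨-2, -2, 3, 1, -1, -1, -2, 0⟩, 5329),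
  (⟨-2, -2, 3, 1, -1, -1, 0, -2⟩, 12549),
  (⟨-2, -2, 3, 1, -1, -1, 0, 2⟩, 12427),
  (⟨-2, -2, 3, 1, -1, -1, 2, 0⟩, 5459),
  (⟨-2, -2, 3, 1, 1, 1, -2, 0⟩, 5334),
  (⟨-2, -2, 3, 1, 1, 1, 0, -2⟩, 12556),
  (⟨-2, -2, 3, 1, 1, 1, 0, 2⟩, 12424),
  (⟨-2, -2, 3, 1, 1, 1, 2, 0⟩, 5458),
  (⟨-2, -2, 3, 1, 3, -1, -2, 0⟩, 11983),
  (⟨-2, -2, 3, 1, 3, -1, 2, 0⟩, 12107),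
  (⟨-2, -2, 4, 0, -4, 0, 0, 0⟩, 12239),
  (⟨-2, -2, 4, 0, -2, -2, 0, 0⟩, 5506),
  (⟨-2, -2, 4, 0, -2, 2, 0, 0⟩, 5673),
  (⟨-2, -2, 4, 0, 0, 0, -4, 0⟩, 12484),
  (⟨-2, -2, 4, 0, 0, 0, -2, -2⟩, 12551),
  (⟨-2, -2, 4, 0, 0, 0, -2, 2⟩, 12416),
  (⟨-2, -2, 4, 0, 0, 0, 0, 0⟩, 12506),
  (⟨-2, -2, 4, 0, 0, 0, 2, -2⟩, 12544),
  (⟨-2, -2, 4, 0, 0, 0, 2, 2⟩, 12422),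
  (⟨-2, -2, 4, 0, 0, 0, 4, 0⟩, 12611),
  (⟨-2, -2, 4, 0, 2, -2, 0, 0⟩, 5546),
  (⟨-2, -2, 4, 0, 2, 2, 0, 0⟩, 5633),
  (⟨-2, -2, 4, 0, 4, 0, 0, 0⟩, 12366),
  (⟨-2, -2, 5, -1, -1, -1, -2, 0⟩, 5541),
  (⟨-2, -2, 5, -1, -1, -1, 2, 0⟩, 5532),
  (⟨-2, -2, 5, -1, 1, 1, -2, 0⟩, 5659),
  (⟨-2, -2, 5, -1, 1, 1, 2, 0⟩, 5666),
  (⟨-2, -2, 5, 1, -2, 0, -1, 1⟩, 12425),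
  (⟨-2, -2, 5, 1, -2, 0, 1, -1⟩, 12555),
  (⟨-2, -2, 5, 1, 2, 0, -1, 1⟩, 12428),
  (⟨-2, -2, 5, 1, 2, 0, 1, -1⟩, 12554),
  (⟨-2, 0, -7, -1, 0, 0, -1, -1⟩, 5771),
  (⟨-2, 0, -7, -1, 0, 0, 1, 1⟩, 5772),
  (⟨-2, 0, -7, 1, -1, 1, 0, 0⟩, 5784),
  (⟨-2, 0, -7, 1, 1, -1, 0, 0⟩, 5783),
  (⟨-2, 0, -6, 0, -2, 0, -2, 0⟩, 12715),
  (⟨-2, 0, -6, 0, -2, 0, 0, -2⟩, 5932),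
  (⟨-2, 0, -6, 0, -2, 0, 0, 2⟩, 11188),
  (⟨-2, 0, -6, 0, -2, 0, 2, 0⟩, 12838),
  (⟨-2, 0, -6, 0, 0, -2, -2, 0⟩, 6186),
  (⟨-2, 0, -6, 0, 0, -2, 2, 0⟩, 9660),
  (⟨-2, 0, -6, 0, 0, 2, -2, 0⟩, 9783),
  (⟨-2, 0, -6, 0, 0, 2, 2, 0⟩, 6057),
  (⟨-2, 0, -6, 0, 2, 0, -2, 0⟩, 12973),
  (⟨-2, 0, -6, 0, 2, 0, 0, -2⟩, 11311),
  (⟨-2, 0, -6, 0, 2, 0, 0, 2⟩, 6311),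
  (⟨-2, 0, -6, 0, 2, 0, 2, 0⟩, 13096),
  (⟨-2, 0, -5, -1, -5, 1, 0, 0⟩, 12701),
  (⟨-2, 0, -5, -1, -3, -1, -4, 0⟩, 12675),
  (⟨-2, 0, -5, -1, -3, -1, 0, 0⟩, 12754),
  (⟨-2, 0, -5, -1, -3, -1, 4, 0⟩, 12801),
  (⟨-2, 0, -5, -1, -1, 1, -4, 0⟩, 12740),
  (⟨-2, 0, -5, -1, -1, 1, -2, -2⟩, 5896),
  (⟨-2, 0, -5, -1, -1, 1, -2, 2⟩, 11169),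
  (⟨-2, 0, -5, -1, -1, 1, 0, 0⟩, 13268),
  (⟨-2, 0, -5, -1, -1, 1, 2, -2⟩, 5949),
  (⟨-2, 0, -5, -1, -1, 1, 2, 2⟩, 6027),
  (⟨-2, 0, -5, -1, -1, 1, 4, 0⟩, 12831),
  (⟨-2, 0, -5, -1, 1, -1, -4, 0⟩, 12960),
  (⟨-2, 0, -5, -1, 1, -1, -2, -2⟩, 6156),
  (⟨-2, 0, -5, -1, 1, -1, -2, 2⟩, 6326),
  (⟨-2, 0, -5, -1, 1, -1, 0, 0⟩, 13397),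
  (⟨-2, 0, -5, -1, 1, -1, 2, -2⟩, 11294),
  (⟨-2, 0, -5, -1, 1, -1, 2, 2⟩, 6277),
  (⟨-2, 0, -5, -1, 1, -1, 4, 0⟩, 13123),
  (⟨-2, 0, -5, -1, 3, 1, -4, 0⟩, 12930),
  (⟨-2, 0, -5, -1, 3, 1, 0, 0⟩, 13137),
  (⟨-2, 0, -5, -1, 3, 1, 4, 0⟩, 13060),
  (⟨-2, 0, -5, -1, 5, -1, 0, 0⟩, 13082),
  (⟨-2, 0, -5, 1, -4, 0, -3, 1⟩, 12685),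
  (⟨-2, 0, -5, 1, -4, 0, -1, -1⟩, 12708),
  (⟨-2, 0, -5, 1, -4, 0, 1, 1⟩, 12862),
  (⟨-2, 0, -5, 1, -4, 0, 3, -1⟩, 12815),
  (⟨-2, 0, -5, 1, -2, -2, -1, -1⟩, 6193),
  (⟨-2, 0, -5, 1, -2, -2, 1, 1⟩, 9637),
  (⟨-2, 0, -5, 1, -2, 2, -1, -1⟩, 5911),
  (⟨-2, 0, -5, 1, -2, 2, 1, 1⟩, 6035),
  (⟨-2, 0, -5, 1, 0, 0, -5, -1⟩, 12955),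
  (⟨-2, 0, -5, 1, 0, 0, -3, 1⟩, 13021),
  (⟨-2, 0, -5, 1, 0, 0, -1, -1⟩, 13536),
  (⟨-2, 0, -5, 1, 0, 0, 1, 1⟩, 13663),
  (⟨-2, 0, -5, 1, 0, 0, 3, -1⟩, 12892),
  (⟨-2, 0, -5, 1, 0, 0, 5, 1⟩, 12828),
  (⟨-2, 0, -5, 1, 2, -2, -1, -1⟩, 6162),
  (⟨-2, 0, -5, 1, 2, -2, 1, 1⟩, 6296),
  (⟨-2, 0, -5, 1, 2, 2, -1, -1⟩, 9762),
  (⟨-2, 0, -5, 1, 2, 2, 1, 1⟩, 6066),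
  (⟨-2, 0, -5, 1, 4, 0, -3, 1⟩, 12944),
  (⟨-2, 0, -5, 1, 4, 0, -1, -1⟩, 12999),
  (⟨-2, 0, -5, 1, 4, 0, 1, 1⟩, 13091),
  (⟨-2, 0, -5, 1, 4, 0, 3, -1⟩, 13070),
  (⟨-2, 0, -4, -2, -2, 0, -2, 0⟩, 13271),
  (⟨-2, 0, -4, -2, -2, 0, 0, -2⟩, 6537),
  (⟨-2, 0, -4, -2, -2, 0, 0, 2⟩, 6407),
  (⟨-2, 0, -4, -2, -2, 0, 2, 0⟩, 13270),
  (⟨-2, 0, -4, -2, 0, -2, -2, 0⟩, 13313),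
  (⟨-2, 0, -4, -2, 0, -2, 2, 0⟩, 13316),
  (⟨-2, 0, -4, -2, 0, 2, -2, 0⟩, 13187),
  (⟨-2, 0, -4, -2, 0, 2, 2, 0⟩, 13186),
  (⟨-2, 0, -4, -2, 2, 0, -2, 0⟩, 13395),
  (⟨-2, 0, -4, -2, 2, 0, 0, -2⟩, 6790),
  (⟨-2, 0, -4, -2, 2, 0, 0, 2⟩, 6666),
  (⟨-2, 0, -4, -2, 2, 0, 2, 0⟩, 13143),
  (⟨-2, 0, -4, 0, -5, -1, -3, -1⟩, 12673),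
  (⟨-2, 0, -4, 0, -5, -1, -1, 1⟩, 12704),
  (⟨-2, 0, -4, 0, -5, -1, 1, -1⟩, 12874),
  (⟨-2, 0, -4, 0, -5, -1, 3, 1⟩, 12806),
  (⟨-2, 0, -4, 0, -3, 1, -5, 1⟩, 12689),
  (⟨-2, 0, -4, 0, -3, 1, -3, -1⟩, 12729),
  (⟨-2, 0, -4, 0, -3, 1, -1, 1⟩, 12768),
  (⟨-2, 0, -4, 0, -3, 1, 1, -1⟩, 12901),
  (⟨-2, 0, -4, 0, -3, 1, 3, 1⟩, 12848),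
  (⟨-2, 0, -4, 0, -3, 1, 5, -1⟩, 12814),
  (⟨-2, 0, -4, 0, -1, -1, -5, 1⟩, 12744),
  (⟨-2, 0, -4, 0, -1, -1, -3, -1⟩, 6235),
  (⟨-2, 0, -4, 0, -1, -1, -1, 1⟩, 13802),
  (⟨-2, 0, -4, 0, -1, -1, 1, -1⟩, 13928),
  (⟨-2, 0, -4, 0, -1, -1, 3, 1⟩, 12884),
  (⟨-2, 0, -4, 0, -1, -1, 5, -1⟩, 12836),
  (⟨-2, 0, -4, 0, 1, 1, -5, 1⟩, 12963),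
  (⟨-2, 0, -4, 0, 1, 1, -3, -1⟩, 13013),
  (⟨-2, 0, -4, 0, 1, 1, -1, 1⟩, 14059),
  (⟨-2, 0, -4, 0, 1, 1, 1, -1⟩, 14185),
  (⟨-2, 0, -4, 0, 1, 1, 3, 1⟩, 13147),
  (⟨-2, 0, -4, 0, 1, 1, 5, -1⟩, 13129),
  (⟨-2, 0, -4, 0, 3, -1, -5, 1⟩, 12941),
  (⟨-2, 0, -4, 0, 3, -1, -3, -1⟩, 12979),
  (⟨-2, 0, -4, 0, 3, -1, -1, 1⟩, 6373),
  (⟨-2, 0, -4, 0, 3, -1, 1, -1⟩, 13151),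
  (⟨-2, 0, -4, 0, 3, -1, 3, 1⟩, 13114),
  (⟨-2, 0, -4, 0, 3, -1, 5, -1⟩, 13076),
  (⟨-2, 0, -4, 0, 5, 1, -3, -1⟩, 12935),
  (⟨-2, 0, -4, 0, 5, 1, -1, 1⟩, 13003),
  (⟨-2, 0, -4, 0, 5, 1, 1, -1⟩, 13087),
  (⟨-2, 0, -4, 0, 5, 1, 3, 1⟩, 13058),
  (⟨-2, 0, -4, 2, -2, 0, -2, 0⟩, 13534),
  (⟨-2, 0, -4, 2, -2, 0, 0, -2⟩, 13454),
  (⟨-2, 0, -4, 2, -2, 0, 0, 2⟩, 13583),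
  (⟨-2, 0, -4, 2, -2, 0, 2, 0⟩, 12900),
  (⟨-2, 0, -4, 2, 0, -2, -2, 0⟩, 6934),
  (⟨-2, 0, -4, 2, 0, -2, 2, 0⟩, 7057),
  (⟨-2, 0, -4, 2, 0, 2, -2, 0⟩, 7188),
  (⟨-2, 0, -4, 2, 0, 2, 2, 0⟩, 7317),
  (⟨-2, 0, -4, 2, 2, 0, -2, 0⟩, 13540),
  (⟨-2, 0, -4, 2, 2, 0, 0, -2⟩, 13456),
  (⟨-2, 0, -4, 2, 2, 0, 0, 2⟩, 13581),
  (⟨-2, 0, -4, 2, 2, 0, 2, 0⟩, 13665),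
  (⟨-2, 0, -3, -3, -1, 1, 0, 0⟩, 13188),
  (⟨-2, 0, -3, -3, 1, -1, 0, 0⟩, 13315),
  (⟨-2, 0, -3, -1, -4, 0, -5, -1⟩, 12677),
  (⟨-2, 0, -3, -1, -4, 0, -3, 1⟩, 12720),
  (⟨-2, 0, -3, -1, -4, 0, -1, -1⟩, 12757),
  (⟨-2, 0, -3, -1, -4, 0, 1, 1⟩, 6489),
  (⟨-2, 0, -3, -1, -4, 0, 3, -1⟩, 12866),
  (⟨-2, 0, -3, -1, -4, 0, 5, 1⟩, 12804),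
  (⟨-2, 0, -3, -1, -2, -2, -3, 1⟩, 13760),
  (⟨-2, 0, -3, -1, -2, -2, -1, -1⟩, 13907),
  (⟨-2, 0, -3, -1, -2, -2, 1, 1⟩, 13398),
  (⟨-2, 0, -3, -1, -2, -2, 3, -1⟩, 13855),
  (⟨-2, 0, -3, -1, -2, 2, -3, 1⟩, 13256),
  (⟨-2, 0, -3, -1, -2, 2, -1, -1⟩, 13222),
  (⟨-2, 0, -3, -1, -2, 2, 1, 1⟩, 6082),
  (⟨-2, 0, -3, -1, -2, 2, 3, -1⟩, 13219),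
  (⟨-2, 0, -3, -1, 0, 0, -5, -1⟩, 13009),
  (⟨-2, 0, -3, -1, 0, 0, -3, 1⟩, 13033),
  (⟨-2, 0, -3, -1, 0, 0, -1, -1⟩, 13293),
  (⟨-2, 0, -3, -1, 0, 0, -1, 3⟩, 11185),
  (⟨-2, 0, -3, -1, 0, 0, 1, -3⟩, 11314),
  (⟨-2, 0, -3, -1, 0, 0, 1, 1⟩, 14445),
  (⟨-2, 0, -3, -1, 0, 0, 3, -1⟩, 12906),
  (⟨-2, 0, -3, -1, 0, 0, 5, 1⟩, 12882),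
  (⟨-2, 0, -3, -1, 2, -2, -3, 1⟩, 13348),
  (⟨-2, 0, -3, -1, 2, -2, -1, -1⟩, 13378),
  (⟨-2, 0, -3, -1, 2, -2, 1, 1⟩, 13357),
  (⟨-2, 0, -3, -1, 2, -2, 3, -1⟩, 13385),
  (⟨-2, 0, -3, -1, 2, 2, -3, 1⟩, 13984),
  (⟨-2, 0, -3, -1, 2, 2, -1, -1⟩, 13267),
  (⟨-2, 0, -3, -1, 2, 2, 1, 1⟩, 14038),
  (⟨-2, 0, -3, -1, 2, 2, 3, -1⟩, 14149),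
  (⟨-2, 0, -3, -1, 4, 0, -5, -1⟩, 12931),
  (⟨-2, 0, -3, -1, 4, 0, -3, 1⟩, 6722),
  (⟨-2, 0, -3, -1, 4, 0, -1, -1⟩, 6872),
  (⟨-2, 0, -3, -1, 4, 0, 1, 1⟩, 13140),
  (⟨-2, 0, -3, -1, 4, 0, 3, -1⟩, 13107),
  (⟨-2, 0, -3, -1, 4, 0, 5, 1⟩, 13064),
  (⟨-2, 0, -3, 1, -5, 1, -4, 0⟩, 12687),
  (⟨-2, 0, -3, 1, -5, 1, 0, 0⟩, 12765),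
  (⟨-2, 0, -3, 1, -5, 1, 4, 0⟩, 12818),
  (⟨-2, 0, -3, 1, -3, -1, -4, 0⟩, 12737),
  (⟨-2, 0, -3, 1, -3, -1, -2, -2⟩, 13471),
  (⟨-2, 0, -3, 1, -3, -1, -2, 2⟩, 13732),
  (⟨-2, 0, -3, 1, -3, -1, 0, 0⟩, 12779),
  (⟨-2, 0, -3, 1, -3, -1, 2, -2⟩, 13887),
  (⟨-2, 0, -3, 1, -3, -1, 2, 2⟩, 13642),
  (⟨-2, 0, -3, 1, -3, -1, 4, 0⟩, 12858),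
  (⟨-2, 0, -3, 1, -1, -3, 0, 0⟩, 9661),
  (⟨-2, 0, -3, 1, -1, 1, -4, 0⟩, 7267),
  (⟨-2, 0, -3, 1, -1, 1, -2, -2⟩, 5953),
  (⟨-2, 0, -3, 1, -1, 1, -2, 2⟩, 13662),
  (⟨-2, 0, -3, 1, -1, 1, 0, 0⟩, 14574),
  (⟨-2, 0, -3, 1, -1, 1, 2, -2⟩, 14174),
  (⟨-2, 0, -3, 1, -1, 1, 2, 2⟩, 13608),
  (⟨-2, 0, -3, 1, -1, 1, 4, 0⟩, 12896),
  (⟨-2, 0, -3, 1, 1, -1, -4, 0⟩, 13023),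
  (⟨-2, 0, -3, 1, 1, -1, -2, -2⟩, 13483),
  (⟨-2, 0, -3, 1, 1, -1, -2, 2⟩, 13793),
  (⟨-2, 0, -3, 1, 1, -1, 0, 0⟩, 13550),
  (⟨-2, 0, -3, 1, 1, -1, 2, -2⟩, 13537),
  (⟨-2, 0, -3, 1, 1, -1, 2, 2⟩, 13633),
  (⟨-2, 0, -3, 1, 1, -1, 4, 0⟩, 7138),
  (⟨-2, 0, -3, 1, 1, 3, 0, 0⟩, 9782),
  (⟨-2, 0, -3, 1, 3, 1, -4, 0⟩, 12985),
  (⟨-2, 0, -3, 1, 3, 1, -2, -2⟩, 13515),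
  (⟨-2, 0, -3, 1, 3, 1, -2, 2⟩, 14022),
  (⟨-2, 0, -3, 1, 3, 1, 0, 0⟩, 13160),
  (⟨-2, 0, -3, 1, 3, 1, 2, -2⟩, 14115),
  (⟨-2, 0, -3, 1, 3, 1, 2, 2⟩, 13600),
  (⟨-2, 0, -3, 1, 3, 1, 4, 0⟩, 7361),
  (⟨-2, 0, -3, 1, 5, -1, -4, 0⟩, 12947),
  (⟨-2, 0, -3, 1, 5, -1, 0, 0⟩, 13148),
  (⟨-2, 0, -3, 1, 5, -1, 4, 0⟩, 13072),
  (⟨-2, 0, -3, 3, 0, 0, -1, -1⟩, 13455),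
  (⟨-2, 0, -3, 3, 0, 0, 1, 1⟩, 13584),
  (⟨-2, 0, -2, -2, -5, -1, -1, 1⟩, 6410),
  (⟨-2, 0, -2, -2, -5, -1, 1, -1⟩, 6536),
  (⟨-2, 0, -2, -2, -3, 1, -3, -1⟩, 13230),
  (⟨-2, 0, -2, -2, -3, 1, -1, 1⟩, 6457),
  (⟨-2, 0, -2, -2, -3, 1, 1, -1⟩, 13224),
  (⟨-2, 0, -2, -2, -3, 1, 3, 1⟩, 13253),
  (⟨-2, 0, -2, -2, -1, -1, -5, 1⟩, 7996),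
  (⟨-2, 0, -2, -2, -1, -1, -3, -1⟩, 14290),
  (⟨-2, 0, -2, -2, -1, -1, -1, 1⟩, 13396),
  (⟨-2, 0, -2, -2, -1, -1, 1, -1⟩, 6617),
  (⟨-2, 0, -2, -2, -1, -1, 3, 1⟩, 8147),
  (⟨-2, 0, -2, -2, -1, -1, 5, -1⟩, 6565),
  (⟨-2, 0, -2, -2, 1, 1, -5, 1⟩, 6690),
  (⟨-2, 0, -2, -2, 1, 1, -3, -1⟩, 8278),
  (⟨-2, 0, -2, -2, 1, 1, -1, 1⟩, 6744),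
  (⟨-2, 0, -2, -2, 1, 1, 1, -1⟩, 13269),
  (⟨-2, 0, -2, -2, 1, 1, 3, 1⟩, 14417),
  (⟨-2, 0, -2, -2, 1, 1, 5, -1⟩, 8375),
  (⟨-2, 0, -2, -2, 3, -1, -3, -1⟩, 13376),
  (⟨-2, 0, -2, -2, 3, -1, -1, 1⟩, 13355),
  (⟨-2, 0, -2, -2, 3, -1, 1, -1⟩, 6842),
  (⟨-2, 0, -2, -2, 3, -1, 3, 1⟩, 13365),
  (⟨-2, 0, -2, -2, 5, 1, -1, 1⟩, 6661),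
  (⟨-2, 0, -2, -2, 5, 1, 1, -1⟩, 6793),
  (⟨-2, 0, -2, 0, -6, 0, -2, 0⟩, 12712),
  (⟨-2, 0, -2, 0, -6, 0, 0, -2⟩, 10154),
  (⟨-2, 0, -2, 0, -6, 0, 0, 2⟩, 6461),
  (⟨-2, 0, -2, 0, -6, 0, 2, 0⟩, 7467),
  (⟨-2, 0, -2, 0, -4, -2, -2, 0⟩, 12759),
  (⟨-2, 0, -2, 0, -4, -2, 0, -2⟩, 13829),
  (⟨-2, 0, -2, 0, -4, -2, 0, 2⟩, 13697),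
  (⟨-2, 0, -2, 0, -4, -2, 2, 0⟩, 13905),
  (⟨-2, 0, -2, 0, -4, 2, -2, 0⟩, 11745),
  (⟨-2, 0, -2, 0, -4, 2, 0, -2⟩, 5908),
  (⟨-2, 0, -2, 0, -4, 2, 0, 2⟩, 6040),
  (⟨-2, 0, -2, 0, -4, 2, 2, 0⟩, 13284),
  (⟨-2, 0, -2, 0, -2, 0, -6, 0⟩, 7597),
  (⟨-2, 0, -2, 0, -2, 0, -4, -2⟩, 5975),
  (⟨-2, 0, -2, 0, -2, 0, -4, 2⟩, 13788),
  (⟨-2, 0, -2, 0, -2, 0, -2, 0⟩, 12780),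
  (⟨-2, 0, -2, 0, -2, 0, 0, -2⟩, 5995),
  (⟨-2, 0, -2, 0, -2, 0, 0, 2⟩, 13799),
  (⟨-2, 0, -2, 0, -2, 0, 2, 0⟩, 12908),
  (⟨-2, 0, -2, 0, -2, 0, 4, -2⟩, 6628),
  (⟨-2, 0, -2, 0, -2, 0, 4, 2⟩, 10323),
  (⟨-2, 0, -2, 0, -2, 0, 6, 0⟩, 12845),
  (⟨-2, 0, -2, 0, 0, -2, -6, 0⟩, 11943),
  (⟨-2, 0, -2, 0, 0, -2, -4, -2⟩, 6150),
  (⟨-2, 0, -2, 0, 0, -2, -4, 2⟩, 13715),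
  (⟨-2, 0, -2, 0, 0, -2, -2, 0⟩, 6249),
  (⟨-2, 0, -2, 0, 0, -2, 0, -2⟩, 13881),
  (⟨-2, 0, -2, 0, 0, -2, 0, 2⟩, 13747),
  (⟨-2, 0, -2, 0, 0, -2, 2, 0⟩, 13927),
  (⟨-2, 0, -2, 0, 0, -2, 4, -2⟩, 13838),
  (⟨-2, 0, -2, 0, 0, -2, 4, 2⟩, 6284),
  (⟨-2, 0, -2, 0, 0, -2, 6, 0⟩, 7090),
  (⟨-2, 0, -2, 0, 0, 2, -6, 0⟩, 7217),
  (⟨-2, 0, -2, 0, 0, 2, -4, -2⟩, 5899),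
  (⟨-2, 0, -2, 0, 0, 2, -4, 2⟩, 13965),
  (⟨-2, 0, -2, 0, 0, 2, -2, 0⟩, 14055),
  (⟨-2, 0, -2, 0, 0, 2, 0, -2⟩, 14128),
  (⟨-2, 0, -2, 0, 0, 2, 0, 2⟩, 14010),
  (⟨-2, 0, -2, 0, 0, 2, 2, 0⟩, 6122),
  (⟨-2, 0, -2, 0, 0, 2, 4, -2⟩, 14098),
  (⟨-2, 0, -2, 0, 0, 2, 4, 2⟩, 6023),
  (⟨-2, 0, -2, 0, 0, 2, 6, 0⟩, 11820),
  (⟨-2, 0, -2, 0, 2, 0, -6, 0⟩, 12966),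
  (⟨-2, 0, -2, 0, 2, 0, -4, -2⟩, 10454),
  (⟨-2, 0, -2, 0, 2, 0, -4, 2⟩, 13028),
  (⟨-2, 0, -2, 0, 2, 0, -2, 0⟩, 13036),
  (⟨-2, 0, -2, 0, 2, 0, 0, -2⟩, 14183),
  (⟨-2, 0, -2, 0, 2, 0, 0, 2⟩, 6376),
  (⟨-2, 0, -2, 0, 2, 0, 2, 0⟩, 13164),
  (⟨-2, 0, -2, 0, 2, 0, 4, -2⟩, 14173),
  (⟨-2, 0, -2, 0, 2, 0, 4, 2⟩, 13655),
  (⟨-2, 0, -2, 0, 2, 0, 6, 0⟩, 7718),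
  (⟨-2, 0, -2, 0, 4, -2, -2, 0⟩, 6244),
  (⟨-2, 0, -2, 0, 4, -2, 0, -2⟩, 6167),
  (⟨-2, 0, -2, 0, 4, -2, 0, 2⟩, 6289),
  (⟨-2, 0, -2, 0, 4, -2, 2, 0⟩, 12126),
  (⟨-2, 0, -2, 0, 4, 2, -2, 0⟩, 14034),
  (⟨-2, 0, -2, 0, 4, 2, 0, -2⟩, 14082),
  (⟨-2, 0, -2, 0, 4, 2, 0, 2⟩, 13960),
  (⟨-2, 0, -2, 0, 4, 2, 2, 0⟩, 7383),
  (⟨-2, 0, -2, 0, 6, 0, -2, 0⟩, 7848),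
  (⟨-2, 0, -2, 0, 6, 0, 0, -2⟩, 6838),
  (⟨-2, 0, -2, 0, 6, 0, 0, 2⟩, 10537),
  (⟨-2, 0, -2, 0, 6, 0, 2, 0⟩, 13099),
  (⟨-2, 0, -2, 2, -5, -1, -1, 1⟩, 6945),
  (⟨-2, 0, -2, 2, -5, -1, 1, -1⟩, 8623),
  (⟨-2, 0, -2, 2, -3, 1, -3, -1⟩, 13503),
  (⟨-2, 0, -2, 2, -3, 1, -1, 1⟩, 8545),
  (⟨-2, 0, -2, 2, -3, 1, 1, -1⟩, 14556),
  (⟨-2, 0, -2, 2, -3, 1, 3, 1⟩, 13627),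
  (⟨-2, 0, -2, 2, -1, -1, -5, 1⟩, 6930),
  (⟨-2, 0, -2, 2, -1, -1, -3, -1⟩, 13478),
  (⟨-2, 0, -2, 2, -1, -1, -1, 1⟩, 7011),
  (⟨-2, 0, -2, 2, -1, -1, 1, -1⟩, 13535),
  (⟨-2, 0, -2, 2, -1, -1, 3, 1⟩, 7088),
  (⟨-2, 0, -2, 2, -1, -1, 5, -1⟩, 7062),
  (⟨-2, 0, -2, 2, 1, 1, -5, 1⟩, 7189),
  (⟨-2, 0, -2, 2, 1, 1, -3, -1⟩, 7219),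
  (⟨-2, 0, -2, 2, 1, 1, -1, 1⟩, 13664),
  (⟨-2, 0, -2, 2, 1, 1, 1, -1⟩, 7394),
  (⟨-2, 0, -2, 2, 1, 1, 3, 1⟩, 13613),
  (⟨-2, 0, -2, 2, 1, 1, 5, -1⟩, 7315),
  (⟨-2, 0, -2, 2, 3, -1, -3, -1⟩, 13496),
  (⟨-2, 0, -2, 2, 3, -1, -1, 1⟩, 14685),
  (⟨-2, 0, -2, 2, 3, -1, 1, -1⟩, 8926),
  (⟨-2, 0, -2, 2, 3, -1, 3, 1⟩, 13638),
  (⟨-2, 0, -2, 2, 5, 1, -1, 1⟩, 8756),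
  (⟨-2, 0, -2, 2, 5, 1, 1, -1⟩, 7326),
  (⟨-2, 0, -1, -3, 0, 0, -3, 1⟩, 6711),
  (⟨-2, 0, -1, -3, 0, 0, -1, -1⟩, 14261),
  (⟨-2, 0, -1, -3, 0, 0, 1, 1⟩, 14382),
  (⟨-2, 0, -1, -3, 0, 0, 3, -1⟩, 6588),
  (⟨-2, 0, -1, -1, -7, -1, 0, 0⟩, 7431),
  (⟨-2, 0, -1, -1, -5, 1, -4, 0⟩, 12735),
  (⟨-2, 0, -1, -1, -5, 1, -2, -2⟩, 5940),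
  (⟨-2, 0, -1, -1, -5, 1, -2, 2⟩, 6416),
  (⟨-2, 0, -1, -1, -5, 1, 0, 0⟩, 13286),
  (⟨-2, 0, -1, -1, -5, 1, 2, -2⟩, 6551),
  (⟨-2, 0, -1, -1, -5, 1, 2, 2⟩, 6437),
  (⟨-2, 0, -1, -1, -5, 1, 4, 0⟩, 12873),
  (⟨-2, 0, -1, -1, -3, -1, -4, 0⟩, 8025),
  (⟨-2, 0, -1, -1, -3, -1, -2, -2⟩, 14289),
  (⟨-2, 0, -1, -1, -3, -1, -2, 2⟩, 13734),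
  (⟨-2, 0, -1, -1, -3, -1, 0, 0⟩, 12269),
  (⟨-2, 0, -1, -1, -3, -1, 2, -2⟩, 6586),
  (⟨-2, 0, -1, -1, -3, -1, 2, 2⟩, 13777),
  (⟨-2, 0, -1, -1, -3, -1, 4, 0⟩, 8154),
  (⟨-2, 0, -1, -1, -3, 3, 0, 0⟩, 13201),
  (⟨-2, 0, -1, -1, -1, -3, 0, 0⟩, 13379),
  (⟨-2, 0, -1, -1, -1, 1, -4, 0⟩, 8299),
  (⟨-2, 0, -1, -1, -1, 1, -2, -2⟩, 14298),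
  (⟨-2, 0, -1, -1, -1, 1, -2, 2⟩, 14054),
  (⟨-2, 0, -1, -1, -1, 1, 0, 0⟩, 13292),
  (⟨-2, 0, -1, -1, -1, 1, 2, -2⟩, 14179),
  (⟨-2, 0, -1, -1, -1, 1, 2, 2⟩, 14420),
  (⟨-2, 0, -1, -1, -1, 1, 4, 0⟩, 11883),
  (⟨-2, 0, -1, -1, 1, -1, -4, 0⟩, 12008),
  (⟨-2, 0, -1, -1, 1, -1, -2, -2⟩, 14293),
  (⟨-2, 0, -1, -1, 1, -1, -2, 2⟩, 13794),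
  (⟨-2, 0, -1, -1, 1, -1, 0, 0⟩, 13420),
  (⟨-2, 0, -1, -1, 1, -1, 2, -2⟩, 6886),
  (⟨-2, 0, -1, -1, 1, -1, 2, 2⟩, 6362),
  (⟨-2, 0, -1, -1, 1, -1, 4, 0⟩, 8168),
  (⟨-2, 0, -1, -1, 1, 3, 0, 0⟩, 13252),
  (⟨-2, 0, -1, -1, 3, -3, 0, 0⟩, 13332),
  (⟨-2, 0, -1, -1, 3, 1, -4, 0⟩, 13018),
  (⟨-2, 0, -1, -1, 3, 1, -2, -2⟩, 14162),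
  (⟨-2, 0, -1, -1, 3, 1, -2, 2⟩, 6713),
  (⟨-2, 0, -1, -1, 3, 1, 0, 0⟩, 8429),
  (⟨-2, 0, -1, -1, 3, 1, 2, -2⟩, 14125),
  (⟨-2, 0, -1, -1, 3, 1, 2, 2⟩, 14418),
  (⟨-2, 0, -1, -1, 3, 1, 4, 0⟩, 8408),
  (⟨-2, 0, -1, -1, 5, -1, -4, 0⟩, 13000),
  (⟨-2, 0, -1, -1, 5, -1, -2, -2⟩, 6818),
  (⟨-2, 0, -1, -1, 5, -1, -2, 2⟩, 6680),
  (⟨-2, 0, -1, -1, 5, -1, 0, 0⟩, 7910),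
  (⟨-2, 0, -1, -1, 5, -1, 2, -2⟩, 6799),
  (⟨-2, 0, -1, -1, 5, -1, 2, 2⟩, 6319),
  (⟨-2, 0, -1, -1, 5, -1, 4, 0⟩, 13126),
  (⟨-2, 0, -1, -1, 7, 1, 0, 0⟩, 7814),
  (⟨-2, 0, -1, 1, -4, 0, -5, -1⟩, 12746),
  (⟨-2, 0, -1, 1, -4, 0, -3, 1⟩, 12774),
  (⟨-2, 0, -1, 1, -4, 0, -1, -1⟩, 10217),
  (⟨-2, 0, -1, 1, -4, 0, 1, 1⟩, 8554),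
  (⟨-2, 0, -1, 1, -4, 0, 3, -1⟩, 8674),
  (⟨-2, 0, -1, 1, -4, 0, 5, 1⟩, 12869),
  (⟨-2, 0, -1, 1, -2, -2, -5, -1⟩, 6924),
  (⟨-2, 0, -1, 1, -2, -2, -3, 1⟩, 6960),
  (⟨-2, 0, -1, 1, -2, -2, -1, -1⟩, 13912),
  (⟨-2, 0, -1, 1, -2, -2, 1, 1⟩, 7130),
  (⟨-2, 0, -1, 1, -2, -2, 3, -1⟩, 13864),
  (⟨-2, 0, -1, 1, -2, -2, 5, 1⟩, 7043),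
  (⟨-2, 0, -1, 1, -2, 2, -5, -1⟩, 7201),
  (⟨-2, 0, -1, 1, -2, 2, -3, 1⟩, 14044),
  (⟨-2, 0, -1, 1, -2, 2, -1, -1⟩, 14560),
  (⟨-2, 0, -1, 1, -2, 2, 1, 1⟩, 14566),
  (⟨-2, 0, -1, 1, -2, 2, 3, -1⟩, 14557),
  (⟨-2, 0, -1, 1, -2, 2, 5, 1⟩, 6076),
  (⟨-2, 0, -1, 1, 0, 0, -7, 1⟩, 7572),
  (⟨-2, 0, -1, 1, 0, 0, -5, -1⟩, 13530),
  (⟨-2, 0, -1, 1, 0, 0, -3, -3⟩, 13447),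
  (⟨-2, 0, -1, 1, 0, 0, -3, 1⟩, 10734),
  (⟨-2, 0, -1, 1, 0, 0, -1, -1⟩, 13548),
  (⟨-2, 0, -1, 1, 0, 0, -1, 3⟩, 13630),
  (⟨-2, 0, -1, 1, 0, 0, 1, -3⟩, 13511),
  (⟨-2, 0, -1, 1, 0, 0, 1, 1⟩, 13676),
  (⟨-2, 0, -1, 1, 0, 0, 3, -1⟩, 8686),
  (⟨-2, 0, -1, 1, 0, 0, 3, 3⟩, 13574),
  (⟨-2, 0, -1, 1, 0, 0, 5, 1⟩, 7770),
  (⟨-2, 0, -1, 1, 0, 0, 7, -1⟩, 7697),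
  (⟨-2, 0, -1, 1, 2, -2, -5, -1⟩, 6199),
  (⟨-2, 0, -1, 1, 2, -2, -3, 1⟩, 14684),
  (⟨-2, 0, -1, 1, 2, -2, -1, -1⟩, 6246),
  (⟨-2, 0, -1, 1, 2, -2, 1, 1⟩, 14687),
  (⟨-2, 0, -1, 1, 2, -2, 3, -1⟩, 13917),
  (⟨-2, 0, -1, 1, 2, -2, 5, 1⟩, 7070),
  (⟨-2, 0, -1, 1, 2, 2, -5, -1⟩, 7172),
  (⟨-2, 0, -1, 1, 2, 2, -3, 1⟩, 13995),
  (⟨-2, 0, -1, 1, 2, 2, -1, -1⟩, 14170),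
  (⟨-2, 0, -1, 1, 2, 2, 1, 1⟩, 14041),
  (⟨-2, 0, -1, 1, 2, 2, 3, -1⟩, 7347),
  (⟨-2, 0, -1, 1, 2, 2, 5, 1⟩, 7307),
  (⟨-2, 0, -1, 1, 4, 0, -5, -1⟩, 12992),
  (⟨-2, 0, -1, 1, 4, 0, -3, 1⟩, 8803),
  (⟨-2, 0, -1, 1, 4, 0, -1, -1⟩, 8937),
  (⟨-2, 0, -1, 1, 4, 0, 1, 1⟩, 10602),
  (⟨-2, 0, -1, 1, 4, 0, 3, -1⟩, 8934),
  (⟨-2, 0, -1, 1, 4, 0, 5, 1⟩, 13131),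
  (⟨-2, 0, -1, 3, -3, -1, 0, 0⟩, 6964),
  (⟨-2, 0, -1, 3, -1, 1, 0, 0⟩, 14520),
  (⟨-2, 0, -1, 3, 1, -1, 0, 0⟩, 14651),
  (⟨-2, 0, -1, 3, 3, 1, 0, 0⟩, 7343),
  (⟨-2, 0, 0, -2, -6, 0, -2, 0⟩, 12201),
  (⟨-2, 0, 0, -2, -6, 0, 2, 0⟩, 12186),
  (⟨-2, 0, 0, -2, -4, -2, -2, 0⟩, 7938),
  (⟨-2, 0, 0, -2, -4, -2, 2, 0⟩, 8073),
  (⟨-2, 0, 0, -2, -4, 2, -2, 0⟩, 13205),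
  (⟨-2, 0, 0, -2, -4, 2, 2, 0⟩, 13202),
  (⟨-2, 0, 0, -2, -2, 0, -6, 0⟩, 7594),
  (⟨-2, 0, 0, -2, -2, 0, -4, -2⟩, 14211),
  (⟨-2, 0, 0, -2, -2, 0, -4, 2⟩, 6424),
  (⟨-2, 0, 0, -2, -2, 0, -2, 0⟩, 12266),
  (⟨-2, 0, 0, -2, -2, 0, 0, -2⟩, 14256),
  (⟨-2, 0, 0, -2, -2, 0, 0, 2⟩, 14401),
  (⟨-2, 0, 0, -2, -2, 0, 2, 0⟩, 12263),
  (⟨-2, 0, 0, -2, -2, 0, 4, -2⟩, 6544),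
  (⟨-2, 0, 0, -2, -2, 0, 4, 2⟩, 14342),
  (⟨-2, 0, 0, -2, -2, 0, 6, 0⟩, 8111),
  (⟨-2, 0, 0, -2, 0, -2, -2, 0⟩, 13377),
  (⟨-2, 0, 0, -2, 0, -2, 0, -2⟩, 14241),
  (⟨-2, 0, 0, -2, 0, -2, 0, 2⟩, 13356),
  (⟨-2, 0, 0, -2, 0, -2, 2, 0⟩, 8121),
  (⟨-2, 0, 0, -2, 0, 2, -2, 0⟩, 8250),
  (⟨-2, 0, 0, -2, 0, 2, 0, -2⟩, 13223),
  (⟨-2, 0, 0, -2, 0, 2, 0, 2⟩, 14366),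
  (⟨-2, 0, 0, -2, 0, 2, 2, 0⟩, 8385),
  (⟨-2, 0, 0, -2, 2, 0, -6, 0⟩, 8244),
  (⟨-2, 0, 0, -2, 2, 0, -4, -2⟩, 14215),
  (⟨-2, 0, 0, -2, 2, 0, -4, 2⟩, 6671),
  (⟨-2, 0, 0, -2, 2, 0, -2, 0⟩, 12391),
  (⟨-2, 0, 0, -2, 2, 0, 0, -2⟩, 6849),
  (⟨-2, 0, 0, -2, 2, 0, 0, 2⟩, 14387),
  (⟨-2, 0, 0, -2, 2, 0, 2, 0⟩, 12393),
  (⟨-2, 0, 0, -2, 2, 0, 4, -2⟩, 6807),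
  (⟨-2, 0, 0, -2, 2, 0, 4, 2⟩, 14340),
  (⟨-2, 0, 0, -2, 2, 0, 6, 0⟩, 7721),
  (⟨-2, 0, 0, -2, 4, -2, -2, 0⟩, 13331),
  (⟨-2, 0, 0, -2, 4, -2, 2, 0⟩, 13334),
  (⟨-2, 0, 0, -2, 4, 2, -2, 0⟩, 8202),
  (⟨-2, 0, 0, -2, 4, 2, 2, 0⟩, 8321),
  (⟨-2, 0, 0, -2, 6, 0, -2, 0⟩, 12317),
  (⟨-2, 0, 0, -2, 6, 0, 2, 0⟩, 12330),
  (⟨-2, 0, 0, 0, -7, 1, -1, 1⟩, 7446),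
  (⟨-2, 0, 0, 0, -7, 1, 1, -1⟩, 7440),
  (⟨-2, 0, 0, 0, -5, -1, -5, 1⟩, 14770),
  (⟨-2, 0, 0, 0, -5, -1, -3, -1⟩, 14803),
  (⟨-2, 0, 0, 0, -5, -1, -1, 1⟩, 13784),
  (⟨-2, 0, 0, 0, -5, -1, 1, -1⟩, 7513),
  (⟨-2, 0, 0, 0, -5, -1, 3, 1⟩, 7506),
  (⟨-2, 0, 0, 0, -5, -1, 5, -1⟩, 14902),
  (⟨-2, 0, 0, 0, -3, -3, -1, 1⟩, 13707),
  (⟨-2, 0, 0, 0, -3, -3, 1, -1⟩, 13825),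
  (⟨-2, 0, 0, 0, -3, 1, -5, 1⟩, 7645),
  (⟨-2, 0, 0, 0, -3, 1, -3, -1⟩, 11754),
  (⟨-2, 0, 0, 0, -3, 1, -1, -3⟩, 8988),
  (⟨-2, 0, 0, 0, -3, 1, -1, 1⟩, 14830),
  (⟨-2, 0, 0, 0, -3, 1, 1, -1⟩, 9070),
  (⟨-2, 0, 0, 0, -3, 1, 1, 3⟩, 10287),
  (⟨-2, 0, 0, 0, -3, 1, 3, 1⟩, 10344),
  (⟨-2, 0, 0, 0, -3, 1, 5, -1⟩, 14942),
  (⟨-2, 0, 0, 0, -1, -1, -7, -1⟩, 7556),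
  (⟨-2, 0, 0, 0, -1, -1, -5, 1⟩, 7651),
  (⟨-2, 0, 0, 0, -1, -1, -3, -1⟩, 14317),
  (⟨-2, 0, 0, 0, -1, -1, -3, 3⟩, 13709),
  (⟨-2, 0, 0, 0, -1, -1, -1, -3⟩, 13902),
  (⟨-2, 0, 0, 0, -1, -1, -1, 1⟩, 13804),
  (⟨-2, 0, 0, 0, -1, -1, 1, -1⟩, 13932),
  (⟨-2, 0, 0, 0, -1, -1, 1, 3⟩, 13728),
  (⟨-2, 0, 0, 0, -1, -1, 3, -3⟩, 13848),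
  (⟨-2, 0, 0, 0, -1, -1, 3, 1⟩, 14957),
  (⟨-2, 0, 0, 0, -1, -1, 5, -1⟩, 13923),
  (⟨-2, 0, 0, 0, -1, -1, 7, 1⟩, 7689),
  (⟨-2, 0, 0, 0, -1, 3, -3, -1⟩, 11708),
  (⟨-2, 0, 0, 0, -1, 3, -1, 1⟩, 13987),
  (⟨-2, 0, 0, 0, -1, 3, 1, -1⟩, 14156),
  (⟨-2, 0, 0, 0, -1, 3, 3, 1⟩, 9114),
  (⟨-2, 0, 0, 0, 1, -3, -3, -1⟩, 9245),
  (⟨-2, 0, 0, 0, 1, -3, -1, 1⟩, 13773),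
  (⟨-2, 0, 0, 0, 1, -3, 1, -1⟩, 13860),
  (⟨-2, 0, 0, 0, 1, -3, 3, 1⟩, 12087),
  (⟨-2, 0, 0, 0, 1, 1, -7, -1⟩, 7562),
  (⟨-2, 0, 0, 0, 1, 1, -5, 1⟩, 14050),
  (⟨-2, 0, 0, 0, 1, 1, -3, -1⟩, 8301),
  (⟨-2, 0, 0, 0, 1, 1, -3, 3⟩, 13975),
  (⟨-2, 0, 0, 0, 1, 1, -1, -3⟩, 14111),
  (⟨-2, 0, 0, 0, 1, 1, -1, 1⟩, 14060),
  (⟨-2, 0, 0, 0, 1, 1, 1, -1⟩, 14188),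
  (⟨-2, 0, 0, 0, 1, 1, 1, 3⟩, 14031),
  (⟨-2, 0, 0, 0, 1, 1, 3, -3⟩, 14094),
  (⟨-2, 0, 0, 0, 1, 1, 3, 1⟩, 9197),
  (⟨-2, 0, 0, 0, 1, 1, 5, -1⟩, 7778),
  (⟨-2, 0, 0, 0, 1, 1, 7, 1⟩, 7683),
  (⟨-2, 0, 0, 0, 3, -1, -5, 1⟩, 15073),
  (⟨-2, 0, 0, 0, 3, -1, -3, -1⟩, 10475),
  (⟨-2, 0, 0, 0, 3, -1, -1, -3⟩, 10420),
  (⟨-2, 0, 0, 0, 3, -1, -1, 1⟩, 14702),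
  (⟨-2, 0, 0, 0, 3, -1, 1, -1⟩, 8942),
  (⟨-2, 0, 0, 0, 3, -1, 1, 3⟩, 9371),
  (⟨-2, 0, 0, 0, 3, -1, 3, 1⟩, 12137),
  (⟨-2, 0, 0, 0, 3, -1, 5, -1⟩, 7772),
  (⟨-2, 0, 0, 0, 3, 3, -1, 1⟩, 13954),
  (⟨-2, 0, 0, 0, 3, 3, 1, -1⟩, 14092),
  (⟨-2, 0, 0, 0, 5, 1, -5, 1⟩, 15037),
  (⟨-2, 0, 0, 0, 5, 1, -3, -1⟩, 7889),
  (⟨-2, 0, 0, 0, 5, 1, -1, 1⟩, 7896),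
  (⟨-2, 0, 0, 0, 5, 1, 1, -1⟩, 14169),
  (⟨-2, 0, 0, 0, 5, 1, 3, 1⟩, 15190),
  (⟨-2, 0, 0, 0, 5, 1, 5, -1⟩, 15153),
  (⟨-2, 0, 0, 0, 7, -1, -1, 1⟩, 7823),
  (⟨-2, 0, 0, 0, 7, -1, 1, -1⟩, 7829),
  (⟨-2, 0, 0, 2, -6, 0, -2, 0⟩, 8508),
  (⟨-2, 0, 0, 2, -6, 0, 2, 0⟩, 7468),
  (⟨-2, 0, 0, 2, -4, -2, -2, 0⟩, 6916),
  (⟨-2, 0, 0, 2, -4, -2, 2, 0⟩, 7052),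
  (⟨-2, 0, 0, 2, -4, 2, -2, 0⟩, 14481),
  (⟨-2, 0, 0, 2, -4, 2, 2, 0⟩, 14479),
  (⟨-2, 0, 0, 2, -2, 0, -6, 0⟩, 10652),
  (⟨-2, 0, 0, 2, -2, 0, -4, -2⟩, 13445),
  (⟨-2, 0, 0, 2, -2, 0, -4, 2⟩, 8470),
  (⟨-2, 0, 0, 2, -2, 0, -2, 0⟩, 10727),
  (⟨-2, 0, 0, 2, -2, 0, 0, -2⟩, 13506),
  (⟨-2, 0, 0, 2, -2, 0, 0, 2⟩, 8499),
  (⟨-2, 0, 0, 2, -2, 0, 2, 0⟩, 10856),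
  (⟨-2, 0, 0, 2, -2, 0, 4, -2⟩, 8589),
  (⟨-2, 0, 0, 2, -2, 0, 4, 2⟩, 13578),
  (⟨-2, 0, 0, 2, -2, 0, 6, 0⟩, 10791),
  (⟨-2, 0, 0, 2, 0, -2, -2, 0⟩, 14649),
  (⟨-2, 0, 0, 2, 0, -2, 0, -2⟩, 13481),
  (⟨-2, 0, 0, 2, 0, -2, 0, 2⟩, 14626),
  (⟨-2, 0, 0, 2, 0, -2, 2, 0⟩, 14658),
  (⟨-2, 0, 0, 2, 0, 2, -2, 0⟩, 7234),
  (⟨-2, 0, 0, 2, 0, 2, 0, -2⟩, 14501),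
  (⟨-2, 0, 0, 2, 0, 2, 0, 2⟩, 13610),
  (⟨-2, 0, 0, 2, 0, 2, 2, 0⟩, 14522),
  (⟨-2, 0, 0, 2, 2, 0, -6, 0⟩, 10668),
  (⟨-2, 0, 0, 2, 2, 0, -4, -2⟩, 13449),
  (⟨-2, 0, 0, 2, 2, 0, -4, 2⟩, 8718),
  (⟨-2, 0, 0, 2, 2, 0, -2, 0⟩, 10731),
  (⟨-2, 0, 0, 2, 2, 0, 0, -2⟩, 8880),
  (⟨-2, 0, 0, 2, 2, 0, 0, 2⟩, 8770),
  (⟨-2, 0, 0, 2, 2, 0, 2, 0⟩, 10855),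
  (⟨-2, 0, 0, 2, 2, 0, 4, -2⟩, 8853),
  (⟨-2, 0, 0, 2, 2, 0, 4, 2⟩, 13576),
  (⟨-2, 0, 0, 2, 2, 0, 6, 0⟩, 10779),
  (⟨-2, 0, 0, 2, 4, -2, -2, 0⟩, 14608),
  (⟨-2, 0, 0, 2, 4, -2, 2, 0⟩, 14612),
  (⟨-2, 0, 0, 2, 4, 2, -2, 0⟩, 7179),
  (⟨-2, 0, 0, 2, 4, 2, 2, 0⟩, 7299),
  (⟨-2, 0, 0, 2, 6, 0, -2, 0⟩, 7847),
  (⟨-2, 0, 0, 2, 6, 0, 2, 0⟩, 8887),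
  (⟨-2, 0, 1, -3, -3, -1, 0, 0⟩, 12187),
  (⟨-2, 0, 1, -3, -1, 1, 0, 0⟩, 13257),
  (⟨-2, 0, 1, -3, 1, -1, 0, 0⟩, 13384),
  (⟨-2, 0, 1, -3, 3, 1, 0, 0⟩, 12316),
  (⟨-2, 0, 1, -1, -4, 0, -5, -1⟩, 14788),
  (⟨-2, 0, 1, -1, -4, 0, -3, 1⟩, 14818),
  (⟨-2, 0, 1, -1, -4, 0, -1, -1⟩, 14824),
  (⟨-2, 0, 1, -1, -4, 0, 1, 1⟩, 12267),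
  (⟨-2, 0, 1, -1, -4, 0, 3, -1⟩, 14949),
  (⟨-2, 0, 1, -1, -4, 0, 5, 1⟩, 14894),
  (⟨-2, 0, 1, -1, -2, -2, -5, -1⟩, 7946),
  (⟨-2, 0, 1, -1, -2, -2, -3, 1⟩, 7981),
  (⟨-2, 0, 1, -1, -2, -2, -1, -1⟩, 8027),
  (⟨-2, 0, 1, -1, -2, -2, 1, 1⟩, 8153),
  (⟨-2, 0, 1, -1, -2, -2, 3, -1⟩, 13875),
  (⟨-2, 0, 1, -1, -2, -2, 5, 1⟩, 8066),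
  (⟨-2, 0, 1, -1, -2, 2, -5, -1⟩, 8218),
  (⟨-2, 0, 1, -1, -2, 2, -3, 1⟩, 14046),
  (⟨-2, 0, 1, -1, -2, 2, -1, -1⟩, 13285),
  (⟨-2, 0, 1, -1, -2, 2, 1, 1⟩, 9183),
  (⟨-2, 0, 1, -1, -2, 2, 3, -1⟩, 11873),
  (⟨-2, 0, 1, -1, -2, 2, 5, 1⟩, 9122),
  (⟨-2, 0, 1, -1, 0, 0, -7, 1⟩, 7570),
  (⟨-2, 0, 1, -1, 0, 0, -5, -1⟩, 7643),
  (⟨-2, 0, 1, -1, 0, 0, -3, -3⟩, 14213),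
  (⟨-2, 0, 1, -1, 0, 0, -3, 1⟩, 15086),
  (⟨-2, 0, 1, -1, 0, 0, -1, -1⟩, 14316),
  (⟨-2, 0, 1, -1, 0, 0, -1, 3⟩, 14406),
  (⟨-2, 0, 1, -1, 0, 0, 1, -3⟩, 14271),
  (⟨-2, 0, 1, -1, 0, 0, 1, 1⟩, 14444),
  (⟨-2, 0, 1, -1, 0, 0, 3, -1⟩, 12654),
  (⟨-2, 0, 1, -1, 0, 0, 3, 3⟩, 14344),
  (⟨-2, 0, 1, -1, 0, 0, 5, 1⟩, 14427),
  (⟨-2, 0, 1, -1, 0, 0, 7, -1⟩, 7699),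
  (⟨-2, 0, 1, -1, 2, -2, -5, -1⟩, 9253),
  (⟨-2, 0, 1, -1, 2, -2, -3, 1⟩, 11998),
  (⟨-2, 0, 1, -1, 2, -2, -1, -1⟩, 9312),
  (⟨-2, 0, 1, -1, 2, -2, 1, 1⟩, 9445),
  (⟨-2, 0, 1, -1, 2, -2, 3, -1⟩, 13921),
  (⟨-2, 0, 1, -1, 2, -2, 5, 1⟩, 8093),
  (⟨-2, 0, 1, -1, 2, 2, -5, -1⟩, 8193),
  (⟨-2, 0, 1, -1, 2, 2, -3, 1⟩, 14000),
  (⟨-2, 0, 1, -1, 2, 2, -1, -1⟩, 8280),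
  (⟨-2, 0, 1, -1, 2, 2, 1, 1⟩, 14043),
  (⟨-2, 0, 1, -1, 2, 2, 3, -1⟩, 8358),
  (⟨-2, 0, 1, -1, 2, 2, 5, 1⟩, 8329),
  (⟨-2, 0, 1, -1, 4, 0, -5, -1⟩, 15029),
  (⟨-2, 0, 1, -1, 4, 0, -3, 1⟩, 6757),
  (⟨-2, 0, 1, -1, 4, 0, -1, -1⟩, 12392),
  (⟨-2, 0, 1, -1, 4, 0, 1, 1⟩, 15211),
  (⟨-2, 0, 1, -1, 4, 0, 3, -1⟩, 15203),
  (⟨-2, 0, 1, -1, 4, 0, 5, 1⟩, 15171),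
  (⟨-2, 0, 1, 1, -7, -1, 0, 0⟩, 7432),
  (⟨-2, 0, 1, 1, -5, 1, -4, 0⟩, 14776),
  (⟨-2, 0, 1, 1, -5, 1, -2, -2⟩, 8990),
  (⟨-2, 0, 1, 1, -5, 1, -2, 2⟩, 8462),
  (⟨-2, 0, 1, 1, -5, 1, 0, 0⟩, 14565),
  (⟨-2, 0, 1, 1, -5, 1, 2, -2⟩, 8598),
  (⟨-2, 0, 1, 1, -5, 1, 2, 2⟩, 8475),
  (⟨-2, 0, 1, 1, -5, 1, 4, 0⟩, 14910),
  (⟨-2, 0, 1, 1, -3, -1, -4, 0⟩, 7003),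
  (⟨-2, 0, 1, 1, -3, -1, -2, -2⟩, 10198),
  (⟨-2, 0, 1, 1, -3, -1, -2, 2⟩, 13754),
  (⟨-2, 0, 1, 1, -3, -1, 0, 0⟩, 14829),
  (⟨-2, 0, 1, 1, -3, -1, 2, -2⟩, 8619),
  (⟨-2, 0, 1, 1, -3, -1, 2, 2⟩, 13782),
  (⟨-2, 0, 1, 1, -3, -1, 4, 0⟩, 14936),
  (⟨-2, 0, 1, 1, -3, 3, 0, 0⟩, 14482),
  (⟨-2, 0, 1, 1, -1, -3, 0, 0⟩, 14656),
  (⟨-2, 0, 1, 1, -1, 1, -4, 0⟩, 10729),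
  (⟨-2, 0, 1, 1, -1, 1, -2, -2⟩, 9044),
  (⟨-2, 0, 1, 1, -1, 1, -2, 2⟩, 8547),
  (⟨-2, 0, 1, 1, -1, 1, 0, 0⟩, 14572),
  (⟨-2, 0, 1, 1, -1, 1, 2, -2⟩, 14181),
  (⟨-2, 0, 1, 1, -1, 1, 2, 2⟩, 13659),
  (⟨-2, 0, 1, 1, -1, 1, 4, 0⟩, 14953),
  (⟨-2, 0, 1, 1, 1, -1, -4, 0⟩, 15082),
  (⟨-2, 0, 1, 1, 1, -1, -2, -2⟩, 9307),
  (⟨-2, 0, 1, 1, 1, -1, -2, 2⟩, 8805),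
  (⟨-2, 0, 1, 1, 1, -1, 0, 0⟩, 14700),
  (⟨-2, 0, 1, 1, 1, -1, 2, -2⟩, 8930),
  (⟨-2, 0, 1, 1, 1, -1, 2, 2⟩, 9429),
  (⟨-2, 0, 1, 1, 1, -1, 4, 0⟩, 10858),
  (⟨-2, 0, 1, 1, 1, 3, 0, 0⟩, 14533),
  (⟨-2, 0, 1, 1, 3, -3, 0, 0⟩, 14611),
  (⟨-2, 0, 1, 1, 3, 1, -4, 0⟩, 15065),
  (⟨-2, 0, 1, 1, 3, 1, -2, -2⟩, 14163)]

set_option maxRecDepth 1000000 in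
def xPairs2 : List (Z8 × Nat) := [
  (⟨-2, 0, 1, 1, 3, 1, -2, 2⟩, 8744),
  (⟨-2, 0, 1, 1, 3, 1, 0, 0⟩, 11117),
  (⟨-2, 0, 1, 1, 3, 1, 2, -2⟩, 14137),
  (⟨-2, 0, 1, 1, 3, 1, 2, 2⟩, 10579),
  (⟨-2, 0, 1, 1, 3, 1, 4, 0⟩, 15195),
  (⟨-2, 0, 1, 1, 5, -1, -4, 0⟩, 15047),
  (⟨-2, 0, 1, 1, 5, -1, -2, -2⟩, 8860),
  (⟨-2, 0, 1, 1, 5, -1, -2, 2⟩, 8725),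
  (⟨-2, 0, 1, 1, 5, -1, 0, 0⟩, 7909),
  (⟨-2, 0, 1, 1, 5, -1, 2, -2⟩, 8845),
  (⟨-2, 0, 1, 1, 5, -1, 2, 2⟩, 9377),
  (⟨-2, 0, 1, 1, 5, -1, 4, 0⟩, 15163),
  (⟨-2, 0, 1, 1, 7, 1, 0, 0⟩, 7813),
  (⟨-2, 0, 1, 3, 0, 0, -3, 1⟩, 10650),
  (⟨-2, 0, 1, 3, 0, 0, -1, -1⟩, 13514),
  (⟨-2, 0, 1, 3, 0, 0, 1, 1⟩, 13643),
  (⟨-2, 0, 1, 3, 0, 0, 3, -1⟩, 10781),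
  (⟨-2, 0, 2, -2, -5, -1, -1, 1⟩, 7964),
  (⟨-2, 0, 2, -2, -5, -1, 1, -1⟩, 12194),
  (⟨-2, 0, 2, -2, -3, 1, -3, -1⟩, 14280),
  (⟨-2, 0, 2, -2, -3, 1, -1, 1⟩, 12257),
  (⟨-2, 0, 2, -2, -3, 1, 1, -1⟩, 12252),
  (⟨-2, 0, 2, -2, -3, 1, 3, 1⟩, 14398),
  (⟨-2, 0, 2, -2, -1, -1, -5, 1⟩, 7952),
  (⟨-2, 0, 2, -2, -1, -1, -3, -1⟩, 14259),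
  (⟨-2, 0, 2, -2, -1, -1, -1, 1⟩, 8032),
  (⟨-2, 0, 2, -2, -1, -1, 1, -1⟩, 14307),
  (⟨-2, 0, 2, -2, -1, -1, 3, 1⟩, 8107),
  (⟨-2, 0, 2, -2, -1, -1, 5, -1⟩, 8081),
  (⟨-2, 0, 2, -2, 1, 1, -5, 1⟩, 8212),
  (⟨-2, 0, 2, -2, 1, 1, -3, -1⟩, 8232),
  (⟨-2, 0, 2, -2, 1, 1, -1, 1⟩, 14434),
  (⟨-2, 0, 2, -2, 1, 1, 1, -1⟩, 8415),
  (⟨-2, 0, 2, -2, 1, 1, 3, 1⟩, 14384),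
  (⟨-2, 0, 2, -2, 1, 1, 5, -1⟩, 8335),
  (⟨-2, 0, 2, -2, 3, -1, -3, -1⟩, 14279),
  (⟨-2, 0, 2, -2, 3, -1, -1, 1⟩, 12381),
  (⟨-2, 0, 2, -2, 3, -1, 1, -1⟩, 12382),
  (⟨-2, 0, 2, -2, 3, -1, 3, 1⟩, 14409),
  (⟨-2, 0, 2, -2, 5, 1, -1, 1⟩, 12325),
  (⟨-2, 0, 2, -2, 5, 1, 1, -1⟩, 8347),
  (⟨-2, 0, 2, 0, -6, 0, -2, 0⟩, 14758),
  (⟨-2, 0, 2, 0, -6, 0, 0, -2⟩, 10161),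
  (⟨-2, 0, 2, 0, -6, 0, 0, 2⟩, 8487),
  (⟨-2, 0, 2, 0, -6, 0, 2, 0⟩, 7469),
  (⟨-2, 0, 2, 0, -4, -2, -2, 0⟩, 8022),
  (⟨-2, 0, 2, 0, -4, -2, 0, -2⟩, 13835),
  (⟨-2, 0, 2, 0, -4, -2, 0, 2⟩, 13702),
  (⟨-2, 0, 2, 0, -4, -2, 2, 0⟩, 13911),
  (⟨-2, 0, 2, 0, -4, 2, -2, 0⟩, 14820),
  (⟨-2, 0, 2, 0, -4, 2, 0, -2⟩, 8973),
  (⟨-2, 0, 2, 0, -4, 2, 0, 2⟩, 9107),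
  (⟨-2, 0, 2, 0, -4, 2, 2, 0⟩, 9180),
  (⟨-2, 0, 2, 0, -2, 0, -6, 0⟩, 7592),
  (⟨-2, 0, 2, 0, -2, 0, -4, -2⟩, 9042),
  (⟨-2, 0, 2, 0, -2, 0, -4, 2⟩, 13796),
  (⟨-2, 0, 2, 0, -2, 0, -2, 0⟩, 14828),
  (⟨-2, 0, 2, 0, -2, 0, 0, -2⟩, 9063),
  (⟨-2, 0, 2, 0, -2, 0, 0, 2⟩, 13801),
  (⟨-2, 0, 2, 0, -2, 0, 2, 0⟩, 14956),
  (⟨-2, 0, 2, 0, -2, 0, 4, -2⟩, 8673),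
  (⟨-2, 0, 2, 0, -2, 0, 4, 2⟩, 14935),
  (⟨-2, 0, 2, 0, -2, 0, 6, 0⟩, 14888),
  (⟨-2, 0, 2, 0, 0, -2, -6, 0⟩, 11958),
  (⟨-2, 0, 2, 0, 0, -2, -4, -2⟩, 9218),
  (⟨-2, 0, 2, 0, 0, -2, -4, 2⟩, 13719),
  (⟨-2, 0, 2, 0, 0, -2, -2, 0⟩, 9319),
  (⟨-2, 0, 2, 0, 0, -2, 0, -2⟩, 9264),
  (⟨-2, 0, 2, 0, 0, -2, 0, 2⟩, 9401),
  (⟨-2, 0, 2, 0, 0, -2, 2, 0⟩, 13931),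
  (⟨-2, 0, 2, 0, 0, -2, 4, -2⟩, 13844),
  (⟨-2, 0, 2, 0, 0, -2, 4, 2⟩, 9349),
  (⟨-2, 0, 2, 0, 0, -2, 6, 0⟩, 8106),
  (⟨-2, 0, 2, 0, 0, 2, -6, 0⟩, 8233),
  (⟨-2, 0, 2, 0, 0, 2, -4, -2⟩, 8968),
  (⟨-2, 0, 2, 0, 0, 2, -4, 2⟩, 13969),
  (⟨-2, 0, 2, 0, 0, 2, -2, 0⟩, 14056),
  (⟨-2, 0, 2, 0, 0, 2, 0, -2⟩, 9018),
  (⟨-2, 0, 2, 0, 0, 2, 0, 2⟩, 9139),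
  (⟨-2, 0, 2, 0, 0, 2, 2, 0⟩, 9191),
  (⟨-2, 0, 2, 0, 0, 2, 4, -2⟩, 14104),
  (⟨-2, 0, 2, 0, 0, 2, 4, 2⟩, 9089),
  (⟨-2, 0, 2, 0, 0, 2, 6, 0⟩, 11837),
  (⟨-2, 0, 2, 0, 2, 0, -6, 0⟩, 15019),
  (⟨-2, 0, 2, 0, 2, 0, -4, -2⟩, 10455),
  (⟨-2, 0, 2, 0, 2, 0, -4, 2⟩, 8798),
  (⟨-2, 0, 2, 0, 2, 0, -2, 0⟩, 15084),
  (⟨-2, 0, 2, 0, 2, 0, 0, -2⟩, 14186),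
  (⟨-2, 0, 2, 0, 2, 0, 0, 2⟩, 9447),
  (⟨-2, 0, 2, 0, 2, 0, 2, 0⟩, 15212),
  (⟨-2, 0, 2, 0, 2, 0, 4, -2⟩, 12644),
  (⟨-2, 0, 2, 0, 2, 0, 4, 2⟩, 9425),
  (⟨-2, 0, 2, 0, 2, 0, 6, 0⟩, 7723),
  (⟨-2, 0, 2, 0, 4, -2, -2, 0⟩, 9309),
  (⟨-2, 0, 2, 0, 4, -2, 0, -2⟩, 9234),
  (⟨-2, 0, 2, 0, 4, -2, 0, 2⟩, 9358),
  (⟨-2, 0, 2, 0, 4, -2, 2, 0⟩, 12132),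
  (⟨-2, 0, 2, 0, 4, 2, -2, 0⟩, 11095),
  (⟨-2, 0, 2, 0, 4, 2, 0, -2⟩, 14087),
  (⟨-2, 0, 2, 0, 4, 2, 0, 2⟩, 13964),
  (⟨-2, 0, 2, 0, 4, 2, 2, 0⟩, 8403),
  (⟨-2, 0, 2, 0, 6, 0, -2, 0⟩, 7846),
  (⟨-2, 0, 2, 0, 6, 0, 0, -2⟩, 8876),
  (⟨-2, 0, 2, 0, 6, 0, 0, 2⟩, 10546),
  (⟨-2, 0, 2, 0, 6, 0, 2, 0⟩, 15149),
  (⟨-2, 0, 2, 2, -5, -1, -1, 1⟩, 8455),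
  (⟨-2, 0, 2, 2, -5, -1, 1, -1⟩, 8579),
  (⟨-2, 0, 2, 2, -3, 1, -3, -1⟩, 14532),
  (⟨-2, 0, 2, 2, -3, 1, -1, 1⟩, 8493),
  (⟨-2, 0, 2, 2, -3, 1, 1, -1⟩, 14521),
  (⟨-2, 0, 2, 2, -3, 1, 3, 1⟩, 14538),
  (⟨-2, 0, 2, 2, -1, -1, -5, 1⟩, 10654),
  (⟨-2, 0, 2, 2, -1, -1, -3, -1⟩, 10706),
  (⟨-2, 0, 2, 2, -1, -1, -1, 1⟩, 14680),
  (⟨-2, 0, 2, 2, -1, -1, 1, -1⟩, 8660),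
  (⟨-2, 0, 2, 2, -1, -1, 3, 1⟩, 10835),
  (⟨-2, 0, 2, 2, -1, -1, 5, -1⟩, 8602),
  (⟨-2, 0, 2, 2, 1, 1, -5, 1⟩, 8733),
  (⟨-2, 0, 2, 2, 1, 1, -3, -1⟩, 10710),
  (⟨-2, 0, 2, 2, 1, 1, -1, 1⟩, 8789),
  (⟨-2, 0, 2, 2, 1, 1, 1, -1⟩, 14553),
  (⟨-2, 0, 2, 2, 1, 1, 3, 1⟩, 10833),
  (⟨-2, 0, 2, 2, 1, 1, 5, -1⟩, 10785),
  (⟨-2, 0, 2, 2, 3, -1, -3, -1⟩, 14667),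
  (⟨-2, 0, 2, 2, 3, -1, -1, 1⟩, 14650),
  (⟨-2, 0, 2, 2, 3, -1, 1, -1⟩, 8870),
  (⟨-2, 0, 2, 2, 3, -1, 3, 1⟩, 14659),
  (⟨-2, 0, 2, 2, 5, 1, -1, 1⟩, 8708),
  (⟨-2, 0, 2, 2, 5, 1, 1, -1⟩, 8838),
  (⟨-2, 0, 3, -3, 0, 0, -1, -1⟩, 14230),
  (⟨-2, 0, 3, -3, 0, 0, 1, 1⟩, 14357),
  (⟨-2, 0, 3, -1, -5, 1, -4, 0⟩, 14737),
  (⟨-2, 0, 3, -1, -5, 1, 0, 0⟩, 14814),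
  (⟨-2, 0, 3, -1, -5, 1, 4, 0⟩, 14869),
  (⟨-2, 0, 3, -1, -3, -1, -4, 0⟩, 7994),
  (⟨-2, 0, 3, -1, -3, -1, -2, -2⟩, 14254),
  (⟨-2, 0, 3, -1, -3, -1, -2, 2⟩, 13758),
  (⟨-2, 0, 3, -1, -3, -1, 0, 0⟩, 8041),
  (⟨-2, 0, 3, -1, -3, -1, 2, -2⟩, 13901),
  (⟨-2, 0, 3, -1, -3, -1, 2, 2⟩, 14415),
  (⟨-2, 0, 3, -1, -3, -1, 4, 0⟩, 14914),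
  (⟨-2, 0, 3, -1, -1, -3, 0, 0⟩, 7985),
  (⟨-2, 0, 3, -1, -1, 1, -4, 0⟩, 8287),
  (⟨-2, 0, 3, -1, -1, 1, -2, -2⟩, 9005),
  (⟨-2, 0, 3, -1, -1, 1, -2, 2⟩, 12509),
  (⟨-2, 0, 3, -1, -1, 1, 0, 0⟩, 9582),
  (⟨-2, 0, 3, -1, -1, 1, 2, -2⟩, 9053),
  (⟨-2, 0, 3, -1, -1, 1, 2, 2⟩, 9154),
  (⟨-2, 0, 3, -1, -1, 1, 4, 0⟩, 14947),
  (⟨-2, 0, 3, -1, 1, -1, -4, 0⟩, 15074),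
  (⟨-2, 0, 3, -1, 1, -1, -2, -2⟩, 14274),
  (⟨-2, 0, 3, -1, 1, -1, -2, 2⟩, 9436),
  (⟨-2, 0, 3, -1, 1, -1, 0, 0⟩, 9326),
  (⟨-2, 0, 3, -1, 1, -1, 2, -2⟩, 12636),
  (⟨-2, 0, 3, -1, 1, -1, 2, 2⟩, 9382),
  (⟨-2, 0, 3, -1, 1, -1, 4, 0⟩, 8160),
  (⟨-2, 0, 3, -1, 1, 3, 0, 0⟩, 8370),
  (⟨-2, 0, 3, -1, 3, 1, -4, 0⟩, 8258),
  (⟨-2, 0, 3, -1, 3, 1, -2, -2⟩, 14286),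
  (⟨-2, 0, 3, -1, 3, 1, -2, 2⟩, 14028),
  (⟨-2, 0, 3, -1, 3, 1, 0, 0⟩, 8426),
  (⟨-2, 0, 3, -1, 3, 1, 2, -2⟩, 14151),
  (⟨-2, 0, 3, -1, 3, 1, 2, 2⟩, 14389),
  (⟨-2, 0, 3, -1, 3, 1, 4, 0⟩, 8377),
  (⟨-2, 0, 3, -1, 5, -1, -4, 0⟩, 14998),
  (⟨-2, 0, 3, -1, 5, -1, 0, 0⟩, 15201),
  (⟨-2, 0, 3, -1, 5, -1, 4, 0⟩, 15124),
  (⟨-2, 0, 3, 1, -4, 0, -5, -1⟩, 14729),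
  (⟨-2, 0, 3, 1, -4, 0, -3, 1⟩, 14785),
  (⟨-2, 0, 3, 1, -4, 0, -1, -1⟩, 14808),
  (⟨-2, 0, 3, 1, -4, 0, 1, 1⟩, 8533),
  (⟨-2, 0, 3, 1, -4, 0, 3, -1⟩, 8627),
  (⟨-2, 0, 3, 1, -4, 0, 5, 1⟩, 14854),
  (⟨-2, 0, 3, 1, -2, -2, -3, 1⟩, 13775),
  (⟨-2, 0, 3, 1, -2, -2, -1, -1⟩, 9297),
  (⟨-2, 0, 3, 1, -2, -2, 1, 1⟩, 10962),
  (⟨-2, 0, 3, 1, -2, -2, 3, -1⟩, 13891),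
  (⟨-2, 0, 3, 1, -2, 2, -3, 1⟩, 14540),
  (⟨-2, 0, 3, 1, -2, 2, -1, -1⟩, 9025),
  (⟨-2, 0, 3, 1, -2, 2, 1, 1⟩, 9131),
  (⟨-2, 0, 3, 1, -2, 2, 3, -1⟩, 14523),
  (⟨-2, 0, 3, 1, 0, 0, -5, -1⟩, 15059),
  (⟨-2, 0, 3, 1, 0, 0, -3, 1⟩, 8808),
  (⟨-2, 0, 3, 1, 0, 0, -1, -1⟩, 9069),
  (⟨-2, 0, 3, 1, 0, 0, -1, 3⟩, 8758),
  (⟨-2, 0, 3, 1, 0, 0, 1, -3⟩, 8637),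
  (⟨-2, 0, 3, 1, 0, 0, 1, 1⟩, 9581),
  (⟨-2, 0, 3, 1, 0, 0, 3, -1⟩, 8683),
  (⟨-2, 0, 3, 1, 0, 0, 5, 1⟩, 14934),
  (⟨-2, 0, 3, 1, 2, -2, -3, 1⟩, 14648),
  (⟨-2, 0, 3, 1, 2, -2, -1, -1⟩, 9256),
  (⟨-2, 0, 3, 1, 2, -2, 1, 1⟩, 14657),
  (⟨-2, 0, 3, 1, 2, -2, 3, -1⟩, 14669),
  (⟨-2, 0, 3, 1, 2, 2, -3, 1⟩, 14020),
  (⟨-2, 0, 3, 1, 2, 2, -1, -1⟩, 11089),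
  (⟨-2, 0, 3, 1, 2, 2, 1, 1⟩, 9170),
  (⟨-2, 0, 3, 1, 2, 2, 3, -1⟩, 14158),
  (⟨-2, 0, 3, 1, 4, 0, -5, -1⟩, 14983),
  (⟨-2, 0, 3, 1, 4, 0, -3, 1⟩, 8752),
  (⟨-2, 0, 3, 1, 4, 0, -1, -1⟩, 8916),
  (⟨-2, 0, 3, 1, 4, 0, 1, 1⟩, 15193),
  (⟨-2, 0, 3, 1, 4, 0, 3, -1⟩, 8897),
  (⟨-2, 0, 3, 1, 4, 0, 5, 1⟩, 15114),
  (⟨-2, 0, 3, 3, -1, 1, 0, 0⟩, 14473),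
  (⟨-2, 0, 3, 3, 1, -1, 0, 0⟩, 14602),
  (⟨-2, 0, 4, -2, -2, 0, -2, 0⟩, 8036),
  (⟨-2, 0, 4, -2, -2, 0, 0, -2⟩, 14229),
  (⟨-2, 0, 4, -2, -2, 0, 0, 2⟩, 14359),
  (⟨-2, 0, 4, -2, -2, 0, 2, 0⟩, 12253),
  (⟨-2, 0, 4, -2, 0, -2, -2, 0⟩, 7954),
  (⟨-2, 0, 4, -2, 0, -2, 2, 0⟩, 8080),
  (⟨-2, 0, 4, -2, 0, 2, -2, 0⟩, 8207),
  (⟨-2, 0, 4, -2, 0, 2, 2, 0⟩, 8339),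
  (⟨-2, 0, 4, -2, 2, 0, -2, 0⟩, 12380),
  (⟨-2, 0, 4, -2, 2, 0, 0, -2⟩, 14232),
  (⟨-2, 0, 4, -2, 2, 0, 0, 2⟩, 14358),
  (⟨-2, 0, 4, -2, 2, 0, 2, 0⟩, 12388),
  (⟨-2, 0, 4, 0, -5, -1, -3, -1⟩, 14725),
  (⟨-2, 0, 4, 0, -5, -1, -1, 1⟩, 14766),
  (⟨-2, 0, 4, 0, -5, -1, 1, -1⟩, 14926),
  (⟨-2, 0, 4, 0, -5, -1, 3, 1⟩, 14859),
  (⟨-2, 0, 4, 0, -3, 1, -5, 1⟩, 14743),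
  (⟨-2, 0, 4, 0, -3, 1, -3, -1⟩, 9011),
  (⟨-2, 0, 4, 0, -3, 1, -1, 1⟩, 14822),
  (⟨-2, 0, 4, 0, -3, 1, 1, -1⟩, 9055),
  (⟨-2, 0, 4, 0, -3, 1, 3, 1⟩, 9145),
  (⟨-2, 0, 4, 0, -3, 1, 5, -1⟩, 14866),
  (⟨-2, 0, 4, 0, -1, -1, -5, 1⟩, 14797),
  (⟨-2, 0, 4, 0, -1, -1, -3, -1⟩, 9300),
  (⟨-2, 0, 4, 0, -1, -1, -1, 1⟩, 9578),
  (⟨-2, 0, 4, 0, -1, -1, 1, -1⟩, 9576),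
  (⟨-2, 0, 4, 0, -1, -1, 3, 1⟩, 9434),
  (⟨-2, 0, 4, 0, -1, -1, 5, -1⟩, 14907),
  (⟨-2, 0, 4, 0, 1, 1, -5, 1⟩, 15032),
  (⟨-2, 0, 4, 0, 1, 1, -3, -1⟩, 15066),
  (⟨-2, 0, 4, 0, 1, 1, -1, 1⟩, 9579),
  (⟨-2, 0, 4, 0, 1, 1, 1, -1⟩, 9577),
  (⟨-2, 0, 4, 0, 1, 1, 3, 1⟩, 9173),
  (⟨-2, 0, 4, 0, 1, 1, 5, -1⟩, 15180),
  (⟨-2, 0, 4, 0, 3, -1, -5, 1⟩, 14995),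
  (⟨-2, 0, 4, 0, 3, -1, -3, -1⟩, 9274),
  (⟨-2, 0, 4, 0, 3, -1, -1, 1⟩, 9440),
  (⟨-2, 0, 4, 0, 3, -1, 1, -1⟩, 9318),
  (⟨-2, 0, 4, 0, 3, -1, 3, 1⟩, 9392),
  (⟨-2, 0, 4, 0, 3, -1, 5, -1⟩, 15128),
  (⟨-2, 0, 4, 0, 5, 1, -3, -1⟩, 14988),
  (⟨-2, 0, 4, 0, 5, 1, -1, 1⟩, 15055),
  (⟨-2, 0, 4, 0, 5, 1, 1, -1⟩, 15157),
  (⟨-2, 0, 4, 0, 5, 1, 3, 1⟩, 15112),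
  (⟨-2, 0, 4, 2, -2, 0, -2, 0⟩, 10705),
  (⟨-2, 0, 4, 2, -2, 0, 0, -2⟩, 8584),
  (⟨-2, 0, 4, 2, -2, 0, 0, 2⟩, 8452),
  (⟨-2, 0, 4, 2, -2, 0, 2, 0⟩, 8663),
  (⟨-2, 0, 4, 2, 0, -2, -2, 0⟩, 14601),
  (⟨-2, 0, 4, 2, 0, -2, 2, 0⟩, 14603),
  (⟨-2, 0, 4, 2, 0, 2, -2, 0⟩, 14476),
  (⟨-2, 0, 4, 2, 0, 2, 2, 0⟩, 14474),
  (⟨-2, 0, 4, 2, 2, 0, -2, 0⟩, 10711),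
  (⟨-2, 0, 4, 2, 2, 0, 0, -2⟩, 8835),
  (⟨-2, 0, 4, 2, 2, 0, 0, 2⟩, 8709),
  (⟨-2, 0, 4, 2, 2, 0, 2, 0⟩, 10834),
  (⟨-2, 0, 5, -1, -4, 0, -3, 1⟩, 14741),
  (⟨-2, 0, 5, -1, -4, 0, -1, -1⟩, 14783),
  (⟨-2, 0, 5, -1, -4, 0, 1, 1⟩, 14925),
  (⟨-2, 0, 5, -1, -4, 0, 3, -1⟩, 14872),
  (⟨-2, 0, 5, -1, -2, -2, -1, -1⟩, 9246),
  (⟨-2, 0, 5, -1, -2, -2, 1, 1⟩, 8125),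
  (⟨-2, 0, 5, -1, -2, 2, -1, -1⟩, 8980),
  (⟨-2, 0, 5, -1, -2, 2, 1, 1⟩, 9102),
  (⟨-2, 0, 5, -1, 0, 0, -5, -1⟩, 15023),
  (⟨-2, 0, 5, -1, 0, 0, -3, 1⟩, 9569),
  (⟨-2, 0, 5, -1, 0, 0, -1, -1⟩, 9568),
  (⟨-2, 0, 5, -1, 0, 0, 1, 1⟩, 9567),
  (⟨-2, 0, 5, -1, 0, 0, 3, -1⟩, 9566),
  (⟨-2, 0, 5, -1, 0, 0, 5, 1⟩, 14900),
  (⟨-2, 0, 5, -1, 2, -2, -1, -1⟩, 9229),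
  (⟨-2, 0, 5, -1, 2, -2, 1, 1⟩, 9361),
  (⟨-2, 0, 5, -1, 2, 2, -1, -1⟩, 8246),
  (⟨-2, 0, 5, -1, 2, 2, 1, 1⟩, 9121),
  (⟨-2, 0, 5, -1, 4, 0, -3, 1⟩, 14999),
  (⟨-2, 0, 5, -1, 4, 0, -1, -1⟩, 15052),
  (⟨-2, 0, 5, -1, 4, 0, 1, 1⟩, 15174),
  (⟨-2, 0, 5, -1, 4, 0, 3, -1⟩, 15126),
  (⟨-2, 0, 5, 1, -5, 1, 0, 0⟩, 14775),
  (⟨-2, 0, 5, 1, -3, -1, -4, 0⟩, 14731),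
  (⟨-2, 0, 5, 1, -3, -1, 0, 0⟩, 9555),
  (⟨-2, 0, 5, 1, -3, -1, 4, 0⟩, 14858),
  (⟨-2, 0, 5, 1, -1, 1, -4, 0⟩, 14799),
  (⟨-2, 0, 5, 1, -1, 1, -2, -2⟩, 8961),
  (⟨-2, 0, 5, 1, -1, 1, -2, 2⟩, 8497),
  (⟨-2, 0, 5, 1, -1, 1, 0, 0⟩, 9556),
  (⟨-2, 0, 5, 1, -1, 1, 2, -2⟩, 8994),
  (⟨-2, 0, 5, 1, -1, 1, 2, 2⟩, 9095),
  (⟨-2, 0, 5, 1, -1, 1, 4, 0⟩, 14917),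
  (⟨-2, 0, 5, 1, 1, -1, -4, 0⟩, 15040),
  (⟨-2, 0, 5, 1, 1, -1, -2, -2⟩, 9222),
  (⟨-2, 0, 5, 1, 1, -1, -2, 2⟩, 9381),
  (⟨-2, 0, 5, 1, 1, -1, 0, 0⟩, 9557),
  (⟨-2, 0, 5, 1, 1, -1, 2, -2⟩, 8882),
  (⟨-2, 0, 5, 1, 1, -1, 2, 2⟩, 9346),
  (⟨-2, 0, 5, 1, 1, -1, 4, 0⟩, 15182),
  (⟨-2, 0, 5, 1, 3, 1, -4, 0⟩, 14985),
  (⟨-2, 0, 5, 1, 3, 1, 0, 0⟩, 9558),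
  (⟨-2, 0, 5, 1, 3, 1, 4, 0⟩, 15116),
  (⟨-2, 0, 5, 1, 5, -1, 0, 0⟩, 15164),
  (⟨-2, 0, 6, 0, -2, 0, -2, 0⟩, 9515),
  (⟨-2, 0, 6, 0, -2, 0, 0, -2⟩, 8987),
  (⟨-2, 0, 6, 0, -2, 0, 0, 2⟩, 9513),
  (⟨-2, 0, 6, 0, -2, 0, 2, 0⟩, 9510),
  (⟨-2, 0, 6, 0, 0, -2, -2, 0⟩, 9242),
  (⟨-2, 0, 6, 0, 0, -2, 2, 0⟩, 9511),
  (⟨-2, 0, 6, 0, 0, 2, -2, 0⟩, 9516),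
  (⟨-2, 0, 6, 0, 0, 2, 2, 0⟩, 9117),
  (⟨-2, 0, 6, 0, 2, 0, -2, 0⟩, 9517),
  (⟨-2, 0, 6, 0, 2, 0, 0, -2⟩, 9514),
  (⟨-2, 0, 6, 0, 2, 0, 0, 2⟩, 9372),
  (⟨-2, 0, 6, 0, 2, 0, 2, 0⟩, 9512),
  (⟨-2, 0, 7, -1, -1, 1, 0, 0⟩, 9485),
  (⟨-2, 0, 7, -1, 1, -1, 0, 0⟩, 9486),
  (⟨-2, 0, 7, 1, 0, 0, -1, -1⟩, 9474),
  (⟨-2, 0, 7, 1, 0, 0, 1, 1⟩, 9473),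
  (⟨-2, 2, -5, -1, -2, 0, -1, 1⟩, 9893),
  (⟨-2, 2, -5, -1, -2, 0, 1, -1⟩, 10039),
  (⟨-2, 2, -5, -1, 2, 0, -1, 1⟩, 9916),
  (⟨-2, 2, -5, -1, 2, 0, 1, -1⟩, 10018),
  (⟨-2, 2, -5, 1, -1, -1, -2, 0⟩, 9615),
  (⟨-2, 2, -5, 1, -1, -1, 2, 0⟩, 9614),
  (⟨-2, 2, -5, 1, 1, 1, -2, 0⟩, 9741),
  (⟨-2, 2, -5, 1, 1, 1, 2, 0⟩, 9744),
  (⟨-2, 2, -4, 0, -4, 0, 0, 0⟩, 9663),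
  (⟨-2, 2, -4, 0, -2, -2, 0, 0⟩, 9600),
  (⟨-2, 2, -4, 0, -2, 2, 0, 0⟩, 9746),
  (⟨-2, 2, -4, 0, 0, 0, -4, 0⟩, 9892),
  (⟨-2, 2, -4, 0, 0, 0, -2, -2⟩, 10410),
  (⟨-2, 2, -4, 0, 0, 0, -2, 2⟩, 2712),
  (⟨-2, 2, -4, 0, 0, 0, 0, 0⟩, 9701),
  (⟨-2, 2, -4, 0, 0, 0, 2, -2⟩, 2839),
  (⟨-2, 2, -4, 0, 0, 0, 2, 2⟩, 10281),
  (⟨-2, 2, -4, 0, 0, 0, 4, 0⟩, 10019),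
  (⟨-2, 2, -4, 0, 2, -2, 0, 0⟩, 9619),
  (⟨-2, 2, -4, 0, 2, 2, 0, 0⟩, 9728),
  (⟨-2, 2, -4, 0, 4, 0, 0, 0⟩, 9798),
  (⟨-2, 2, -3, -1, -3, 1, -2, 0⟩, 9891),
  (⟨-2, 2, -3, -1, -3, 1, 2, 0⟩, 10046),
  (⟨-2, 2, -3, -1, -1, -1, -2, 0⟩, 9901),
  (⟨-2, 2, -3, -1, -1, -1, 0, -2⟩, 10172),
  (⟨-2, 2, -3, -1, -1, -1, 0, 2⟩, 9647),
  (⟨-2, 2, -3, -1, -1, -1, 2, 0⟩, 10042),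
  (⟨-2, 2, -3, -1, 1, 1, -2, 0⟩, 9913),
  (⟨-2, 2, -3, -1, 1, 1, 0, -2⟩, 9780),
  (⟨-2, 2, -3, -1, 1, 1, 0, 2⟩, 10551),
  (⟨-2, 2, -3, -1, 1, 1, 2, 0⟩, 10022),
  (⟨-2, 2, -3, -1, 3, -1, -2, 0⟩, 9927),
  (⟨-2, 2, -3, -1, 3, -1, 2, 0⟩, 10020),
  (⟨-2, 2, -3, 1, -2, 0, -3, -1⟩, 10168),
  (⟨-2, 2, -3, 1, -2, 0, -1, 1⟩, 9694),
  (⟨-2, 2, -3, 1, -2, 0, 1, -1⟩, 10204),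
  (⟨-2, 2, -3, 1, -2, 0, 3, 1⟩, 10276),
  (⟨-2, 2, -3, 1, 0, -2, -1, 1⟩, 9613),
  (⟨-2, 2, -3, 1, 0, -2, 1, -1⟩, 9620),
  (⟨-2, 2, -3, 1, 0, 2, -1, 1⟩, 9745),
  (⟨-2, 2, -3, 1, 0, 2, 1, -1⟩, 9742),
  (⟨-2, 2, -3, 1, 2, 0, -3, -1⟩, 10403),
  (⟨-2, 2, -3, 1, 2, 0, -1, 1⟩, 10589),
  (⟨-2, 2, -3, 1, 2, 0, 1, -1⟩, 9825),
  (⟨-2, 2, -3, 1, 2, 0, 3, 1⟩, 10555),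
  (⟨-2, 2, -2, -2, -4, 0, 0, 0⟩, 9898),
  (⟨-2, 2, -2, -2, 0, 0, -4, 0⟩, 9856),
  (⟨-2, 2, -2, -2, 0, 0, 0, 0⟩, 10049),
  (⟨-2, 2, -2, -2, 0, 0, 4, 0⟩, 9984),
  (⟨-2, 2, -2, -2, 4, 0, 0, 0⟩, 10025),
  (⟨-2, 2, -2, 0, -5, 1, -1, -1⟩, 10129),
  (⟨-2, 2, -2, 0, -5, 1, 1, 1⟩, 10255),
  (⟨-2, 2, -2, 0, -3, -1, -3, 1⟩, 9662),
  (⟨-2, 2, -2, 0, -3, -1, -1, -1⟩, 10155),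
  (⟨-2, 2, -2, 0, -3, -1, 1, 1⟩, 9648),
  (⟨-2, 2, -2, 0, -3, -1, 3, -1⟩, 9673),
  (⟨-2, 2, -2, 0, -1, 1, -5, -1⟩, 9890),
  (⟨-2, 2, -2, 0, -1, 1, -3, 1⟩, 9948),
  (⟨-2, 2, -2, 0, -1, 1, -1, -1⟩, 9827),
  (⟨-2, 2, -2, 0, -1, 1, 1, 1⟩, 10335),
  (⟨-2, 2, -2, 0, -1, 1, 3, -1⟩, 10078),
  (⟨-2, 2, -2, 0, -1, 1, 5, 1⟩, 10267),
  (⟨-2, 2, -2, 0, 1, -1, -5, -1⟩, 10396),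
  (⟨-2, 2, -2, 0, 1, -1, -3, 1⟩, 9953),
  (⟨-2, 2, -2, 0, 1, -1, -1, -1⟩, 10464),
  (⟨-2, 2, -2, 0, 1, -1, 1, 1⟩, 9698),
  (⟨-2, 2, -2, 0, 1, -1, 3, -1⟩, 10077),
  (⟨-2, 2, -2, 0, 1, -1, 5, 1⟩, 10021),
  (⟨-2, 2, -2, 0, 3, 1, -3, 1⟩, 9800),
  (⟨-2, 2, -2, 0, 3, 1, -1, -1⟩, 9779),
  (⟨-2, 2, -2, 0, 3, 1, 1, 1⟩, 10536),
  (⟨-2, 2, -2, 0, 3, 1, 3, -1⟩, 9799),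
  (⟨-2, 2, -2, 0, 5, -1, -1, -1⟩, 10384),
  (⟨-2, 2, -2, 0, 5, -1, 1, 1⟩, 10516),
  (⟨-2, 2, -2, 2, -4, 0, 0, 0⟩, 2966),
  (⟨-2, 2, -2, 2, 0, 0, -4, 0⟩, 10640),
  (⟨-2, 2, -2, 2, 0, 0, 0, 0⟩, 10852),
  (⟨-2, 2, -2, 2, 0, 0, 4, 0⟩, 10767),
  (⟨-2, 2, -2, 2, 4, 0, 0, 0⟩, 3093),
  (⟨-2, 2, -1, -1, -2, 0, -5, 1⟩, 9869),
  (⟨-2, 2, -1, -1, -2, 0, -3, -1⟩, 9896),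
  (⟨-2, 2, -1, -1, -2, 0, -1, 1⟩, 9952),
  (⟨-2, 2, -1, -1, -2, 0, 1, -1⟩, 10086),
  (⟨-2, 2, -1, -1, -2, 0, 3, 1⟩, 10306),
  (⟨-2, 2, -1, -1, -2, 0, 5, -1⟩, 10002),
  (⟨-2, 2, -1, -1, 0, -2, -3, -1⟩, 9908),
  (⟨-2, 2, -1, -1, 0, -2, -1, 1⟩, 9672),
  (⟨-2, 2, -1, -1, 0, -2, 1, -1⟩, 9677),
  (⟨-2, 2, -1, -1, 0, -2, 3, 1⟩, 10045),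
  (⟨-2, 2, -1, -1, 0, 2, -3, -1⟩, 9910),
  (⟨-2, 2, -1, -1, 0, 2, -1, 1⟩, 9804),
  (⟨-2, 2, -1, -1, 0, 2, 1, -1⟩, 9801),
  (⟨-2, 2, -1, -1, 0, 2, 3, 1⟩, 10031),
  (⟨-2, 2, -1, -1, 2, 0, -5, 1⟩, 9875),
  (⟨-2, 2, -1, -1, 2, 0, -3, -1⟩, 9922),
  (⟨-2, 2, -1, -1, 2, 0, -1, 1⟩, 10598),
  (⟨-2, 2, -1, -1, 2, 0, 1, -1⟩, 10079),
  (⟨-2, 2, -1, -1, 2, 0, 3, 1⟩, 10027),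
  (⟨-2, 2, -1, -1, 2, 0, 5, -1⟩, 9998),
  (⟨-2, 2, -1, 1, -5, -1, -2, 0⟩, 10142),
  (⟨-2, 2, -1, 1, -5, -1, 2, 0⟩, 9649),
  (⟨-2, 2, -1, 1, -3, 1, -2, 0⟩, 3297),
  (⟨-2, 2, -1, 1, -3, 1, 0, -2⟩, 10127),
  (⟨-2, 2, -1, 1, -3, 1, 0, 2⟩, 10253),
  (⟨-2, 2, -1, 1, -3, 1, 2, 0⟩, 10333),
  (⟨-2, 2, -1, 1, -1, -1, -2, 0⟩, 9702),
  (⟨-2, 2, -1, 1, -1, -1, 0, -2⟩, 10148),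
  (⟨-2, 2, -1, 1, -1, -1, 0, 2⟩, 10310),
  (⟨-2, 2, -1, 1, -1, -1, 2, 0⟩, 9699),
  (⟨-2, 2, -1, 1, 1, 1, -2, 0⟩, 9826),
  (⟨-2, 2, -1, 1, 1, 1, 0, -2⟩, 10431),
  (⟨-2, 2, -1, 1, 1, 1, 0, 2⟩, 10531),
  (⟨-2, 2, -1, 1, 1, 1, 2, 0⟩, 10854),
  (⟨-2, 2, -1, 1, 3, -1, -2, 0⟩, 10460),
  (⟨-2, 2, -1, 1, 3, -1, 0, -2⟩, 10382),
  (⟨-2, 2, -1, 1, 3, -1, 0, 2⟩, 10512),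
  (⟨-2, 2, -1, 1, 3, -1, 2, 0⟩, 3678),
  (⟨-2, 2, -1, 1, 5, 1, -2, 0⟩, 9778),
  (⟨-2, 2, -1, 1, 5, 1, 2, 0⟩, 10529),
  (⟨-2, 2, 0, -2, -3, -1, -1, -1⟩, 9905),
  (⟨-2, 2, 0, -2, -3, -1, 1, 1⟩, 3772),
  (⟨-2, 2, 0, -2, -1, 1, -3, 1⟩, 9873),
  (⟨-2, 2, 0, -2, -1, 1, -1, -1⟩, 9919),
  (⟨-2, 2, 0, -2, -1, 1, 1, 1⟩, 10056),
  (⟨-2, 2, 0, -2, -1, 1, 3, -1⟩, 10005),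
  (⟨-2, 2, 0, -2, 1, -1, -3, 1⟩, 9878),
  (⟨-2, 2, 0, -2, 1, -1, -1, -1⟩, 9929),
  (⟨-2, 2, 0, -2, 1, -1, 1, 1⟩, 10054),
  (⟨-2, 2, 0, -2, 1, -1, 3, -1⟩, 10004),
  (⟨-2, 2, 0, -2, 3, 1, -1, -1⟩, 3895),
  (⟨-2, 2, 0, -2, 3, 1, 1, 1⟩, 10034),
  (⟨-2, 2, 0, 0, -4, 0, -4, 0⟩, 10184),
  (⟨-2, 2, 0, 0, -4, 0, -2, -2⟩, 10112),
  (⟨-2, 2, 0, 0, -4, 0, -2, 2⟩, 10263),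
  (⟨-2, 2, 0, 0, -4, 0, 0, 0⟩, 10210),
  (⟨-2, 2, 0, 0, -4, 0, 2, -2⟩, 10126),
  (⟨-2, 2, 0, 0, -4, 0, 2, 2⟩, 10240),
  (⟨-2, 2, 0, 0, -4, 0, 4, 0⟩, 10299),
  (⟨-2, 2, 0, 0, -2, -2, -4, 0⟩, 3498),
  (⟨-2, 2, 0, 0, -2, -2, 0, 0⟩, 10937),
  (⟨-2, 2, 0, 0, -2, -2, 4, 0⟩, 10919),
  (⟨-2, 2, 0, 0, -2, 2, -4, 0⟩, 3220),
  (⟨-2, 2, 0, 0, -2, 2, 0, 0⟩, 11108),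
  (⟨-2, 2, 0, 0, -2, 2, 4, 0⟩, 3347),
  (⟨-2, 2, 0, 0, 0, 0, -4, 0⟩, 9951),
  (⟨-2, 2, 0, 0, 0, 0, -2, -2⟩, 10416),
  (⟨-2, 2, 0, 0, 0, 0, -2, 2⟩, 10596),
  (⟨-2, 2, 0, 0, 0, 0, 0, 0⟩, 10094),
  (⟨-2, 2, 0, 0, 0, 0, 2, -2⟩, 4196),
  (⟨-2, 2, 0, 0, 0, 0, 2, 2⟩, 10291),
  (⟨-2, 2, 0, 0, 0, 0, 4, 0⟩, 10080),
  (⟨-2, 2, 0, 0, 2, -2, -4, 0⟩, 3474),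
  (⟨-2, 2, 0, 0, 2, -2, 0, 0⟩, 3684),
  (⟨-2, 2, 0, 0, 2, -2, 4, 0⟩, 3601),
  (⟨-2, 2, 0, 0, 2, 2, -4, 0⟩, 11052),
  (⟨-2, 2, 0, 0, 2, 2, 0, 0⟩, 11066),
  (⟨-2, 2, 0, 0, 2, 2, 4, 0⟩, 3369),
  (⟨-2, 2, 0, 0, 4, 0, -4, 0⟩, 10424),
  (⟨-2, 2, 0, 0, 4, 0, -2, -2⟩, 10368),
  (⟨-2, 2, 0, 0, 4, 0, -2, 2⟩, 10509),
  (⟨-2, 2, 0, 0, 4, 0, 0, 0⟩, 10595),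
  (⟨-2, 2, 0, 0, 4, 0, 2, -2⟩, 10392),
  (⟨-2, 2, 0, 0, 4, 0, 2, 2⟩, 10496),
  (⟨-2, 2, 0, 0, 4, 0, 4, 0⟩, 10569),
  (⟨-2, 2, 0, 2, -3, -1, -1, -1⟩, 10138),
  (⟨-2, 2, 0, 2, -3, -1, 1, 1⟩, 10301),
  (⟨-2, 2, 0, 2, -1, 1, -3, 1⟩, 10639),
  (⟨-2, 2, 0, 2, -1, 1, -1, -1⟩, 10683),
  (⟨-2, 2, 0, 2, -1, 1, 1, 1⟩, 10814),
  (⟨-2, 2, 0, 2, -1, 1, 3, -1⟩, 10770),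
  (⟨-2, 2, 0, 2, 1, -1, -3, 1⟩, 10643),
  (⟨-2, 2, 0, 2, 1, -1, -1, -1⟩, 10695),
  (⟨-2, 2, 0, 2, 1, -1, 1, 1⟩, 10808),
  (⟨-2, 2, 0, 2, 1, -1, 3, -1⟩, 10768),
  (⟨-2, 2, 0, 2, 3, 1, -1, -1⟩, 10422),
  (⟨-2, 2, 0, 2, 3, 1, 1, 1⟩, 10525),
  (⟨-2, 2, 1, -1, -5, -1, -2, 0⟩, 3773),
  (⟨-2, 2, 1, -1, -5, -1, 2, 0⟩, 3749),
  (⟨-2, 2, 1, -1, -3, 1, -2, 0⟩, 9950),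
  (⟨-2, 2, 1, -1, -3, 1, 0, -2⟩, 10136),
  (⟨-2, 2, 1, -1, -3, 1, 0, 2⟩, 10261),
  (⟨-2, 2, 1, -1, -3, 1, 2, 0⟩, 3804),
  (⟨-2, 2, 1, -1, -1, -1, -2, 0⟩, 9955),
  (⟨-2, 2, 1, -1, -1, -1, 0, -2⟩, 10183),
  (⟨-2, 2, 1, -1, -1, -1, 0, 2⟩, 10317),
  (⟨-2, 2, 1, -1, -1, -1, 2, 0⟩, 10981),
  (⟨-2, 2, 1, -1, 1, 1, -2, 0⟩, 9957),
  (⟨-2, 2, 1, -1, 1, 1, 0, -2⟩, 10444),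
  (⟨-2, 2, 1, -1, 1, 1, 0, 2⟩, 10558),
  (⟨-2, 2, 1, -1, 1, 1, 2, 0⟩, 10082),
  (⟨-2, 2, 1, -1, 3, -1, -2, 0⟩, 3933),
  (⟨-2, 2, 1, -1, 3, -1, 0, -2⟩, 10390),
  (⟨-2, 2, 1, -1, 3, -1, 0, 2⟩, 10519),
  (⟨-2, 2, 1, -1, 3, -1, 2, 0⟩, 10081),
  (⟨-2, 2, 1, -1, 5, 1, -2, 0⟩, 3874),
  (⟨-2, 2, 1, -1, 5, 1, 2, 0⟩, 3894),
  (⟨-2, 2, 1, 1, -2, 0, -5, 1⟩, 10641),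
  (⟨-2, 2, 1, 1, -2, 0, -3, -1⟩, 10177),
  (⟨-2, 2, 1, 1, -2, 0, -1, 1⟩, 10725),
  (⟨-2, 2, 1, 1, -2, 0, 1, -1⟩, 10207),
  (⟨-2, 2, 1, 1, -2, 0, 3, 1⟩, 10285),
  (⟨-2, 2, 1, 1, -2, 0, 5, -1⟩, 10776),
  (⟨-2, 2, 1, 1, 0, -2, -3, -1⟩, 3505),
  (⟨-2, 2, 1, 1, 0, -2, -1, 1⟩, 10916),
  (⟨-2, 2, 1, 1, 0, -2, 1, -1⟩, 10939),
  (⟨-2, 2, 1, 1, 0, -2, 3, 1⟩, 10907),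
  (⟨-2, 2, 1, 1, 0, 2, -3, -1⟩, 11036),
  (⟨-2, 2, 1, 1, 0, 2, -1, 1⟩, 11064),
  (⟨-2, 2, 1, 1, 0, 2, 1, -1⟩, 11043),
  (⟨-2, 2, 1, 1, 0, 2, 3, 1⟩, 3378),
  (⟨-2, 2, 1, 1, 2, 0, -5, 1⟩, 10647),
  (⟨-2, 2, 1, 1, 2, 0, -3, -1⟩, 10406),
  (⟨-2, 2, 1, 1, 2, 0, -1, 1⟩, 10592),
  (⟨-2, 2, 1, 1, 2, 0, 1, -1⟩, 10469),
  (⟨-2, 2, 1, 1, 2, 0, 3, 1⟩, 10817),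
  (⟨-2, 2, 1, 1, 2, 0, 5, -1⟩, 10772),
  (⟨-2, 2, 2, -2, -4, 0, 0, 0⟩, 3728),
  (⟨-2, 2, 2, -2, 0, 0, -4, 0⟩, 9877),
  (⟨-2, 2, 2, -2, 0, 0, 0, 0⟩, 3940),
  (⟨-2, 2, 2, -2, 0, 0, 4, 0⟩, 10006),
  (⟨-2, 2, 2, -2, 4, 0, 0, 0⟩, 3855),
  (⟨-2, 2, 2, 0, -5, 1, -1, -1⟩, 10133),
  (⟨-2, 2, 2, 0, -5, 1, 1, 1⟩, 10258),
  (⟨-2, 2, 2, 0, -3, -1, -3, 1⟩, 10936),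
  (⟨-2, 2, 2, 0, -3, -1, -1, -1⟩, 10163),
  (⟨-2, 2, 2, 0, -3, -1, 1, 1⟩, 10918),
  (⟨-2, 2, 2, 0, -3, -1, 3, -1⟩, 10943),
  (⟨-2, 2, 2, 0, -1, 1, -5, -1⟩, 3252),
  (⟨-2, 2, 2, 0, -1, 1, -3, 1⟩, 4061),
  (⟨-2, 2, 2, 0, -1, 1, -1, -1⟩, 11104),
  (⟨-2, 2, 2, 0, -1, 1, 1, 1⟩, 10339),
  (⟨-2, 2, 2, 0, -1, 1, 3, -1⟩, 3425),
  (⟨-2, 2, 2, 0, -1, 1, 5, 1⟩, 10273),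
  (⟨-2, 2, 2, 0, 1, -1, -5, -1⟩, 10398),
  (⟨-2, 2, 2, 0, 1, -1, -3, 1⟩, 3550),
  (⟨-2, 2, 2, 0, 1, -1, -1, -1⟩, 10466),
  (⟨-2, 2, 2, 0, 1, -1, 1, 1⟩, 10975),
  (⟨-2, 2, 2, 0, 1, -1, 3, -1⟩, 4188),
  (⟨-2, 2, 2, 0, 1, -1, 5, 1⟩, 3631),
  (⟨-2, 2, 2, 0, 3, 1, -3, 1⟩, 11078),
  (⟨-2, 2, 2, 0, 3, 1, -1, -1⟩, 11053),
  (⟨-2, 2, 2, 0, 3, 1, 1, 1⟩, 10544),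
  (⟨-2, 2, 2, 0, 3, 1, 3, -1⟩, 11067),
  (⟨-2, 2, 2, 0, 5, -1, -1, -1⟩, 10387),
  (⟨-2, 2, 2, 0, 5, -1, 1, 1⟩, 10518),
  (⟨-2, 2, 2, 2, -4, 0, 0, 0⟩, 10663),
  (⟨-2, 2, 2, 2, 0, 0, -4, 0⟩, 10624),
  (⟨-2, 2, 2, 2, 0, 0, 0, 0⟩, 10690),
  (⟨-2, 2, 2, 2, 0, 0, 4, 0⟩, 10752),
  (⟨-2, 2, 2, 2, 4, 0, 0, 0⟩, 10796),
  (⟨-2, 2, 3, -1, -2, 0, -3, -1⟩, 10189),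
  (⟨-2, 2, 3, -1, -2, 0, -1, 1⟩, 3809),
  (⟨-2, 2, 3, -1, -2, 0, 1, -1⟩, 3805),
  (⟨-2, 2, 3, -1, -2, 0, 3, 1⟩, 10313),
  (⟨-2, 2, 3, -1, 0, -2, -1, 1⟩, 10899),
  (⟨-2, 2, 3, -1, 0, -2, 1, -1⟩, 10904),
  (⟨-2, 2, 3, -1, 0, 2, -1, 1⟩, 11031),
  (⟨-2, 2, 3, -1, 0, 2, 1, -1⟩, 11026),
  (⟨-2, 2, 3, -1, 2, 0, -3, -1⟩, 10440),
  (⟨-2, 2, 3, -1, 2, 0, -1, 1⟩, 3932),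
  (⟨-2, 2, 3, -1, 2, 0, 1, -1⟩, 3934),
  (⟨-2, 2, 3, -1, 2, 0, 3, 1⟩, 10572),
  (⟨-2, 2, 3, 1, -3, 1, -2, 0⟩, 10687),
  (⟨-2, 2, 3, 1, -3, 1, 2, 0⟩, 10828),
  (⟨-2, 2, 3, 1, -1, -1, -2, 0⟩, 10938),
  (⟨-2, 2, 3, 1, -1, -1, 0, -2⟩, 4124),
  (⟨-2, 2, 3, 1, -1, -1, 0, 2⟩, 10906),
  (⟨-2, 2, 3, 1, -1, -1, 2, 0⟩, 10920),
  (⟨-2, 2, 3, 1, 1, 1, -2, 0⟩, 11051),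
  (⟨-2, 2, 3, 1, 1, 1, 0, -2⟩, 11037),
  (⟨-2, 2, 3, 1, 1, 1, 0, 2⟩, 3995),
  (⟨-2, 2, 3, 1, 1, 1, 2, 0⟩, 11065),
  (⟨-2, 2, 3, 1, 3, -1, -2, 0⟩, 10701),
  (⟨-2, 2, 3, 1, 3, -1, 2, 0⟩, 10822),
  (⟨-2, 2, 4, 0, -4, 0, 0, 0⟩, 10942),
  (⟨-2, 2, 4, 0, -2, -2, 0, 0⟩, 10880),
  (⟨-2, 2, 4, 0, -2, 2, 0, 0⟩, 11025),
  (⟨-2, 2, 4, 0, 0, 0, -4, 0⟩, 10700),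
  (⟨-2, 2, 4, 0, 0, 0, -2, -2⟩, 4140),
  (⟨-2, 2, 4, 0, 0, 0, -2, 2⟩, 3982),
  (⟨-2, 2, 4, 0, 0, 0, 0, 0⟩, 10982),
  (⟨-2, 2, 4, 0, 0, 0, 2, -2⟩, 4109),
  (⟨-2, 2, 4, 0, 0, 0, 2, 2⟩, 4007),
  (⟨-2, 2, 4, 0, 0, 0, 4, 0⟩, 10829),
  (⟨-2, 2, 4, 0, 2, -2, 0, 0⟩, 10900),
  (⟨-2, 2, 4, 0, 2, 2, 0, 0⟩, 11008),
  (⟨-2, 2, 4, 0, 4, 0, 0, 0⟩, 11079),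
  (⟨-2, 2, 5, -1, -1, -1, -2, 0⟩, 10903),
  (⟨-2, 2, 5, -1, -1, -1, 2, 0⟩, 10901),
  (⟨-2, 2, 5, -1, 1, 1, -2, 0⟩, 11030),
  (⟨-2, 2, 5, -1, 1, 1, 2, 0⟩, 11032),
  (⟨-2, 2, 5, 1, -2, 0, -1, 1⟩, 3997),
  (⟨-2, 2, 5, 1, -2, 0, 1, -1⟩, 4126),
  (⟨-2, 2, 5, 1, 2, 0, -1, 1⟩, 4001),
  (⟨-2, 2, 5, 1, 2, 0, 1, -1⟩, 4122),
  (⟨-1, -3, -3, 1, 0, 0, -2, 0⟩, 11547),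
  (⟨-1, -3, -3, 1, 0, 0, 2, 0⟩, 11420),
  (⟨-1, -3, -2, 0, -3, 1, 0, 0⟩, 11421),
  (⟨-1, -3, -2, 0, -1, -1, 0, 0⟩, 4299),
  (⟨-1, -3, -2, 0, 1, 1, 0, 0⟩, 4426),
  (⟨-1, -3, -2, 0, 3, -1, 0, 0⟩, 11546),
  (⟨-1, -3, -1, -1, 0, 0, -2, 0⟩, 4559),
  (⟨-1, -3, -1, -1, 0, 0, 2, 0⟩, 4686),
  (⟨-1, -3, -1, 1, -1, 1, -1, 1⟩, 11434),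
  (⟨-1, -3, -1, 1, -1, 1, 1, -1⟩, 11429),
  (⟨-1, -3, -1, 1, 1, -1, -1, 1⟩, 11554),
  (⟨-1, -3, -1, 1, 1, -1, 1, -1⟩, 11561),
  (⟨-1, -3, 0, 0, -2, 0, -3, 1⟩, 12466),
  (⟨-1, -3, 0, 0, -2, 0, -1, -1⟩, 4805),
  (⟨-1, -3, 0, 0, -2, 0, 1, 1⟩, 4932),
  (⟨-1, -3, 0, 0, -2, 0, 3, -1⟩, 11830),
  (⟨-1, -3, 0, 0, 2, 0, -3, 1⟩, 11965),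
  (⟨-1, -3, 0, 0, 2, 0, -1, -1⟩, 5059),
  (⟨-1, -3, 0, 0, 2, 0, 1, 1⟩, 5184),
  (⟨-1, -3, 0, 0, 2, 0, 3, -1⟩, 12593),
  (⟨-1, -3, 1, -1, -1, 1, -1, 1⟩, 12446),
  (⟨-1, -3, 1, -1, -1, 1, 1, -1⟩, 11815),
  (⟨-1, -3, 1, -1, 1, -1, -1, 1⟩, 11948),
  (⟨-1, -3, 1, -1, 1, -1, 1, -1⟩, 12577),
  (⟨-1, -3, 1, 1, 0, 0, -2, 0⟩, 5280),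
  (⟨-1, -3, 1, 1, 0, 0, 2, 0⟩, 5407),
  (⟨-1, -3, 2, 0, -3, 1, 0, 0⟩, 11703),
  (⟨-1, -3, 2, 0, -1, -1, 0, 0⟩, 5557),
  (⟨-1, -3, 2, 0, 1, 1, 0, 0⟩, 5678),
  (⟨-1, -3, 2, 0, 3, -1, 0, 0⟩, 12092),
  (⟨-1, -3, 3, -1, 0, 0, -2, 0⟩, 12463),
  (⟨-1, -3, 3, -1, 0, 0, 2, 0⟩, 12596),
  (⟨-1, -1, -7, -1, -2, 0, 0, 0⟩, 5770),
  (⟨-1, -1, -7, -1, 2, 0, 0, 0⟩, 5769),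
  (⟨-1, -1, -6, 0, -4, 0, -1, 1⟩, 12700),
  (⟨-1, -1, -6, 0, -4, 0, 1, -1⟩, 12854),
  (⟨-1, -1, -6, 0, 0, 0, -3, -1⟩, 5834),
  (⟨-1, -1, -6, 0, 0, 0, -1, 1⟩, 11187),
  (⟨-1, -1, -6, 0, 0, 0, 1, -1⟩, 11312),
  (⟨-1, -1, -6, 0, 0, 0, 3, 1⟩, 5835),
  (⟨-1, -1, -6, 0, 4, 0, -1, 1⟩, 12989),
  (⟨-1, -1, -6, 0, 4, 0, 1, -1⟩, 13083),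
  (⟨-1, -1, -5, -1, -3, 1, -3, 1⟩, 11163),
  (⟨-1, -1, -5, -1, -3, 1, -1, -1⟩, 5957),
  (⟨-1, -1, -5, -1, -3, 1, 1, 1⟩, 6090),
  (⟨-1, -1, -5, -1, -3, 1, 3, -1⟩, 12839),
  (⟨-1, -1, -5, -1, -1, -1, -3, 1⟩, 11182),
  (⟨-1, -1, -5, -1, -1, -1, -1, -1⟩, 11345),
  (⟨-1, -1, -5, -1, -1, -1, 1, 1⟩, 11223),
  (⟨-1, -1, -5, -1, -1, -1, 3, -1⟩, 11296),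
  (⟨-1, -1, -5, -1, 1, 1, -3, 1⟩, 11167),
  (⟨-1, -1, -5, -1, 1, 1, -1, -1⟩, 4439),
  (⟨-1, -1, -5, -1, 1, 1, 1, 1⟩, 11218),
  (⟨-1, -1, -5, -1, 1, 1, 3, -1⟩, 11317),
  (⟨-1, -1, -5, -1, 3, -1, -3, 1⟩, 12972),
  (⟨-1, -1, -5, -1, 3, -1, -1, -1⟩, 6219),
  (⟨-1, -1, -5, -1, 3, -1, 1, 1⟩, 6336),
  (⟨-1, -1, -5, -1, 3, -1, 3, -1⟩, 11292),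
  (⟨-1, -1, -5, 1, -2, 0, -4, 0⟩, 12728),
  (⟨-1, -1, -5, 1, -2, 0, -2, -2⟩, 13469),
  (⟨-1, -1, -5, 1, -2, 0, -2, 2⟩, 11156),
  (⟨-1, -1, -5, 1, -2, 0, 0, 0⟩, 11490),
  (⟨-1, -1, -5, 1, -2, 0, 2, -2⟩, 11285),
  (⟨-1, -1, -5, 1, -2, 0, 2, 2⟩, 13602),
  (⟨-1, -1, -5, 1, -2, 0, 4, 0⟩, 12835),
  (⟨-1, -1, -5, 1, 0, -2, 0, 0⟩, 4300),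
  (⟨-1, -1, -5, 1, 0, 2, 0, 0⟩, 4429),
  (⟨-1, -1, -5, 1, 2, 0, -4, 0⟩, 12964),
  (⟨-1, -1, -5, 1, 2, 0, -2, -2⟩, 13477),
  (⟨-1, -1, -5, 1, 2, 0, -2, 2⟩, 11158),
  (⟨-1, -1, -5, 1, 2, 0, 0, 0⟩, 11619),
  (⟨-1, -1, -5, 1, 2, 0, 2, -2⟩, 11281),
  (⟨-1, -1, -5, 1, 2, 0, 2, 2⟩, 13594),
  (⟨-1, -1, -5, 1, 2, 0, 4, 0⟩, 13115),
  (⟨-1, -1, -4, -2, -4, 0, -1, 1⟩, 6409),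
  (⟨-1, -1, -4, -2, -4, 0, 1, -1⟩, 6540),
  (⟨-1, -1, -4, -2, 0, 0, -3, -1⟩, 4505),
  (⟨-1, -1, -4, -2, 0, 0, -1, 1⟩, 11217),
  (⟨-1, -1, -4, -2, 0, 0, 1, -1⟩, 11346),
  (⟨-1, -1, -4, -2, 0, 0, 3, 1⟩, 4633),
  (⟨-1, -1, -4, -2, 4, 0, -1, 1⟩, 6667),
  (⟨-1, -1, -4, -2, 4, 0, 1, -1⟩, 6794),
  (⟨-1, -1, -4, 0, -5, 1, -2, 0⟩, 12707),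
  (⟨-1, -1, -4, 0, -5, 1, 2, 0⟩, 12863),
  (⟨-1, -1, -4, 0, -3, -1, -2, 0⟩, 12756),
  (⟨-1, -1, -4, 0, -3, -1, 0, -2⟩, 11310),
  (⟨-1, -1, -4, 0, -3, -1, 0, 2⟩, 11203),
  (⟨-1, -1, -4, 0, -3, -1, 2, 0⟩, 12888),
  (⟨-1, -1, -4, 0, -1, 1, -6, 0⟩, 7613),
  (⟨-1, -1, -4, 0, -1, 1, -4, -2⟩, 5894),
  (⟨-1, -1, -4, 0, -1, 1, -4, 2⟩, 11150),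
  (⟨-1, -1, -4, 0, -1, 1, -2, 0⟩, 11242),
  (⟨-1, -1, -4, 0, -1, 1, 0, -2⟩, 5946),
  (⟨-1, -1, -4, 0, -1, 1, 0, 2⟩, 11181),
  (⟨-1, -1, -4, 0, -1, 1, 2, 0⟩, 12904),
  (⟨-1, -1, -4, 0, -1, 1, 4, -2⟩, 11286),
  (⟨-1, -1, -4, 0, -1, 1, 4, 2⟩, 6025),
  (⟨-1, -1, -4, 0, -1, 1, 6, 0⟩, 12829),
  (⟨-1, -1, -4, 0, 1, -1, -6, 0⟩, 12954),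
  (⟨-1, -1, -4, 0, 1, -1, -4, -2⟩, 6154),
  (⟨-1, -1, -4, 0, 1, -1, -4, 2⟩, 11157),
  (⟨-1, -1, -4, 0, 1, -1, -2, 0⟩, 13035),
  (⟨-1, -1, -4, 0, 1, -1, 0, -2⟩, 11302),
  (⟨-1, -1, -4, 0, 1, -1, 0, 2⟩, 6329),
  (⟨-1, -1, -4, 0, 1, -1, 2, 0⟩, 11369),
  (⟨-1, -1, -4, 0, 1, -1, 4, -2⟩, 11277),
  (⟨-1, -1, -4, 0, 1, -1, 4, 2⟩, 6279),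
  (⟨-1, -1, -4, 0, 1, -1, 6, 0⟩, 7734),
  (⟨-1, -1, -4, 0, 3, 1, -2, 0⟩, 13017),
  (⟨-1, -1, -4, 0, 3, 1, 0, -2⟩, 11332),
  (⟨-1, -1, -4, 0, 3, 1, 0, 2⟩, 11189),
  (⟨-1, -1, -4, 0, 3, 1, 2, 0⟩, 13141),
  (⟨-1, -1, -4, 0, 5, -1, -2, 0⟩, 12998),
  (⟨-1, -1, -4, 0, 5, -1, 2, 0⟩, 13092),
  (⟨-1, -1, -4, 2, -4, 0, -1, 1⟩, 11413),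
  (⟨-1, -1, -4, 2, -4, 0, 1, -1⟩, 11411),
  (⟨-1, -1, -4, 2, 0, 0, -3, -1⟩, 13475),
  (⟨-1, -1, -4, 2, 0, 0, -1, 1⟩, 13660),
  (⟨-1, -1, -4, 2, 0, 0, 1, -1⟩, 13533),
  (⟨-1, -1, -4, 2, 0, 0, 3, 1⟩, 13604),
  (⟨-1, -1, -4, 2, 4, 0, -1, 1⟩, 11538),
  (⟨-1, -1, -4, 2, 4, 0, 1, -1⟩, 11542),
  (⟨-1, -1, -3, -1, -6, 0, 0, 0⟩, 7492),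
  (⟨-1, -1, -3, -1, -4, -2, 0, 0⟩, 4249),
  (⟨-1, -1, -3, -1, -4, 2, 0, 0⟩, 13246),
  (⟨-1, -1, -3, -1, -2, 0, -4, 0⟩, 12762),
  (⟨-1, -1, -3, -1, -2, 0, -2, -2⟩, 5974),
  (⟨-1, -1, -3, -1, -2, 0, -2, 2⟩, 11176),
  (⟨-1, -1, -3, -1, -2, 0, 0, 0⟩, 11245),
  (⟨-1, -1, -3, -1, -2, 0, 2, -2⟩, 11315),
  (⟨-1, -1, -3, -1, -2, 0, 2, 2⟩, 11222),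
  (⟨-1, -1, -3, -1, -2, 0, 4, 0⟩, 12885),
  (⟨-1, -1, -3, -1, 0, -2, -4, 0⟩, 11935),
  (⟨-1, -1, -3, -1, 0, -2, -2, -2⟩, 6152),
  (⟨-1, -1, -3, -1, 0, -2, -2, 2⟩, 13746),
  (⟨-1, -1, -3, -1, 0, -2, 0, 0⟩, 4314),
  (⟨-1, -1, -3, -1, 0, -2, 2, -2⟩, 11290),
  (⟨-1, -1, -3, -1, 0, -2, 2, 2⟩, 6281),
  (⟨-1, -1, -3, -1, 0, -2, 4, 0⟩, 12078),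
  (⟨-1, -1, -3, -1, 0, 2, -4, 0⟩, 11701),
  (⟨-1, -1, -3, -1, 0, 2, -2, -2⟩, 5898),
  (⟨-1, -1, -3, -1, 0, 2, -2, 2⟩, 11165),
  (⟨-1, -1, -3, -1, 0, 2, 0, 0⟩, 13274),
  (⟨-1, -1, -3, -1, 0, 2, 2, -2⟩, 14129),
  (⟨-1, -1, -3, -1, 0, 2, 2, 2⟩, 6021),
  (⟨-1, -1, -3, -1, 0, 2, 4, 0⟩, 11808),
  (⟨-1, -1, -3, -1, 2, 0, -4, 0⟩, 13012),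
  (⟨-1, -1, -3, -1, 2, 0, -2, -2⟩, 11347),
  (⟨-1, -1, -3, -1, 2, 0, -2, 2⟩, 11184),
  (⟨-1, -1, -3, -1, 2, 0, 0, 0⟩, 13165),
  (⟨-1, -1, -3, -1, 2, 0, 2, -2⟩, 11307),
  (⟨-1, -1, -3, -1, 2, 0, 2, 2⟩, 6355),
  (⟨-1, -1, -3, -1, 2, 0, 4, 0⟩, 4698),
  (⟨-1, -1, -3, -1, 4, -2, 0, 0⟩, 13383),
  (⟨-1, -1, -3, -1, 4, 2, 0, 0⟩, 4377),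
  (⟨-1, -1, -3, -1, 6, 0, 0, 0⟩, 7875),
  (⟨-1, -1, -3, 1, -5, -1, -3, 1⟩, 6941),
  (⟨-1, -1, -3, 1, -5, -1, -1, -1⟩, 11456),
  (⟨-1, -1, -3, 1, -5, -1, 1, 1⟩, 11438),
  (⟨-1, -1, -3, 1, -5, -1, 3, -1⟩, 11433),
  (⟨-1, -1, -3, 1, -3, 1, -5, -1⟩, 11698),
  (⟨-1, -1, -3, 1, -3, 1, -3, 1⟩, 12772),
  (⟨-1, -1, -3, 1, -3, 1, -1, -1⟩, 5990),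
  (⟨-1, -1, -3, 1, -3, 1, 1, 1⟩, 11491),
  (⟨-1, -1, -3, 1, -3, 1, 3, -1⟩, 11489),
  (⟨-1, -1, -3, 1, -3, 1, 5, 1⟩, 12842),
  (⟨-1, -1, -3, 1, -1, -1, -5, -1⟩, 6987),
  (⟨-1, -1, -3, 1, -1, -1, -3, 1⟩, 7008),
  (⟨-1, -1, -3, 1, -1, -1, -1, -1⟩, 13543),
  (⟨-1, -1, -3, 1, -1, -1, 1, 1⟩, 7144),
  (⟨-1, -1, -3, 1, -1, -1, 3, -1⟩, 11366),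
  (⟨-1, -1, -3, 1, -1, -1, 5, 1⟩, 7071),
  (⟨-1, -1, -3, 1, 1, 1, -5, -1⟩, 7200),
  (⟨-1, -1, -3, 1, 1, 1, -3, 1⟩, 7270),
  (⟨-1, -1, -3, 1, 1, 1, -1, -1⟩, 7275),
  (⟨-1, -1, -3, 1, 1, 1, 1, 1⟩, 13671),
  (⟨-1, -1, -3, 1, 1, 1, 3, -1⟩, 7391),
  (⟨-1, -1, -3, 1, 1, 1, 5, 1⟩, 7370),
  (⟨-1, -1, -3, 1, 3, -1, -5, -1⟩, 12969),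
  (⟨-1, -1, -3, 1, 3, -1, -3, 1⟩, 11614),
  (⟨-1, -1, -3, 1, 3, -1, -1, -1⟩, 11618),
  (⟨-1, -1, -3, 1, 3, -1, 1, 1⟩, 11622),
  (⟨-1, -1, -3, 1, 3, -1, 3, -1⟩, 11364),
  (⟨-1, -1, -3, 1, 3, -1, 5, 1⟩, 12081),
  (⟨-1, -1, -3, 1, 5, 1, -3, 1⟩, 11562),
  (⟨-1, -1, -3, 1, 5, 1, -1, -1⟩, 11573),
  (⟨-1, -1, -3, 1, 5, 1, 1, 1⟩, 11589),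
  (⟨-1, -1, -3, 1, 5, 1, 3, -1⟩, 7322),
  (⟨-1, -1, -3, 3, -2, 0, 0, 0⟩, 11415),
  (⟨-1, -1, -3, 3, 2, 0, 0, 0⟩, 11544),
  (⟨-1, -1, -2, -2, -5, 1, -2, 0⟩, 12210),
  (⟨-1, -1, -2, -2, -5, 1, 2, 0⟩, 12190),
  (⟨-1, -1, -2, -2, -3, -1, -2, 0⟩, 4566),
  (⟨-1, -1, -2, -2, -3, -1, 0, -2⟩, 6538),
  (⟨-1, -1, -2, -2, -3, -1, 0, 2⟩, 6412),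
  (⟨-1, -1, -2, -2, -3, -1, 2, 0⟩, 12241),
  (⟨-1, -1, -2, -2, -1, 1, -2, 0⟩, 4569),
  (⟨-1, -1, -2, -2, -1, 1, 0, -2⟩, 6606),
  (⟨-1, -1, -2, -2, -1, 1, 0, 2⟩, 6468),
  (⟨-1, -1, -2, -2, -1, 1, 2, 0⟩, 13275),
  (⟨-1, -1, -2, -2, 1, -1, -2, 0⟩, 4571),
  (⟨-1, -1, -2, -2, 1, -1, 0, -2⟩, 6851),
  (⟨-1, -1, -2, -2, 1, -1, 0, 2⟩, 6735),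
  (⟨-1, -1, -2, -2, 1, -1, 2, 0⟩, 4696),
  (⟨-1, -1, -2, -2, 3, 1, -2, 0⟩, 12370),
  (⟨-1, -1, -2, -2, 3, 1, 0, -2⟩, 6795),
  (⟨-1, -1, -2, -2, 3, 1, 0, 2⟩, 6665),
  (⟨-1, -1, -2, -2, 3, 1, 2, 0⟩, 4691),
  (⟨-1, -1, -2, -2, 5, -1, -2, 0⟩, 12321),
  (⟨-1, -1, -2, -2, 5, -1, 2, 0⟩, 12337),
  (⟨-1, -1, -2, 0, -4, 0, -5, 1⟩, 12734),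
  (⟨-1, -1, -2, 0, -4, 0, -3, -1⟩, 12760),
  (⟨-1, -1, -2, 0, -4, 0, -1, 1⟩, 12777),
  (⟨-1, -1, -2, 0, -4, 0, 1, -1⟩, 11498),
  (⟨-1, -1, -2, 0, -4, 0, 3, 1⟩, 12891),
  (⟨-1, -1, -2, 0, -4, 0, 5, -1⟩, 12859),
  (⟨-1, -1, -2, 0, -2, -2, -5, 1⟩, 11931),
  (⟨-1, -1, -2, 0, -2, -2, -3, -1⟩, 6230),
  (⟨-1, -1, -2, 0, -2, -2, -1, 1⟩, 4315),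
  (⟨-1, -1, -2, 0, -2, -2, 1, -1⟩, 13909),
  (⟨-1, -1, -2, 0, -2, -2, 3, 1⟩, 7123),
  (⟨-1, -1, -2, 0, -2, -2, 5, -1⟩, 13857),
  (⟨-1, -1, -2, 0, -2, 2, -5, 1⟩, 11670),
  (⟨-1, -1, -2, 0, -2, 2, -3, -1⟩, 11691),
  (⟨-1, -1, -2, 0, -2, 2, -1, 1⟩, 6117),
  (⟨-1, -1, -2, 0, -2, 2, 1, -1⟩, 11874),
  (⟨-1, -1, -2, 0, -2, 2, 3, 1⟩, 6073),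
  (⟨-1, -1, -2, 0, -2, 2, 5, -1⟩, 11789),
  (⟨-1, -1, -2, 0, 0, 0, -7, -1⟩, 7560),
  (⟨-1, -1, -2, 0, 0, 0, -5, 1⟩, 11237),
  (⟨-1, -1, -2, 0, 0, 0, -3, -1⟩, 13037),
  (⟨-1, -1, -2, 0, 0, 0, -3, 3⟩, 11154),
  (⟨-1, -1, -2, 0, 0, 0, -1, -3⟩, 11328),
  (⟨-1, -1, -2, 0, 0, 0, -1, 1⟩, 11244),
  (⟨-1, -1, -2, 0, 0, 0, 1, -1⟩, 11372),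
  (⟨-1, -1, -2, 0, 0, 0, 1, 3⟩, 11205),
  (⟨-1, -1, -2, 0, 0, 0, 3, -3⟩, 11283),
  (⟨-1, -1, -2, 0, 0, 0, 3, 1⟩, 13677),
  (⟨-1, -1, -2, 0, 0, 0, 5, -1⟩, 7781),
  (⟨-1, -1, -2, 0, 0, 0, 7, 1⟩, 7685),
  (⟨-1, -1, -2, 0, 2, -2, -5, 1⟩, 11918),
  (⟨-1, -1, -2, 0, 2, -2, -3, -1⟩, 6202),
  (⟨-1, -1, -2, 0, 2, -2, -1, 1⟩, 12003),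
  (⟨-1, -1, -2, 0, 2, -2, 1, -1⟩, 12133),
  (⟨-1, -1, -2, 0, 2, -2, 3, 1⟩, 12072),
  (⟨-1, -1, -2, 0, 2, -2, 5, -1⟩, 12053),
  (⟨-1, -1, -2, 0, 2, 2, -5, 1⟩, 13982),
  (⟨-1, -1, -2, 0, 2, 2, -3, -1⟩, 7254),
  (⟨-1, -1, -2, 0, 2, 2, -1, 1⟩, 14036),
  (⟨-1, -1, -2, 0, 2, 2, 1, -1⟩, 14171),
  (⟨-1, -1, -2, 0, 2, 2, 3, 1⟩, 6099),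
  (⟨-1, -1, -2, 0, 2, 2, 5, -1⟩, 11804),
  (⟨-1, -1, -2, 0, 4, 0, -5, 1⟩, 12984),
  (⟨-1, -1, -2, 0, 4, 0, -3, -1⟩, 5083),
  (⟨-1, -1, -2, 0, 4, 0, -1, 1⟩, 11625),
  (⟨-1, -1, -2, 0, 4, 0, 1, -1⟩, 13162),
  (⟨-1, -1, -2, 0, 4, 0, 3, 1⟩, 13145),
  (⟨-1, -1, -2, 0, 4, 0, 5, -1⟩, 13127),
  (⟨-1, -1, -2, 2, -5, 1, -2, 0⟩, 11416),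
  (⟨-1, -1, -2, 2, -5, 1, 2, 0⟩, 11412),
  (⟨-1, -1, -2, 2, -3, -1, -2, 0⟩, 6957),
  (⟨-1, -1, -2, 2, -3, -1, 0, -2⟩, 13467),
  (⟨-1, -1, -2, 2, -3, -1, 0, 2⟩, 8498),
  (⟨-1, -1, -2, 2, -3, -1, 2, 0⟩, 11457),
  (⟨-1, -1, -2, 2, -1, 1, -2, 0⟩, 7263),
  (⟨-1, -1, -2, 2, -1, 1, 0, -2⟩, 13499),
  (⟨-1, -1, -2, 2, -1, 1, 0, 2⟩, 13603),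
  (⟨-1, -1, -2, 2, -1, 1, 2, 0⟩, 7397),
  (⟨-1, -1, -2, 2, 1, -1, -2, 0⟩, 11621),
  (⟨-1, -1, -2, 2, 1, -1, 0, -2⟩, 13476),
  (⟨-1, -1, -2, 2, 1, -1, 0, 2⟩, 13624),
  (⟨-1, -1, -2, 2, 1, -1, 2, 0⟩, 7136),
  (⟨-1, -1, -2, 2, 3, 1, -2, 0⟩, 7233),
  (⟨-1, -1, -2, 2, 3, 1, 0, -2⟩, 8881),
  (⟨-1, -1, -2, 2, 3, 1, 0, 2⟩, 13596),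
  (⟨-1, -1, -2, 2, 3, 1, 2, 0⟩, 7334),
  (⟨-1, -1, -2, 2, 5, -1, -2, 0⟩, 11537),
  (⟨-1, -1, -2, 2, 5, -1, 2, 0⟩, 11543),
  (⟨-1, -1, -1, -3, -2, 0, 0, 0⟩, 12191),
  (⟨-1, -1, -1, -3, 2, 0, 0, 0⟩, 12320),
  (⟨-1, -1, -1, -1, -5, -1, -3, 1⟩, 6479),
  (⟨-1, -1, -1, -1, -5, -1, -1, -1⟩, 4818),
  (⟨-1, -1, -1, -1, -5, -1, 1, 1⟩, 12247),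
  (⟨-1, -1, -1, -1, -5, -1, 3, -1⟩, 6597),
  (⟨-1, -1, -1, -1, -3, 1, -5, -1⟩, 11679),
  (⟨-1, -1, -1, -1, -3, 1, -3, 1⟩, 11747),
  (⟨-1, -1, -1, -1, -3, 1, -1, -1⟩, 11751),
  (⟨-1, -1, -1, -1, -3, 1, 1, 1⟩, 4970),
  (⟨-1, -1, -1, -1, -3, 1, 3, -1⟩, 11871),
  (⟨-1, -1, -1, -1, -3, 1, 5, 1⟩, 11843),
  (⟨-1, -1, -1, -1, -1, -1, -5, -1⟩, 11987),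
  (⟨-1, -1, -1, -1, -1, -1, -3, 1⟩, 12007),
  (⟨-1, -1, -1, -1, -1, -1, -1, -1⟩, 11373),
  (⟨-1, -1, -1, -1, -1, -1, -1, 3⟩, 13726),
  (⟨-1, -1, -1, -1, -1, -1, 1, -3⟩, 11305),
  (⟨-1, -1, -1, -1, -1, -1, 1, 1⟩, 12141),
  (⟨-1, -1, -1, -1, -1, -1, 3, -1⟩, 11371),
  (⟨-1, -1, -1, -1, -1, -1, 5, 1⟩, 12119),
  (⟨-1, -1, -1, -1, -1, 3, -1, -1⟩, 11685),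
  (⟨-1, -1, -1, -1, -1, 3, 1, 1⟩, 6055),
  (⟨-1, -1, -1, -1, 1, -3, -1, -1⟩, 6188),
  (⟨-1, -1, -1, -1, 1, -3, 1, 1⟩, 12066),
  (⟨-1, -1, -1, -1, 1, 1, -5, -1⟩, 8279),
  (⟨-1, -1, -1, -1, 1, 1, -3, 1⟩, 11240),
  (⟨-1, -1, -1, -1, 1, 1, -1, -1⟩, 4461),
  (⟨-1, -1, -1, -1, 1, 1, -1, 3⟩, 11178),
  (⟨-1, -1, -1, -1, 1, 1, 1, -3⟩, 14113),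
  (⟨-1, -1, -1, -1, 1, 1, 1, 1⟩, 5229),
  (⟨-1, -1, -1, -1, 1, 1, 3, -1⟩, 11879),
  (⟨-1, -1, -1, -1, 1, 1, 5, 1⟩, 11862),
  (⟨-1, -1, -1, -1, 3, -1, -5, -1⟩, 11972),
  (⟨-1, -1, -1, -1, 3, -1, -3, 1⟩, 12000),
  (⟨-1, -1, -1, -1, 3, -1, -1, -1⟩, 5097),
  (⟨-1, -1, -1, -1, 3, -1, 1, 1⟩, 12135),
  (⟨-1, -1, -1, -1, 3, -1, 3, -1⟩, 12130),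
  (⟨-1, -1, -1, -1, 3, -1, 5, 1⟩, 12064),
  (⟨-1, -1, -1, -1, 5, 1, -3, 1⟩, 6720),
  (⟨-1, -1, -1, -1, 5, 1, -1, -1⟩, 7895),
  (⟨-1, -1, -1, -1, 5, 1, 1, 1⟩, 5201),
  (⟨-1, -1, -1, -1, 5, 1, 3, -1⟩, 6862),
  (⟨-1, -1, -1, 1, -6, 0, -4, 0⟩, 12727),
  (⟨-1, -1, -1, 1, -6, 0, 0, 0⟩, 11458),
  (⟨-1, -1, -1, 1, -6, 0, 4, 0⟩, 7452),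
  (⟨-1, -1, -1, 1, -4, -2, -4, 0⟩, 6914),
  (⟨-1, -1, -1, 1, -4, -2, 0, 0⟩, 6994),
  (⟨-1, -1, -1, 1, -4, -2, 4, 0⟩, 7047),
  (⟨-1, -1, -1, 1, -4, 2, -4, 0⟩, 11667),
  (⟨-1, -1, -1, 1, -4, 2, 0, 0⟩, 14558),
  (⟨-1, -1, -1, 1, -4, 2, 4, 0⟩, 11799),
  (⟨-1, -1, -1, 1, -2, 0, -4, 0⟩, 7659),
  (⟨-1, -1, -1, 1, -2, 0, -2, -2⟩, 13525),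
  (⟨-1, -1, -1, 1, -2, 0, -2, 2⟩, 8546),
  (⟨-1, -1, -1, 1, -2, 0, 0, 0⟩, 11500),
  (⟨-1, -1, -1, 1, -2, 0, 2, -2⟩, 8672),
  (⟨-1, -1, -1, 1, -2, 0, 2, 2⟩, 13656),
  (⟨-1, -1, -1, 1, -2, 0, 4, 0⟩, 11499),
  (⟨-1, -1, -1, 1, 0, -2, -4, 0⟩, 11970),
  (⟨-1, -1, -1, 1, 0, -2, -2, -2⟩, 6211),
  (⟨-1, -1, -1, 1, 0, -2, -2, 2⟩, 13766),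
  (⟨-1, -1, -1, 1, 0, -2, 0, 0⟩, 14698),
  (⟨-1, -1, -1, 1, 0, -2, 2, -2⟩, 13883),
  (⟨-1, -1, -1, 1, 0, -2, 2, 2⟩, 6347),
  (⟨-1, -1, -1, 1, 0, -2, 4, 0⟩, 7083),
  (⟨-1, -1, -1, 1, 0, 2, -4, 0⟩, 7208),
  (⟨-1, -1, -1, 1, 0, 2, -2, -2⟩, 5962),
  (⟨-1, -1, -1, 1, 0, 2, -2, 2⟩, 14008),
  (⟨-1, -1, -1, 1, 0, 2, 0, 0⟩, 14569),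
  (⟨-1, -1, -1, 1, 0, 2, 2, -2⟩, 14143),
  (⟨-1, -1, -1, 1, 0, 2, 2, 2⟩, 6084),
  (⟨-1, -1, -1, 1, 0, 2, 4, 0⟩, 7362),
  (⟨-1, -1, -1, 1, 2, 0, -4, 0⟩, 11624),
  (⟨-1, -1, -1, 1, 2, 0, -2, -2⟩, 13529),
  (⟨-1, -1, -1, 1, 2, 0, -2, 2⟩, 8799),
  (⟨-1, -1, -1, 1, 2, 0, 0, 0⟩, 11628),
  (⟨-1, -1, -1, 1, 2, 0, 2, -2⟩, 8931),
  (⟨-1, -1, -1, 1, 2, 0, 2, 2⟩, 13652),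
  (⟨-1, -1, -1, 1, 2, 0, 4, 0⟩, 7784),
  (⟨-1, -1, -1, 1, 4, -2, -4, 0⟩, 11928),
  (⟨-1, -1, -1, 1, 4, -2, 0, 0⟩, 14689),
  (⟨-1, -1, -1, 1, 4, -2, 4, 0⟩, 12050),
  (⟨-1, -1, -1, 1, 4, 2, -4, 0⟩, 7174),
  (⟨-1, -1, -1, 1, 4, 2, 0, 0⟩, 7377),
  (⟨-1, -1, -1, 1, 4, 2, 4, 0⟩, 7297),
  (⟨-1, -1, -1, 1, 6, 0, -4, 0⟩, 7835),
  (⟨-1, -1, -1, 1, 6, 0, 0, 0⟩, 7874),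
  (⟨-1, -1, -1, 1, 6, 0, 4, 0⟩, 13116),
  (⟨-1, -1, -1, 3, -1, -1, -1, -1⟩, 13474),
  (⟨-1, -1, -1, 3, -1, -1, 1, 1⟩, 7082),
  (⟨-1, -1, -1, 3, 1, 1, -1, -1⟩, 7209),
  (⟨-1, -1, -1, 3, 1, 1, 1, 1⟩, 13605),
  (⟨-1, -1, 0, -2, -4, 0, -3, -1⟩, 12224),
  (⟨-1, -1, 0, -2, -4, 0, -1, 1⟩, 12211),
  (⟨-1, -1, 0, -2, -4, 0, 1, -1⟩, 12198),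
  (⟨-1, -1, 0, -2, -4, 0, 3, 1⟩, 12192),
  (⟨-1, -1, 0, -2, -2, -2, -3, -1⟩, 7948),
  (⟨-1, -1, 0, -2, -2, -2, -1, 1⟩, 7989),
  (⟨-1, -1, 0, -2, -2, -2, 1, -1⟩, 8142),
  (⟨-1, -1, 0, -2, -2, -2, 3, 1⟩, 8071),
  (⟨-1, -1, 0, -2, -2, 2, -3, -1⟩, 11677),
  (⟨-1, -1, 0, -2, -2, 2, -1, 1⟩, 13260),
  (⟨-1, -1, 0, -2, -2, 2, 1, -1⟩, 13247),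
  (⟨-1, -1, 0, -2, -2, 2, 3, 1⟩, 11828),
  (⟨-1, -1, 0, -2, 0, 0, -5, 1⟩, 4539),
  (⟨-1, -1, 0, -2, 0, 0, -3, -1⟩, 4568),
  (⟨-1, -1, 0, -2, 0, 0, -1, 1⟩, 12395),
  (⟨-1, -1, 0, -2, 0, 0, 1, -1⟩, 12264),
  (⟨-1, -1, 0, -2, 0, 0, 3, 1⟩, 4697),
  (⟨-1, -1, 0, -2, 0, 0, 5, -1⟩, 4664),
  (⟨-1, -1, 0, -2, 2, -2, -3, -1⟩, 11951),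
  (⟨-1, -1, 0, -2, 2, -2, -1, 1⟩, 13382),
  (⟨-1, -1, 0, -2, 2, -2, 1, -1⟩, 13389),
  (⟨-1, -1, 0, -2, 2, -2, 3, 1⟩, 12058),
  (⟨-1, -1, 0, -2, 2, 2, -3, -1⟩, 8198),
  (⟨-1, -1, 0, -2, 2, 2, -1, 1⟩, 8271),
  (⟨-1, -1, 0, -2, 2, 2, 1, -1⟩, 8366),
  (⟨-1, -1, 0, -2, 2, 2, 3, 1⟩, 8331),
  (⟨-1, -1, 0, -2, 4, 0, -3, -1⟩, 12319),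
  (⟨-1, -1, 0, -2, 4, 0, -1, 1⟩, 12333),
  (⟨-1, -1, 0, -2, 4, 0, 1, -1⟩, 12336),
  (⟨-1, -1, 0, -2, 4, 0, 3, 1⟩, 12357),
  (⟨-1, -1, 0, 0, -7, -1, -2, 0⟩, 7436),
  (⟨-1, -1, 0, 0, -7, -1, 2, 0⟩, 7426),
  (⟨-1, -1, 0, 0, -5, 1, -2, 0⟩, 11743),
  (⟨-1, -1, 0, 0, -5, 1, 0, -2⟩, 4806),
  (⟨-1, -1, 0, 0, -5, 1, 0, 2⟩, 4935),
  (⟨-1, -1, 0, 0, -5, 1, 2, 0⟩, 7520),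
  (⟨-1, -1, 0, 0, -3, -1, -6, 0⟩, 7584),
  (⟨-1, -1, 0, 0, -3, -1, -4, -2⟩, 4761),
  (⟨-1, -1, 0, 0, -3, -1, -4, 2⟩, 13752),
  (⟨-1, -1, 0, 0, -3, -1, -2, 0⟩, 12013),
  (⟨-1, -1, 0, 0, -3, -1, 0, -2⟩, 4820),
  (⟨-1, -1, 0, 0, -3, -1, 0, 2⟩, 13780),
  (⟨-1, -1, 0, 0, -3, -1, 2, 0⟩, 11501),
  (⟨-1, -1, 0, 0, -3, -1, 4, -2⟩, 13897),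
  (⟨-1, -1, 0, 0, -3, -1, 4, 2⟩, 4889),
  (⟨-1, -1, 0, 0, -3, -1, 6, 0⟩, 7758),
  (⟨-1, -1, 0, 0, -3, 3, -2, 0⟩, 11664),
  (⟨-1, -1, 0, 0, -3, 3, 2, 0⟩, 11798),
  (⟨-1, -1, 0, 0, -1, -3, -2, 0⟩, 11950),
  (⟨-1, -1, 0, 0, -1, -3, 2, 0⟩, 12106),
  (⟨-1, -1, 0, 0, -1, 1, -6, 0⟩, 7610),
  (⟨-1, -1, 0, 0, -1, 1, -4, -2⟩, 11731),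
  (⟨-1, -1, 0, 0, -1, 1, -4, 2⟩, 12513),
  (⟨-1, -1, 0, 0, -1, 1, -2, 0⟩, 11756),
  (⟨-1, -1, 0, 0, -1, 1, 0, -2⟩, 9065),
  (⟨-1, -1, 0, 0, -1, 1, 0, 2⟩, 12523),
  (⟨-1, -1, 0, 0, -1, 1, 2, 0⟩, 11884),
  (⟨-1, -1, 0, 0, -1, 1, 4, -2⟩, 11868),
  (⟨-1, -1, 0, 0, -1, 1, 4, 2⟩, 4946),
  (⟨-1, -1, 0, 0, -1, 1, 6, 0⟩, 11834),
  (⟨-1, -1, 0, 0, 1, -1, -6, 0⟩, 11961),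
  (⟨-1, -1, 0, 0, 1, -1, -4, -2⟩, 5073),
  (⟨-1, -1, 0, 0, 1, -1, -4, 2⟩, 11997),
  (⟨-1, -1, 0, 0, 1, -1, -2, 0⟩, 12012),
  (⟨-1, -1, 0, 0, 1, -1, 0, -2⟩, 12648),
  (⟨-1, -1, 0, 0, 1, -1, 0, 2⟩, 9450),
  (⟨-1, -1, 0, 0, 1, -1, 2, 0⟩, 12140),
  (⟨-1, -1, 0, 0, 1, -1, 4, -2⟩, 12638),
  (⟨-1, -1, 0, 0, 1, -1, 4, 2⟩, 12118),
  (⟨-1, -1, 0, 0, 1, -1, 6, 0⟩, 7737),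
  (⟨-1, -1, 0, 0, 1, 3, -2, 0⟩, 11723),
  (⟨-1, -1, 0, 0, 1, 3, 2, 0⟩, 11829),
  (⟨-1, -1, 0, 0, 3, -3, -2, 0⟩, 11925),
  (⟨-1, -1, 0, 0, 3, -3, 2, 0⟩, 12047),
  (⟨-1, -1, 0, 0, 3, 1, -6, 0⟩, 7631),
  (⟨-1, -1, 0, 0, 3, 1, -4, -2⟩, 5017),
  (⟨-1, -1, 0, 0, 3, 1, -4, 2⟩, 14024),
  (⟨-1, -1, 0, 0, 3, 1, -2, 0⟩, 7917),
  (⟨-1, -1, 0, 0, 3, 1, 0, -2⟩, 14165),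
  (⟨-1, -1, 0, 0, 3, 1, 0, 2⟩, 5205),
  (⟨-1, -1, 0, 0, 3, 1, 2, 0⟩, 7405),
  (⟨-1, -1, 0, 0, 3, 1, 4, -2⟩, 14139),
  (⟨-1, -1, 0, 0, 3, 1, 4, 2⟩, 5145),
  (⟨-1, -1, 0, 0, 3, 1, 6, 0⟩, 7711),
  (⟨-1, -1, 0, 0, 5, -1, -2, 0⟩, 7903),
  (⟨-1, -1, 0, 0, 5, -1, 0, -2⟩, 5054),
  (⟨-1, -1, 0, 0, 5, -1, 0, 2⟩, 5183),
  (⟨-1, -1, 0, 0, 5, -1, 2, 0⟩, 12128),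
  (⟨-1, -1, 0, 0, 7, 1, -2, 0⟩, 7809),
  (⟨-1, -1, 0, 0, 7, 1, 2, 0⟩, 7819),
  (⟨-1, -1, 0, 2, -4, 0, -3, -1⟩, 11470),
  (⟨-1, -1, 0, 2, -4, 0, -1, 1⟩, 8491),
  (⟨-1, -1, 0, 2, -4, 0, 1, -1⟩, 8624),
  (⟨-1, -1, 0, 2, -4, 0, 3, 1⟩, 11459),
  (⟨-1, -1, 0, 2, -2, -2, -3, -1⟩, 6920),
  (⟨-1, -1, 0, 2, -2, -2, -1, 1⟩, 6944),
  (⟨-1, -1, 0, 2, -2, -2, 1, -1⟩, 7115),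
  (⟨-1, -1, 0, 2, -2, -2, 3, 1⟩, 7042),
  (⟨-1, -1, 0, 2, -2, 2, -3, -1⟩, 7195),
  (⟨-1, -1, 0, 2, -2, 2, -1, 1⟩, 14526),
  (⟨-1, -1, 0, 2, -2, 2, 1, -1⟩, 14499),
  (⟨-1, -1, 0, 2, -2, 2, 3, 1⟩, 14519),
  (⟨-1, -1, 0, 2, 0, 0, -5, 1⟩, 5321),
  (⟨-1, -1, 0, 2, 0, 0, -3, -1⟩, 13528),
  (⟨-1, -1, 0, 2, 0, 0, -1, 1⟩, 8810),
  (⟨-1, -1, 0, 2, 0, 0, 1, -1⟩, 8681),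
  (⟨-1, -1, 0, 2, 0, 0, 3, 1⟩, 13657),
  (⟨-1, -1, 0, 2, 0, 0, 5, -1⟩, 5448),
  (⟨-1, -1, 0, 2, 2, -2, -3, -1⟩, 14652),
  (⟨-1, -1, 0, 2, 2, -2, -1, 1⟩, 14628),
  (⟨-1, -1, 0, 2, 2, -2, 1, -1⟩, 14663),
  (⟨-1, -1, 0, 2, 2, -2, 3, 1⟩, 7068),
  (⟨-1, -1, 0, 2, 2, 2, -3, -1⟩, 7169),
  (⟨-1, -1, 0, 2, 2, 2, -1, 1⟩, 7242),
  (⟨-1, -1, 0, 2, 2, 2, 1, -1⟩, 7327),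
  (⟨-1, -1, 0, 2, 2, 2, 3, 1⟩, 7301),
  (⟨-1, -1, 0, 2, 4, 0, -3, -1⟩, 11588),
  (⟨-1, -1, 0, 2, 4, 0, -1, 1⟩, 8755),
  (⟨-1, -1, 0, 2, 4, 0, 1, -1⟩, 8872),
  (⟨-1, -1, 0, 2, 4, 0, 3, 1⟩, 11599),
  (⟨-1, -1, 1, -3, -1, -1, -1, -1⟩, 12199),
  (⟨-1, -1, 1, -3, -1, -1, 1, 1⟩, 12193),
  (⟨-1, -1, 1, -3, 1, 1, -1, -1⟩, 12318),
  (⟨-1, -1, 1, -3, 1, 1, 1, 1⟩, 12332),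
  (⟨-1, -1, 1, -1, -6, 0, -4, 0⟩, 14767),
  (⟨-1, -1, 1, -1, -6, 0, 0, 0⟩, 12225),
  (⟨-1, -1, 1, -1, -6, 0, 4, 0⟩, 7453),
  (⟨-1, -1, 1, -1, -4, -2, -4, 0⟩, 7944),
  (⟨-1, -1, 1, -1, -4, -2, 0, 0⟩, 5587),
  (⟨-1, -1, 1, -1, -4, -2, 4, 0⟩, 8076),
  (⟨-1, -1, 1, -1, -4, 2, -4, 0⟩, 11662),
  (⟨-1, -1, 1, -1, -4, 2, 0, 0⟩, 11741),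
  (⟨-1, -1, 1, -1, -4, 2, 4, 0⟩, 11796),
  (⟨-1, -1, 1, -1, -2, 0, -4, 0⟩, 7657),
  (⟨-1, -1, 1, -1, -2, 0, -2, -2⟩, 4825),
  (⟨-1, -1, 1, -1, -2, 0, -2, 2⟩, 12511),
  (⟨-1, -1, 1, -1, -2, 0, 0, 0⟩, 12268),
  (⟨-1, -1, 1, -1, -2, 0, 2, -2⟩, 12642),
  (⟨-1, -1, 1, -1, -2, 0, 2, 2⟩, 4949),
  (⟨-1, -1, 1, -1, -2, 0, 4, 0⟩, 12265),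
  (⟨-1, -1, 1, -1, 0, -2, -4, 0⟩, 11942),
  (⟨-1, -1, 1, -1, 0, -2, -2, -2⟩, 9269),
  (⟨-1, -1, 1, -1, 0, -2, -2, 2⟩, 13768),
  (⟨-1, -1, 1, -1, 0, -2, 0, 0⟩, 5608),
  (⟨-1, -1, 1, -1, 0, -2, 2, -2⟩, 13895),
  (⟨-1, -1, 1, -1, 0, -2, 2, 2⟩, 9408),
  (⟨-1, -1, 1, -1, 0, -2, 4, 0⟩, 12097),
  (⟨-1, -1, 1, -1, 0, 2, -4, 0⟩, 8257),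
  (⟨-1, -1, 1, -1, 0, 2, -2, -2⟩, 9029),
  (⟨-1, -1, 1, -1, 0, 2, -2, 2⟩, 14014),
  (⟨-1, -1, 1, -1, 0, 2, 0, 0⟩, 5739),
  (⟨-1, -1, 1, -1, 0, 2, 2, -2⟩, 14153),
  (⟨-1, -1, 1, -1, 0, 2, 2, 2⟩, 9134),
  (⟨-1, -1, 1, -1, 0, 2, 4, 0⟩, 11821),
  (⟨-1, -1, 1, -1, 2, 0, -4, 0⟩, 12394),
  (⟨-1, -1, 1, -1, 2, 0, -2, -2⟩, 5076),
  (⟨-1, -1, 1, -1, 2, 0, -2, 2⟩, 12515),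
  (⟨-1, -1, 1, -1, 2, 0, 0, 0⟩, 12396),
  (⟨-1, -1, 1, -1, 2, 0, 2, -2⟩, 12640),
  (⟨-1, -1, 1, -1, 2, 0, 2, 2⟩, 5208),
  (⟨-1, -1, 1, -1, 2, 0, 4, 0⟩, 7786),
  (⟨-1, -1, 1, -1, 4, -2, -4, 0⟩, 11921),
  (⟨-1, -1, 1, -1, 4, -2, 0, 0⟩, 12124),
  (⟨-1, -1, 1, -1, 4, -2, 4, 0⟩, 12045),
  (⟨-1, -1, 1, -1, 4, 2, -4, 0⟩, 8203),
  (⟨-1, -1, 1, -1, 4, 2, 0, 0⟩, 5718),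
  (⟨-1, -1, 1, -1, 4, 2, 4, 0⟩, 8325),
  (⟨-1, -1, 1, -1, 6, 0, -4, 0⟩, 7834),
  (⟨-1, -1, 1, -1, 6, 0, 0, 0⟩, 7873),
  (⟨-1, -1, 1, -1, 6, 0, 4, 0⟩, 15156),
  (⟨-1, -1, 1, 1, -5, -1, -3, 1⟩, 8516),
  (⟨-1, -1, 1, 1, -5, -1, -1, -1⟩, 4823),
  (⟨-1, -1, 1, 1, -5, -1, 1, 1⟩, 8531),
  (⟨-1, -1, 1, 1, -5, -1, 3, -1⟩, 8607),
  (⟨-1, -1, 1, 1, -3, 1, -5, -1⟩, 11712),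
  (⟨-1, -1, 1, 1, -3, 1, -3, 1⟩, 8544),
  (⟨-1, -1, 1, 1, -3, 1, -1, -1⟩, 14568),
  (⟨-1, -1, 1, 1, -3, 1, 1, 1⟩, 8551),
  (⟨-1, -1, 1, 1, -3, 1, 3, -1⟩, 8675),
  (⟨-1, -1, 1, 1, -3, 1, 5, 1⟩, 11855),
  (⟨-1, -1, 1, 1, -1, -1, -5, -1⟩, 7639),
  (⟨-1, -1, 1, 1, -1, -1, -3, 1⟩, 7017),
  (⟨-1, -1, 1, 1, -1, -1, -1, -1⟩, 13549),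
  (⟨-1, -1, 1, 1, -1, -1, -1, 3⟩, 13740),
  (⟨-1, -1, 1, 1, -1, -1, 1, -3⟩, 8613),
  (⟨-1, -1, 1, 1, -1, -1, 1, 1⟩, 14701),
  (⟨-1, -1, 1, 1, -1, -1, 3, -1⟩, 8679),
  (⟨-1, -1, 1, 1, -1, -1, 5, 1⟩, 7122),
  (⟨-1, -1, 1, 1, -1, 3, -1, -1⟩, 14506),
  (⟨-1, -1, 1, 1, -1, 3, 1, 1⟩, 9118),
  (⟨-1, -1, 1, 1, 1, -3, -1, -1⟩, 9249),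
  (⟨-1, -1, 1, 1, 1, -3, 1, 1⟩, 14633),
  (⟨-1, -1, 1, 1, 1, 1, -5, -1⟩, 7249),
  (⟨-1, -1, 1, 1, 1, 1, -3, 1⟩, 8807),
  (⟨-1, -1, 1, 1, 1, 1, -1, -1⟩, 7277),
  (⟨-1, -1, 1, 1, 1, 1, -1, 3⟩, 8738),
  (⟨-1, -1, 1, 1, 1, 1, 1, -3⟩, 14119),
  (⟨-1, -1, 1, 1, 1, 1, 1, 1⟩, 8813),
  (⟨-1, -1, 1, 1, 1, 1, 3, -1⟩, 7402),
  (⟨-1, -1, 1, 1, 1, 1, 5, 1⟩, 5463),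
  (⟨-1, -1, 1, 1, 3, -1, -5, -1⟩, 11982),
  (⟨-1, -1, 1, 1, 3, -1, -3, 1⟩, 8802),
  (⟨-1, -1, 1, 1, 3, -1, -1, -1⟩, 8935),
  (⟨-1, -1, 1, 1, 3, -1, 1, 1⟩, 14699),
  (⟨-1, -1, 1, 1, 3, -1, 3, -1⟩, 8927),
  (⟨-1, -1, 1, 1, 3, -1, 5, 1⟩, 12101),
  (⟨-1, -1, 1, 1, 5, 1, -3, 1⟩, 8736),
  (⟨-1, -1, 1, 1, 5, 1, -1, -1⟩, 8918),
  (⟨-1, -1, 1, 1, 5, 1, 1, 1⟩, 8791),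
  (⟨-1, -1, 1, 1, 5, 1, 3, -1⟩, 8899),
  (⟨-1, -1, 1, 3, -2, 0, 0, 0⟩, 11471),
  (⟨-1, -1, 1, 3, 2, 0, 0, 0⟩, 11598),
  (⟨-1, -1, 2, -2, -5, 1, -2, 0⟩, 12179),
  (⟨-1, -1, 2, -2, -5, 1, 2, 0⟩, 12173),
  (⟨-1, -1, 2, -2, -3, -1, -2, 0⟩, 12226),
  (⟨-1, -1, 2, -2, -3, -1, 0, -2⟩, 12214),
  (⟨-1, -1, 2, -2, -3, -1, 0, 2⟩, 12212),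
  (⟨-1, -1, 2, -2, -3, -1, 2, 0⟩, 12200),
  (⟨-1, -1, 2, -2, -1, 1, -2, 0⟩, 8294),
  (⟨-1, -1, 2, -2, -1, 1, 0, -2⟩, 14284),
  (⟨-1, -1, 2, -2, -1, 1, 0, 2⟩, 14408),
  (⟨-1, -1, 2, -2, -1, 1, 2, 0⟩, 12256),
  (⟨-1, -1, 2, -2, 1, -1, -2, 0⟩, 12383),
  (⟨-1, -1, 2, -2, 1, -1, 0, -2⟩, 14281),
  (⟨-1, -1, 2, -2, 1, -1, 0, 2⟩, 14413),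
  (⟨-1, -1, 2, -2, 1, -1, 2, 0⟩, 12390),
  (⟨-1, -1, 2, -2, 3, 1, -2, 0⟩, 12331),
  (⟨-1, -1, 2, -2, 3, 1, 0, -2⟩, 12335),
  (⟨-1, -1, 2, -2, 3, 1, 0, 2⟩, 12349),
  (⟨-1, -1, 2, -2, 3, 1, 2, 0⟩, 8386),
  (⟨-1, -1, 2, -2, 5, -1, -2, 0⟩, 12302),
  (⟨-1, -1, 2, -2, 5, -1, 2, 0⟩, 12306),
  (⟨-1, -1, 2, 0, -4, 0, -5, 1⟩, 14792),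
  (⟨-1, -1, 2, 0, -4, 0, -3, -1⟩, 14810),
  (⟨-1, -1, 2, 0, -4, 0, -1, 1⟩, 8552),
  (⟨-1, -1, 2, 0, -4, 0, 1, -1⟩, 4843),
  (⟨-1, -1, 2, 0, -4, 0, 3, 1⟩, 4953),
  (⟨-1, -1, 2, 0, -4, 0, 5, -1⟩, 14911),
  (⟨-1, -1, 2, 0, -2, -2, -5, 1⟩, 11938),
  (⟨-1, -1, 2, 0, -2, -2, -3, -1⟩, 9298),
  (⟨-1, -1, 2, 0, -2, -2, -1, 1⟩, 5589),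
  (⟨-1, -1, 2, 0, -2, -2, 1, -1⟩, 5594),
  (⟨-1, -1, 2, 0, -2, -2, 3, 1⟩, 5585),
  (⟨-1, -1, 2, 0, -2, -2, 5, -1⟩, 13876),
  (⟨-1, -1, 2, 0, -2, 2, -5, 1⟩, 11672),
  (⟨-1, -1, 2, 0, -2, 2, -3, -1⟩, 11705),
  (⟨-1, -1, 2, 0, -2, 2, -1, 1⟩, 9186),
  (⟨-1, -1, 2, 0, -2, 2, 1, -1⟩, 9062),
  (⟨-1, -1, 2, 0, -2, 2, 3, 1⟩, 9126),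
  (⟨-1, -1, 2, 0, -2, 2, 5, -1⟩, 11792),
  (⟨-1, -1, 2, 0, 0, 0, -7, -1⟩, 7558),
  (⟨-1, -1, 2, 0, 0, 0, -5, 1⟩, 7654),
  (⟨-1, -1, 2, 0, 0, 0, -3, -1⟩, 5101),
  (⟨-1, -1, 2, 0, 0, 0, -3, 3⟩, 12436),
  (⟨-1, -1, 2, 0, 0, 0, -1, -3⟩, 12612),
  (⟨-1, -1, 2, 0, 0, 0, -1, 1⟩, 12524),
  (⟨-1, -1, 2, 0, 0, 0, 1, -1⟩, 12652),
  (⟨-1, -1, 2, 0, 0, 0, 1, 3⟩, 12483),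
  (⟨-1, -1, 2, 0, 0, 0, 3, -3⟩, 12561),
  (⟨-1, -1, 2, 0, 0, 0, 3, 1⟩, 5485),
  (⟨-1, -1, 2, 0, 0, 0, 5, -1⟩, 12646),
  (⟨-1, -1, 2, 0, 0, 0, 7, 1⟩, 7687),
  (⟨-1, -1, 2, 0, 2, -2, -5, 1⟩, 11919),
  (⟨-1, -1, 2, 0, 2, -2, -3, -1⟩, 9261),
  (⟨-1, -1, 2, 0, 2, -2, -1, 1⟩, 12006),
  (⟨-1, -1, 2, 0, 2, -2, 1, -1⟩, 9315),
  (⟨-1, -1, 2, 0, 2, -2, 3, 1⟩, 12090),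
  (⟨-1, -1, 2, 0, 2, -2, 5, -1⟩, 12055),
  (⟨-1, -1, 2, 0, 2, 2, -5, 1⟩, 13999),
  (⟨-1, -1, 2, 0, 2, 2, -3, -1⟩, 5714),
  (⟨-1, -1, 2, 0, 2, 2, -1, 1⟩, 14042),
  (⟨-1, -1, 2, 0, 2, 2, 1, -1⟩, 5716),
  (⟨-1, -1, 2, 0, 2, 2, 3, 1⟩, 9169),
  (⟨-1, -1, 2, 0, 2, 2, 5, -1⟩, 11813),
  (⟨-1, -1, 2, 0, 4, 0, -5, 1⟩, 15046),
  (⟨-1, -1, 2, 0, 4, 0, -3, -1⟩, 5080),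
  (⟨-1, -1, 2, 0, 4, 0, -1, 1⟩, 5224),
  (⟨-1, -1, 2, 0, 4, 0, 1, -1⟩, 8939),
  (⟨-1, -1, 2, 0, 4, 0, 3, 1⟩, 5210),
  (⟨-1, -1, 2, 0, 4, 0, 5, -1⟩, 15177),
  (⟨-1, -1, 2, 2, -5, 1, -2, 0⟩, 8485),
  (⟨-1, -1, 2, 2, -5, 1, 2, 0⟩, 14518),
  (⟨-1, -1, 2, 2, -3, -1, -2, 0⟩, 6998),
  (⟨-1, -1, 2, 2, -3, -1, 0, -2⟩, 8578),
  (⟨-1, -1, 2, 2, -3, -1, 0, 2⟩, 8451),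
  (⟨-1, -1, 2, 2, -3, -1, 2, 0⟩, 8657),
  (⟨-1, -1, 2, 2, -1, 1, -2, 0⟩, 14554),
  (⟨-1, -1, 2, 2, -1, 1, 0, -2⟩, 8645),
  (⟨-1, -1, 2, 2, -1, 1, 0, 2⟩, 8480),
  (⟨-1, -1, 2, 2, -1, 1, 2, 0⟩, 14552),
  (⟨-1, -1, 2, 2, 1, -1, -2, 0⟩, 14681),
  (⟨-1, -1, 2, 2, 1, -1, 0, -2⟩, 8863),
  (⟨-1, -1, 2, 2, 1, -1, 0, 2⟩, 8768),
  (⟨-1, -1, 2, 2, 1, -1, 2, 0⟩, 5466),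
  (⟨-1, -1, 2, 2, 3, 1, -2, 0⟩, 8786),
  (⟨-1, -1, 2, 2, 3, 1, 0, -2⟩, 8836),
  (⟨-1, -1, 2, 2, 3, 1, 0, 2⟩, 8705),
  (⟨-1, -1, 2, 2, 3, 1, 2, 0⟩, 7379),
  (⟨-1, -1, 2, 2, 5, -1, -2, 0⟩, 14653),
  (⟨-1, -1, 2, 2, 5, -1, 2, 0⟩, 8866),
  (⟨-1, -1, 3, -3, -2, 0, 0, 0⟩, 12174),
  (⟨-1, -1, 3, -3, 2, 0, 0, 0⟩, 12301),
  (⟨-1, -1, 3, -1, -5, -1, -3, 1⟩, 7980),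
  (⟨-1, -1, 3, -1, -5, -1, -1, -1⟩, 12234),
  (⟨-1, -1, 3, -1, -5, -1, 1, 1⟩, 12227),
  (⟨-1, -1, 3, -1, -5, -1, 3, -1⟩, 12215),
  (⟨-1, -1, 3, -1, -3, 1, -5, -1⟩, 11687),
  (⟨-1, -1, 3, -1, -3, 1, -3, 1⟩, 12508),
  (⟨-1, -1, 3, -1, -3, 1, -1, -1⟩, 9059),
  (⟨-1, -1, 3, -1, -3, 1, 1, 1⟩, 9189),
  (⟨-1, -1, 3, -1, -3, 1, 3, -1⟩, 12260),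
  (⟨-1, -1, 3, -1, -3, 1, 5, 1⟩, 9142),
  (⟨-1, -1, 3, -1, -1, -1, -5, -1⟩, 8015),
  (⟨-1, -1, 3, -1, -1, -1, -3, 1⟩, 12517),
  (⟨-1, -1, 3, -1, -1, -1, -1, -1⟩, 12650),
  (⟨-1, -1, 3, -1, -1, -1, 1, 1⟩, 5607),
  (⟨-1, -1, 3, -1, -1, -1, 3, -1⟩, 12639),
  (⟨-1, -1, 3, -1, -1, -1, 5, 1⟩, 8117),
  (⟨-1, -1, 3, -1, 1, 1, -5, -1⟩, 8238),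
  (⟨-1, -1, 3, -1, 1, 1, -3, 1⟩, 12512),
  (⟨-1, -1, 3, -1, 1, 1, -1, -1⟩, 5735),
  (⟨-1, -1, 3, -1, 1, 1, 1, 1⟩, 12521),
  (⟨-1, -1, 3, -1, 1, 1, 3, -1⟩, 8421),
  (⟨-1, -1, 3, -1, 1, 1, 5, 1⟩, 8398),
  (⟨-1, -1, 3, -1, 3, -1, -5, -1⟩, 9277),
  (⟨-1, -1, 3, -1, 3, -1, -3, 1⟩, 12004),
  (⟨-1, -1, 3, -1, 3, -1, -1, -1⟩, 12389),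
  (⟨-1, -1, 3, -1, 3, -1, 1, 1⟩, 9442),
  (⟨-1, -1, 3, -1, 3, -1, 3, -1⟩, 12637),
  (⟨-1, -1, 3, -1, 3, -1, 5, 1⟩, 12076),
  (⟨-1, -1, 3, -1, 5, 1, -3, 1⟩, 12348),
  (⟨-1, -1, 3, -1, 5, 1, -1, -1⟩, 12356),
  (⟨-1, -1, 3, -1, 5, 1, 1, 1⟩, 12363),
  (⟨-1, -1, 3, -1, 5, 1, 3, -1⟩, 8359),
  (⟨-1, -1, 3, 1, -6, 0, 0, 0⟩, 7493),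
  (⟨-1, -1, 3, 1, -4, -2, 0, 0⟩, 5529),
  (⟨-1, -1, 3, 1, -4, 2, 0, 0⟩, 14527),
  (⟨-1, -1, 3, 1, -2, 0, -4, 0⟩, 5333),
  (⟨-1, -1, 3, 1, -2, 0, -2, -2⟩, 9041),
  (⟨-1, -1, 3, 1, -2, 0, -2, 2⟩, 8496),
  (⟨-1, -1, 3, 1, -2, 0, 0, 0⟩, 5357),
  (⟨-1, -1, 3, 1, -2, 0, 2, -2⟩, 8621),
  (⟨-1, -1, 3, 1, -2, 0, 2, 2⟩, 8529),
  (⟨-1, -1, 3, 1, -2, 0, 4, 0⟩, 14939),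
  (⟨-1, -1, 3, 1, 0, -2, -4, 0⟩, 11978),
  (⟨-1, -1, 3, 1, 0, -2, -2, -2⟩, 9220),
  (⟨-1, -1, 3, 1, 0, -2, -2, 2⟩, 9404),
  (⟨-1, -1, 3, 1, 0, -2, 0, 0⟩, 5595),
  (⟨-1, -1, 3, 1, 0, -2, 2, -2⟩, 12598),
  (⟨-1, -1, 3, 1, 0, -2, 2, 2⟩, 9351),
  (⟨-1, -1, 3, 1, 0, -2, 4, 0⟩, 12111),
  (⟨-1, -1, 3, 1, 0, 2, -4, 0⟩, 11726),
  (⟨-1, -1, 3, 1, 0, 2, -2, -2⟩, 8966),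
  (⟨-1, -1, 3, 1, 0, 2, -2, 2⟩, 12477),
  (⟨-1, -1, 3, 1, 0, 2, 0, 0⟩, 14555),
  (⟨-1, -1, 3, 1, 0, 2, 2, -2⟩, 9015),
  (⟨-1, -1, 3, 1, 0, 2, 2, 2⟩, 9091),
  (⟨-1, -1, 3, 1, 0, 2, 4, 0⟩, 11851),
  (⟨-1, -1, 3, 1, 2, 0, -4, 0⟩, 5339),
  (⟨-1, -1, 3, 1, 2, 0, -2, -2⟩, 8914),
  (⟨-1, -1, 3, 1, 2, 0, -2, 2⟩, 8742),
  (⟨-1, -1, 3, 1, 2, 0, 0, 0⟩, 8941),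
  (⟨-1, -1, 3, 1, 2, 0, 2, -2⟩, 8883),
  (⟨-1, -1, 3, 1, 2, 0, 2, 2⟩, 9426),
  (⟨-1, -1, 3, 1, 2, 0, 4, 0⟩, 5460),
  (⟨-1, -1, 3, 1, 4, -2, 0, 0⟩, 14662),
  (⟨-1, -1, 3, 1, 4, 2, 0, 0⟩, 5657),
  (⟨-1, -1, 3, 1, 6, 0, 0, 0⟩, 7872),
  (⟨-1, -1, 4, -2, -4, 0, -1, 1⟩, 12180),
  (⟨-1, -1, 4, -2, -4, 0, 1, -1⟩, 12175),
  (⟨-1, -1, 4, -2, 0, 0, -3, -1⟩, 14285),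
  (⟨-1, -1, 4, -2, 0, 0, -1, 1⟩, 12510),
  (⟨-1, -1, 4, -2, 0, 0, 1, -1⟩, 12641),
  (⟨-1, -1, 4, -2, 0, 0, 3, 1⟩, 14412),
  (⟨-1, -1, 4, -2, 4, 0, -1, 1⟩, 12304),
  (⟨-1, -1, 4, -2, 4, 0, 1, -1⟩, 12305),
  (⟨-1, -1, 4, 0, -5, 1, -2, 0⟩, 14782),
  (⟨-1, -1, 4, 0, -5, 1, 2, 0⟩, 14924),
  (⟨-1, -1, 4, 0, -3, -1, -2, 0⟩, 5593),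
  (⟨-1, -1, 4, 0, -3, -1, 0, -2⟩, 12608),
  (⟨-1, -1, 4, 0, -3, -1, 0, 2⟩, 12490),
  (⟨-1, -1, 4, 0, -3, -1, 2, 0⟩, 5588),
  (⟨-1, -1, 4, 0, -1, 1, -6, 0⟩, 7607),
  (⟨-1, -1, 4, 0, -1, 1, -4, -2⟩, 8964),
  (⟨-1, -1, 4, 0, -1, 1, -4, 2⟩, 12432),
  (⟨-1, -1, 4, 0, -1, 1, -2, 0⟩, 5738),
  (⟨-1, -1, 4, 0, -1, 1, 0, -2⟩, 9000),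
  (⟨-1, -1, 4, 0, -1, 1, 0, 2⟩, 12474),
  (⟨-1, -1, 4, 0, -1, 1, 2, 0⟩, 9192),
  (⟨-1, -1, 4, 0, -1, 1, 4, -2⟩, 12567),
  (⟨-1, -1, 4, 0, -1, 1, 4, 2⟩, 9093),
  (⟨-1, -1, 4, 0, -1, 1, 6, 0⟩, 14897),
  (⟨-1, -1, 4, 0, 1, -1, -6, 0⟩, 15026),
  (⟨-1, -1, 4, 0, 1, -1, -4, -2⟩, 9224),
  (⟨-1, -1, 4, 0, 1, -1, -4, 2⟩, 12440),
  (⟨-1, -1, 4, 0, 1, -1, -2, 0⟩, 9323),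
  (⟨-1, -1, 4, 0, 1, -1, 0, -2⟩, 12601),
  (⟨-1, -1, 4, 0, 1, -1, 0, 2⟩, 9387),
  (⟨-1, -1, 4, 0, 1, -1, 2, 0⟩, 5609),
  (⟨-1, -1, 4, 0, 1, -1, 4, -2⟩, 12559),
  (⟨-1, -1, 4, 0, 1, -1, 4, 2⟩, 9347),
  (⟨-1, -1, 4, 0, 1, -1, 6, 0⟩, 7740),
  (⟨-1, -1, 4, 0, 3, 1, -2, 0⟩, 5717),
  (⟨-1, -1, 4, 0, 3, 1, 0, -2⟩, 12619),
  (⟨-1, -1, 4, 0, 3, 1, 0, 2⟩, 12485),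
  (⟨-1, -1, 4, 0, 3, 1, 2, 0⟩, 5720),
  (⟨-1, -1, 4, 0, 5, -1, -2, 0⟩, 15053),
  (⟨-1, -1, 4, 0, 5, -1, 2, 0⟩, 15175),
  (⟨-1, -1, 4, 2, -4, 0, -1, 1⟩, 8450),
  (⟨-1, -1, 4, 2, -4, 0, 1, -1⟩, 8580),
  (⟨-1, -1, 4, 2, 0, 0, -3, -1⟩, 5273),
  (⟨-1, -1, 4, 2, 0, 0, -1, 1⟩, 8787),
  (⟨-1, -1, 4, 2, 0, 0, 1, -1⟩, 8662),
  (⟨-1, -1, 4, 2, 0, 0, 3, 1⟩, 5401),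
  (⟨-1, -1, 4, 2, 4, 0, -1, 1⟩, 8707),
  (⟨-1, -1, 4, 2, 4, 0, 1, -1⟩, 8833),
  (⟨-1, -1, 5, -1, -2, 0, -4, 0⟩, 14796),
  (⟨-1, -1, 5, -1, -2, 0, -2, -2⟩, 8993),
  (⟨-1, -1, 5, -1, -2, 0, -2, 2⟩, 12431),
  (⟨-1, -1, 5, -1, -2, 0, 0, 0⟩, 9570),
  (⟨-1, -1, 5, -1, -2, 0, 2, -2⟩, 12563),
  (⟨-1, -1, 5, -1, -2, 0, 2, 2⟩, 12471),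
  (⟨-1, -1, 5, -1, -2, 0, 4, 0⟩, 14921),
  (⟨-1, -1, 5, -1, 0, -2, 0, 0⟩, 5539),
  (⟨-1, -1, 5, -1, 0, 2, 0, 0⟩, 5668),
  (⟨-1, -1, 5, -1, 2, 0, -4, 0⟩, 15048),
  (⟨-1, -1, 5, -1, 2, 0, -2, -2⟩, 12604),
  (⟨-1, -1, 5, -1, 2, 0, -2, 2⟩, 12434),
  (⟨-1, -1, 5, -1, 2, 0, 0, 0⟩, 9571),
  (⟨-1, -1, 5, -1, 2, 0, 2, -2⟩, 12560),
  (⟨-1, -1, 5, -1, 2, 0, 2, 2⟩, 9374),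
  (⟨-1, -1, 5, -1, 2, 0, 4, 0⟩, 15181),
  (⟨-1, -1, 5, 1, -3, 1, -3, 1⟩, 8490),
  (⟨-1, -1, 5, 1, -3, 1, -1, -1⟩, 9006),
  (⟨-1, -1, 5, 1, -3, 1, 1, 1⟩, 9156),
  (⟨-1, -1, 5, 1, -3, 1, 3, -1⟩, 8628),
  (⟨-1, -1, 5, 1, -1, -1, -3, 1⟩, 12494),
  (⟨-1, -1, 5, 1, -1, -1, -1, -1⟩, 9303),
  (⟨-1, -1, 5, 1, -1, -1, 1, 1⟩, 5590),
  (⟨-1, -1, 5, 1, -1, -1, 3, -1⟩, 12618),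
  (⟨-1, -1, 5, 1, 1, 1, -3, 1⟩, 12491),
  (⟨-1, -1, 5, 1, 1, 1, -1, -1⟩, 5715),
  (⟨-1, -1, 5, 1, 1, 1, 1, 1⟩, 9559),
  (⟨-1, -1, 5, 1, 1, 1, 3, -1⟩, 12623),
  (⟨-1, -1, 5, 1, 3, -1, -3, 1⟩, 8751),
  (⟨-1, -1, 5, 1, 3, -1, -1, -1⟩, 9283),
  (⟨-1, -1, 5, 1, 3, -1, 1, 1⟩, 9397),
  (⟨-1, -1, 5, 1, 3, -1, 3, -1⟩, 8873),
  (⟨-1, -1, 6, 0, -4, 0, -1, 1⟩, 9522),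
  (⟨-1, -1, 6, 0, -4, 0, 1, -1⟩, 9519),
  (⟨-1, -1, 6, 0, 0, 0, -3, -1⟩, 9525),
  (⟨-1, -1, 6, 0, 0, 0, -1, 1⟩, 9523),
  (⟨-1, -1, 6, 0, 0, 0, 1, -1⟩, 9520),
  (⟨-1, -1, 6, 0, 0, 0, 3, 1⟩, 9518),
  (⟨-1, -1, 6, 0, 4, 0, -1, 1⟩, 9524),
  (⟨-1, -1, 6, 0, 4, 0, 1, -1⟩, 9521),
  (⟨-1, -1, 7, 1, -2, 0, 0, 0⟩, 9475),
  (⟨-1, -1, 7, 1, 2, 0, 0, 0⟩, 9476),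
  (⟨-1, 1, -7, 1, 0, 0, -2, 0⟩, 5781),
  (⟨-1, 1, -7, 1, 0, 0, 2, 0⟩, 5782),
  (⟨-1, 1, -6, 0, -3, 1, 0, 0⟩, 5833),
  (⟨-1, 1, -6, 0, -1, -1, -4, 0⟩, 12722),
  (⟨-1, 1, -6, 0, -1, -1, 0, 0⟩, 9657),
  (⟨-1, 1, -6, 0, -1, -1, 4, 0⟩, 12826),
  (⟨-1, 1, -6, 0, 1, 1, -4, 0⟩, 12957),
  (⟨-1, 1, -6, 0, 1, 1, 0, 0⟩, 9786),
  (⟨-1, 1, -6, 0, 1, 1, 4, 0⟩, 13105),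
  (⟨-1, 1, -6, 0, 3, -1, 0, 0⟩, 5832),
  (⟨-1, 1, -5, -1, -4, 0, -2, 0⟩, 12703),
  (⟨-1, 1, -5, -1, -4, 0, 2, 0⟩, 12846),
  (⟨-1, 1, -5, -1, -2, -2, -2, 0⟩, 9609),
  (⟨-1, 1, -5, -1, -2, -2, 2, 0⟩, 9607),
  (⟨-1, 1, -5, -1, -2, 2, -2, 0⟩, 13214),
  (⟨-1, 1, -5, -1, -2, 2, 2, 0⟩, 13212),
  (⟨-1, 1, -5, -1, 0, 0, -2, 0⟩, 9945),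
  (⟨-1, 1, -5, -1, 0, 0, 0, -2⟩, 2895),
  (⟨-1, 1, -5, -1, 0, 0, 0, 2⟩, 2766),
  (⟨-1, 1, -5, -1, 0, 0, 2, 0⟩, 10072),
  (⟨-1, 1, -5, -1, 2, -2, -2, 0⟩, 13339),
  (⟨-1, 1, -5, -1, 2, -2, 2, 0⟩, 13345),
  (⟨-1, 1, -5, -1, 2, 2, -2, 0⟩, 9734),
  (⟨-1, 1, -5, -1, 2, 2, 2, 0⟩, 9738),
  (⟨-1, 1, -5, -1, 4, 0, -2, 0⟩, 12981),
  (⟨-1, 1, -5, -1, 4, 0, 2, 0⟩, 13088),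
  (⟨-1, 1, -5, 1, -3, -1, -3, -1⟩, 12713),
  (⟨-1, 1, -5, 1, -3, -1, -1, 1⟩, 9635),
  (⟨-1, 1, -5, 1, -3, -1, 1, -1⟩, 9659),
  (⟨-1, 1, -5, 1, -3, -1, 3, 1⟩, 9629),
  (⟨-1, 1, -5, 1, -1, 1, -3, -1⟩, 5960),
  (⟨-1, 1, -5, 1, -1, 1, -1, 1⟩, 9828),
  (⟨-1, 1, -5, 1, -1, 1, 1, -1⟩, 9821),
  (⟨-1, 1, -5, 1, -1, 1, 3, 1⟩, 6086),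
  (⟨-1, 1, -5, 1, 1, -1, -3, -1⟩, 6207),
  (⟨-1, 1, -5, 1, 1, -1, -1, 1⟩, 9692),
  (⟨-1, 1, -5, 1, 1, -1, 1, -1⟩, 2916),
  (⟨-1, 1, -5, 1, 1, -1, 3, 1⟩, 6345),
  (⟨-1, 1, -5, 1, 3, 1, -3, -1⟩, 9754),
  (⟨-1, 1, -5, 1, 3, 1, -1, 1⟩, 9784),
  (⟨-1, 1, -5, 1, 3, 1, 1, -1⟩, 9764),
  (⟨-1, 1, -5, 1, 3, 1, 3, 1⟩, 13098),
  (⟨-1, 1, -4, -2, -3, 1, 0, 0⟩, 13216),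
  (⟨-1, 1, -4, -2, -1, -1, -4, 0⟩, 9864),
  (⟨-1, 1, -4, -2, -1, -1, 0, 0⟩, 13393),
  (⟨-1, 1, -4, -2, -1, -1, 4, 0⟩, 9994),
  (⟨-1, 1, -4, -2, 1, 1, -4, 0⟩, 9865),
  (⟨-1, 1, -4, -2, 1, 1, 0, 0⟩, 13266),
  (⟨-1, 1, -4, -2, 1, 1, 4, 0⟩, 9989),
  (⟨-1, 1, -4, -2, 3, -1, 0, 0⟩, 13343),
  (⟨-1, 1, -4, 0, -6, 0, -1, -1⟩, 12699),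
  (⟨-1, 1, -4, 0, -6, 0, 1, 1⟩, 7474),
  (⟨-1, 1, -4, 0, -4, -2, -1, -1⟩, 9610),
  (⟨-1, 1, -4, 0, -4, -2, 1, 1⟩, 9602),
  (⟨-1, 1, -4, 0, -4, 2, -1, -1⟩, 5910),
  (⟨-1, 1, -4, 0, -4, 2, 1, 1⟩, 6036),
  (⟨-1, 1, -4, 0, -2, 0, -5, -1⟩, 12736),
  (⟨-1, 1, -4, 0, -2, 0, -3, 1⟩, 12770),
  (⟨-1, 1, -4, 0, -2, 0, -1, -1⟩, 12778),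
  (⟨-1, 1, -4, 0, -2, 0, 1, 1⟩, 9704),
  (⟨-1, 1, -4, 0, -2, 0, 3, -1⟩, 12895),
  (⟨-1, 1, -4, 0, -2, 0, 5, 1⟩, 12832),
  (⟨-1, 1, -4, 0, 0, -2, -3, 1⟩, 9656),
  (⟨-1, 1, -4, 0, 0, -2, -1, -1⟩, 6192),
  (⟨-1, 1, -4, 0, 0, -2, 1, 1⟩, 9643),
  (⟨-1, 1, -4, 0, 0, -2, 3, -1⟩, 9671),
  (⟨-1, 1, -4, 0, 0, 2, -3, 1⟩, 9790),
  (⟨-1, 1, -4, 0, 0, 2, -1, -1⟩, 9768),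
  (⟨-1, 1, -4, 0, 0, 2, 1, 1⟩, 6067),
  (⟨-1, 1, -4, 0, 0, 2, 3, -1⟩, 9787),
  (⟨-1, 1, -4, 0, 2, 0, -5, -1⟩, 12959),
  (⟨-1, 1, -4, 0, 2, 0, -3, 1⟩, 13024),
  (⟨-1, 1, -4, 0, 2, 0, -1, -1⟩, 9835),
  (⟨-1, 1, -4, 0, 2, 0, 1, 1⟩, 13161),
  (⟨-1, 1, -4, 0, 2, 0, 3, -1⟩, 13155),
  (⟨-1, 1, -4, 0, 2, 0, 5, 1⟩, 13125),
  (⟨-1, 1, -4, 0, 4, -2, -1, -1⟩, 6161),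
  (⟨-1, 1, -4, 0, 4, -2, 1, 1⟩, 6293),
  (⟨-1, 1, -4, 0, 4, 2, -1, -1⟩, 9729),
  (⟨-1, 1, -4, 0, 4, 2, 1, 1⟩, 9737),
  (⟨-1, 1, -4, 0, 6, 0, -1, -1⟩, 7857),
  (⟨-1, 1, -4, 0, 6, 0, 1, 1⟩, 13084),
  (⟨-1, 1, -4, 2, -3, 1, 0, 0⟩, 3024),
  (⟨-1, 1, -4, 2, -1, -1, -4, 0⟩, 6936),
  (⟨-1, 1, -4, 2, -1, -1, 0, 0⟩, 9693),
  (⟨-1, 1, -4, 2, -1, -1, 4, 0⟩, 7061),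
  (⟨-1, 1, -4, 2, 1, 1, -4, 0⟩, 7190),
  (⟨-1, 1, -4, 2, 1, 1, 0, 0⟩, 9820),
  (⟨-1, 1, -4, 2, 1, 1, 4, 0⟩, 7319),
  (⟨-1, 1, -4, 2, 3, -1, 0, 0⟩, 3152),
  (⟨-1, 1, -3, -3, 0, 0, -2, 0⟩, 9868),
  (⟨-1, 1, -3, -3, 0, 0, 2, 0⟩, 9995),
  (⟨-1, 1, -3, -1, -5, 1, -3, -1⟩, 12711),
  (⟨-1, 1, -3, -1, -5, 1, -1, 1⟩, 6436),
  (⟨-1, 1, -3, -1, -5, 1, 1, -1⟩, 6600),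
  (⟨-1, 1, -3, -1, -5, 1, 3, 1⟩, 10294),
  (⟨-1, 1, -3, -1, -3, -1, -5, 1⟩, 9900),
  (⟨-1, 1, -3, -1, -3, -1, -3, -1⟩, 9942),
  (⟨-1, 1, -3, -1, -3, -1, -1, 1⟩, 9690),
  (⟨-1, 1, -3, -1, -3, -1, 1, -1⟩, 6612),
  (⟨-1, 1, -3, -1, -3, -1, 3, 1⟩, 12887),
  (⟨-1, 1, -3, -1, -3, -1, 5, -1⟩, 6556),
  (⟨-1, 1, -3, -1, -1, 1, -5, 1⟩, 9912),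
  (⟨-1, 1, -3, -1, -1, 1, -3, -1⟩, 9944),
  (⟨-1, 1, -3, -1, -1, 1, -1, 1⟩, 6506),
  (⟨-1, 1, -3, -1, -1, 1, 1, -1⟩, 13287),
  (⟨-1, 1, -3, -1, -1, 1, 3, 1⟩, 10074),
  (⟨-1, 1, -3, -1, -1, 1, 5, -1⟩, 10047),
  (⟨-1, 1, -3, -1, 1, -1, -5, 1⟩, 9926),
  (⟨-1, 1, -3, -1, 1, -1, -3, -1⟩, 6234),
  (⟨-1, 1, -3, -1, 1, -1, -1, 1⟩, 13415),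
  (⟨-1, 1, -3, -1, 1, -1, 1, -1⟩, 6889),
  (⟨-1, 1, -3, -1, 1, -1, 3, 1⟩, 10073),
  (⟨-1, 1, -3, -1, 1, -1, 5, -1⟩, 10043),
  (⟨-1, 1, -3, -1, 3, 1, -5, 1⟩, 6683),
  (⟨-1, 1, -3, -1, 3, 1, -3, -1⟩, 9815),
  (⟨-1, 1, -3, -1, 3, 1, -1, 1⟩, 6741),
  (⟨-1, 1, -3, -1, 3, 1, 1, -1⟩, 6874),
  (⟨-1, 1, -3, -1, 3, 1, 3, 1⟩, 10067),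
  (⟨-1, 1, -3, -1, 3, 1, 5, -1⟩, 10023),
  (⟨-1, 1, -3, -1, 5, -1, -3, -1⟩, 10429),
  (⟨-1, 1, -3, -1, 5, -1, -1, 1⟩, 6729),
  (⟨-1, 1, -3, -1, 5, -1, 1, -1⟩, 6819),
  (⟨-1, 1, -3, -1, 5, -1, 3, 1⟩, 13100),
  (⟨-1, 1, -3, 1, -4, 0, -2, 0⟩, 12767),
  (⟨-1, 1, -3, 1, -4, 0, 0, -2⟩, 10147),
  (⟨-1, 1, -3, 1, -4, 0, 0, 2⟩, 10296),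
  (⟨-1, 1, -3, 1, -4, 0, 2, 0⟩, 12902),
  (⟨-1, 1, -3, 1, -2, -2, -2, 0⟩, 9658),
  (⟨-1, 1, -3, 1, -2, -2, 0, -2⟩, 13878),
  (⟨-1, 1, -3, 1, -2, -2, 0, 2⟩, 9628),
  (⟨-1, 1, -3, 1, -2, -2, 2, 0⟩, 9645),
  (⟨-1, 1, -3, 1, -2, 2, -2, 0⟩, 9822),
  (⟨-1, 1, -3, 1, -2, 2, 0, -2⟩, 5907),
  (⟨-1, 1, -3, 1, -2, 2, 0, 2⟩, 6038),
  (⟨-1, 1, -3, 1, -2, 2, 2, 0⟩, 6113),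
  (⟨-1, 1, -3, 1, 0, 0, -6, 0⟩, 7623),
  (⟨-1, 1, -3, 1, 0, 0, -4, -2⟩, 13508),
  (⟨-1, 1, -3, 1, 0, 0, -4, 2⟩, 2768),
  (⟨-1, 1, -3, 1, 0, 0, -2, 0⟩, 9838),
  (⟨-1, 1, -3, 1, 0, 0, 0, -2⟩, 2918),
  (⟨-1, 1, -3, 1, 0, 0, 0, 2⟩, 13670),
  (⟨-1, 1, -3, 1, 0, 0, 2, 0⟩, 12910),
  (⟨-1, 1, -3, 1, 0, 0, 4, -2⟩, 2896),
  (⟨-1, 1, -3, 1, 0, 0, 4, 2⟩, 13635),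
  (⟨-1, 1, -3, 1, 0, 0, 6, 0⟩, 7742),
  (⟨-1, 1, -3, 1, 2, -2, -2, 0⟩, 6238),
  (⟨-1, 1, -3, 1, 2, -2, 0, -2⟩, 6165),
  (⟨-1, 1, -3, 1, 2, -2, 0, 2⟩, 6290),
  (⟨-1, 1, -3, 1, 2, -2, 2, 0⟩, 9697),
  (⟨-1, 1, -3, 1, 2, 2, -2, 0⟩, 9766),
  (⟨-1, 1, -3, 1, 2, 2, 0, -2⟩, 9755),
  (⟨-1, 1, -3, 1, 2, 2, 0, 2⟩, 14013),
  (⟨-1, 1, -3, 1, 2, 2, 2, 0⟩, 9785),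
  (⟨-1, 1, -3, 1, 4, 0, -2, 0⟩, 3174),
  (⟨-1, 1, -3, 1, 4, 0, 0, -2⟩, 10427),
  (⟨-1, 1, -3, 1, 4, 0, 0, 2⟩, 10532),
  (⟨-1, 1, -3, 1, 4, 0, 2, 0⟩, 13152),
  (⟨-1, 1, -2, -2, -2, 0, -5, -1⟩, 9862),
  (⟨-1, 1, -2, -2, -2, 0, -3, 1⟩, 6466),
  (⟨-1, 1, -2, -2, -2, 0, -1, -1⟩, 9947),
  (⟨-1, 1, -2, -2, -2, 0, 1, 1⟩, 6485),
  (⟨-1, 1, -2, -2, -2, 0, 3, -1⟩, 6571),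
  (⟨-1, 1, -2, -2, -2, 0, 5, 1⟩, 9996),
  (⟨-1, 1, -2, -2, 0, -2, -3, 1⟩, 13338),
  (⟨-1, 1, -2, -2, 0, -2, -1, -1⟩, 13358),
  (⟨-1, 1, -2, -2, 0, -2, 1, 1⟩, 13344),
  (⟨-1, 1, -2, -2, 0, -2, 3, -1⟩, 8118),
  (⟨-1, 1, -2, -2, 0, 2, -3, 1⟩, 8253),
  (⟨-1, 1, -2, -2, 0, 2, -1, -1⟩, 13215),
  (⟨-1, 1, -2, -2, 0, 2, 1, 1⟩, 13237),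
  (⟨-1, 1, -2, -2, 0, 2, 3, -1⟩, 13213),
  (⟨-1, 1, -2, -2, 2, 0, -5, -1⟩, 9867),
  (⟨-1, 1, -2, -2, 2, 0, -3, 1⟩, 6696),
  (⟨-1, 1, -2, -2, 2, 0, -1, -1⟩, 6868),
  (⟨-1, 1, -2, -2, 2, 0, 1, 1⟩, 6747),
  (⟨-1, 1, -2, -2, 2, 0, 3, -1⟩, 10050),
  (⟨-1, 1, -2, -2, 2, 0, 5, 1⟩, 9991),
  (⟨-1, 1, -2, 0, -7, 1, 0, 0⟩, 7443),
  (⟨-1, 1, -2, 0, -5, -1, -4, 0⟩, 12718),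
  (⟨-1, 1, -2, 0, -5, -1, -2, -2⟩, 10114),
  (⟨-1, 1, -2, 0, -5, -1, -2, 2⟩, 13730),
  (⟨-1, 1, -2, 0, -5, -1, 0, 0⟩, 9691),
  (⟨-1, 1, -2, 0, -5, -1, 2, -2⟩, 10141),
  (⟨-1, 1, -2, 0, -5, -1, 2, 2⟩, 10249),
  (⟨-1, 1, -2, 0, -5, -1, 4, 0⟩, 12867),
  (⟨-1, 1, -2, 0, -3, -3, 0, 0⟩, 9608),
  (⟨-1, 1, -2, 0, -3, 1, -4, 0⟩, 12773),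
  (⟨-1, 1, -2, 0, -3, 1, -2, -2⟩, 5939),
  (⟨-1, 1, -2, 0, -3, 1, -2, 2⟩, 6497),
  (⟨-1, 1, -2, 0, -3, 1, 0, 0⟩, 13294),
  (⟨-1, 1, -2, 0, -3, 1, 2, -2⟩, 5985),
  (⟨-1, 1, -2, 0, -3, 1, 2, 2⟩, 10278),
  (⟨-1, 1, -2, 0, -3, 1, 4, 0⟩, 12899),
  (⟨-1, 1, -2, 0, -1, -1, -4, 0⟩, 9963),
  (⟨-1, 1, -2, 0, -1, -1, -2, -2⟩, 10201),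
  (⟨-1, 1, -2, 0, -1, -1, -2, 2⟩, 13791),
  (⟨-1, 1, -2, 0, -1, -1, 0, 0⟩, 9708),
  (⟨-1, 1, -2, 0, -1, -1, 2, -2⟩, 13925),
  (⟨-1, 1, -2, 0, -1, -1, 2, 2⟩, 6363),
  (⟨-1, 1, -2, 0, -1, -1, 4, 0⟩, 12907),
  (⟨-1, 1, -2, 0, -1, 3, 0, 0⟩, 9791),
  (⟨-1, 1, -2, 0, 1, -3, 0, 0⟩, 9670),
  (⟨-1, 1, -2, 0, 1, 1, -4, 0⟩, 13032),
  (⟨-1, 1, -2, 0, 1, 1, -2, -2⟩, 10459),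
  (⟨-1, 1, -2, 0, 1, 1, -2, 2⟩, 2789),
  (⟨-1, 1, -2, 0, 1, 1, 0, 0⟩, 9836),
  (⟨-1, 1, -2, 0, 1, 1, 2, -2⟩, 14176),
  (⟨-1, 1, -2, 0, 1, 1, 2, 2⟩, 10584),
  (⟨-1, 1, -2, 0, 1, 1, 4, 0⟩, 10088),
  (⟨-1, 1, -2, 0, 3, -1, -4, 0⟩, 13026),
  (⟨-1, 1, -2, 0, 3, -1, -2, -2⟩, 10413),
  (⟨-1, 1, -2, 0, 3, -1, -2, 2⟩, 6366),
  (⟨-1, 1, -2, 0, 3, -1, 0, 0⟩, 13166),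
  (⟨-1, 1, -2, 0, 3, -1, 2, -2⟩, 6878),
  (⟨-1, 1, -2, 0, 3, -1, 2, 2⟩, 6320),
  (⟨-1, 1, -2, 0, 3, -1, 4, 0⟩, 3685),
  (⟨-1, 1, -2, 0, 3, 3, 0, 0⟩, 9733),
  (⟨-1, 1, -2, 0, 5, 1, -4, 0⟩, 12996),
  (⟨-1, 1, -2, 0, 5, 1, -2, -2⟩, 10378),
  (⟨-1, 1, -2, 0, 5, 1, -2, 2⟩, 10522),
  (⟨-1, 1, -2, 0, 5, 1, 0, 0⟩, 7899)]

set_option maxRecDepth 1000000 in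
def xPairs3 : List (Z8 × Nat) := [
  (⟨-1, 1, -2, 0, 5, 1, 2, -2⟩, 14117),
  (⟨-1, 1, -2, 0, 5, 1, 2, 2⟩, 10497),
  (⟨-1, 1, -2, 0, 5, 1, 4, 0⟩, 13109),
  (⟨-1, 1, -2, 0, 7, -1, 0, 0⟩, 7826),
  (⟨-1, 1, -2, 2, -2, 0, -5, -1⟩, 10661),
  (⟨-1, 1, -2, 2, -2, 0, -3, 1⟩, 10716),
  (⟨-1, 1, -2, 2, -2, 0, -1, -1⟩, 13541),
  (⟨-1, 1, -2, 2, -2, 0, 1, 1⟩, 3042),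
  (⟨-1, 1, -2, 2, -2, 0, 3, -1⟩, 3041),
  (⟨-1, 1, -2, 2, -2, 0, 5, 1⟩, 10806),
  (⟨-1, 1, -2, 2, 0, -2, -3, 1⟩, 6933),
  (⟨-1, 1, -2, 2, 0, -2, -1, -1⟩, 6989),
  (⟨-1, 1, -2, 2, 0, -2, 1, 1⟩, 7102),
  (⟨-1, 1, -2, 2, 0, -2, 3, -1⟩, 7063),
  (⟨-1, 1, -2, 2, 0, 2, -3, 1⟩, 7192),
  (⟨-1, 1, -2, 2, 0, 2, -1, -1⟩, 7239),
  (⟨-1, 1, -2, 2, 0, 2, 1, 1⟩, 7372),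
  (⟨-1, 1, -2, 2, 0, 2, 3, -1⟩, 7318),
  (⟨-1, 1, -2, 2, 2, 0, -5, -1⟩, 10685),
  (⟨-1, 1, -2, 2, 2, 0, -3, 1⟩, 3166),
  (⟨-1, 1, -2, 2, 2, 0, -1, -1⟩, 3171),
  (⟨-1, 1, -2, 2, 2, 0, 1, 1⟩, 3173),
  (⟨-1, 1, -2, 2, 2, 0, 3, -1⟩, 10845),
  (⟨-1, 1, -2, 2, 2, 0, 5, 1⟩, 10786),
  (⟨-1, 1, -1, -3, -1, 1, -1, 1⟩, 6439),
  (⟨-1, 1, -1, -3, -1, 1, 1, -1⟩, 13217),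
  (⟨-1, 1, -1, -3, 1, -1, -1, 1⟩, 13342),
  (⟨-1, 1, -1, -3, 1, -1, 1, -1⟩, 6828),
  (⟨-1, 1, -1, -1, -4, 0, -6, 0⟩, 7581),
  (⟨-1, 1, -1, -1, -4, 0, -4, -2⟩, 10124),
  (⟨-1, 1, -1, -1, -4, 0, -4, 2⟩, 6420),
  (⟨-1, 1, -1, -1, -4, 0, -2, 0⟩, 9961),
  (⟨-1, 1, -1, -1, -4, 0, 0, -2⟩, 6593),
  (⟨-1, 1, -1, -1, -4, 0, 0, 2⟩, 6445),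
  (⟨-1, 1, -1, -1, -4, 0, 2, 0⟩, 7530),
  (⟨-1, 1, -1, -1, -4, 0, 4, -2⟩, 6541),
  (⟨-1, 1, -1, -1, -4, 0, 4, 2⟩, 10245),
  (⟨-1, 1, -1, -1, -4, 0, 6, 0⟩, 12852),
  (⟨-1, 1, -1, -1, -2, -2, -2, 0⟩, 8021),
  (⟨-1, 1, -1, -1, -2, -2, 0, -2⟩, 13888),
  (⟨-1, 1, -1, -1, -2, -2, 0, 2⟩, 13742),
  (⟨-1, 1, -1, -1, -2, -2, 2, 0⟩, 8152),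
  (⟨-1, 1, -1, -1, -2, 2, -2, 0⟩, 13282),
  (⟨-1, 1, -1, -1, -2, 2, 0, -2⟩, 5959),
  (⟨-1, 1, -1, -1, -2, 2, 0, 2⟩, 6089),
  (⟨-1, 1, -1, -1, -2, 2, 2, 0⟩, 13280),
  (⟨-1, 1, -1, -1, 0, 0, -6, 0⟩, 9921),
  (⟨-1, 1, -1, -1, 0, 0, -4, -2⟩, 14291),
  (⟨-1, 1, -1, -1, 0, 0, -4, 2⟩, 6749),
  (⟨-1, 1, -1, -1, 0, 0, -2, 0⟩, 9964),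
  (⟨-1, 1, -1, -1, 0, 0, 0, -2⟩, 14312),
  (⟨-1, 1, -1, -1, 0, 0, 0, 2⟩, 14443),
  (⟨-1, 1, -1, -1, 0, 0, 2, 0⟩, 10092),
  (⟨-1, 1, -1, -1, 0, 0, 4, -2⟩, 6620),
  (⟨-1, 1, -1, -1, 0, 0, 4, 2⟩, 14422),
  (⟨-1, 1, -1, -1, 0, 0, 6, 0⟩, 7745),
  (⟨-1, 1, -1, -1, 2, -2, -2, 0⟩, 13407),
  (⟨-1, 1, -1, -1, 2, -2, 0, -2⟩, 6216),
  (⟨-1, 1, -1, -1, 2, -2, 0, 2⟩, 6334),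
  (⟨-1, 1, -1, -1, 2, -2, 2, 0⟩, 13411),
  (⟨-1, 1, -1, -1, 2, 2, -2, 0⟩, 8281),
  (⟨-1, 1, -1, -1, 2, 2, 0, -2⟩, 14133),
  (⟨-1, 1, -1, -1, 2, 2, 0, 2⟩, 14021),
  (⟨-1, 1, -1, -1, 2, 2, 2, 0⟩, 8404),
  (⟨-1, 1, -1, -1, 4, 0, -6, 0⟩, 12975),
  (⟨-1, 1, -1, -1, 4, 0, -4, -2⟩, 10376),
  (⟨-1, 1, -1, -1, 4, 0, -4, 2⟩, 6670),
  (⟨-1, 1, -1, -1, 4, 0, -2, 0⟩, 7913),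
  (⟨-1, 1, -1, -1, 4, 0, 0, -2⟩, 6822),
  (⟨-1, 1, -1, -1, 4, 0, 0, 2⟩, 10561),
  (⟨-1, 1, -1, -1, 4, 0, 2, 0⟩, 10090),
  (⟨-1, 1, -1, -1, 4, 0, 4, -2⟩, 6801),
  (⟨-1, 1, -1, -1, 4, 0, 4, 2⟩, 10507),
  (⟨-1, 1, -1, -1, 4, 0, 6, 0⟩, 7706),
  (⟨-1, 1, -1, 1, -5, 1, -3, -1⟩, 10174),
  (⟨-1, 1, -1, 1, -5, 1, -1, 1⟩, 10340),
  (⟨-1, 1, -1, 1, -5, 1, 1, -1⟩, 10206),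
  (⟨-1, 1, -1, 1, -5, 1, 3, 1⟩, 10275),
  (⟨-1, 1, -1, 1, -3, -1, -5, 1⟩, 6975),
  (⟨-1, 1, -1, 1, -3, -1, -3, -1⟩, 10196),
  (⟨-1, 1, -1, 1, -3, -1, -1, 1⟩, 9705),
  (⟨-1, 1, -1, 1, -3, -1, 1, -1⟩, 10215),
  (⟨-1, 1, -1, 1, -3, -1, 3, 1⟩, 10329),
  (⟨-1, 1, -1, 1, -3, -1, 5, -1⟩, 7117),
  (⟨-1, 1, -1, 1, -1, -3, -1, 1⟩, 9644),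
  (⟨-1, 1, -1, 1, -1, -3, 1, -1⟩, 13858),
  (⟨-1, 1, -1, 1, -1, 1, -5, 1⟩, 10724),
  (⟨-1, 1, -1, 1, -1, 1, -3, -1⟩, 3307),
  (⟨-1, 1, -1, 1, -1, 1, -1, -3⟩, 5929),
  (⟨-1, 1, -1, 1, -1, 1, -1, 1⟩, 10350),
  (⟨-1, 1, -1, 1, -1, 1, 1, -1⟩, 3438),
  (⟨-1, 1, -1, 1, -1, 1, 1, 3⟩, 10270),
  (⟨-1, 1, -1, 1, -1, 1, 3, 1⟩, 10343),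
  (⟨-1, 1, -1, 1, -1, 1, 5, -1⟩, 3420),
  (⟨-1, 1, -1, 1, 1, -1, -5, 1⟩, 3549),
  (⟨-1, 1, -1, 1, 1, -1, -3, -1⟩, 10471),
  (⟨-1, 1, -1, 1, 1, -1, -1, -3⟩, 10401),
  (⟨-1, 1, -1, 1, 1, -1, -1, 1⟩, 9710),
  (⟨-1, 1, -1, 1, 1, -1, 1, -1⟩, 2926),
  (⟨-1, 1, -1, 1, 1, -1, 1, 3⟩, 6314),
  (⟨-1, 1, -1, 1, 1, -1, 3, 1⟩, 3688),
  (⟨-1, 1, -1, 1, 1, -1, 5, -1⟩, 7780),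
  (⟨-1, 1, -1, 1, 1, 3, -1, 1⟩, 13989),
  (⟨-1, 1, -1, 1, 1, 3, 1, -1⟩, 9767),
  (⟨-1, 1, -1, 1, 3, 1, -5, 1⟩, 7244),
  (⟨-1, 1, -1, 1, 3, 1, -3, -1⟩, 10456),
  (⟨-1, 1, -1, 1, 3, 1, -1, 1⟩, 10599),
  (⟨-1, 1, -1, 1, 3, 1, 1, -1⟩, 9834),
  (⟨-1, 1, -1, 1, 3, 1, 3, 1⟩, 10581),
  (⟨-1, 1, -1, 1, 3, 1, 5, -1⟩, 7366),
  (⟨-1, 1, -1, 1, 5, -1, -3, -1⟩, 10404),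
  (⟨-1, 1, -1, 1, 5, -1, -1, 1⟩, 10593),
  (⟨-1, 1, -1, 1, 5, -1, 1, -1⟩, 8932),
  (⟨-1, 1, -1, 1, 5, -1, 3, 1⟩, 10567),
  (⟨-1, 1, -1, 3, 0, 0, -2, 0⟩, 10660),
  (⟨-1, 1, -1, 3, 0, 0, 2, 0⟩, 10787),
  (⟨-1, 1, 0, -2, -5, -1, 0, 0⟩, 3787),
  (⟨-1, 1, 0, -2, -3, 1, -4, 0⟩, 9918),
  (⟨-1, 1, 0, -2, -3, 1, -2, -2⟩, 14255),
  (⟨-1, 1, 0, -2, -3, 1, -2, 2⟩, 6414),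
  (⟨-1, 1, 0, -2, -3, 1, 0, 0⟩, 13283),
  (⟨-1, 1, 0, -2, -3, 1, 2, -2⟩, 6547),
  (⟨-1, 1, 0, -2, -3, 1, 2, 2⟩, 6429),
  (⟨-1, 1, 0, -2, -3, 1, 4, 0⟩, 10060),
  (⟨-1, 1, 0, -2, -1, -1, -4, 0⟩, 7993),
  (⟨-1, 1, 0, -2, -1, -1, -2, -2⟩, 14239),
  (⟨-1, 1, 0, -2, -1, -1, -2, 2⟩, 6473),
  (⟨-1, 1, 0, -2, -1, -1, 0, 0⟩, 8040),
  (⟨-1, 1, 0, -2, -1, -1, 2, -2⟩, 6564),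
  (⟨-1, 1, 0, -2, -1, -1, 2, 2⟩, 14403),
  (⟨-1, 1, 0, -2, -1, -1, 4, 0⟩, 8102),
  (⟨-1, 1, 0, -2, 1, 1, -4, 0⟩, 8237),
  (⟨-1, 1, 0, -2, 1, 1, -2, -2⟩, 14276),
  (⟨-1, 1, 0, -2, 1, 1, -2, 2⟩, 6691),
  (⟨-1, 1, 0, -2, 1, 1, 0, 0⟩, 8427),
  (⟨-1, 1, 0, -2, 1, 1, 2, -2⟩, 6856),
  (⟨-1, 1, 0, -2, 1, 1, 2, 2⟩, 14368),
  (⟨-1, 1, 0, -2, 1, 1, 4, 0⟩, 8378),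
  (⟨-1, 1, 0, -2, 3, -1, -4, 0⟩, 9933),
  (⟨-1, 1, 0, -2, 3, -1, -2, -2⟩, 6810),
  (⟨-1, 1, 0, -2, 3, -1, -2, 2⟩, 6674),
  (⟨-1, 1, 0, -2, 3, -1, 0, 0⟩, 13410),
  (⟨-1, 1, 0, -2, 3, -1, 2, -2⟩, 6797),
  (⟨-1, 1, 0, -2, 3, -1, 2, 2⟩, 14388),
  (⟨-1, 1, 0, -2, 3, -1, 4, 0⟩, 10055),
  (⟨-1, 1, 0, -2, 5, 1, 0, 0⟩, 3914),
  (⟨-1, 1, 0, 0, -6, 0, -3, 1⟩, 7501),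
  (⟨-1, 1, 0, 0, -6, 0, -1, -1⟩, 10160),
  (⟨-1, 1, 0, 0, -6, 0, 1, 1⟩, 7475),
  (⟨-1, 1, 0, 0, -6, 0, 3, -1⟩, 7460),
  (⟨-1, 1, 0, 0, -4, -2, -3, 1⟩, 13770),
  (⟨-1, 1, 0, 0, -4, -2, -1, -1⟩, 10194),
  (⟨-1, 1, 0, 0, -4, -2, 1, 1⟩, 10963),
  (⟨-1, 1, 0, 0, -4, -2, 3, -1⟩, 13870),
  (⟨-1, 1, 0, 0, -4, 2, -3, 1⟩, 3280),
  (⟨-1, 1, 0, 0, -4, 2, -1, -1⟩, 3293),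
  (⟨-1, 1, 0, 0, -4, 2, 1, 1⟩, 10334),
  (⟨-1, 1, 0, 0, -4, 2, 3, -1⟩, 3408),
  (⟨-1, 1, 0, 0, -2, 0, -7, 1⟩, 7566),
  (⟨-1, 1, 0, 0, -2, 0, -5, -1⟩, 7637),
  (⟨-1, 1, 0, 0, -2, 0, -3, -3⟩, 10122),
  (⟨-1, 1, 0, 0, -2, 0, -3, 1⟩, 9966),
  (⟨-1, 1, 0, 0, -2, 0, -1, -1⟩, 10220),
  (⟨-1, 1, 0, 0, -2, 0, -1, 3⟩, 10312),
  (⟨-1, 1, 0, 0, -2, 0, 1, -3⟩, 10171),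
  (⟨-1, 1, 0, 0, -2, 0, 1, 1⟩, 10348),
  (⟨-1, 1, 0, 0, -2, 0, 3, -1⟩, 6638),
  (⟨-1, 1, 0, 0, -2, 0, 3, 3⟩, 10243),
  (⟨-1, 1, 0, 0, -2, 0, 5, 1⟩, 10325),
  (⟨-1, 1, 0, 0, -2, 0, 7, -1⟩, 7703),
  (⟨-1, 1, 0, 0, 0, -2, -5, -1⟩, 3525),
  (⟨-1, 1, 0, 0, 0, -2, -3, 1⟩, 3552),
  (⟨-1, 1, 0, 0, 0, -2, -1, -1⟩, 9320),
  (⟨-1, 1, 0, 0, 0, -2, 1, 1⟩, 10986),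
  (⟨-1, 1, 0, 0, 0, -2, 3, -1⟩, 13919),
  (⟨-1, 1, 0, 0, 0, -2, 5, 1⟩, 3652),
  (⟨-1, 1, 0, 0, 0, 2, -5, -1⟩, 3267),
  (⟨-1, 1, 0, 0, 0, 2, -3, 1⟩, 14048),
  (⟨-1, 1, 0, 0, 0, 2, -1, -1⟩, 11113),
  (⟨-1, 1, 0, 0, 0, 2, 1, 1⟩, 9195),
  (⟨-1, 1, 0, 0, 0, 2, 3, -1⟩, 3423),
  (⟨-1, 1, 0, 0, 0, 2, 5, 1⟩, 3392),
  (⟨-1, 1, 0, 0, 2, 0, -7, 1⟩, 7576),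
  (⟨-1, 1, 0, 0, 2, 0, -5, -1⟩, 10452),
  (⟨-1, 1, 0, 0, 2, 0, -3, -3⟩, 10372),
  (⟨-1, 1, 0, 0, 2, 0, -3, 1⟩, 10606),
  (⟨-1, 1, 0, 0, 2, 0, -1, -1⟩, 10476),
  (⟨-1, 1, 0, 0, 2, 0, -1, 3⟩, 10552),
  (⟨-1, 1, 0, 0, 2, 0, 1, -3⟩, 10441),
  (⟨-1, 1, 0, 0, 2, 0, 1, 1⟩, 10604),
  (⟨-1, 1, 0, 0, 2, 0, 3, -1⟩, 7790),
  (⟨-1, 1, 0, 0, 2, 0, 3, 3⟩, 10505),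
  (⟨-1, 1, 0, 0, 2, 0, 5, 1⟩, 7764),
  (⟨-1, 1, 0, 0, 2, 0, 7, -1⟩, 7693),
  (⟨-1, 1, 0, 0, 4, -2, -3, 1⟩, 3536),
  (⟨-1, 1, 0, 0, 4, -2, -1, -1⟩, 10465),
  (⟨-1, 1, 0, 0, 4, -2, 1, 1⟩, 3676),
  (⟨-1, 1, 0, 0, 4, -2, 3, -1⟩, 3664),
  (⟨-1, 1, 0, 0, 4, 2, -3, 1⟩, 14005),
  (⟨-1, 1, 0, 0, 4, 2, -1, -1⟩, 11094),
  (⟨-1, 1, 0, 0, 4, 2, 1, 1⟩, 10577),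
  (⟨-1, 1, 0, 0, 4, 2, 3, -1⟩, 14155),
  (⟨-1, 1, 0, 0, 6, 0, -3, 1⟩, 7843),
  (⟨-1, 1, 0, 0, 6, 0, -1, -1⟩, 7856),
  (⟨-1, 1, 0, 0, 6, 0, 1, 1⟩, 10547),
  (⟨-1, 1, 0, 0, 6, 0, 3, -1⟩, 7884),
  (⟨-1, 1, 0, 2, -5, -1, 0, 0⟩, 2997),
  (⟨-1, 1, 0, 2, -3, 1, -4, 0⟩, 10659),
  (⟨-1, 1, 0, 2, -3, 1, -2, -2⟩, 10167),
  (⟨-1, 1, 0, 2, -3, 1, -2, 2⟩, 8468),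
  (⟨-1, 1, 0, 2, -3, 1, 0, 0⟩, 3043),
  (⟨-1, 1, 0, 2, -3, 1, 2, -2⟩, 8599),
  (⟨-1, 1, 0, 2, -3, 1, 2, 2⟩, 10268),
  (⟨-1, 1, 0, 2, -3, 1, 4, 0⟩, 10815),
  (⟨-1, 1, 0, 2, -1, -1, -4, 0⟩, 10667),
  (⟨-1, 1, 0, 2, -1, -1, -2, -2⟩, 13504),
  (⟨-1, 1, 0, 2, -1, -1, -2, 2⟩, 8525),
  (⟨-1, 1, 0, 2, -1, -1, 0, 0⟩, 10730),
  (⟨-1, 1, 0, 2, -1, -1, 2, -2⟩, 8632),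
  (⟨-1, 1, 0, 2, -1, -1, 2, 2⟩, 13647),
  (⟨-1, 1, 0, 2, -1, -1, 4, 0⟩, 10809),
  (⟨-1, 1, 0, 2, 1, 1, -4, 0⟩, 10682),
  (⟨-1, 1, 0, 2, 1, 1, -2, -2⟩, 13518),
  (⟨-1, 1, 0, 2, 1, 1, -2, 2⟩, 8763),
  (⟨-1, 1, 0, 2, 1, 1, 0, 0⟩, 10857),
  (⟨-1, 1, 0, 2, 1, 1, 2, -2⟩, 8908),
  (⟨-1, 1, 0, 2, 1, 1, 2, 2⟩, 13637),
  (⟨-1, 1, 0, 2, 1, 1, 4, 0⟩, 10792),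
  (⟨-1, 1, 0, 2, 3, -1, -4, 0⟩, 10694),
  (⟨-1, 1, 0, 2, 3, -1, -2, -2⟩, 10395),
  (⟨-1, 1, 0, 2, 3, -1, -2, 2⟩, 8728),
  (⟨-1, 1, 0, 2, 3, -1, 0, 0⟩, 3170),
  (⟨-1, 1, 0, 2, 3, -1, 2, -2⟩, 8849),
  (⟨-1, 1, 0, 2, 3, -1, 2, 2⟩, 10556),
  (⟨-1, 1, 0, 2, 3, -1, 4, 0⟩, 10788),
  (⟨-1, 1, 0, 2, 5, 1, 0, 0⟩, 3118),
  (⟨-1, 1, 1, -3, 0, 0, -2, 0⟩, 9932),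
  (⟨-1, 1, 1, -3, 0, 0, 2, 0⟩, 10061),
  (⟨-1, 1, 1, -1, -5, 1, -3, -1⟩, 10188),
  (⟨-1, 1, 1, -1, -5, 1, -1, 1⟩, 6493),
  (⟨-1, 1, 1, -1, -5, 1, 1, -1⟩, 3812),
  (⟨-1, 1, 1, -1, -5, 1, 3, 1⟩, 10303),
  (⟨-1, 1, 1, -1, -3, -1, -5, 1⟩, 7972),
  (⟨-1, 1, 1, -1, -3, -1, -3, -1⟩, 8024),
  (⟨-1, 1, 1, -1, -3, -1, -1, 1⟩, 8039),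
  (⟨-1, 1, 1, -1, -3, -1, 1, -1⟩, 6635),
  (⟨-1, 1, 1, -1, -3, -1, 3, 1⟩, 8148),
  (⟨-1, 1, 1, -1, -3, -1, 5, -1⟩, 8126),
  (⟨-1, 1, 1, -1, -1, -3, -1, 1⟩, 7969),
  (⟨-1, 1, 1, -1, -1, -3, 1, -1⟩, 13865),
  (⟨-1, 1, 1, -1, -1, 1, -5, 1⟩, 8289),
  (⟨-1, 1, 1, -1, -1, 1, -3, -1⟩, 8295),
  (⟨-1, 1, 1, -1, -1, 1, -1, -3⟩, 8997),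
  (⟨-1, 1, 1, -1, -1, 1, -1, 1⟩, 14446),
  (⟨-1, 1, 1, -1, -1, 1, 1, -1⟩, 8430),
  (⟨-1, 1, 1, -1, -1, 1, 1, 3⟩, 14380),
  (⟨-1, 1, 1, -1, -1, 1, 3, 1⟩, 14441),
  (⟨-1, 1, 1, -1, -1, 1, 5, -1⟩, 8420),
  (⟨-1, 1, 1, -1, 1, -1, -5, 1⟩, 3556),
  (⟨-1, 1, 1, -1, 1, -1, -3, -1⟩, 14314),
  (⟨-1, 1, 1, -1, 1, -1, -1, -3⟩, 14247),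
  (⟨-1, 1, 1, -1, 1, -1, -1, 1⟩, 13422),
  (⟨-1, 1, 1, -1, 1, -1, 1, -1⟩, 6894),
  (⟨-1, 1, 1, -1, 1, -1, 1, 3⟩, 9378),
  (⟨-1, 1, 1, -1, 1, -1, 3, 1⟩, 8167),
  (⟨-1, 1, 1, -1, 1, -1, 5, -1⟩, 8158),
  (⟨-1, 1, 1, -1, 1, 3, -1, 1⟩, 13994),
  (⟨-1, 1, 1, -1, 1, 3, 1, -1⟩, 8350),
  (⟨-1, 1, 1, -1, 3, 1, -5, 1⟩, 8263),
  (⟨-1, 1, 1, -1, 3, 1, -3, -1⟩, 8277),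
  (⟨-1, 1, 1, -1, 3, 1, -1, 1⟩, 6760),
  (⟨-1, 1, 1, -1, 3, 1, 1, -1⟩, 8423),
  (⟨-1, 1, 1, -1, 3, 1, 3, 1⟩, 8409),
  (⟨-1, 1, 1, -1, 3, 1, 5, -1⟩, 8355),
  (⟨-1, 1, 1, -1, 5, -1, -3, -1⟩, 10438),
  (⟨-1, 1, 1, -1, 5, -1, -1, 1⟩, 7908),
  (⟨-1, 1, 1, -1, 5, -1, 1, -1⟩, 6876),
  (⟨-1, 1, 1, -1, 5, -1, 3, 1⟩, 10573),
  (⟨-1, 1, 1, 1, -4, 0, -6, 0⟩, 7579),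
  (⟨-1, 1, 1, 1, -4, 0, -4, -2⟩, 10118),
  (⟨-1, 1, 1, 1, -4, 0, -4, 2⟩, 8472),
  (⟨-1, 1, 1, 1, -4, 0, -2, 0⟩, 10728),
  (⟨-1, 1, 1, 1, -4, 0, 0, -2⟩, 10152),
  (⟨-1, 1, 1, 1, -4, 0, 0, 2⟩, 8514),
  (⟨-1, 1, 1, 1, -4, 0, 2, 0⟩, 7531),
  (⟨-1, 1, 1, 1, -4, 0, 4, -2⟩, 8595),
  (⟨-1, 1, 1, 1, -4, 0, 4, 2⟩, 10242),
  (⟨-1, 1, 1, 1, -4, 0, 6, 0⟩, 14903),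
  (⟨-1, 1, 1, 1, -2, -2, -2, 0⟩, 10969),
  (⟨-1, 1, 1, 1, -2, -2, 0, -2⟩, 13898),
  (⟨-1, 1, 1, 1, -2, -2, 0, 2⟩, 13763),
  (⟨-1, 1, 1, 1, -2, -2, 2, 0⟩, 10965),
  (⟨-1, 1, 1, 1, -2, 2, -2, 0⟩, 3295),
  (⟨-1, 1, 1, 1, -2, 2, 0, -2⟩, 9016),
  (⟨-1, 1, 1, 1, -2, 2, 0, 2⟩, 9158),
  (⟨-1, 1, 1, 1, -2, 2, 2, 0⟩, 3426),
  (⟨-1, 1, 1, 1, 0, 0, -6, 0⟩, 7618),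
  (⟨-1, 1, 1, 1, 0, 0, -4, -2⟩, 10449),
  (⟨-1, 1, 1, 1, 0, 0, -4, 2⟩, 4065),
  (⟨-1, 1, 1, 1, 0, 0, -2, 0⟩, 10732),
  (⟨-1, 1, 1, 1, 0, 0, 0, -2⟩, 4201),
  (⟨-1, 1, 1, 1, 0, 0, 0, 2⟩, 4074),
  (⟨-1, 1, 1, 1, 0, 0, 2, 0⟩, 10860),
  (⟨-1, 1, 1, 1, 0, 0, 4, -2⟩, 4190),
  (⟨-1, 1, 1, 1, 0, 0, 4, 2⟩, 10322),
  (⟨-1, 1, 1, 1, 0, 0, 6, 0⟩, 10818),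
  (⟨-1, 1, 1, 1, 2, -2, -2, 0⟩, 3555),
  (⟨-1, 1, 1, 1, 2, -2, 0, -2⟩, 9279),
  (⟨-1, 1, 1, 1, 2, -2, 0, 2⟩, 9403),
  (⟨-1, 1, 1, 1, 2, -2, 2, 0⟩, 3680),
  (⟨-1, 1, 1, 1, 2, 2, -2, 0⟩, 11092),
  (⟨-1, 1, 1, 1, 2, 2, 0, -2⟩, 14148),
  (⟨-1, 1, 1, 1, 2, 2, 0, 2⟩, 14027),
  (⟨-1, 1, 1, 1, 2, 2, 2, 0⟩, 11096),
  (⟨-1, 1, 1, 1, 4, 0, -6, 0⟩, 15036),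
  (⟨-1, 1, 1, 1, 4, 0, -4, -2⟩, 10369),
  (⟨-1, 1, 1, 1, 4, 0, -4, 2⟩, 8722),
  (⟨-1, 1, 1, 1, 4, 0, -2, 0⟩, 7912),
  (⟨-1, 1, 1, 1, 4, 0, 0, -2⟩, 10434),
  (⟨-1, 1, 1, 1, 4, 0, 0, 2⟩, 10539),
  (⟨-1, 1, 1, 1, 4, 0, 2, 0⟩, 10859),
  (⟨-1, 1, 1, 1, 4, 0, 4, -2⟩, 8855),
  (⟨-1, 1, 1, 1, 4, 0, 4, 2⟩, 10503),
  (⟨-1, 1, 1, 1, 4, 0, 6, 0⟩, 7708),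
  (⟨-1, 1, 1, 3, -1, 1, -1, 1⟩, 10658),
  (⟨-1, 1, 1, 3, -1, 1, 1, -1⟩, 10794),
  (⟨-1, 1, 1, 3, 1, -1, -1, 1⟩, 10665),
  (⟨-1, 1, 1, 3, 1, -1, 1, -1⟩, 10789),
  (⟨-1, 1, 2, -2, -2, 0, -5, -1⟩, 14258),
  (⟨-1, 1, 2, -2, -2, 0, -3, 1⟩, 8028),
  (⟨-1, 1, 2, -2, -2, 0, -1, -1⟩, 14306),
  (⟨-1, 1, 2, -2, -2, 0, 1, 1⟩, 14438),
  (⟨-1, 1, 2, -2, -2, 0, 3, -1⟩, 6625),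
  (⟨-1, 1, 2, -2, -2, 0, 5, 1⟩, 8094),
  (⟨-1, 1, 2, -2, 0, -2, -3, 1⟩, 7950),
  (⟨-1, 1, 2, -2, 0, -2, -1, -1⟩, 7999),
  (⟨-1, 1, 2, -2, 0, -2, 1, 1⟩, 8100),
  (⟨-1, 1, 2, -2, 0, -2, 3, -1⟩, 8079),
  (⟨-1, 1, 2, -2, 0, 2, -3, 1⟩, 8208),
  (⟨-1, 1, 2, -2, 0, 2, -1, -1⟩, 8227),
  (⟨-1, 1, 2, -2, 0, 2, 1, 1⟩, 8390),
  (⟨-1, 1, 2, -2, 0, 2, 3, -1⟩, 8333),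
  (⟨-1, 1, 2, -2, 2, 0, -5, -1⟩, 8225),
  (⟨-1, 1, 2, -2, 2, 0, -3, 1⟩, 6750),
  (⟨-1, 1, 2, -2, 2, 0, -1, -1⟩, 3942),
  (⟨-1, 1, 2, -2, 2, 0, 1, 1⟩, 14435),
  (⟨-1, 1, 2, -2, 2, 0, 3, -1⟩, 8413),
  (⟨-1, 1, 2, -2, 2, 0, 5, 1⟩, 14385),
  (⟨-1, 1, 2, 0, -7, 1, 0, 0⟩, 7444),
  (⟨-1, 1, 2, 0, -5, -1, -4, 0⟩, 14784),
  (⟨-1, 1, 2, 0, -5, -1, -2, -2⟩, 10116),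
  (⟨-1, 1, 2, 0, -5, -1, -2, 2⟩, 13751),
  (⟨-1, 1, 2, 0, -5, -1, 0, 0⟩, 10970),
  (⟨-1, 1, 2, 0, -5, -1, 2, -2⟩, 10145),
  (⟨-1, 1, 2, 0, -5, -1, 2, 2⟩, 10252),
  (⟨-1, 1, 2, 0, -5, -1, 4, 0⟩, 14922),
  (⟨-1, 1, 2, 0, -3, -3, 0, 0⟩, 10887),
  (⟨-1, 1, 2, 0, -3, 1, -4, 0⟩, 3299),
  (⟨-1, 1, 2, 0, -3, 1, -2, -2⟩, 9003),
  (⟨-1, 1, 2, 0, -3, 1, -2, 2⟩, 4060),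
  (⟨-1, 1, 2, 0, -3, 1, 0, 0⟩, 3822),
  (⟨-1, 1, 2, 0, -3, 1, 2, -2⟩, 9052),
  (⟨-1, 1, 2, 0, -3, 1, 2, 2⟩, 10288),
  (⟨-1, 1, 2, 0, -3, 1, 4, 0⟩, 14950),
  (⟨-1, 1, 2, 0, -1, -1, -4, 0⟩, 3561),
  (⟨-1, 1, 2, 0, -1, -1, -2, -2⟩, 9306),
  (⟨-1, 1, 2, 0, -1, -1, -2, 2⟩, 13798),
  (⟨-1, 1, 2, 0, -1, -1, 0, 0⟩, 10988),
  (⟨-1, 1, 2, 0, -1, -1, 2, -2⟩, 4192),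
  (⟨-1, 1, 2, 0, -1, -1, 2, 2⟩, 9432),
  (⟨-1, 1, 2, 0, -1, -1, 4, 0⟩, 8169),
  (⟨-1, 1, 2, 0, -1, 3, 0, 0⟩, 11070),
  (⟨-1, 1, 2, 0, 1, -3, 0, 0⟩, 10951),
  (⟨-1, 1, 2, 0, 1, 1, -4, 0⟩, 8298),
  (⟨-1, 1, 2, 0, 1, 1, -2, -2⟩, 9049),
  (⟨-1, 1, 2, 0, 1, 1, -2, 2⟩, 4063),
  (⟨-1, 1, 2, 0, 1, 1, 0, 0⟩, 11116),
  (⟨-1, 1, 2, 0, 1, 1, 2, -2⟩, 4198),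
  (⟨-1, 1, 2, 0, 1, 1, 2, 2⟩, 10586),
  (⟨-1, 1, 2, 0, 1, 1, 4, 0⟩, 3434),
  (⟨-1, 1, 2, 0, 3, -1, -4, 0⟩, 3558),
  (⟨-1, 1, 2, 0, 3, -1, -2, -2⟩, 10419),
  (⟨-1, 1, 2, 0, 3, -1, -2, 2⟩, 9437),
  (⟨-1, 1, 2, 0, 3, -1, 0, 0⟩, 3694),
  (⟨-1, 1, 2, 0, 3, -1, 2, -2⟩, 4189),
  (⟨-1, 1, 2, 0, 3, -1, 2, 2⟩, 9384),
  (⟨-1, 1, 2, 0, 3, -1, 4, 0⟩, 3682),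
  (⟨-1, 1, 2, 0, 3, 3, 0, 0⟩, 11014),
  (⟨-1, 1, 2, 0, 5, 1, -4, 0⟩, 15051),
  (⟨-1, 1, 2, 0, 5, 1, -2, -2⟩, 10379),
  (⟨-1, 1, 2, 0, 5, 1, -2, 2⟩, 10526),
  (⟨-1, 1, 2, 0, 5, 1, 0, 0⟩, 7898),
  (⟨-1, 1, 2, 0, 5, 1, 2, -2⟩, 14140),
  (⟨-1, 1, 2, 0, 5, 1, 2, 2⟩, 10499),
  (⟨-1, 1, 2, 0, 5, 1, 4, 0⟩, 15173),
  (⟨-1, 1, 2, 0, 7, -1, 0, 0⟩, 7825),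
  (⟨-1, 1, 2, 2, -2, 0, -5, -1⟩, 10626),
  (⟨-1, 1, 2, 2, -2, 0, -3, 1⟩, 10662),
  (⟨-1, 1, 2, 2, -2, 0, -1, -1⟩, 10709),
  (⟨-1, 1, 2, 2, -2, 0, 1, 1⟩, 10842),
  (⟨-1, 1, 2, 2, -2, 0, 3, -1⟩, 8641),
  (⟨-1, 1, 2, 2, -2, 0, 5, 1⟩, 10757),
  (⟨-1, 1, 2, 2, 0, -2, -3, 1⟩, 10674),
  (⟨-1, 1, 2, 2, 0, -2, -1, -1⟩, 14670),
  (⟨-1, 1, 2, 2, 0, -2, 1, 1⟩, 14666),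
  (⟨-1, 1, 2, 2, 0, -2, 3, -1⟩, 10812),
  (⟨-1, 1, 2, 2, 0, 2, -3, 1⟩, 10679),
  (⟨-1, 1, 2, 2, 0, 2, -1, -1⟩, 14539),
  (⟨-1, 1, 2, 2, 0, 2, 1, 1⟩, 14543),
  (⟨-1, 1, 2, 2, 0, 2, 3, -1⟩, 10801),
  (⟨-1, 1, 2, 2, 2, 0, -5, -1⟩, 10632),
  (⟨-1, 1, 2, 2, 2, 0, -3, 1⟩, 10689),
  (⟨-1, 1, 2, 2, 2, 0, -1, -1⟩, 8922),
  (⟨-1, 1, 2, 2, 2, 0, 1, 1⟩, 10836),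
  (⟨-1, 1, 2, 2, 2, 0, 3, -1⟩, 10797),
  (⟨-1, 1, 2, 2, 2, 0, 5, 1⟩, 10753),
  (⟨-1, 1, 3, -1, -4, 0, -2, 0⟩, 14821),
  (⟨-1, 1, 3, -1, -4, 0, 0, -2⟩, 10185),
  (⟨-1, 1, 3, -1, -4, 0, 0, 2⟩, 10316),
  (⟨-1, 1, 3, -1, -4, 0, 2, 0⟩, 3808),
  (⟨-1, 1, 3, -1, -2, -2, -2, 0⟩, 7976),
  (⟨-1, 1, 3, -1, -2, -2, 0, -2⟩, 9263),
  (⟨-1, 1, 3, -1, -2, -2, 0, 2⟩, 10930),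
  (⟨-1, 1, 3, -1, -2, -2, 2, 0⟩, 8122),
  (⟨-1, 1, 3, -1, -2, 2, -2, 0⟩, 8284),
  (⟨-1, 1, 3, -1, -2, 2, 0, -2⟩, 8976),
  (⟨-1, 1, 3, -1, -2, 2, 0, 2⟩, 9108),
  (⟨-1, 1, 3, -1, -2, 2, 2, 0⟩, 9181),
  (⟨-1, 1, 3, -1, 0, 0, -6, 0⟩, 7615),
  (⟨-1, 1, 3, -1, 0, 0, -4, -2⟩, 14272),
  (⟨-1, 1, 3, -1, 0, 0, -4, 2⟩, 4048),
  (⟨-1, 1, 3, -1, 0, 0, -2, 0⟩, 3950),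
  (⟨-1, 1, 3, -1, 0, 0, 0, -2⟩, 14309),
  (⟨-1, 1, 3, -1, 0, 0, 0, 2⟩, 4069),
  (⟨-1, 1, 3, -1, 0, 0, 2, 0⟩, 8174),
  (⟨-1, 1, 3, -1, 0, 0, 4, -2⟩, 4176),
  (⟨-1, 1, 3, -1, 0, 0, 4, 2⟩, 14405),
  (⟨-1, 1, 3, -1, 0, 0, 6, 0⟩, 7750),
  (⟨-1, 1, 3, -1, 2, -2, -2, 0⟩, 9308),
  (⟨-1, 1, 3, -1, 2, -2, 0, -2⟩, 9233),
  (⟨-1, 1, 3, -1, 2, -2, 0, 2⟩, 9359),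
  (⟨-1, 1, 3, -1, 2, -2, 2, 0⟩, 8157),
  (⟨-1, 1, 3, -1, 2, 2, -2, 0⟩, 8249),
  (⟨-1, 1, 3, -1, 2, 2, 0, -2⟩, 11057),
  (⟨-1, 1, 3, -1, 2, 2, 0, 2⟩, 9140),
  (⟨-1, 1, 3, -1, 2, 2, 2, 0⟩, 8363),
  (⟨-1, 1, 3, -1, 4, 0, -2, 0⟩, 3935),
  (⟨-1, 1, 3, -1, 4, 0, 0, -2⟩, 10445),
  (⟨-1, 1, 3, -1, 4, 0, 0, 2⟩, 10568),
  (⟨-1, 1, 3, -1, 4, 0, 2, 0⟩, 3941),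
  (⟨-1, 1, 3, 1, -5, 1, -3, -1⟩, 9010),
  (⟨-1, 1, 3, 1, -5, 1, -1, 1⟩, 8507),
  (⟨-1, 1, 3, 1, -5, 1, 1, -1⟩, 8653),
  (⟨-1, 1, 3, 1, -5, 1, 3, 1⟩, 10282),
  (⟨-1, 1, 3, 1, -3, -1, -5, 1⟩, 10671),
  (⟨-1, 1, 3, 1, -3, -1, -3, -1⟩, 10199),
  (⟨-1, 1, 3, 1, -3, -1, -1, 1⟩, 10964),
  (⟨-1, 1, 3, 1, -3, -1, 1, -1⟩, 10971),
  (⟨-1, 1, 3, 1, -3, -1, 3, 1⟩, 10961),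
  (⟨-1, 1, 3, 1, -3, -1, 5, -1⟩, 8617),
  (⟨-1, 1, 3, 1, -1, 1, -5, 1⟩, 10686),
  (⟨-1, 1, 3, 1, -1, 1, -3, -1⟩, 10715),
  (⟨-1, 1, 3, 1, -1, 1, -1, 1⟩, 4071),
  (⟨-1, 1, 3, 1, -1, 1, 1, -1⟩, 11112),
  (⟨-1, 1, 3, 1, -1, 1, 3, 1⟩, 9177),
  (⟨-1, 1, 3, 1, -1, 1, 5, -1⟩, 10825),
  (⟨-1, 1, 3, 1, 1, -1, -5, 1⟩, 10696),
  (⟨-1, 1, 3, 1, 1, -1, -3, -1⟩, 9304),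
  (⟨-1, 1, 3, 1, 1, -1, -1, 1⟩, 10987),
  (⟨-1, 1, 3, 1, 1, -1, 1, -1⟩, 4199),
  (⟨-1, 1, 3, 1, 1, -1, 3, 1⟩, 9435),
  (⟨-1, 1, 3, 1, 1, -1, 5, -1⟩, 10823),
  (⟨-1, 1, 3, 1, 3, 1, -5, 1⟩, 8746),
  (⟨-1, 1, 3, 1, 3, 1, -3, -1⟩, 11090),
  (⟨-1, 1, 3, 1, 3, 1, -1, 1⟩, 8795),
  (⟨-1, 1, 3, 1, 3, 1, 1, -1⟩, 11093),
  (⟨-1, 1, 3, 1, 3, 1, 3, 1⟩, 10839),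
  (⟨-1, 1, 3, 1, 3, 1, 5, -1⟩, 10804),
  (⟨-1, 1, 3, 1, 5, -1, -3, -1⟩, 10409),
  (⟨-1, 1, 3, 1, 5, -1, -1, 1⟩, 8780),
  (⟨-1, 1, 3, 1, 5, -1, 1, -1⟩, 8888),
  (⟨-1, 1, 3, 1, 5, -1, 3, 1⟩, 9393),
  (⟨-1, 1, 3, 3, 0, 0, -2, 0⟩, 10625),
  (⟨-1, 1, 3, 3, 0, 0, 2, 0⟩, 10754),
  (⟨-1, 1, 4, -2, -3, 1, 0, 0⟩, 3792),
  (⟨-1, 1, 4, -2, -1, -1, -4, 0⟩, 7951),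
  (⟨-1, 1, 4, -2, -1, -1, 0, 0⟩, 8030),
  (⟨-1, 1, 4, -2, -1, -1, 4, 0⟩, 8077),
  (⟨-1, 1, 4, -2, 1, 1, -4, 0⟩, 8206),
  (⟨-1, 1, 4, -2, 1, 1, 0, 0⟩, 8417),
  (⟨-1, 1, 4, -2, 1, 1, 4, 0⟩, 8336),
  (⟨-1, 1, 4, -2, 3, -1, 0, 0⟩, 3920),
  (⟨-1, 1, 4, 0, -6, 0, -1, -1⟩, 14774),
  (⟨-1, 1, 4, 0, -6, 0, 1, 1⟩, 7476),
  (⟨-1, 1, 4, 0, -4, -2, -1, -1⟩, 10892),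
  (⟨-1, 1, 4, 0, -4, -2, 1, 1⟩, 10883),
  (⟨-1, 1, 4, 0, -4, 2, -1, -1⟩, 8979),
  (⟨-1, 1, 4, 0, -4, 2, 1, 1⟩, 9104),
  (⟨-1, 1, 4, 0, -2, 0, -5, -1⟩, 14798),
  (⟨-1, 1, 4, 0, -2, 0, -3, 1⟩, 4064),
  (⟨-1, 1, 4, 0, -2, 0, -1, -1⟩, 9066),
  (⟨-1, 1, 4, 0, -2, 0, 1, 1⟩, 4072),
  (⟨-1, 1, 4, 0, -2, 0, 3, -1⟩, 4194),
  (⟨-1, 1, 4, 0, -2, 0, 5, 1⟩, 14915),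
  (⟨-1, 1, 4, 0, 0, -2, -3, 1⟩, 10950),
  (⟨-1, 1, 4, 0, 0, -2, -1, -1⟩, 9254),
  (⟨-1, 1, 4, 0, 0, -2, 1, 1⟩, 10931),
  (⟨-1, 1, 4, 0, 0, -2, 3, -1⟩, 10953),
  (⟨-1, 1, 4, 0, 0, 2, -3, 1⟩, 11080),
  (⟨-1, 1, 4, 0, 0, 2, -1, -1⟩, 11056),
  (⟨-1, 1, 4, 0, 0, 2, 1, 1⟩, 9133),
  (⟨-1, 1, 4, 0, 0, 2, 3, -1⟩, 11071),
  (⟨-1, 1, 4, 0, 2, 0, -5, -1⟩, 15044),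
  (⟨-1, 1, 4, 0, 2, 0, -3, 1⟩, 4067),
  (⟨-1, 1, 4, 0, 2, 0, -1, -1⟩, 4203),
  (⟨-1, 1, 4, 0, 2, 0, 1, 1⟩, 9449),
  (⟨-1, 1, 4, 0, 2, 0, 3, -1⟩, 4191),
  (⟨-1, 1, 4, 0, 2, 0, 5, 1⟩, 15183),
  (⟨-1, 1, 4, 0, 4, -2, -1, -1⟩, 9231),
  (⟨-1, 1, 4, 0, 4, -2, 1, 1⟩, 9362),
  (⟨-1, 1, 4, 0, 4, 2, -1, -1⟩, 11012),
  (⟨-1, 1, 4, 0, 4, 2, 1, 1⟩, 11019),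
  (⟨-1, 1, 4, 0, 6, 0, -1, -1⟩, 7855),
  (⟨-1, 1, 4, 0, 6, 0, 1, 1⟩, 15165),
  (⟨-1, 1, 4, 2, -3, 1, 0, 0⟩, 14542),
  (⟨-1, 1, 4, 2, -1, -1, -4, 0⟩, 10627),
  (⟨-1, 1, 4, 2, -1, -1, 0, 0⟩, 10966),
  (⟨-1, 1, 4, 2, -1, -1, 4, 0⟩, 10759),
  (⟨-1, 1, 4, 2, 1, 1, -4, 0⟩, 10630),
  (⟨-1, 1, 4, 2, 1, 1, 0, 0⟩, 11091),
  (⟨-1, 1, 4, 2, 1, 1, 4, 0⟩, 10756),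
  (⟨-1, 1, 4, 2, 3, -1, 0, 0⟩, 14671),
  (⟨-1, 1, 5, -1, -3, -1, -3, -1⟩, 7991),
  (⟨-1, 1, 5, -1, -3, -1, -1, 1⟩, 10952),
  (⟨-1, 1, 5, -1, -3, -1, 1, -1⟩, 10956),
  (⟨-1, 1, 5, -1, -3, -1, 3, 1⟩, 8108),
  (⟨-1, 1, 5, -1, -1, 1, -3, -1⟩, 9031),
  (⟨-1, 1, 5, -1, -1, 1, -1, 1⟩, 4062),
  (⟨-1, 1, 5, -1, -1, 1, 1, -1⟩, 9572),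
  (⟨-1, 1, 5, -1, -1, 1, 3, 1⟩, 9147),
  (⟨-1, 1, 5, -1, 1, -1, -3, -1⟩, 9272),
  (⟨-1, 1, 5, -1, 1, -1, -1, 1⟩, 9444),
  (⟨-1, 1, 5, -1, 1, -1, 1, -1⟩, 4193),
  (⟨-1, 1, 5, -1, 1, -1, 3, 1⟩, 9406),
  (⟨-1, 1, 5, -1, 3, 1, -3, -1⟩, 8231),
  (⟨-1, 1, 5, -1, 3, 1, -1, 1⟩, 11085),
  (⟨-1, 1, 5, -1, 3, 1, 1, -1⟩, 11081),
  (⟨-1, 1, 5, -1, 3, 1, 3, 1⟩, 8380),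
  (⟨-1, 1, 5, 1, -4, 0, -2, 0⟩, 14794),
  (⟨-1, 1, 5, 1, -4, 0, 2, 0⟩, 14927),
  (⟨-1, 1, 5, 1, -2, -2, -2, 0⟩, 10888),
  (⟨-1, 1, 5, 1, -2, -2, 2, 0⟩, 10884),
  (⟨-1, 1, 5, 1, -2, 2, -2, 0⟩, 11055),
  (⟨-1, 1, 5, 1, -2, 2, 2, 0⟩, 9125),
  (⟨-1, 1, 5, 1, 0, 0, -2, 0⟩, 9561),
  (⟨-1, 1, 5, 1, 0, 0, 0, -2⟩, 4128),
  (⟨-1, 1, 5, 1, 0, 0, 0, 2⟩, 3999),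
  (⟨-1, 1, 5, 1, 0, 0, 2, 0⟩, 9560),
  (⟨-1, 1, 5, 1, 2, -2, -2, 0⟩, 9250),
  (⟨-1, 1, 5, 1, 2, -2, 2, 0⟩, 10932),
  (⟨-1, 1, 5, 1, 2, 2, -2, 0⟩, 11011),
  (⟨-1, 1, 5, 1, 2, 2, 2, 0⟩, 11013),
  (⟨-1, 1, 5, 1, 4, 0, -2, 0⟩, 15054),
  (⟨-1, 1, 5, 1, 4, 0, 2, 0⟩, 15179),
  (⟨-1, 1, 6, 0, -3, 1, 0, 0⟩, 9528),
  (⟨-1, 1, 6, 0, -1, -1, -4, 0⟩, 9532),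
  (⟨-1, 1, 6, 0, -1, -1, 0, 0⟩, 9529),
  (⟨-1, 1, 6, 0, -1, -1, 4, 0⟩, 9526),
  (⟨-1, 1, 6, 0, 1, 1, -4, 0⟩, 9533),
  (⟨-1, 1, 6, 0, 1, 1, 0, 0⟩, 9530),
  (⟨-1, 1, 6, 0, 1, 1, 4, 0⟩, 9527),
  (⟨-1, 1, 6, 0, 3, -1, 0, 0⟩, 9531),
  (⟨-1, 1, 7, -1, 0, 0, -2, 0⟩, 9488),
  (⟨-1, 1, 7, -1, 0, 0, 2, 0⟩, 9487),
  (⟨-1, 3, -3, -1, -2, 0, 0, 0⟩, 9885),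
  (⟨-1, 3, -3, -1, 2, 0, 0, 0⟩, 10010),
  (⟨-1, 3, -2, 0, 0, 0, -3, -1⟩, 9883),
  (⟨-1, 3, -2, 0, 0, 0, -1, 1⟩, 2761),
  (⟨-1, 3, -2, 0, 0, 0, 1, -1⟩, 2888),
  (⟨-1, 3, -2, 0, 0, 0, 3, 1⟩, 10012),
  (⟨-1, 3, -1, -1, -1, -1, -1, -1⟩, 9889),
  (⟨-1, 3, -1, -1, -1, -1, 1, 1⟩, 10028),
  (⟨-1, 3, -1, -1, 1, 1, -1, -1⟩, 9895),
  (⟨-1, 3, -1, -1, 1, 1, 1, 1⟩, 10014),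
  (⟨-1, 3, -1, 1, -2, 0, 0, 0⟩, 3021),
  (⟨-1, 3, -1, 1, 2, 0, 0, 0⟩, 3148),
  (⟨-1, 3, 0, 0, -3, -1, -2, 0⟩, 10162),
  (⟨-1, 3, 0, 0, -3, -1, 2, 0⟩, 10934),
  (⟨-1, 3, 0, 0, -1, 1, -2, 0⟩, 3271),
  (⟨-1, 3, 0, 0, -1, 1, 2, 0⟩, 3398),
  (⟨-1, 3, 0, 0, 1, -1, -2, 0⟩, 3519),
  (⟨-1, 3, 0, 0, 1, -1, 2, 0⟩, 3646),
  (⟨-1, 3, 0, 0, 3, 1, -2, 0⟩, 11069),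
  (⟨-1, 3, 0, 0, 3, 1, 2, 0⟩, 10545),
  (⟨-1, 3, 1, -1, -2, 0, 0, 0⟩, 3748),
  (⟨-1, 3, 1, -1, 2, 0, 0, 0⟩, 3875),
  (⟨-1, 3, 1, 1, -1, -1, -1, -1⟩, 10153),
  (⟨-1, 3, 1, 1, -1, -1, 1, 1⟩, 10914),
  (⟨-1, 3, 1, 1, 1, 1, -1, -1⟩, 11045),
  (⟨-1, 3, 1, 1, 1, 1, 1, 1⟩, 10538),
  (⟨-1, 3, 2, 0, 0, 0, -3, -1⟩, 10415),
  (⟨-1, 3, 2, 0, 0, 0, -1, 1⟩, 4027),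
  (⟨-1, 3, 2, 0, 0, 0, 1, -1⟩, 4152),
  (⟨-1, 3, 2, 0, 0, 0, 3, 1⟩, 10292),
  (⟨-1, 3, 3, 1, -2, 0, 0, 0⟩, 10935),
  (⟨-1, 3, 3, 1, 2, 0, 0, 0⟩, 11068),
  (⟨0, -2, -6, 0, -2, 0, -2, 0⟩, 11177),
  (⟨0, -2, -6, 0, -2, 0, 2, 0⟩, 11313),
  (⟨0, -2, -6, 0, 2, 0, -2, 0⟩, 11186),
  (⟨0, -2, -6, 0, 2, 0, 2, 0⟩, 11306),
  (⟨0, -2, -5, -1, -3, -1, 0, 0⟩, 4231),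
  (⟨0, -2, -5, -1, -1, 1, 0, 0⟩, 4419),
  (⟨0, -2, -5, -1, 1, -1, 0, 0⟩, 4292),
  (⟨0, -2, -5, -1, 3, 1, 0, 0⟩, 4358),
  (⟨0, -2, -5, 1, 0, 0, -3, 1⟩, 11155),
  (⟨0, -2, -5, 1, 0, 0, -1, -1⟩, 11327),
  (⟨0, -2, -5, 1, 0, 0, 1, 1⟩, 11206),
  (⟨0, -2, -5, 1, 0, 0, 3, -1⟩, 11282),
  (⟨0, -2, -4, -2, -2, 0, -2, 0⟩, 4488),
  (⟨0, -2, -4, -2, -2, 0, 2, 0⟩, 4619),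
  (⟨0, -2, -4, -2, 2, 0, -2, 0⟩, 4492),
  (⟨0, -2, -4, -2, 2, 0, 2, 0⟩, 4613),
  (⟨0, -2, -4, 0, -3, 1, -3, -1⟩, 11678),
  (⟨0, -2, -4, 0, -3, 1, -1, 1⟩, 11172),
  (⟨0, -2, -4, 0, -3, 1, 1, -1⟩, 11337),
  (⟨0, -2, -4, 0, -3, 1, 3, 1⟩, 4914),
  (⟨0, -2, -4, 0, -1, -1, -3, -1⟩, 4302),
  (⟨0, -2, -4, 0, -1, -1, -1, 1⟩, 11201),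
  (⟨0, -2, -4, 0, -1, -1, 1, -1⟩, 11304),
  (⟨0, -2, -4, 0, -1, -1, 3, 1⟩, 4277),
  (⟨0, -2, -4, 0, 1, 1, -3, -1⟩, 4398),
  (⟨0, -2, -4, 0, 1, 1, -1, 1⟩, 11179),
  (⟨0, -2, -4, 0, 1, 1, 1, -1⟩, 4417),
  (⟨0, -2, -4, 0, 1, 1, 3, 1⟩, 4431),
  (⟨0, -2, -4, 0, 3, -1, -3, -1⟩, 5041),
  (⟨0, -2, -4, 0, 3, -1, -1, 1⟩, 11208),
  (⟨0, -2, -4, 0, 3, -1, 1, -1⟩, 11299),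
  (⟨0, -2, -4, 0, 3, -1, 3, 1⟩, 12065),
  (⟨0, -2, -4, 2, -2, 0, -2, 0⟩, 11409),
  (⟨0, -2, -4, 2, -2, 0, 2, 0⟩, 11405),
  (⟨0, -2, -4, 2, 2, 0, -2, 0⟩, 11534),
  (⟨0, -2, -4, 2, 2, 0, 2, 0⟩, 11540),
  (⟨0, -2, -3, -1, -4, 0, -3, 1⟩, 11170),
  (⟨0, -2, -3, -1, -4, 0, -1, -1⟩, 4789),
  (⟨0, -2, -3, -1, -4, 0, 1, 1⟩, 4928),
  (⟨0, -2, -3, -1, -4, 0, 3, -1⟩, 11316),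
  (⟨0, -2, -3, -1, -2, -2, -1, -1⟩, 4233),
  (⟨0, -2, -3, -1, -2, -2, 1, 1⟩, 4226),
  (⟨0, -2, -3, -1, -2, 2, -1, -1⟩, 11676),
  (⟨0, -2, -3, -1, -2, 2, 1, 1⟩, 6070),
  (⟨0, -2, -3, -1, 0, 0, -5, -1⟩, 4491),
  (⟨0, -2, -3, -1, 0, 0, -3, 1⟩, 11174),
  (⟨0, -2, -3, -1, 0, 0, -1, -1⟩, 11349),
  (⟨0, -2, -3, -1, 0, 0, 1, 1⟩, 11220),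
  (⟨0, -2, -3, -1, 0, 0, 3, -1⟩, 11309),
  (⟨0, -2, -3, -1, 0, 0, 5, 1⟩, 4620),
  (⟨0, -2, -3, -1, 2, -2, -1, -1⟩, 6205),
  (⟨0, -2, -3, -1, 2, -2, 1, 1⟩, 12059),
  (⟨0, -2, -3, -1, 2, 2, -1, -1⟩, 4353),
  (⟨0, -2, -3, -1, 2, 2, 1, 1⟩, 4362),
  (⟨0, -2, -3, -1, 4, 0, -3, 1⟩, 11183),
  (⟨0, -2, -3, -1, 4, 0, -1, -1⟩, 5061),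
  (⟨0, -2, -3, -1, 4, 0, 1, 1⟩, 5166),
  (⟨0, -2, -3, -1, 4, 0, 3, -1⟩, 11301),
  (⟨0, -2, -3, 1, -5, 1, 0, 0⟩, 11406),
  (⟨0, -2, -3, 1, -3, -1, -4, 0⟩, 6949),
  (⟨0, -2, -3, 1, -3, -1, 0, 0⟩, 11430),
  (⟨0, -2, -3, 1, -3, -1, 4, 0⟩, 11418),
  (⟨0, -2, -3, 1, -1, 1, -4, 0⟩, 11720),
  (⟨0, -2, -3, 1, -1, 1, -2, -2⟩, 5943),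
  (⟨0, -2, -3, 1, -1, 1, -2, 2⟩, 11152),
  (⟨0, -2, -3, 1, -1, 1, 0, 0⟩, 11488),
  (⟨0, -2, -3, 1, -1, 1, 2, -2⟩, 11288),
  (⟨0, -2, -3, 1, -1, 1, 2, 2⟩, 11197),
  (⟨0, -2, -3, 1, -1, 1, 4, 0⟩, 11838),
  (⟨0, -2, -3, 1, 1, -1, -4, 0⟩, 11975),
  (⟨0, -2, -3, 1, 1, -1, -2, -2⟩, 11318),
  (⟨0, -2, -3, 1, 1, -1, -2, 2⟩, 11159),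
  (⟨0, -2, -3, 1, 1, -1, 0, 0⟩, 11615),
  (⟨0, -2, -3, 1, 1, -1, 2, -2⟩, 11279),
  (⟨0, -2, -3, 1, 1, -1, 2, 2⟩, 6332),
  (⟨0, -2, -3, 1, 1, -1, 4, 0⟩, 12105),
  (⟨0, -2, -3, 1, 3, 1, -4, 0⟩, 11549),
  (⟨0, -2, -3, 1, 3, 1, 0, 0⟩, 11565),
  (⟨0, -2, -3, 1, 3, 1, 4, 0⟩, 7330),
  (⟨0, -2, -3, 1, 5, -1, 0, 0⟩, 11533),
  (⟨0, -2, -2, -2, -3, 1, -1, 1⟩, 4541),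
  (⟨0, -2, -2, -2, -3, 1, 1, -1⟩, 12207),
  (⟨0, -2, -2, -2, -1, -1, -3, -1⟩, 4486),
  (⟨0, -2, -2, -2, -1, -1, -1, 1⟩, 4549),
  (⟨0, -2, -2, -2, -1, -1, 1, -1⟩, 4682),
  (⟨0, -2, -2, -2, -1, -1, 3, 1⟩, 4618),
  (⟨0, -2, -2, -2, 1, 1, -3, -1⟩, 4489),
  (⟨0, -2, -2, -2, 1, 1, -1, 1⟩, 4555),
  (⟨0, -2, -2, -2, 1, 1, 1, -1⟩, 4672),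
  (⟨0, -2, -2, -2, 1, 1, 3, 1⟩, 4615),
  (⟨0, -2, -2, -2, 3, -1, -1, 1⟩, 12340),
  (⟨0, -2, -2, -2, 3, -1, 1, -1⟩, 4662),
  (⟨0, -2, -2, 0, -6, 0, -2, 0⟩, 11431),
  (⟨0, -2, -2, 0, -6, 0, 2, 0⟩, 11419),
  (⟨0, -2, -2, 0, -4, -2, -2, 0⟩, 4234),
  (⟨0, -2, -2, 0, -4, -2, 2, 0⟩, 4232),
  (⟨0, -2, -2, 0, -4, 2, -2, 0⟩, 11661),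
  (⟨0, -2, -2, 0, -4, 2, 2, 0⟩, 11797),
  (⟨0, -2, -2, 0, -2, 0, -6, 0⟩, 7596),
  (⟨0, -2, -2, 0, -2, 0, -4, -2⟩, 4748),
  (⟨0, -2, -2, 0, -2, 0, -4, 2⟩, 11151),
  (⟨0, -2, -2, 0, -2, 0, -2, 0⟩, 11496),
  (⟨0, -2, -2, 0, -2, 0, 0, -2⟩, 11330),
  (⟨0, -2, -2, 0, -2, 0, 0, 2⟩, 11194),
  (⟨0, -2, -2, 0, -2, 0, 2, 0⟩, 11495),
  (⟨0, -2, -2, 0, -2, 0, 4, -2⟩, 11284),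
  (⟨0, -2, -2, 0, -2, 0, 4, 2⟩, 4867),
  (⟨0, -2, -2, 0, -2, 0, 6, 0⟩, 11831),
  (⟨0, -2, -2, 0, 0, -2, -2, 0⟩, 11955),
  (⟨0, -2, -2, 0, 0, -2, 0, -2⟩, 11298),
  (⟨0, -2, -2, 0, 0, -2, 0, 2⟩, 4266),
  (⟨0, -2, -2, 0, 0, -2, 2, 0⟩, 12098),
  (⟨0, -2, -2, 0, 0, 2, -2, 0⟩, 4418),
  (⟨0, -2, -2, 0, 0, 2, 0, -2⟩, 4393),
  (⟨0, -2, -2, 0, 0, 2, 0, 2⟩, 11173),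
  (⟨0, -2, -2, 0, 0, 2, 2, 0⟩, 11824),
  (⟨0, -2, -2, 0, 2, 0, -6, 0⟩, 11964),
  (⟨0, -2, -2, 0, 2, 0, -4, -2⟩, 4996),
  (⟨0, -2, -2, 0, 2, 0, -4, 2⟩, 11153),
  (⟨0, -2, -2, 0, 2, 0, -2, 0⟩, 11623),
  (⟨0, -2, -2, 0, 2, 0, 0, -2⟩, 11321),
  (⟨0, -2, -2, 0, 2, 0, 0, 2⟩, 5186),
  (⟨0, -2, -2, 0, 2, 0, 2, 0⟩, 11627),
  (⟨0, -2, -2, 0, 2, 0, 4, -2⟩, 11280),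
  (⟨0, -2, -2, 0, 2, 0, 4, 2⟩, 5131),
  (⟨0, -2, -2, 0, 2, 0, 6, 0⟩, 7719),
  (⟨0, -2, -2, 0, 4, -2, -2, 0⟩, 11926),
  (⟨0, -2, -2, 0, 4, -2, 2, 0⟩, 12046),
  (⟨0, -2, -2, 0, 4, 2, -2, 0⟩, 4357),
  (⟨0, -2, -2, 0, 4, 2, 2, 0⟩, 4361),
  (⟨0, -2, -2, 0, 6, 0, -2, 0⟩, 11548),
  (⟨0, -2, -2, 0, 6, 0, 2, 0⟩, 11564),
  (⟨0, -2, -2, 2, -3, 1, -1, 1⟩, 11410),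
  (⟨0, -2, -2, 2, -3, 1, 1, -1⟩, 11408),
  (⟨0, -2, -2, 2, -1, -1, -3, -1⟩, 6973),
  (⟨0, -2, -2, 2, -1, -1, -1, 1⟩, 11454),
  (⟨0, -2, -2, 2, -1, -1, 1, -1⟩, 11448),
  (⟨0, -2, -2, 2, -1, -1, 3, 1⟩, 7069),
  (⟨0, -2, -2, 2, 1, 1, -3, -1⟩, 7194),
  (⟨0, -2, -2, 2, 1, 1, -1, 1⟩, 11579),
  (⟨0, -2, -2, 2, 1, 1, 1, -1⟩, 11591),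
  (⟨0, -2, -2, 2, 1, 1, 3, 1⟩, 7350),
  (⟨0, -2, -2, 2, 3, -1, -1, 1⟩, 11535),
  (⟨0, -2, -2, 2, 3, -1, 1, -1⟩, 11539),
  (⟨0, -2, -1, -1, -5, 1, 0, 0⟩, 12232),
  (⟨0, -2, -1, -1, -3, -1, -4, 0⟩, 4547),
  (⟨0, -2, -1, -1, -3, -1, -2, -2⟩, 4738),
  (⟨0, -2, -1, -1, -3, -1, -2, 2⟩, 11191),
  (⟨0, -2, -1, -1, -3, -1, 0, 0⟩, 4313),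
  (⟨0, -2, -1, -1, -3, -1, 2, -2⟩, 4764),
  (⟨0, -2, -1, -1, -3, -1, 2, 2⟩, 4869),
  (⟨0, -2, -1, -1, -3, -1, 4, 0⟩, 4687),
  (⟨0, -2, -1, -1, -1, 1, -4, 0⟩, 11696),
  (⟨0, -2, -1, -1, -1, 1, -2, -2⟩, 4811),
  (⟨0, -2, -1, -1, -1, 1, -2, 2⟩, 11171),
  (⟨0, -2, -1, -1, -1, 1, 0, 0⟩, 11753),
  (⟨0, -2, -1, -1, -1, 1, 2, -2⟩, 11335),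
  (⟨0, -2, -1, -1, -1, 1, 2, 2⟩, 4895),
  (⟨0, -2, -1, -1, -1, 1, 4, 0⟩, 11816),
  (⟨0, -2, -1, -1, 1, -1, -4, 0⟩, 11947),
  (⟨0, -2, -1, -1, 1, -1, -2, -2⟩, 5024),
  (⟨0, -2, -1, -1, 1, -1, -2, 2⟩, 11198),
  (⟨0, -2, -1, -1, 1, -1, 0, 0⟩, 12138),
  (⟨0, -2, -1, -1, 1, -1, 2, -2⟩, 11300),
  (⟨0, -2, -1, -1, 1, -1, 2, 2⟩, 5194),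
  (⟨0, -2, -1, -1, 1, -1, 4, 0⟩, 12083),
  (⟨0, -2, -1, -1, 3, 1, -4, 0⟩, 4558),
  (⟨0, -2, -1, -1, 3, 1, -2, -2⟩, 5000),
  (⟨0, -2, -1, -1, 3, 1, -2, 2⟩, 5147),
  (⟨0, -2, -1, -1, 3, 1, 0, 0⟩, 4440),
  (⟨0, -2, -1, -1, 3, 1, 2, -2⟩, 11324),
  (⟨0, -2, -1, -1, 3, 1, 2, 2⟩, 5121),
  (⟨0, -2, -1, -1, 3, 1, 4, 0⟩, 4676),
  (⟨0, -2, -1, -1, 5, -1, 0, 0⟩, 12361),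
  (⟨0, -2, -1, 1, -4, 0, -3, 1⟩, 11455),
  (⟨0, -2, -1, 1, -4, 0, -1, -1⟩, 11449),
  (⟨0, -2, -1, 1, -4, 0, 1, 1⟩, 11432),
  (⟨0, -2, -1, 1, -4, 0, 3, -1⟩, 11428),
  (⟨0, -2, -1, 1, -2, -2, -3, 1⟩, 6940),
  (⟨0, -2, -1, 1, -2, -2, -1, -1⟩, 4303),
  (⟨0, -2, -1, 1, -2, -2, 1, 1⟩, 4293),
  (⟨0, -2, -1, 1, -2, -2, 3, -1⟩, 7100),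
  (⟨0, -2, -1, 1, -2, 2, -3, 1⟩, 11671),
  (⟨0, -2, -1, 1, -2, 2, -1, -1⟩, 11704),
  (⟨0, -2, -1, 1, -2, 2, 1, 1⟩, 11852),
  (⟨0, -2, -1, 1, -2, 2, 3, -1⟩, 11793),
  (⟨0, -2, -1, 1, 0, 0, -5, -1⟩, 5301),
  (⟨0, -2, -1, 1, 0, 0, -3, 1⟩, 5347),
  (⟨0, -2, -1, 1, 0, 0, -1, -1⟩, 11626),
  (⟨0, -2, -1, 1, 0, 0, 1, 1⟩, 11497),
  (⟨0, -2, -1, 1, 0, 0, 3, -1⟩, 5474),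
  (⟨0, -2, -1, 1, 0, 0, 5, 1⟩, 5422),
  (⟨0, -2, -1, 1, 2, -2, -3, 1⟩, 11924),
  (⟨0, -2, -1, 1, 2, -2, -1, -1⟩, 11981),
  (⟨0, -2, -1, 1, 2, -2, 1, 1⟩, 12091),
  (⟨0, -2, -1, 1, 2, -2, 3, -1⟩, 12056),
  (⟨0, -2, -1, 1, 2, 2, -3, 1⟩, 7223),
  (⟨0, -2, -1, 1, 2, 2, -1, -1⟩, 4416),
  (⟨0, -2, -1, 1, 2, 2, 1, 1⟩, 4430),
  (⟨0, -2, -1, 1, 2, 2, 3, -1⟩, 7323),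
  (⟨0, -2, -1, 1, 4, 0, -3, 1⟩, 11555),
  (⟨0, -2, -1, 1, 4, 0, -1, -1⟩, 11563),
  (⟨0, -2, -1, 1, 4, 0, 1, 1⟩, 11578),
  (⟨0, -2, -1, 1, 4, 0, 3, -1⟩, 11590),
  (⟨0, -2, 0, -2, -2, 0, -2, 0⟩, 4538),
  (⟨0, -2, 0, -2, -2, 0, 0, -2⟩, 4773),
  (⟨0, -2, 0, -2, -2, 0, 0, 2⟩, 4903),
  (⟨0, -2, 0, -2, -2, 0, 2, 0⟩, 12208),
  (⟨0, -2, 0, -2, 0, -2, -2, 0⟩, 11934),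
  (⟨0, -2, 0, -2, 0, -2, 2, 0⟩, 12073),
  (⟨0, -2, 0, -2, 0, 2, -2, 0⟩, 11690),
  (⟨0, -2, 0, -2, 0, 2, 2, 0⟩, 11809),
  (⟨0, -2, 0, -2, 2, 0, -2, 0⟩, 12339),
  (⟨0, -2, 0, -2, 2, 0, 0, -2⟩, 5036),
  (⟨0, -2, 0, -2, 2, 0, 0, 2⟩, 5154),
  (⟨0, -2, 0, -2, 2, 0, 2, 0⟩, 4665),
  (⟨0, -2, 0, 0, -5, -1, -3, -1⟩, 4740),
  (⟨0, -2, 0, 0, -5, -1, -1, 1⟩, 4942),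
  (⟨0, -2, 0, 0, -5, -1, 1, -1⟩, 4768),
  (⟨0, -2, 0, 0, -5, -1, 3, 1⟩, 4873),
  (⟨0, -2, 0, 0, -3, 1, -5, 1⟩, 11669),
  (⟨0, -2, 0, 0, -3, 1, -3, -1⟩, 11686),
  (⟨0, -2, 0, 0, -3, 1, -1, 1⟩, 11750),
  (⟨0, -2, 0, 0, -3, 1, 1, -1⟩, 11877),
  (⟨0, -2, 0, 0, -3, 1, 3, 1⟩, 4907),
  (⟨0, -2, 0, 0, -3, 1, 5, -1⟩, 11791),
  (⟨0, -2, 0, 0, -1, -1, -5, 1⟩, 11940),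
  (⟨0, -2, 0, 0, -1, -1, -3, -1⟩, 4827),
  (⟨0, -2, 0, 0, -1, -1, -1, 1⟩, 12011),
  (⟨0, -2, 0, 0, -1, -1, 1, -1⟩, 4841),
  (⟨0, -2, 0, 0, -1, -1, 3, 1⟩, 4954),
  (⟨0, -2, 0, 0, -1, -1, 5, -1⟩, 12109),
  (⟨0, -2, 0, 0, 1, 1, -5, 1⟩, 11724),
  (⟨0, -2, 0, 0, 1, 1, -3, -1⟩, 11738),
  (⟨0, -2, 0, 0, 1, 1, -1, 1⟩, 5226),
  (⟨0, -2, 0, 0, 1, 1, 1, -1⟩, 11880),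
  (⟨0, -2, 0, 0, 1, 1, 3, 1⟩, 11867),
  (⟨0, -2, 0, 0, 1, 1, 5, -1⟩, 11811),
  (⟨0, -2, 0, 0, 3, -1, -5, 1⟩, 11920),
  (⟨0, -2, 0, 0, 3, -1, -3, -1⟩, 5032),
  (⟨0, -2, 0, 0, 3, -1, -1, 1⟩, 5221),
  (⟨0, -2, 0, 0, 3, -1, 1, -1⟩, 5094),
  (⟨0, -2, 0, 0, 3, -1, 3, 1⟩, 12077),
  (⟨0, -2, 0, 0, 3, -1, 5, -1⟩, 12054),
  (⟨0, -2, 0, 0, 5, 1, -3, -1⟩, 5002),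
  (⟨0, -2, 0, 0, 5, 1, -1, 1⟩, 5151),
  (⟨0, -2, 0, 0, 5, 1, 1, -1⟩, 5071),
  (⟨0, -2, 0, 0, 5, 1, 3, 1⟩, 5123),
  (⟨0, -2, 0, 2, -2, 0, -2, 0⟩, 5299),
  (⟨0, -2, 0, 2, -2, 0, 0, -2⟩, 8618),
  (⟨0, -2, 0, 2, -2, 0, 0, 2⟩, 8478),
  (⟨0, -2, 0, 2, -2, 0, 2, 0⟩, 11450),
  (⟨0, -2, 0, 2, 0, -2, -2, 0⟩, 6956),
  (⟨0, -2, 0, 2, 0, -2, 2, 0⟩, 7077),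
  (⟨0, -2, 0, 2, 0, 2, -2, 0⟩, 7202),
  (⟨0, -2, 0, 2, 0, 2, 2, 0⟩, 7335),
  (⟨0, -2, 0, 2, 2, 0, -2, 0⟩, 11577),
  (⟨0, -2, 0, 2, 2, 0, 0, -2⟩, 8865),
  (⟨0, -2, 0, 2, 2, 0, 0, 2⟩, 8745),
  (⟨0, -2, 0, 2, 2, 0, 2, 0⟩, 5424),
  (⟨0, -2, 1, -1, -4, 0, -3, 1⟩, 12237),
  (⟨0, -2, 1, -1, -4, 0, -1, -1⟩, 4781),
  (⟨0, -2, 1, -1, -4, 0, 1, 1⟩, 4921),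
  (⟨0, -2, 1, -1, -4, 0, 3, -1⟩, 12222),
  (⟨0, -2, 1, -1, -2, -2, -3, 1⟩, 11930),
  (⟨0, -2, 1, -1, -2, -2, -1, -1⟩, 5572),
  (⟨0, -2, 1, -1, -2, -2, 1, 1⟩, 5535),
  (⟨0, -2, 1, -1, -2, -2, 3, -1⟩, 5551),
  (⟨0, -2, 1, -1, -2, 2, -3, 1⟩, 11666),
  (⟨0, -2, 1, -1, -2, 2, -1, -1⟩, 11683),
  (⟨0, -2, 1, -1, -2, 2, 1, 1⟩, 11849),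
  (⟨0, -2, 1, -1, -2, 2, 3, -1⟩, 11790),
  (⟨0, -2, 1, -1, 0, 0, -5, -1⟩, 4554),
  (⟨0, -2, 1, -1, 0, 0, -3, 1⟩, 12514),
  (⟨0, -2, 1, -1, 0, 0, -1, -1⟩, 5099),
  (⟨0, -2, 1, -1, 0, 0, 1, 1⟩, 4968),
  (⟨0, -2, 1, -1, 0, 0, 3, -1⟩, 12643),
  (⟨0, -2, 1, -1, 0, 0, 5, 1⟩, 4683),
  (⟨0, -2, 1, -1, 2, -2, -3, 1⟩, 11917),
  (⟨0, -2, 1, -1, 2, -2, -1, -1⟩, 11976),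
  (⟨0, -2, 1, -1, 2, -2, 1, 1⟩, 12068),
  (⟨0, -2, 1, -1, 2, -2, 3, -1⟩, 12051),
  (⟨0, -2, 1, -1, 2, 2, -3, 1⟩, 5684),
  (⟨0, -2, 1, -1, 2, 2, -1, -1⟩, 5664),
  (⟨0, -2, 1, -1, 2, 2, 1, 1⟩, 5699),
  (⟨0, -2, 1, -1, 2, 2, 3, -1⟩, 11805),
  (⟨0, -2, 1, -1, 4, 0, -3, 1⟩, 12359),
  (⟨0, -2, 1, -1, 4, 0, -1, -1⟩, 5050),
  (⟨0, -2, 1, -1, 4, 0, 1, 1⟩, 5158),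
  (⟨0, -2, 1, -1, 4, 0, 3, -1⟩, 12364),
  (⟨0, -2, 1, 1, -5, 1, 0, 0⟩, 11451),
  (⟨0, -2, 1, 1, -3, -1, -4, 0⟩, 5279),
  (⟨0, -2, 1, 1, -3, -1, -2, -2⟩, 4742),
  (⟨0, -2, 1, 1, -3, -1, -2, 2⟩, 8495),
  (⟨0, -2, 1, 1, -3, -1, 0, 0⟩, 11480),
  (⟨0, -2, 1, 1, -3, -1, 2, -2⟩, 8605),
  (⟨0, -2, 1, 1, -3, -1, 2, 2⟩, 4876),
  (⟨0, -2, 1, 1, -3, -1, 4, 0⟩, 5440),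
  (⟨0, -2, 1, 1, -1, 1, -4, 0⟩, 5293),
  (⟨0, -2, 1, 1, -1, 1, -2, -2⟩, 4815),
  (⟨0, -2, 1, 1, -1, 1, -2, 2⟩, 12486),
  (⟨0, -2, 1, 1, -1, 1, 0, 0⟩, 5355),
  (⟨0, -2, 1, 1, -1, 1, 2, -2⟩, 12620),
  (⟨0, -2, 1, 1, -1, 1, 2, 2⟩, 4917),
  (⟨0, -2, 1, 1, -1, 1, 4, 0⟩, 5427),
  (⟨0, -2, 1, 1, 1, -1, -4, 0⟩, 5296),
  (⟨0, -2, 1, 1, 1, -1, -2, -2⟩, 5038),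
  (⟨0, -2, 1, 1, 1, -1, -2, 2⟩, 12493),
  (⟨0, -2, 1, 1, 1, -1, 0, 0⟩, 5480),
  (⟨0, -2, 1, 1, 1, -1, 2, -2⟩, 12607),
  (⟨0, -2, 1, 1, 1, -1, 2, 2⟩, 5198),
  (⟨0, -2, 1, 1, 1, -1, 4, 0⟩, 5414),
  (⟨0, -2, 1, 1, 3, 1, -4, 0⟩, 5317),
  (⟨0, -2, 1, 1, 3, 1, -2, -2⟩, 5003),
  (⟨0, -2, 1, 1, 3, 1, -2, 2⟩, 8730),
  (⟨0, -2, 1, 1, 3, 1, 0, 0⟩, 11609),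
  (⟨0, -2, 1, 1, 3, 1, 2, -2⟩, 8884),
  (⟨0, -2, 1, 1, 3, 1, 2, 2⟩, 5127),
  (⟨0, -2, 1, 1, 3, 1, 4, 0⟩, 5408),
  (⟨0, -2, 1, 1, 5, -1, 0, 0⟩, 11576),
  (⟨0, -2, 2, -2, -3, 1, -1, 1⟩, 12182),
  (⟨0, -2, 2, -2, -3, 1, 1, -1⟩, 12177),
  (⟨0, -2, 2, -2, -1, -1, -3, -1⟩, 4535),
  (⟨0, -2, 2, -2, -1, -1, -1, 1⟩, 12233),
  (⟨0, -2, 2, -2, -1, -1, 1, -1⟩, 12223),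
  (⟨0, -2, 2, -2, -1, -1, 3, 1⟩, 12209),
  (⟨0, -2, 2, -2, 1, 1, -3, -1⟩, 12338),
  (⟨0, -2, 2, -2, 1, 1, -1, 1⟩, 12358),
  (⟨0, -2, 2, -2, 1, 1, 1, -1⟩, 12360),
  (⟨0, -2, 2, -2, 1, 1, 3, 1⟩, 4668),
  (⟨0, -2, 2, -2, 3, -1, -1, 1⟩, 12308),
  (⟨0, -2, 2, -2, 3, -1, 1, -1⟩, 12309),
  (⟨0, -2, 2, 0, -6, 0, -2, 0⟩, 4788),
  (⟨0, -2, 2, 0, -6, 0, 2, 0⟩, 7466),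
  (⟨0, -2, 2, 0, -4, -2, -2, 0⟩, 5511),
  (⟨0, -2, 2, 0, -4, -2, 2, 0⟩, 5507),
  (⟨0, -2, 2, 0, -4, 2, -2, 0⟩, 11663),
  (⟨0, -2, 2, 0, -4, 2, 2, 0⟩, 11800),
  (⟨0, -2, 2, 0, -2, 0, -6, 0⟩, 5277),
  (⟨0, -2, 2, 0, -2, 0, -4, -2⟩, 4746),
  (⟨0, -2, 2, 0, -2, 0, -4, 2⟩, 12435),
  (⟨0, -2, 2, 0, -2, 0, -2, 0⟩, 5351),
  (⟨0, -2, 2, 0, -2, 0, 0, -2⟩, 4794),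
  (⟨0, -2, 2, 0, -2, 0, 0, 2⟩, 12481),
  (⟨0, -2, 2, 0, -2, 0, 2, 0⟩, 5482),
  (⟨0, -2, 2, 0, -2, 0, 4, -2⟩, 12565),
  (⟨0, -2, 2, 0, -2, 0, 4, 2⟩, 4866),
  (⟨0, -2, 2, 0, -2, 0, 6, 0⟩, 5417),
  (⟨0, -2, 2, 0, 0, -2, -2, 0⟩, 11969),
  (⟨0, -2, 2, 0, 0, -2, 0, -2⟩, 12583),
  (⟨0, -2, 2, 0, 0, -2, 0, 2⟩, 5537),
  (⟨0, -2, 2, 0, 0, -2, 2, 0⟩, 5552),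
  (⟨0, -2, 2, 0, 0, 2, -2, 0⟩, 5683),
  (⟨0, -2, 2, 0, 0, 2, 0, -2⟩, 5662),
  (⟨0, -2, 2, 0, 0, 2, 0, 2⟩, 12460),
  (⟨0, -2, 2, 0, 0, 2, 2, 0⟩, 5697),
  (⟨0, -2, 2, 0, 2, 0, -6, 0⟩, 5290),
  (⟨0, -2, 2, 0, 2, 0, -4, -2⟩, 4993),
  (⟨0, -2, 2, 0, 2, 0, -4, 2⟩, 12438),
  (⟨0, -2, 2, 0, 2, 0, -2, 0⟩, 5353),
  (⟨0, -2, 2, 0, 2, 0, 0, -2⟩, 5057),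
  (⟨0, -2, 2, 0, 2, 0, 0, 2⟩, 5177),
  (⟨0, -2, 2, 0, 2, 0, 2, 0⟩, 5479),
  (⟨0, -2, 2, 0, 2, 0, 4, -2⟩, 12562),
  (⟨0, -2, 2, 0, 2, 0, 4, 2⟩, 5129),
  (⟨0, -2, 2, 0, 2, 0, 6, 0⟩, 5402),
  (⟨0, -2, 2, 0, 4, -2, -2, 0⟩, 11927),
  (⟨0, -2, 2, 0, 4, -2, 2, 0⟩, 12048),
  (⟨0, -2, 2, 0, 4, 2, -2, 0⟩, 5636),
  (⟨0, -2, 2, 0, 4, 2, 2, 0⟩, 5638),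
  (⟨0, -2, 2, 0, 6, 0, -2, 0⟩, 7849),
  (⟨0, -2, 2, 0, 6, 0, 2, 0⟩, 5167),
  (⟨0, -2, 2, 2, -3, 1, -1, 1⟩, 8476),
  (⟨0, -2, 2, 2, -3, 1, 1, -1⟩, 8625),
  (⟨0, -2, 2, 2, -1, -1, -3, -1⟩, 5251),
  (⟨0, -2, 2, 2, -1, -1, -1, 1⟩, 5294),
  (⟨0, -2, 2, 2, -1, -1, 1, -1⟩, 5444),
  (⟨0, -2, 2, 2, -1, -1, 3, 1⟩, 5381),
  (⟨0, -2, 2, 2, 1, 1, -3, -1⟩, 5256),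
  (⟨0, -2, 2, 2, 1, 1, -1, 1⟩, 5315),
  (⟨0, -2, 2, 2, 1, 1, 1, -1⟩, 5429),
  (⟨0, -2, 2, 2, 1, 1, 3, 1⟩, 5380),
  (⟨0, -2, 2, 2, 3, -1, -1, 1⟩, 8754),
  (⟨0, -2, 2, 2, 3, -1, 1, -1⟩, 8859),
  (⟨0, -2, 3, -1, -5, 1, 0, 0⟩, 12183),
  (⟨0, -2, 3, -1, -3, -1, -4, 0⟩, 5564),
  (⟨0, -2, 3, -1, -3, -1, 0, 0⟩, 5547),
  (⟨0, -2, 3, -1, -3, -1, 4, 0⟩, 5534),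
  (⟨0, -2, 3, -1, -1, 1, -4, 0⟩, 11711),
  (⟨0, -2, 3, -1, -1, 1, -2, -2⟩, 9009),
  (⟨0, -2, 3, -1, -1, 1, -2, 2⟩, 12429),
  (⟨0, -2, 3, -1, -1, 1, 0, 0⟩, 5727),
  (⟨0, -2, 3, -1, -1, 1, 2, -2⟩, 12566),
  (⟨0, -2, 3, -1, -1, 1, 2, 2⟩, 4893),
  (⟨0, -2, 3, -1, -1, 1, 4, 0⟩, 11835),
  (⟨0, -2, 3, -1, 1, -1, -4, 0⟩, 11960),
  (⟨0, -2, 3, -1, 1, -1, -2, -2⟩, 5018),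
  (⟨0, -2, 3, -1, 1, -1, -2, 2⟩, 12437),
  (⟨0, -2, 3, -1, 1, -1, 0, 0⟩, 5600),
  (⟨0, -2, 3, -1, 1, -1, 2, -2⟩, 12558),
  (⟨0, -2, 3, -1, 1, -1, 2, 2⟩, 9394),
  (⟨0, -2, 3, -1, 1, -1, 4, 0⟩, 12102),
  (⟨0, -2, 3, -1, 3, 1, -4, 0⟩, 5665),
  (⟨0, -2, 3, -1, 3, 1, 0, 0⟩, 5672),
  (⟨0, -2, 3, -1, 3, 1, 4, 0⟩, 5687),
  (⟨0, -2, 3, -1, 5, -1, 0, 0⟩, 12312),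
  (⟨0, -2, 3, 1, -4, 0, -3, 1⟩, 5275),
  (⟨0, -2, 3, 1, -4, 0, -1, -1⟩, 4803),
  (⟨0, -2, 3, 1, -4, 0, 1, 1⟩, 4939),
  (⟨0, -2, 3, 1, -4, 0, 3, -1⟩, 8609),
  (⟨0, -2, 3, 1, -2, -2, -1, -1⟩, 5516),
  (⟨0, -2, 3, 1, -2, -2, 1, 1⟩, 5508),
  (⟨0, -2, 3, 1, -2, 2, -1, -1⟩, 5682),
  (⟨0, -2, 3, 1, -2, 2, 1, 1⟩, 9135),
  (⟨0, -2, 3, 1, 0, 0, -5, -1⟩, 5250),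
  (⟨0, -2, 3, 1, 0, 0, -3, 1⟩, 5288),
  (⟨0, -2, 3, 1, 0, 0, -1, -1⟩, 5332),
  (⟨0, -2, 3, 1, 0, 0, 1, 1⟩, 5461),
  (⟨0, -2, 3, 1, 0, 0, 3, -1⟩, 5419),
  (⟨0, -2, 3, 1, 0, 0, 5, 1⟩, 5377),
  (⟨0, -2, 3, 1, 2, -2, -1, -1⟩, 9268),
  (⟨0, -2, 3, 1, 2, -2, 1, 1⟩, 5553),
  (⟨0, -2, 3, 1, 2, 2, -1, -1⟩, 5635),
  (⟨0, -2, 3, 1, 2, 2, 1, 1⟩, 5643),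
  (⟨0, -2, 3, 1, 4, 0, -3, 1⟩, 8734),
  (⟨0, -2, 3, 1, 4, 0, -1, -1⟩, 5066),
  (⟨0, -2, 3, 1, 4, 0, 1, 1⟩, 5188),
  (⟨0, -2, 3, 1, 4, 0, 3, -1⟩, 5404),
  (⟨0, -2, 4, -2, -2, 0, -2, 0⟩, 12184),
  (⟨0, -2, 4, -2, -2, 0, 2, 0⟩, 12178),
  (⟨0, -2, 4, -2, 2, 0, -2, 0⟩, 12307),
  (⟨0, -2, 4, -2, 2, 0, 2, 0⟩, 12311),
  (⟨0, -2, 4, 0, -3, 1, -3, -1⟩, 11702),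
  (⟨0, -2, 4, 0, -3, 1, -1, 1⟩, 12472),
  (⟨0, -2, 4, 0, -3, 1, 1, -1⟩, 12621),
  (⟨0, -2, 4, 0, -3, 1, 3, 1⟩, 4901),
  (⟨0, -2, 4, 0, -1, -1, -3, -1⟩, 5579),
  (⟨0, -2, 4, 0, -1, -1, -1, 1⟩, 5549),
  (⟨0, -2, 4, 0, -1, -1, 1, -1⟩, 12610),
  (⟨0, -2, 4, 0, -1, -1, 3, 1⟩, 5536),
  (⟨0, -2, 4, 0, 1, 1, -3, -1⟩, 5663),
  (⟨0, -2, 4, 0, 1, 1, -1, 1⟩, 5698),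
  (⟨0, -2, 4, 0, 1, 1, 1, -1⟩, 5670),
  (⟨0, -2, 4, 0, 1, 1, 3, 1⟩, 5706),
  (⟨0, -2, 4, 0, 3, -1, -3, -1⟩, 5026),
  (⟨0, -2, 4, 0, 3, -1, -1, 1⟩, 12492),
  (⟨0, -2, 4, 0, 3, -1, 1, -1⟩, 12603),
  (⟨0, -2, 4, 0, 3, -1, 3, 1⟩, 12093),
  (⟨0, -2, 4, 2, -2, 0, -2, 0⟩, 5249),
  (⟨0, -2, 4, 2, -2, 0, 2, 0⟩, 5383),
  (⟨0, -2, 4, 2, 2, 0, -2, 0⟩, 5254),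
  (⟨0, -2, 4, 2, 2, 0, 2, 0⟩, 5378),
  (⟨0, -2, 5, -1, 0, 0, -3, 1⟩, 12433),
  (⟨0, -2, 5, -1, 0, 0, -1, -1⟩, 12615),
  (⟨0, -2, 5, -1, 0, 0, 1, 1⟩, 12478),
  (⟨0, -2, 5, -1, 0, 0, 3, -1⟩, 12564),
  (⟨0, -2, 5, 1, -3, -1, 0, 0⟩, 5512),
  (⟨0, -2, 5, 1, -1, 1, 0, 0⟩, 5696),
  (⟨0, -2, 5, 1, 1, -1, 0, 0⟩, 5573),
  (⟨0, -2, 5, 1, 3, 1, 0, 0⟩, 5637),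
  (⟨0, -2, 6, 0, -2, 0, -2, 0⟩, 5565),
  (⟨0, -2, 6, 0, -2, 0, 2, 0⟩, 5548),
  (⟨0, -2, 6, 0, 2, 0, -2, 0⟩, 5671),
  (⟨0, -2, 6, 0, 2, 0, 2, 0⟩, 5686),
  (⟨0, 0, -8, 0, 0, 0, 0, 0⟩, 5760),
  (⟨0, 0, -7, -1, -1, -1, -2, 0⟩, 5766),
  (⟨0, 0, -7, -1, -1, -1, 2, 0⟩, 5768),
  (⟨0, 0, -7, -1, 1, 1, -2, 0⟩, 5765),
  (⟨0, 0, -7, -1, 1, 1, 2, 0⟩, 5767),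
  (⟨0, 0, -7, 1, -2, 0, -1, 1⟩, 5778),
  (⟨0, 0, -7, 1, -2, 0, 1, -1⟩, 5780),
  (⟨0, 0, -7, 1, 2, 0, -1, 1⟩, 5777),
  (⟨0, 0, -7, 1, 2, 0, 1, -1⟩, 5779),
  (⟨0, 0, -6, -2, 0, 0, 0, 0⟩, 5785),
  (⟨0, 0, -6, 0, -3, -1, -3, 1⟩, 12702),
  (⟨0, 0, -6, 0, -3, -1, -1, -1⟩, 5827),
  (⟨0, 0, -6, 0, -3, -1, 1, 1⟩, 5829),
  (⟨0, 0, -6, 0, -3, -1, 3, -1⟩, 12834),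
  (⟨0, 0, -6, 0, -1, 1, -3, 1⟩, 5823),
  (⟨0, 0, -6, 0, -1, 1, -1, -1⟩, 5826),
  (⟨0, 0, -6, 0, -1, 1, 1, 1⟩, 6081),
  (⟨0, 0, -6, 0, -1, 1, 3, -1⟩, 5831),
  (⟨0, 0, -6, 0, 1, -1, -3, 1⟩, 5822),
  (⟨0, 0, -6, 0, 1, -1, -1, -1⟩, 5825),
  (⟨0, 0, -6, 0, 1, -1, 1, 1⟩, 6338),
  (⟨0, 0, -6, 0, 1, -1, 3, -1⟩, 5830),
  (⟨0, 0, -6, 0, 3, 1, -3, 1⟩, 12965),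
  (⟨0, 0, -6, 0, 3, 1, -1, -1⟩, 5824),
  (⟨0, 0, -6, 0, 3, 1, 1, 1⟩, 5828),
  (⟨0, 0, -6, 0, 3, 1, 3, -1⟩, 13089),
  (⟨0, 0, -6, 2, 0, 0, 0, 0⟩, 5840),
  (⟨0, 0, -5, -1, -2, 0, -5, 1⟩, 12719),
  (⟨0, 0, -5, -1, -2, 0, -3, -1⟩, 12755),
  (⟨0, 0, -5, -1, -2, 0, -1, 1⟩, 5851),
  (⟨0, 0, -5, -1, -2, 0, 1, -1⟩, 6618),
  (⟨0, 0, -5, -1, -2, 0, 3, 1⟩, 12881),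
  (⟨0, 0, -5, -1, -2, 0, 5, -1⟩, 12827),
  (⟨0, 0, -5, -1, 0, -2, -3, -1⟩, 6146),
  (⟨0, 0, -5, -1, 0, -2, -1, 1⟩, 6346),
  (⟨0, 0, -5, -1, 0, -2, 1, -1⟩, 6197),
  (⟨0, 0, -5, -1, 0, -2, 3, 1⟩, 6283),
  (⟨0, 0, -5, -1, 0, 2, -3, -1⟩, 5900),
  (⟨0, 0, -5, -1, 0, 2, -1, 1⟩, 6062),
  (⟨0, 0, -5, -1, 0, 2, 1, -1⟩, 5963),
  (⟨0, 0, -5, -1, 0, 2, 3, 1⟩, 6017),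
  (⟨0, 0, -5, -1, 2, 0, -5, 1⟩, 12956),
  (⟨0, 0, -5, -1, 2, 0, -3, -1⟩, 13010),
  (⟨0, 0, -5, -1, 2, 0, -1, 1⟩, 5850),
  (⟨0, 0, -5, -1, 2, 0, 1, -1⟩, 6875),
  (⟨0, 0, -5, -1, 2, 0, 3, 1⟩, 13142),
  (⟨0, 0, -5, -1, 2, 0, 5, -1⟩, 13108),
  (⟨0, 0, -5, 1, -5, -1, -2, 0⟩, 12698),
  (⟨0, 0, -5, 1, -5, -1, 2, 0⟩, 12855),
  (⟨0, 0, -5, 1, -3, 1, -2, 0⟩, 12764),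
  (⟨0, 0, -5, 1, -3, 1, 0, -2⟩, 5901),
  (⟨0, 0, -5, 1, -3, 1, 0, 2⟩, 6039),
  (⟨0, 0, -5, 1, -3, 1, 2, 0⟩, 12894),
  (⟨0, 0, -5, 1, -1, -1, -2, 0⟩, 5862),
  (⟨0, 0, -5, 1, -1, -1, 0, -2⟩, 6217),
  (⟨0, 0, -5, 1, -1, -1, 0, 2⟩, 6331),
  (⟨0, 0, -5, 1, -1, -1, 2, 0⟩, 7141),
  (⟨0, 0, -5, 1, 1, 1, -2, 0⟩, 5861),
  (⟨0, 0, -5, 1, 1, 1, 0, -2⟩, 5944),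
  (⟨0, 0, -5, 1, 1, 1, 0, 2⟩, 6088),
  (⟨0, 0, -5, 1, 1, 1, 2, 0⟩, 7398),
  (⟨0, 0, -5, 1, 3, -1, -2, 0⟩, 13025),
  (⟨0, 0, -5, 1, 3, -1, 0, -2⟩, 6168),
  (⟨0, 0, -5, 1, 3, -1, 0, 2⟩, 6286),
  (⟨0, 0, -5, 1, 3, -1, 2, 0⟩, 13149),
  (⟨0, 0, -5, 1, 5, 1, -2, 0⟩, 12988),
  (⟨0, 0, -5, 1, 5, 1, 2, 0⟩, 13085),
  (⟨0, 0, -4, -2, -3, -1, -3, 1⟩, 6411),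
  (⟨0, 0, -4, -2, -3, -1, -1, -1⟩, 6553),
  (⟨0, 0, -4, -2, -3, -1, 1, 1⟩, 6425),
  (⟨0, 0, -4, -2, -3, -1, 3, -1⟩, 6530),
  (⟨0, 0, -4, -2, -1, 1, -3, 1⟩, 6464),
  (⟨0, 0, -4, -2, -1, 1, -1, -1⟩, 13265),
  (⟨0, 0, -4, -2, -1, 1, 1, 1⟩, 6483),
  (⟨0, 0, -4, -2, -1, 1, 3, -1⟩, 6596),
  (⟨0, 0, -4, -2, 1, -1, -3, 1⟩, 6723),
  (⟨0, 0, -4, -2, 1, -1, -1, -1⟩, 6870),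
  (⟨0, 0, -4, -2, 1, -1, 1, 1⟩, 13394),
  (⟨0, 0, -4, -2, 1, -1, 3, -1⟩, 6853),
  (⟨0, 0, -4, -2, 3, 1, -3, 1⟩, 6657),
  (⟨0, 0, -4, -2, 3, 1, -1, -1⟩, 6809),
  (⟨0, 0, -4, -2, 3, 1, 1, 1⟩, 6681),
  (⟨0, 0, -4, -2, 3, 1, 3, -1⟩, 6796),
  (⟨0, 0, -4, 0, -4, 0, -4, 0⟩, 12710),
  (⟨0, 0, -4, 0, -4, 0, -2, -2⟩, 5920),
  (⟨0, 0, -4, 0, -4, 0, -2, 2⟩, 6470),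
  (⟨0, 0, -4, 0, -4, 0, 0, 0⟩, 12775),
  (⟨0, 0, -4, 0, -4, 0, 2, -2⟩, 6590),
  (⟨0, 0, -4, 0, -4, 0, 2, 2⟩, 6095),
  (⟨0, 0, -4, 0, -4, 0, 4, 0⟩, 12840),
  (⟨0, 0, -4, 0, -2, -2, -4, 0⟩, 6980),
  (⟨0, 0, -4, 0, -2, -2, -2, -2⟩, 6148),
  (⟨0, 0, -4, 0, -2, -2, -2, 2⟩, 13737),
  (⟨0, 0, -4, 0, -2, -2, 0, 0⟩, 9689),
  (⟨0, 0, -4, 0, -2, -2, 2, -2⟩, 13863),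
  (⟨0, 0, -4, 0, -2, -2, 2, 2⟩, 6282),
  (⟨0, 0, -4, 0, -2, -2, 4, 0⟩, 7104),
  (⟨0, 0, -4, 0, -2, 2, -4, 0⟩, 5964),
  (⟨0, 0, -4, 0, -2, 2, -2, -2⟩, 5888),
  (⟨0, 0, -4, 0, -2, 2, -2, 2⟩, 6037),
  (⟨0, 0, -4, 0, -2, 2, 0, 0⟩, 6111),
  (⟨0, 0, -4, 0, -2, 2, 2, -2⟩, 5904),
  (⟨0, 0, -4, 0, -2, 2, 2, 2⟩, 6016),
  (⟨0, 0, -4, 0, -2, 2, 4, 0⟩, 6052),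
  (⟨0, 0, -4, 0, 0, 0, -4, 0⟩, 13031),
  (⟨0, 0, -4, 0, 0, 0, -2, -2⟩, 5972),
  (⟨0, 0, -4, 0, 0, 0, -2, 2⟩, 11235),
  (⟨0, 0, -4, 0, 0, 0, 0, 0⟩, 5868),
  (⟨0, 0, -4, 0, 0, 0, 2, -2⟩, 11362),
  (⟨0, 0, -4, 0, 0, 0, 2, 2⟩, 6357),
  (⟨0, 0, -4, 0, 0, 0, 4, 0⟩, 12903),
  (⟨0, 0, -4, 0, 2, -2, -4, 0⟩, 6179),
  (⟨0, 0, -4, 0, 2, -2, -2, -2⟩, 6144),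
  (⟨0, 0, -4, 0, 2, -2, -2, 2⟩, 6287),
  (⟨0, 0, -4, 0, 2, -2, 0, 0⟩, 6240),
  (⟨0, 0, -4, 0, 2, -2, 2, -2⟩, 6166),
  (⟨0, 0, -4, 0, 2, -2, 2, 2⟩, 6272),
  (⟨0, 0, -4, 0, 2, -2, 4, 0⟩, 6349),
  (⟨0, 0, -4, 0, 2, 2, -4, 0⟩, 7237),
  (⟨0, 0, -4, 0, 2, 2, -2, -2⟩, 5897),
  (⟨0, 0, -4, 0, 2, 2, -2, 2⟩, 13996),
  (⟨0, 0, -4, 0, 2, 2, 0, 0⟩, 9816),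
  (⟨0, 0, -4, 0, 2, 2, 2, -2⟩, 14122),
  (⟨0, 0, -4, 0, 2, 2, 2, 2⟩, 6019),
  (⟨0, 0, -4, 0, 2, 2, 4, 0⟩, 7363),
  (⟨0, 0, -4, 0, 4, 0, -4, 0⟩, 12971),
  (⟨0, 0, -4, 0, 4, 0, -2, -2⟩, 6222),
  (⟨0, 0, -4, 0, 4, 0, -2, 2⟩, 6727),
  (⟨0, 0, -4, 0, 4, 0, 0, 0⟩, 13159),
  (⟨0, 0, -4, 0, 4, 0, 2, -2⟩, 6847),
  (⟨0, 0, -4, 0, 4, 0, 2, 2⟩, 6303),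
  (⟨0, 0, -4, 0, 4, 0, 4, 0⟩, 13101),
  (⟨0, 0, -4, 2, -3, -1, -3, 1⟩, 6926),
  (⟨0, 0, -4, 2, -3, -1, -1, -1⟩, 6983),
  (⟨0, 0, -4, 2, -3, -1, 1, 1⟩, 7103),
  (⟨0, 0, -4, 2, -3, -1, 3, -1⟩, 7064),
  (⟨0, 0, -4, 2, -1, 1, -3, 1⟩, 7248),
  (⟨0, 0, -4, 2, -1, 1, -1, -1⟩, 7265),
  (⟨0, 0, -4, 2, -1, 1, 1, 1⟩, 13661),
  (⟨0, 0, -4, 2, -1, 1, 3, -1⟩, 7376),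
  (⟨0, 0, -4, 2, 1, -1, -3, 1⟩, 6992),
  (⟨0, 0, -4, 2, 1, -1, -1, -1⟩, 13532),
  (⟨0, 0, -4, 2, 1, -1, 1, 1⟩, 7134),
  (⟨0, 0, -4, 2, 1, -1, 3, -1⟩, 7120),
  (⟨0, 0, -4, 2, 3, 1, -3, 1⟩, 7191),
  (⟨0, 0, -4, 2, 3, 1, -1, -1⟩, 7238),
  (⟨0, 0, -4, 2, 3, 1, 1, 1⟩, 7358),
  (⟨0, 0, -4, 2, 3, 1, 3, -1⟩, 7309),
  (⟨0, 0, -3, -3, -2, 0, -1, 1⟩, 6405),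
  (⟨0, 0, -3, -3, -2, 0, 1, -1⟩, 6535),
  (⟨0, 0, -3, -3, 2, 0, -1, 1⟩, 6662),
  (⟨0, 0, -3, -3, 2, 0, 1, -1⟩, 6792),
  (⟨0, 0, -3, -1, -5, -1, -2, 0⟩, 12753),
  (⟨0, 0, -3, -1, -5, -1, 0, -2⟩, 6534),
  (⟨0, 0, -3, -1, -5, -1, 0, 2⟩, 6408),
  (⟨0, 0, -3, -1, -5, -1, 2, 0⟩, 7507),
  (⟨0, 0, -3, -1, -3, 1, -6, 0⟩, 7589),
  (⟨0, 0, -3, -1, -3, 1, -4, -2⟩, 5892),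
  (⟨0, 0, -3, -1, -3, 1, -4, 2⟩, 6419),
  (⟨0, 0, -3, -1, -3, 1, -2, 0⟩, 12776),
  (⟨0, 0, -3, -1, -3, 1, 0, -2⟩, 5933),
  (⟨0, 0, -3, -1, -3, 1, 0, 2⟩, 6443),
  (⟨0, 0, -3, -1, -3, 1, 2, 0⟩, 13289),
  (⟨0, 0, -3, -1, -3, 1, 4, -2⟩, 6545),
  (⟨0, 0, -3, -1, -3, 1, 4, 2⟩, 6026),
  (⟨0, 0, -3, -1, -3, 1, 6, 0⟩, 12833),
  (⟨0, 0, -3, -1, -1, -1, -6, 0⟩, 7605),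
  (⟨0, 0, -3, -1, -1, -1, -4, -2⟩, 6169),
  (⟨0, 0, -3, -1, -1, -1, -4, 2⟩, 6477),
  (⟨0, 0, -3, -1, -1, -1, -2, 0⟩, 13421),
  (⟨0, 0, -3, -1, -1, -1, 0, -2⟩, 6616),
  (⟨0, 0, -3, -1, -1, -1, 0, 2⟩, 6360),
  (⟨0, 0, -3, -1, -1, -1, 2, 0⟩, 12909),
  (⟨0, 0, -3, -1, -1, -1, 4, -2⟩, 6563),
  (⟨0, 0, -3, -1, -1, -1, 4, 2⟩, 6297),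
  (⟨0, 0, -3, -1, -1, -1, 6, 0⟩, 7754),
  (⟨0, 0, -3, -1, -1, 3, -2, 0⟩, 13231),
  (⟨0, 0, -3, -1, -1, 3, 2, 0⟩, 6043),
  (⟨0, 0, -3, -1, 1, -3, -2, 0⟩, 6172),
  (⟨0, 0, -3, -1, 1, -3, 2, 0⟩, 13364),
  (⟨0, 0, -3, -1, 1, 1, -6, 0⟩, 7627),
  (⟨0, 0, -3, -1, 1, 1, -4, -2⟩, 5913),
  (⟨0, 0, -3, -1, 1, 1, -4, 2⟩, 6692),
  (⟨0, 0, -3, -1, 1, 1, -2, 0⟩, 6765),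
  (⟨0, 0, -3, -1, 1, 1, 0, -2⟩, 5977),
  (⟨0, 0, -3, -1, 1, 1, 0, 2⟩, 6745),
  (⟨0, 0, -3, -1, 1, 1, 2, 0⟩, 6125),
  (⟨0, 0, -3, -1, 1, 1, 4, -2⟩, 6860),
  (⟨0, 0, -3, -1, 1, 1, 4, 2⟩, 6041),
  (⟨0, 0, -3, -1, 1, 1, 6, 0⟩, 7726),
  (⟨0, 0, -3, -1, 3, -1, -6, 0⟩, 12958),
  (⟨0, 0, -3, -1, 3, -1, -4, -2⟩, 6153),
  (⟨0, 0, -3, -1, 3, -1, -4, 2⟩, 6676),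
  (⟨0, 0, -3, -1, 3, -1, -2, 0⟩, 13418),
  (⟨0, 0, -3, -1, 3, -1, 0, -2⟩, 6824),
  (⟨0, 0, -3, -1, 3, -1, 0, 2⟩, 6310),
  (⟨0, 0, -3, -1, 3, -1, 2, 0⟩, 13163),
  (⟨0, 0, -3, -1, 3, -1, 4, -2⟩, 6802),
  (⟨0, 0, -3, -1, 3, -1, 4, 2⟩, 6275),
  (⟨0, 0, -3, -1, 3, -1, 6, 0⟩, 7714),
  (⟨0, 0, -3, -1, 5, 1, -2, 0⟩, 7894),
  (⟨0, 0, -3, -1, 5, 1, 0, -2⟩, 6789),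
  (⟨0, 0, -3, -1, 5, 1, 0, 2⟩, 6663),
  (⟨0, 0, -3, -1, 5, 1, 2, 0⟩, 13138),
  (⟨0, 0, -3, 1, -6, 0, -3, -1⟩, 12706),
  (⟨0, 0, -3, 1, -6, 0, -1, 1⟩, 7496),
  (⟨0, 0, -3, 1, -6, 0, 1, -1⟩, 7480),
  (⟨0, 0, -3, 1, -6, 0, 3, 1⟩, 7454),
  (⟨0, 0, -3, 1, -4, -2, -3, -1⟩, 6919),
  (⟨0, 0, -3, 1, -4, -2, -1, 1⟩, 6943),
  (⟨0, 0, -3, 1, -4, -2, 1, -1⟩, 7118),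
  (⟨0, 0, -3, 1, -4, -2, 3, 1⟩, 7045),
  (⟨0, 0, -3, 1, -4, 2, -3, -1⟩, 5909),
  (⟨0, 0, -3, 1, -4, 2, -1, 1⟩, 6096),
  (⟨0, 0, -3, 1, -4, 2, 1, -1⟩, 5968),
  (⟨0, 0, -3, 1, -4, 2, 3, 1⟩, 6032),
  (⟨0, 0, -3, 1, -2, 0, -5, 1⟩, 7649),
  (⟨0, 0, -3, 1, -2, 0, -3, -1⟩, 13544),
  (⟨0, 0, -3, 1, -2, 0, -1, -3⟩, 5914),
  (⟨0, 0, -3, 1, -2, 0, -1, 1⟩, 12782),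
  (⟨0, 0, -3, 1, -2, 0, 1, -1⟩, 5998),
  (⟨0, 0, -3, 1, -2, 0, 1, 3⟩, 13623),
  (⟨0, 0, -3, 1, -2, 0, 3, 1⟩, 12905),
  (⟨0, 0, -3, 1, -2, 0, 5, -1⟩, 12893),
  (⟨0, 0, -3, 1, 0, -2, -5, 1⟩, 6929),
  (⟨0, 0, -3, 1, 0, -2, -3, -1⟩, 6184),
  (⟨0, 0, -3, 1, 0, -2, -1, 1⟩, 7010),
  (⟨0, 0, -3, 1, 0, -2, 1, -1⟩, 6243),
  (⟨0, 0, -3, 1, 0, -2, 3, 1⟩, 7078),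
  (⟨0, 0, -3, 1, 0, -2, 5, -1⟩, 7059),
  (⟨0, 0, -3, 1, 0, 2, -5, 1⟩, 7186),
  (⟨0, 0, -3, 1, 0, 2, -3, -1⟩, 7213),
  (⟨0, 0, -3, 1, 0, 2, -1, 1⟩, 6114),
  (⟨0, 0, -3, 1, 0, 2, 1, -1⟩, 7395),
  (⟨0, 0, -3, 1, 0, 2, 3, 1⟩, 6059),
  (⟨0, 0, -3, 1, 0, 2, 5, -1⟩, 7316),
  (⟨0, 0, -3, 1, 2, 0, -5, 1⟩, 13020),
  (⟨0, 0, -3, 1, 2, 0, -3, -1⟩, 13034),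
  (⟨0, 0, -3, 1, 2, 0, -1, -3⟩, 13500),
  (⟨0, 0, -3, 1, 2, 0, -1, 1⟩, 13678),
  (⟨0, 0, -3, 1, 2, 0, 1, -1⟩, 7406),
  (⟨0, 0, -3, 1, 2, 0, 1, 3⟩, 6301),
  (⟨0, 0, -3, 1, 2, 0, 3, 1⟩, 13675),
  (⟨0, 0, -3, 1, 2, 0, 5, -1⟩, 7774),
  (⟨0, 0, -3, 1, 4, -2, -3, -1⟩, 6159),
  (⟨0, 0, -3, 1, 4, -2, -1, 1⟩, 6352),
  (⟨0, 0, -3, 1, 4, -2, 1, -1⟩, 6224),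
  (⟨0, 0, -3, 1, 4, -2, 3, 1⟩, 6294),
  (⟨0, 0, -3, 1, 4, 2, -3, -1⟩, 7176),
  (⟨0, 0, -3, 1, 4, 2, -1, 1⟩, 7247),
  (⟨0, 0, -3, 1, 4, 2, 1, -1⟩, 7328),
  (⟨0, 0, -3, 1, 4, 2, 3, 1⟩, 7302),
  (⟨0, 0, -3, 1, 6, 0, -3, -1⟩, 7841),
  (⟨0, 0, -3, 1, 6, 0, -1, 1⟩, 7867),
  (⟨0, 0, -3, 1, 6, 0, 1, -1⟩, 7881),
  (⟨0, 0, -3, 1, 6, 0, 3, 1⟩, 13093),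
  (⟨0, 0, -3, 3, -1, -1, -2, 0⟩, 6932),
  (⟨0, 0, -3, 3, -1, -1, 2, 0⟩, 7058),
  (⟨0, 0, -3, 3, 1, 1, -2, 0⟩, 7187),
  (⟨0, 0, -3, 3, 1, 1, 2, 0⟩, 7313),
  (⟨0, 0, -2, -2, -4, 0, -4, 0⟩, 6474),
  (⟨0, 0, -2, -2, -4, 0, -2, -2⟩, 6539),
  (⟨0, 0, -2, -2, -4, 0, -2, 2⟩, 6400),
  (⟨0, 0, -2, -2, -4, 0, 0, 0⟩, 6488),
  (⟨0, 0, -2, -2, -4, 0, 2, -2⟩, 6528),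
  (⟨0, 0, -2, -2, -4, 0, 2, 2⟩, 6402),
  (⟨0, 0, -2, -2, -4, 0, 4, 0⟩, 6581),
  (⟨0, 0, -2, -2, -2, -2, -4, 0⟩, 7943),
  (⟨0, 0, -2, -2, -2, -2, 0, 0⟩, 13399),
  (⟨0, 0, -2, -2, -2, -2, 4, 0⟩, 8069),
  (⟨0, 0, -2, -2, -2, 2, -4, 0⟩, 8236),
  (⟨0, 0, -2, -2, -2, 2, 0, 0⟩, 13232),
  (⟨0, 0, -2, -2, -2, 2, 4, 0⟩, 13226),
  (⟨0, 0, -2, -2, 0, 0, -4, 0⟩, 4565),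
  (⟨0, 0, -2, -2, 0, 0, -2, -2⟩, 6871),
  (⟨0, 0, -2, -2, 0, 0, -2, 2⟩, 6714),
  (⟨0, 0, -2, -2, 0, 0, 0, 0⟩, 4717),
  (⟨0, 0, -2, -2, 0, 0, 2, -2⟩, 6585),
  (⟨0, 0, -2, -2, 0, 0, 2, 2⟩, 14423),
  (⟨0, 0, -2, -2, 0, 0, 4, 0⟩, 4692),
  (⟨0, 0, -2, -2, 2, -2, -4, 0⟩, 13353),
  (⟨0, 0, -2, -2, 2, -2, 0, 0⟩, 13363),
  (⟨0, 0, -2, -2, 2, -2, 4, 0⟩, 8103),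
  (⟨0, 0, -2, -2, 2, 2, -4, 0⟩, 8200),
  (⟨0, 0, -2, -2, 2, 2, 0, 0⟩, 8407),
  (⟨0, 0, -2, -2, 2, 2, 4, 0⟩, 8326),
  (⟨0, 0, -2, -2, 4, 0, -4, 0⟩, 6702),
  (⟨0, 0, -2, -2, 4, 0, -2, -2⟩, 6785),
  (⟨0, 0, -2, -2, 4, 0, -2, 2⟩, 6656),
  (⟨0, 0, -2, -2, 4, 0, 0, 0⟩, 6873),
  (⟨0, 0, -2, -2, 4, 0, 2, -2⟩, 6784),
  (⟨0, 0, -2, -2, 4, 0, 2, 2⟩, 6668),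
  (⟨0, 0, -2, -2, 4, 0, 4, 0⟩, 6859),
  (⟨0, 0, -2, 0, -7, -1, -1, -1⟩, 7433),
  (⟨0, 0, -2, 0, -7, -1, 1, 1⟩, 7427),
  (⟨0, 0, -2, 0, -5, 1, -5, -1⟩, 12726),
  (⟨0, 0, -2, 0, -5, 1, -3, 1⟩, 12766),
  (⟨0, 0, -2, 0, -5, 1, -1, -1⟩, 5987),
  (⟨0, 0, -2, 0, -5, 1, 1, 1⟩, 7522),
  (⟨0, 0, -2, 0, -5, 1, 3, -1⟩, 7516),
  (⟨0, 0, -2, 0, -5, 1, 5, 1⟩, 12849),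
  (⟨0, 0, -2, 0, -3, -1, -5, -1⟩, 7634),
  (⟨0, 0, -2, 0, -3, -1, -3, 1⟩, 7016),
  (⟨0, 0, -2, 0, -3, -1, -1, -1⟩, 12781),
  (⟨0, 0, -2, 0, -3, -1, -1, 3⟩, 13722),
  (⟨0, 0, -2, 0, -3, -1, 1, -3⟩, 6583),
  (⟨0, 0, -2, 0, -3, -1, 1, 1⟩, 13805),
  (⟨0, 0, -2, 0, -3, -1, 3, -1⟩, 6633),
  (⟨0, 0, -2, 0, -3, -1, 5, 1⟩, 12886),
  (⟨0, 0, -2, 0, -3, 3, -1, -1⟩, 5912),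
  (⟨0, 0, -2, 0, -3, 3, 1, 1⟩, 6030),
  (⟨0, 0, -2, 0, -1, -3, -3, 1⟩, 6959),
  (⟨0, 0, -2, 0, -1, -3, -1, -1⟩, 6176),
  (⟨0, 0, -2, 0, -1, -3, 1, 1⟩, 6351),
  (⟨0, 0, -2, 0, -1, -3, 3, -1⟩, 13851),
  (⟨0, 0, -2, 0, -1, 1, -7, 1⟩, 7568),
  (⟨0, 0, -2, 0, -1, 1, -5, -1⟩, 7641),
  (⟨0, 0, -2, 0, -1, 1, -3, -3⟩, 5889),
  (⟨0, 0, -2, 0, -1, 1, -3, 1⟩, 14062),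
  (⟨0, 0, -2, 0, -1, 1, -1, -1⟩, 5996),
  (⟨0, 0, -2, 0, -1, 1, -1, 3⟩, 6092),
  (⟨0, 0, -2, 0, -1, 1, 1, -3⟩, 5924),
  (⟨0, 0, -2, 0, -1, 1, 1, 1⟩, 6124),
  (⟨0, 0, -2, 0, -1, 1, 3, -1⟩, 11886),
  (⟨0, 0, -2, 0, -1, 1, 3, 3⟩, 6028),
  (⟨0, 0, -2, 0, -1, 1, 5, 1⟩, 6105),
  (⟨0, 0, -2, 0, -1, 1, 7, -1⟩, 7701),
  (⟨0, 0, -2, 0, 1, -1, -7, 1⟩, 7574),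
  (⟨0, 0, -2, 0, 1, -1, -5, -1⟩, 6232),
  (⟨0, 0, -2, 0, 1, -1, -3, -3⟩, 6155),
  (⟨0, 0, -2, 0, 1, -1, -3, 1⟩, 13038),
  (⟨0, 0, -2, 0, 1, -1, -1, -1⟩, 6252),
  (⟨0, 0, -2, 0, 1, -1, -1, 3⟩, 6307),
  (⟨0, 0, -2, 0, 1, -1, 1, -3⟩, 6221),
  (⟨0, 0, -2, 0, 1, -1, 1, 1⟩, 6380),
  (⟨0, 0, -2, 0, 1, -1, 3, -1⟩, 11374),
  (⟨0, 0, -2, 0, 1, -1, 3, 3⟩, 6274),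
  (⟨0, 0, -2, 0, 1, -1, 5, 1⟩, 7768),
  (⟨0, 0, -2, 0, 1, -1, 7, -1⟩, 7695),
  (⟨0, 0, -2, 0, 1, 3, -3, 1⟩, 13980),
  (⟨0, 0, -2, 0, 1, 3, -1, -1⟩, 5966),
  (⟨0, 0, -2, 0, 1, 3, 1, 1⟩, 6047),
  (⟨0, 0, -2, 0, 1, 3, 3, -1⟩, 7348),
  (⟨0, 0, -2, 0, 3, -3, -1, -1⟩, 6157),
  (⟨0, 0, -2, 0, 3, -3, 1, 1⟩, 6295),
  (⟨0, 0, -2, 0, 3, 1, -5, -1⟩, 13011),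
  (⟨0, 0, -2, 0, 3, 1, -3, 1⟩, 6762),
  (⟨0, 0, -2, 0, 3, 1, -1, -1⟩, 9837),
  (⟨0, 0, -2, 0, 3, 1, -1, 3⟩, 6716),
  (⟨0, 0, -2, 0, 3, 1, 1, -3⟩, 14109),
  (⟨0, 0, -2, 0, 3, 1, 1, 1⟩, 10605),
  (⟨0, 0, -2, 0, 3, 1, 3, -1⟩, 7403),
  (⟨0, 0, -2, 0, 3, 1, 5, 1⟩, 7761),
  (⟨0, 0, -2, 0, 5, -1, -5, -1⟩, 12978),
  (⟨0, 0, -2, 0, 5, -1, -3, 1⟩, 7901),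
  (⟨0, 0, -2, 0, 5, -1, -1, -1⟩, 7907),
  (⟨0, 0, -2, 0, 5, -1, 1, 1⟩, 6370),
  (⟨0, 0, -2, 0, 5, -1, 3, -1⟩, 13153),
  (⟨0, 0, -2, 0, 5, -1, 5, 1⟩, 13117),
  (⟨0, 0, -2, 0, 7, 1, -1, -1⟩, 7812),
  (⟨0, 0, -2, 0, 7, 1, 1, 1⟩, 7818),
  (⟨0, 0, -2, 2, -4, 0, -4, 0⟩, 6971),
  (⟨0, 0, -2, 2, -4, 0, -2, -2⟩, 13479),
  (⟨0, 0, -2, 2, -4, 0, -2, 2⟩, 8467),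
  (⟨0, 0, -2, 2, -4, 0, 0, 0⟩, 3040),
  (⟨0, 0, -2, 2, -4, 0, 2, -2⟩, 8593),
  (⟨0, 0, -2, 2, -4, 0, 2, 2⟩, 8489),
  (⟨0, 0, -2, 2, -4, 0, 4, 0⟩, 7113),
  (⟨0, 0, -2, 2, -2, -2, -4, 0⟩, 6912),
  (⟨0, 0, -2, 2, -2, -2, 0, 0⟩, 6963),
  (⟨0, 0, -2, 2, -2, -2, 4, 0⟩, 7040),
  (⟨0, 0, -2, 2, -2, 2, -4, 0⟩, 7182),
  (⟨0, 0, -2, 2, -2, 2, 0, 0⟩, 14564),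
  (⟨0, 0, -2, 2, -2, 2, 4, 0⟩, 7320),
  (⟨0, 0, -2, 2, 0, 0, -4, 0⟩, 7266),
  (⟨0, 0, -2, 2, 0, 0, -2, -2⟩, 13497),
  (⟨0, 0, -2, 2, 0, 0, -2, 2⟩, 13668),
  (⟨0, 0, -2, 2, 0, 0, 0, 0⟩, 3054),
  (⟨0, 0, -2, 2, 0, 0, 2, -2⟩, 8676),
  (⟨0, 0, -2, 2, 0, 0, 2, 2⟩, 13626),
  (⟨0, 0, -2, 2, 0, 0, 4, 0⟩, 7139),
  (⟨0, 0, -2, 2, 2, -2, -4, 0⟩, 6935),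
  (⟨0, 0, -2, 2, 2, -2, 0, 0⟩, 7140),
  (⟨0, 0, -2, 2, 2, -2, 4, 0⟩, 7053),
  (⟨0, 0, -2, 2, 2, 2, -4, 0⟩, 7168),
  (⟨0, 0, -2, 2, 2, 2, 0, 0⟩, 7344),
  (⟨0, 0, -2, 2, 2, 2, 4, 0⟩, 7296),
  (⟨0, 0, -2, 2, 4, 0, -4, 0⟩, 7240),
  (⟨0, 0, -2, 2, 4, 0, -2, -2⟩, 8874),
  (⟨0, 0, -2, 2, 4, 0, -2, 2⟩, 8724),
  (⟨0, 0, -2, 2, 4, 0, 0, 0⟩, 3167),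
  (⟨0, 0, -2, 2, 4, 0, 2, -2⟩, 8850),
  (⟨0, 0, -2, 2, 4, 0, 2, 2⟩, 13612),
  (⟨0, 0, -2, 2, 4, 0, 4, 0⟩, 7352),
  (⟨0, 0, -1, -3, -3, 1, -2, 0⟩, 6454),
  (⟨0, 0, -1, -3, -3, 1, 2, 0⟩, 13233),
  (⟨0, 0, -1, -3, -1, -1, -2, 0⟩, 8004),
  (⟨0, 0, -1, -3, -1, -1, 2, 0⟩, 8128),
  (⟨0, 0, -1, -3, 1, 1, -2, 0⟩, 8261),
  (⟨0, 0, -1, -3, 1, 1, 2, 0⟩, 8387),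
  (⟨0, 0, -1, -3, 3, -1, -2, 0⟩, 13362),
  (⟨0, 0, -1, -3, 3, -1, 2, 0⟩, 6845),
  (⟨0, 0, -1, -1, -6, 0, -3, -1⟩, 7502),
  (⟨0, 0, -1, -1, -6, 0, -1, 1⟩, 6458),
  (⟨0, 0, -1, -1, -6, 0, 1, -1⟩, 7481),
  (⟨0, 0, -1, -1, -6, 0, 3, 1⟩, 7455),
  (⟨0, 0, -1, -1, -4, -2, -3, -1⟩, 7961),
  (⟨0, 0, -1, -1, -4, -2, -1, 1⟩, 8018),
  (⟨0, 0, -1, -1, -4, -2, 1, -1⟩, 6614),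
  (⟨0, 0, -1, -1, -4, -2, 3, 1⟩, 8089),
  (⟨0, 0, -1, -1, -4, 2, -3, -1⟩, 5961),
  (⟨0, 0, -1, -1, -4, 2, -1, 1⟩, 6492),
  (⟨0, 0, -1, -1, -4, 2, 1, -1⟩, 13278),
  (⟨0, 0, -1, -1, -4, 2, 3, 1⟩, 6075),
  (⟨0, 0, -1, -1, -2, 0, -7, -1⟩, 7554),
  (⟨0, 0, -1, -1, -2, 0, -5, 1⟩, 7648),
  (⟨0, 0, -1, -1, -2, 0, -3, -1⟩, 4589),
  (⟨0, 0, -1, -1, -2, 0, -3, 3⟩, 6422),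
  (⟨0, 0, -1, -1, -2, 0, -1, -3⟩, 6602),
  (⟨0, 0, -1, -1, -2, 0, -1, 1⟩, 6508),
  (⟨0, 0, -1, -1, -2, 0, 1, -1⟩, 6636),
  (⟨0, 0, -1, -1, -2, 0, 1, 3⟩, 6453),
  (⟨0, 0, -1, -1, -2, 0, 3, -3⟩, 6543),
  (⟨0, 0, -1, -1, -2, 0, 3, 1⟩, 4973),
  (⟨0, 0, -1, -1, -2, 0, 5, -1⟩, 6624),
  (⟨0, 0, -1, -1, -2, 0, 7, 1⟩, 7691),
  (⟨0, 0, -1, -1, 0, -2, -5, 1⟩, 8007),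
  (⟨0, 0, -1, -1, 0, -2, -3, -1⟩, 6228),
  (⟨0, 0, -1, -1, 0, -2, -1, 1⟩, 13419),
  (⟨0, 0, -1, -1, 0, -2, 1, -1⟩, 13930),
  (⟨0, 0, -1, -1, 0, -2, 3, 1⟩, 8149),
  (⟨0, 0, -1, -1, 0, -2, 5, -1⟩, 8127),
  (⟨0, 0, -1, -1, 0, 2, -5, 1⟩, 8262),
  (⟨0, 0, -1, -1, 0, 2, -3, -1⟩, 8276),
  (⟨0, 0, -1, -1, 0, 2, -1, 1⟩, 14057),
  (⟨0, 0, -1, -1, 0, 2, 1, -1⟩, 13288),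
  (⟨0, 0, -1, -1, 0, 2, 3, 1⟩, 6101),
  (⟨0, 0, -1, -1, 0, 2, 5, -1⟩, 8382),
  (⟨0, 0, -1, -1, 2, 0, -7, -1⟩, 7564),
  (⟨0, 0, -1, -1, 2, 0, -5, 1⟩, 6751),
  (⟨0, 0, -1, -1, 2, 0, -3, -1⟩, 6893),
  (⟨0, 0, -1, -1, 2, 0, -3, 3⟩, 6672),
  (⟨0, 0, -1, -1, 2, 0, -1, -3⟩, 6830),
  (⟨0, 0, -1, -1, 2, 0, -1, 1⟩, 6764),
  (⟨0, 0, -1, -1, 2, 0, 1, -1⟩, 6892),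
  (⟨0, 0, -1, -1, 2, 0, 1, 3⟩, 6731),
  (⟨0, 0, -1, -1, 2, 0, 3, -3⟩, 6805),
  (⟨0, 0, -1, -1, 2, 0, 3, 1⟩, 7789),
  (⟨0, 0, -1, -1, 2, 0, 5, -1⟩, 7775),
  (⟨0, 0, -1, -1, 2, 0, 7, 1⟩, 7681),
  (⟨0, 0, -1, -1, 4, -2, -3, -1⟩, 6200),
  (⟨0, 0, -1, -1, 4, -2, -1, 1⟩, 13409),
  (⟨0, 0, -1, -1, 4, -2, 1, -1⟩, 6877),
  (⟨0, 0, -1, -1, 4, -2, 3, 1⟩, 6344),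
  (⟨0, 0, -1, -1, 4, 2, -3, -1⟩, 8217),
  (⟨0, 0, -1, -1, 4, 2, -1, 1⟩, 6739),
  (⟨0, 0, -1, -1, 4, 2, 1, -1⟩, 8401),
  (⟨0, 0, -1, -1, 4, 2, 3, 1⟩, 8345),
  (⟨0, 0, -1, -1, 6, 0, -3, -1⟩, 7840),
  (⟨0, 0, -1, -1, 6, 0, -1, 1⟩, 7866),
  (⟨0, 0, -1, -1, 6, 0, 1, -1⟩, 6841),
  (⟨0, 0, -1, -1, 6, 0, 3, 1⟩, 7887),
  (⟨0, 0, -1, 1, -7, 1, -2, 0⟩, 7447),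
  (⟨0, 0, -1, 1, -7, 1, 2, 0⟩, 7437),
  (⟨0, 0, -1, 1, -5, -1, -2, 0⟩, 6997),
  (⟨0, 0, -1, 1, -5, -1, 0, -2⟩, 8644),
  (⟨0, 0, -1, 1, -5, -1, 0, 2⟩, 8512),
  (⟨0, 0, -1, 1, -5, -1, 2, 0⟩, 7508),
  (⟨0, 0, -1, 1, -3, -3, -2, 0⟩, 6915),
  (⟨0, 0, -1, 1, -3, -3, 2, 0⟩, 7049),
  (⟨0, 0, -1, 1, -3, 1, -6, 0⟩, 7588),
  (⟨0, 0, -1, 1, -3, 1, -4, -2⟩, 5934),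
  (⟨0, 0, -1, 1, -3, 1, -4, 2⟩, 8528),
  (⟨0, 0, -1, 1, -3, 1, -2, 0⟩, 3310),
  (⟨0, 0, -1, 1, -3, 1, 0, -2⟩, 5983),
  (⟨0, 0, -1, 1, -3, 1, 0, 2⟩, 8543),
  (⟨0, 0, -1, 1, -3, 1, 2, 0⟩, 7534),
  (⟨0, 0, -1, 1, -3, 1, 4, -2⟩, 8656),
  (⟨0, 0, -1, 1, -3, 1, 4, 2⟩, 6091),
  (⟨0, 0, -1, 1, -3, 1, 6, 0⟩, 7756),
  (⟨0, 0, -1, 1, -1, -1, -6, 0⟩, 7603),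
  (⟨0, 0, -1, 1, -1, -1, -4, -2⟩, 13523),
  (⟨0, 0, -1, 1, -1, -1, -4, 2⟩, 7006),
  (⟨0, 0, -1, 1, -1, -1, -2, 0⟩, 7020),
  (⟨0, 0, -1, 1, -1, -1, 0, -2⟩, 13546),
  (⟨0, 0, -1, 1, -1, -1, 0, 2⟩, 13803),
  (⟨0, 0, -1, 1, -1, -1, 2, 0⟩, 7148),
  (⟨0, 0, -1, 1, -1, -1, 4, -2⟩, 8668),
  (⟨0, 0, -1, 1, -1, -1, 4, 2⟩, 7121),
  (⟨0, 0, -1, 1, -1, -1, 6, 0⟩, 7091),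
  (⟨0, 0, -1, 1, -1, 3, -2, 0⟩, 7227),
  (⟨0, 0, -1, 1, -1, 3, 2, 0⟩, 7369),
  (⟨0, 0, -1, 1, 1, -3, -2, 0⟩, 6984),
  (⟨0, 0, -1, 1, 1, -3, 2, 0⟩, 7096),
  (⟨0, 0, -1, 1, 1, 1, -6, 0⟩, 7216),
  (⟨0, 0, -1, 1, 1, 1, -4, -2⟩, 7250),
  (⟨0, 0, -1, 1, 1, 1, -4, 2⟩, 8797),
  (⟨0, 0, -1, 1, 1, 1, -2, 0⟩, 7276),
  (⟨0, 0, -1, 1, 1, 1, 0, -2⟩, 14184),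
  (⟨0, 0, -1, 1, 1, 1, 0, 2⟩, 13673),
  (⟨0, 0, -1, 1, 1, 1, 2, 0⟩, 7404),
  (⟨0, 0, -1, 1, 1, 1, 4, -2⟩, 7393),
  (⟨0, 0, -1, 1, 1, 1, 4, 2⟩, 13654),
  (⟨0, 0, -1, 1, 1, 1, 6, 0⟩, 7728),
  (⟨0, 0, -1, 1, 3, -1, -6, 0⟩, 7629),
  (⟨0, 0, -1, 1, 3, -1, -4, -2⟩, 6218),
  (⟨0, 0, -1, 1, 3, -1, -4, 2⟩, 8784),
  (⟨0, 0, -1, 1, 3, -1, -2, 0⟩, 3182),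
  (⟨0, 0, -1, 1, 3, -1, 0, -2⟩, 8928),
  (⟨0, 0, -1, 1, 3, -1, 0, 2⟩, 6368),
  (⟨0, 0, -1, 1, 3, -1, 2, 0⟩, 7150),
  (⟨0, 0, -1, 1, 3, -1, 4, -2⟩, 8912),
  (⟨0, 0, -1, 1, 3, -1, 4, 2⟩, 6325),
  (⟨0, 0, -1, 1, 3, -1, 6, 0⟩, 7715),
  (⟨0, 0, -1, 1, 3, 3, -2, 0⟩, 7178),
  (⟨0, 0, -1, 1, 3, 3, 2, 0⟩, 7300),
  (⟨0, 0, -1, 1, 5, 1, -2, 0⟩, 7893),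
  (⟨0, 0, -1, 1, 5, 1, 0, -2⟩, 8901),
  (⟨0, 0, -1, 1, 5, 1, 0, 2⟩, 8771),
  (⟨0, 0, -1, 1, 5, 1, 2, 0⟩, 7380),
  (⟨0, 0, -1, 1, 7, -1, -2, 0⟩, 7822),
  (⟨0, 0, -1, 1, 7, -1, 2, 0⟩, 7832),
  (⟨0, 0, -1, 3, -2, 0, -3, -1⟩, 13494),
  (⟨0, 0, -1, 3, -2, 0, -1, 1⟩, 8518),
  (⟨0, 0, -1, 3, -2, 0, 1, -1⟩, 8638),
  (⟨0, 0, -1, 3, -2, 0, 3, 1⟩, 7089),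
  (⟨0, 0, -1, 3, 2, 0, -3, -1⟩, 7218),
  (⟨0, 0, -1, 3, 2, 0, -1, 1⟩, 8775),
  (⟨0, 0, -1, 3, 2, 0, 1, -1⟩, 8895),
  (⟨0, 0, -1, 3, 2, 0, 3, 1⟩, 13629),
  (⟨0, 0, 0, -2, -5, 1, -3, 1⟩, 6415),
  (⟨0, 0, 0, -2, -5, 1, -1, -1⟩, 6605),
  (⟨0, 0, 0, -2, -5, 1, 1, 1⟩, 6435),
  (⟨0, 0, 0, -2, -5, 1, 3, -1⟩, 6550),
  (⟨0, 0, 0, -2, -3, -1, -5, -1⟩, 7945),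
  (⟨0, 0, 0, -2, -3, -1, -3, 1⟩, 7979),
  (⟨0, 0, 0, -2, -3, -1, -1, -1⟩, 8026),
  (⟨0, 0, 0, -2, -3, -1, 1, 1⟩, 6491),
  (⟨0, 0, 0, -2, -3, -1, 3, -1⟩, 6573),
  (⟨0, 0, 0, -2, -3, -1, 5, 1⟩, 8067),
  (⟨0, 0, 0, -2, -1, 1, -5, -1⟩, 8224),
  (⟨0, 0, 0, -2, -1, 1, -3, 1⟩, 6501),
  (⟨0, 0, 0, -2, -1, 1, -1, -1⟩, 8297),
  (⟨0, 0, 0, -2, -1, 1, 1, 1⟩, 6504),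
  (⟨0, 0, 0, -2, -1, 1, 3, -1⟩, 8422),
  (⟨0, 0, 0, -2, -1, 1, 5, 1⟩, 8399),
  (⟨0, 0, 0, -2, 1, -1, -5, -1⟩, 8014),
  (⟨0, 0, 0, -2, 1, -1, -3, 1⟩, 6758),
  (⟨0, 0, 0, -2, 1, -1, -1, -1⟩, 6891),
  (⟨0, 0, 0, -2, 1, -1, 1, 1⟩, 8170),
  (⟨0, 0, 0, -2, 1, -1, 3, -1⟩, 8165),
  (⟨0, 0, 0, -2, 1, -1, 5, 1⟩, 8095),
  (⟨0, 0, 0, -2, 3, 1, -5, -1⟩, 8196),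
  (⟨0, 0, 0, -2, 3, 1, -3, 1⟩, 6694),
  (⟨0, 0, 0, -2, 3, 1, -1, -1⟩, 8283),
  (⟨0, 0, 0, -2, 3, 1, 1, 1⟩, 6746),
  (⟨0, 0, 0, -2, 3, 1, 3, -1⟩, 8360),
  (⟨0, 0, 0, -2, 3, 1, 5, 1⟩, 8330),
  (⟨0, 0, 0, -2, 5, -1, -3, 1⟩, 6677),
  (⟨0, 0, 0, -2, 5, -1, -1, -1⟩, 6820),
  (⟨0, 0, 0, -2, 5, -1, 1, 1⟩, 6732),
  (⟨0, 0, 0, -2, 5, -1, 3, -1⟩, 6800),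
  (⟨0, 0, 0, 0, -8, 0, 0, 0⟩, 7424),
  (⟨0, 0, 0, 0, -6, -2, 0, 0⟩, 7449),
  (⟨0, 0, 0, 0, -6, 2, 0, 0⟩, 7504),
  (⟨0, 0, 0, 0, -4, 0, -4, 0⟩, 7655),
  (⟨0, 0, 0, 0, -4, 0, -2, -2⟩, 10203),
  (⟨0, 0, 0, 0, -4, 0, -2, 2⟩, 8549),
  (⟨0, 0, 0, 0, -4, 0, 0, 0⟩, 7532),
  (⟨0, 0, 0, 0, -4, 0, 2, -2⟩, 6630),
  (⟨0, 0, 0, 0, -4, 0, 2, 2⟩, 10330),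
  (⟨0, 0, 0, 0, -4, 0, 4, 0⟩, 7527),
  (⟨0, 0, 0, 0, -2, -2, -4, 0⟩, 7002),
  (⟨0, 0, 0, 0, -2, -2, -2, -2⟩, 6231),
  (⟨0, 0, 0, 0, -2, -2, -2, 2⟩, 13761),
  (⟨0, 0, 0, 0, -2, -2, 0, 0⟩, 13933),
  (⟨0, 0, 0, 0, -2, -2, 2, -2⟩, 13890),
  (⟨0, 0, 0, 0, -2, -2, 2, 2⟩, 13783),
  (⟨0, 0, 0, 0, -2, -2, 4, 0⟩, 8155),
  (⟨0, 0, 0, 0, -2, 2, -4, 0⟩, 3302),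
  (⟨0, 0, 0, 0, -2, 2, -2, -2⟩, 5954),
  (⟨0, 0, 0, 0, -2, 2, -2, 2⟩, 14052),
  (⟨0, 0, 0, 0, -2, 2, 0, 0⟩, 9198),
  (⟨0, 0, 0, 0, -2, 2, 2, -2⟩, 9060),
  (⟨0, 0, 0, 0, -2, 2, 2, 2⟩, 9153),
  (⟨0, 0, 0, 0, -2, 2, 4, 0⟩, 3429),
  (⟨0, 0, 0, 0, 0, 0, -8, 0⟩, 7552),
  (⟨0, 0, 0, 0, 0, 0, -6, -2⟩, 7577),
  (⟨0, 0, 0, 0, 0, 0, -6, 2⟩, 7632),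
  (⟨0, 0, 0, 0, 0, 0, -4, 0⟩, 7660),
  (⟨0, 0, 0, 0, 0, 0, -2, -2⟩, 5997),
  (⟨0, 0, 0, 0, 0, 0, -2, 2⟩, 13806),
  (⟨0, 0, 0, 0, 0, 0, 0, 0⟩, 0),
  (⟨0, 0, 0, 0, 0, 0, 2, -2⟩, 1646),
  (⟨0, 0, 0, 0, 0, 0, 2, 2⟩, 9453),
  (⟨0, 0, 0, 0, 0, 0, 4, 0⟩, 7788)]

set_option maxRecDepth 1000000 in
def xPairs4 : List (Z8 × Nat) := [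
  (⟨0, 0, 0, 0, 0, 0, 6, -2⟩, 7760),
  (⟨0, 0, 0, 0, 0, 0, 6, 2⟩, 7705),
  (⟨0, 0, 0, 0, 0, 0, 8, 0⟩, 7680),
  (⟨0, 0, 0, 0, 2, -2, -4, 0⟩, 12005),
  (⟨0, 0, 0, 0, 2, -2, -2, -2⟩, 6209),
  (⟨0, 0, 0, 0, 2, -2, -2, 2⟩, 6372),
  (⟨0, 0, 0, 0, 2, -2, 0, 0⟩, 6254),
  (⟨0, 0, 0, 0, 2, -2, 2, -2⟩, 1380),
  (⟨0, 0, 0, 0, 2, -2, 2, 2⟩, 9410),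
  (⟨0, 0, 0, 0, 2, -2, 4, 0⟩, 12134),
  (⟨0, 0, 0, 0, 2, 2, -4, 0⟩, 7259),
  (⟨0, 0, 0, 0, 2, 2, -2, -2⟩, 1623),
  (⟨0, 0, 0, 0, 2, 2, -2, 2⟩, 1474),
  (⟨0, 0, 0, 0, 2, 2, 0, 0⟩, 1517),
  (⟨0, 0, 0, 0, 2, 2, 2, -2⟩, 1601),
  (⟨0, 0, 0, 0, 2, 2, 2, 2⟩, 9175),
  (⟨0, 0, 0, 0, 2, 2, 4, 0⟩, 8410),
  (⟨0, 0, 0, 0, 4, 0, -4, 0⟩, 7911),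
  (⟨0, 0, 0, 0, 4, 0, -2, -2⟩, 5082),
  (⟨0, 0, 0, 0, 4, 0, -2, 2⟩, 8806),
  (⟨0, 0, 0, 0, 4, 0, 0, 0⟩, 7916),
  (⟨0, 0, 0, 0, 4, 0, 2, -2⟩, 6885),
  (⟨0, 0, 0, 0, 4, 0, 2, 2⟩, 5211),
  (⟨0, 0, 0, 0, 4, 0, 4, 0⟩, 7783),
  (⟨0, 0, 0, 0, 6, -2, 0, 0⟩, 7888),
  (⟨0, 0, 0, 0, 6, 2, 0, 0⟩, 7833),
  (⟨0, 0, 0, 0, 8, 0, 0, 0⟩, 7808),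
  (⟨0, 0, 0, 2, -5, 1, -3, 1⟩, 8464),
  (⟨0, 0, 0, 2, -5, 1, -1, -1⟩, 8652),
  (⟨0, 0, 0, 2, -5, 1, 1, 1⟩, 8484),
  (⟨0, 0, 0, 2, -5, 1, 3, -1⟩, 8597),
  (⟨0, 0, 0, 2, -3, -1, -5, -1⟩, 6922),
  (⟨0, 0, 0, 2, -3, -1, -3, 1⟩, 6952),
  (⟨0, 0, 0, 2, -3, -1, -1, -1⟩, 8666),
  (⟨0, 0, 0, 2, -3, -1, 1, 1⟩, 7131),
  (⟨0, 0, 0, 2, -3, -1, 3, -1⟩, 8614),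
  (⟨0, 0, 0, 2, -3, -1, 5, 1⟩, 7044),
  (⟨0, 0, 0, 2, -1, 1, -5, -1⟩, 7199),
  (⟨0, 0, 0, 2, -1, 1, -3, 1⟩, 7269),
  (⟨0, 0, 0, 2, -1, 1, -1, -1⟩, 7274),
  (⟨0, 0, 0, 2, -1, 1, 1, 1⟩, 8555),
  (⟨0, 0, 0, 2, -1, 1, 3, -1⟩, 8678),
  (⟨0, 0, 0, 2, -1, 1, 5, 1⟩, 7374),
  (⟨0, 0, 0, 2, 1, -1, -5, -1⟩, 6991),
  (⟨0, 0, 0, 2, 1, -1, -3, 1⟩, 7014),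
  (⟨0, 0, 0, 2, 1, -1, -1, -1⟩, 8936),
  (⟨0, 0, 0, 2, 1, -1, 1, 1⟩, 7145),
  (⟨0, 0, 0, 2, 1, -1, 3, -1⟩, 8933),
  (⟨0, 0, 0, 2, 1, -1, 5, 1⟩, 7072),
  (⟨0, 0, 0, 2, 3, 1, -5, -1⟩, 7171),
  (⟨0, 0, 0, 2, 3, 1, -3, 1⟩, 8749),
  (⟨0, 0, 0, 2, 3, 1, -1, -1⟩, 8923),
  (⟨0, 0, 0, 2, 3, 1, 1, 1⟩, 7386),
  (⟨0, 0, 0, 2, 3, 1, 3, -1⟩, 7339),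
  (⟨0, 0, 0, 2, 3, 1, 5, 1⟩, 7305),
  (⟨0, 0, 0, 2, 5, -1, -3, 1⟩, 8726),
  (⟨0, 0, 0, 2, 5, -1, -1, -1⟩, 8867),
  (⟨0, 0, 0, 2, 5, -1, 1, 1⟩, 8781),
  (⟨0, 0, 0, 2, 5, -1, 3, -1⟩, 8847),
  (⟨0, 0, 1, -3, -2, 0, -3, -1⟩, 1725),
  (⟨0, 0, 1, -3, -2, 0, -1, 1⟩, 6463),
  (⟨0, 0, 1, -3, -2, 0, 1, -1⟩, 6599),
  (⟨0, 0, 1, -3, -2, 0, 3, 1⟩, 8114),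
  (⟨0, 0, 1, -3, 2, 0, -3, -1⟩, 8241),
  (⟨0, 0, 1, -3, 2, 0, -1, 1⟩, 6718),
  (⟨0, 0, 1, -3, 2, 0, 1, -1⟩, 6854),
  (⟨0, 0, 1, -3, 2, 0, 3, 1⟩, 1846),
  (⟨0, 0, 1, -1, -7, 1, -2, 0⟩, 7448),
  (⟨0, 0, 1, -1, -7, 1, 2, 0⟩, 7438),
  (⟨0, 0, 1, -1, -5, -1, -2, 0⟩, 8020),
  (⟨0, 0, 1, -1, -5, -1, 0, -2⟩, 6595),
  (⟨0, 0, 1, -1, -5, -1, 0, 2⟩, 6469),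
  (⟨0, 0, 1, -1, -5, -1, 2, 0⟩, 7509),
  (⟨0, 0, 1, -1, -3, -3, -2, 0⟩, 7940),
  (⟨0, 0, 1, -1, -3, -3, 2, 0⟩, 8074),
  (⟨0, 0, 1, -1, -3, 1, -6, 0⟩, 7587),
  (⟨0, 0, 1, -1, -3, 1, -4, -2⟩, 9013),
  (⟨0, 0, 1, -1, -3, 1, -4, 2⟩, 6480),
  (⟨0, 0, 1, -1, -3, 1, -2, 0⟩, 8302),
  (⟨0, 0, 1, -1, -3, 1, 0, -2⟩, 9056),
  (⟨0, 0, 1, -1, -3, 1, 0, 2⟩, 6496),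
  (⟨0, 0, 1, -1, -3, 1, 2, 0⟩, 12270),
  (⟨0, 0, 1, -1, -3, 1, 4, -2⟩, 6608),
  (⟨0, 0, 1, -1, -3, 1, 4, 2⟩, 9162),
  (⟨0, 0, 1, -1, -3, 1, 6, 0⟩, 7757),
  (⟨0, 0, 1, -1, -1, -1, -6, 0⟩, 7600),
  (⟨0, 0, 1, -1, -1, -1, -4, -2⟩, 1750),
  (⟨0, 0, 1, -1, -1, -1, -4, 2⟩, 8033),
  (⟨0, 0, 1, -1, -1, -1, -2, 0⟩, 8044),
  (⟨0, 0, 1, -1, -1, -1, 0, -2⟩, 1769),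
  (⟨0, 0, 1, -1, -1, -1, 0, 2⟩, 1256),
  (⟨0, 0, 1, -1, -1, -1, 2, 0⟩, 8172),
  (⟨0, 0, 1, -1, -1, -1, 4, -2⟩, 6621),
  (⟨0, 0, 1, -1, -1, -1, 4, 2⟩, 8146),
  (⟨0, 0, 1, -1, -1, -1, 6, 0⟩, 8112),
  (⟨0, 0, 1, -1, -1, 3, -2, 0⟩, 8248),
  (⟨0, 0, 1, -1, -1, 3, 2, 0⟩, 8392),
  (⟨0, 0, 1, -1, 1, -3, -2, 0⟩, 8009),
  (⟨0, 0, 1, -1, 1, -3, 2, 0⟩, 8123),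
  (⟨0, 0, 1, -1, 1, 1, -6, 0⟩, 8243),
  (⟨0, 0, 1, -1, 1, 1, -4, -2⟩, 8273),
  (⟨0, 0, 1, -1, 1, 1, -4, 2⟩, 6748),
  (⟨0, 0, 1, -1, 1, 1, -2, 0⟩, 8300),
  (⟨0, 0, 1, -1, 1, 1, 0, -2⟩, 1643),
  (⟨0, 0, 1, -1, 1, 1, 0, 2⟩, 1898),
  (⟨0, 0, 1, -1, 1, 1, 2, 0⟩, 8428),
  (⟨0, 0, 1, -1, 1, 1, 4, -2⟩, 8414),
  (⟨0, 0, 1, -1, 1, 1, 4, 2⟩, 1875),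
  (⟨0, 0, 1, -1, 1, 1, 6, 0⟩, 7731),
  (⟨0, 0, 1, -1, 3, -1, -6, 0⟩, 7628),
  (⟨0, 0, 1, -1, 3, -1, -4, -2⟩, 9291),
  (⟨0, 0, 1, -1, 3, -1, -4, 2⟩, 6736),
  (⟨0, 0, 1, -1, 3, -1, -2, 0⟩, 7918),
  (⟨0, 0, 1, -1, 3, -1, 0, -2⟩, 6879),
  (⟨0, 0, 1, -1, 3, -1, 0, 2⟩, 9439),
  (⟨0, 0, 1, -1, 3, -1, 2, 0⟩, 12142),
  (⟨0, 0, 1, -1, 3, -1, 4, -2⟩, 6864),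
  (⟨0, 0, 1, -1, 3, -1, 4, 2⟩, 9390),
  (⟨0, 0, 1, -1, 3, -1, 6, 0⟩, 7716),
  (⟨0, 0, 1, -1, 3, 3, -2, 0⟩, 8201),
  (⟨0, 0, 1, -1, 3, 3, 2, 0⟩, 8323),
  (⟨0, 0, 1, -1, 5, 1, -2, 0⟩, 7892),
  (⟨0, 0, 1, -1, 5, 1, 0, -2⟩, 6848),
  (⟨0, 0, 1, -1, 5, 1, 0, 2⟩, 6724),
  (⟨0, 0, 1, -1, 5, 1, 2, 0⟩, 8405),
  (⟨0, 0, 1, -1, 7, -1, -2, 0⟩, 7821),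
  (⟨0, 0, 1, -1, 7, -1, 2, 0⟩, 7831),
  (⟨0, 0, 1, 1, -6, 0, -3, -1⟩, 7503),
  (⟨0, 0, 1, 1, -6, 0, -1, 1⟩, 8505),
  (⟨0, 0, 1, 1, -6, 0, 1, -1⟩, 7482),
  (⟨0, 0, 1, 1, -6, 0, 3, 1⟩, 7456),
  (⟨0, 0, 1, 1, -4, -2, -3, -1⟩, 6937),
  (⟨0, 0, 1, 1, -4, -2, -1, 1⟩, 6993),
  (⟨0, 0, 1, 1, -4, -2, 1, -1⟩, 8659),
  (⟨0, 0, 1, 1, -4, -2, 3, 1⟩, 7065),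
  (⟨0, 0, 1, 1, -4, 2, -3, -1⟩, 9032),
  (⟨0, 0, 1, 1, -4, 2, -1, 1⟩, 8541),
  (⟨0, 0, 1, 1, -4, 2, 1, -1⟩, 2017),
  (⟨0, 0, 1, 1, -4, 2, 3, 1⟩, 9144),
  (⟨0, 0, 1, 1, -2, 0, -7, -1⟩, 7553),
  (⟨0, 0, 1, 1, -2, 0, -5, 1⟩, 7647),
  (⟨0, 0, 1, 1, -2, 0, -3, -1⟩, 7661),
  (⟨0, 0, 1, 1, -2, 0, -3, 3⟩, 8469),
  (⟨0, 0, 1, 1, -2, 0, -1, -3⟩, 8651),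
  (⟨0, 0, 1, 1, -2, 0, -1, 1⟩, 8556),
  (⟨0, 0, 1, 1, -2, 0, 1, -1⟩, 8684),
  (⟨0, 0, 1, 1, -2, 0, 1, 3⟩, 8494),
  (⟨0, 0, 1, 1, -2, 0, 3, -3⟩, 8592),
  (⟨0, 0, 1, 1, -2, 0, 3, 1⟩, 8557),
  (⟨0, 0, 1, 1, -2, 0, 5, -1⟩, 8671),
  (⟨0, 0, 1, 1, -2, 0, 7, 1⟩, 7692),
  (⟨0, 0, 1, 1, 0, -2, -5, 1⟩, 6974),
  (⟨0, 0, 1, 1, 0, -2, -3, -1⟩, 9301),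
  (⟨0, 0, 1, 1, 0, -2, -1, 1⟩, 2152),
  (⟨0, 0, 1, 1, 0, -2, 1, -1⟩, 1385),
  (⟨0, 0, 1, 1, 0, -2, 3, 1⟩, 7124),
  (⟨0, 0, 1, 1, 0, -2, 5, -1⟩, 7110),
  (⟨0, 0, 1, 1, 0, 2, -5, 1⟩, 7231),
  (⟨0, 0, 1, 1, 0, 2, -3, -1⟩, 7253),
  (⟨0, 0, 1, 1, 0, 2, -1, 1⟩, 1514),
  (⟨0, 0, 1, 1, 0, 2, 1, -1⟩, 2027),
  (⟨0, 0, 1, 1, 0, 2, 3, 1⟩, 9172),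
  (⟨0, 0, 1, 1, 0, 2, 5, -1⟩, 7367),
  (⟨0, 0, 1, 1, 2, 0, -7, -1⟩, 7563),
  (⟨0, 0, 1, 1, 2, 0, -5, 1⟩, 8800),
  (⟨0, 0, 1, 1, 2, 0, -3, -1⟩, 10477),
  (⟨0, 0, 1, 1, 2, 0, -3, 3⟩, 8719),
  (⟨0, 0, 1, 1, 2, 0, -1, -3⟩, 8885),
  (⟨0, 0, 1, 1, 2, 0, -1, 1⟩, 8812),
  (⟨0, 0, 1, 1, 2, 0, 1, -1⟩, 8940),
  (⟨0, 0, 1, 1, 2, 0, 1, 3⟩, 8778),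
  (⟨0, 0, 1, 1, 2, 0, 3, -3⟩, 8854),
  (⟨0, 0, 1, 1, 2, 0, 3, 1⟩, 10861),
  (⟨0, 0, 1, 1, 2, 0, 5, -1⟩, 7776),
  (⟨0, 0, 1, 1, 2, 0, 7, 1⟩, 7682),
  (⟨0, 0, 1, 1, 4, -2, -3, -1⟩, 9275),
  (⟨0, 0, 1, 1, 4, -2, -1, 1⟩, 2142),
  (⟨0, 0, 1, 1, 4, -2, 1, -1⟩, 8924),
  (⟨0, 0, 1, 1, 4, -2, 3, 1⟩, 9417),
  (⟨0, 0, 1, 1, 4, 2, -3, -1⟩, 7193),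
  (⟨0, 0, 1, 1, 4, 2, -1, 1⟩, 8790),
  (⟨0, 0, 1, 1, 4, 2, 1, -1⟩, 7378),
  (⟨0, 0, 1, 1, 4, 2, 3, 1⟩, 7321),
  (⟨0, 0, 1, 1, 6, 0, -3, -1⟩, 7839),
  (⟨0, 0, 1, 1, 6, 0, -1, 1⟩, 7865),
  (⟨0, 0, 1, 1, 6, 0, 1, -1⟩, 8890),
  (⟨0, 0, 1, 1, 6, 0, 3, 1⟩, 7886),
  (⟨0, 0, 1, 3, -3, 1, -2, 0⟩, 8509),
  (⟨0, 0, 1, 3, -3, 1, 2, 0⟩, 1970),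
  (⟨0, 0, 1, 3, -1, -1, -2, 0⟩, 6979),
  (⟨0, 0, 1, 3, -1, -1, 2, 0⟩, 7109),
  (⟨0, 0, 1, 3, 1, 1, -2, 0⟩, 7232),
  (⟨0, 0, 1, 3, 1, 1, 2, 0⟩, 7364),
  (⟨0, 0, 1, 3, 3, -1, -2, 0⟩, 2097),
  (⟨0, 0, 1, 3, 3, -1, 2, 0⟩, 8886),
  (⟨0, 0, 2, -2, -4, 0, -4, 0⟩, 7992),
  (⟨0, 0, 2, -2, -4, 0, -2, -2⟩, 1708),
  (⟨0, 0, 2, -2, -4, 0, -2, 2⟩, 6418),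
  (⟨0, 0, 2, -2, -4, 0, 0, 0⟩, 12255),
  (⟨0, 0, 2, -2, -4, 0, 2, -2⟩, 6548),
  (⟨0, 0, 2, -2, -4, 0, 2, 2⟩, 6442),
  (⟨0, 0, 2, -2, -4, 0, 4, 0⟩, 8136),
  (⟨0, 0, 2, -2, -2, -2, -4, 0⟩, 7936),
  (⟨0, 0, 2, -2, -2, -2, 0, 0⟩, 7984),
  (⟨0, 0, 2, -2, -2, -2, 4, 0⟩, 8064),
  (⟨0, 0, 2, -2, -2, 2, -4, 0⟩, 8205),
  (⟨0, 0, 2, -2, -2, 2, 0, 0⟩, 8292),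
  (⟨0, 0, 2, -2, -2, 2, 4, 0⟩, 8343),
  (⟨0, 0, 2, -2, 0, 0, -4, 0⟩, 8291),
  (⟨0, 0, 2, -2, 0, 0, -2, -2⟩, 1722),
  (⟨0, 0, 2, -2, 0, 0, -2, 2⟩, 6756),
  (⟨0, 0, 2, -2, 0, 0, 0, 0⟩, 12398),
  (⟨0, 0, 2, -2, 0, 0, 2, -2⟩, 1764),
  (⟨0, 0, 2, -2, 0, 0, 2, 2⟩, 1849),
  (⟨0, 0, 2, -2, 0, 0, 4, 0⟩, 8162),
  (⟨0, 0, 2, -2, 2, -2, -4, 0⟩, 7960),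
  (⟨0, 0, 2, -2, 2, -2, 0, 0⟩, 868),
  (⟨0, 0, 2, -2, 2, -2, 4, 0⟩, 8078),
  (⟨0, 0, 2, -2, 2, 2, -4, 0⟩, 8192),
  (⟨0, 0, 2, -2, 2, 2, 0, 0⟩, 8371),
  (⟨0, 0, 2, -2, 2, 2, 4, 0⟩, 8320),
  (⟨0, 0, 2, -2, 4, 0, -4, 0⟩, 8265),
  (⟨0, 0, 2, -2, 4, 0, -2, -2⟩, 6825),
  (⟨0, 0, 2, -2, 4, 0, -2, 2⟩, 6673),
  (⟨0, 0, 2, -2, 4, 0, 0, 0⟩, 12384),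
  (⟨0, 0, 2, -2, 4, 0, 2, -2⟩, 6803),
  (⟨0, 0, 2, -2, 4, 0, 2, 2⟩, 1831),
  (⟨0, 0, 2, -2, 4, 0, 4, 0⟩, 8379),
  (⟨0, 0, 2, 0, -7, -1, -1, -1⟩, 7434),
  (⟨0, 0, 2, 0, -7, -1, 1, 1⟩, 7428),
  (⟨0, 0, 2, 0, -5, 1, -5, -1⟩, 2237),
  (⟨0, 0, 2, 0, -5, 1, -3, 1⟩, 2273),
  (⟨0, 0, 2, 0, -5, 1, -1, -1⟩, 9058),
  (⟨0, 0, 2, 0, -5, 1, 1, 1⟩, 7523),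
  (⟨0, 0, 2, 0, -5, 1, 3, -1⟩, 7517),
  (⟨0, 0, 2, 0, -5, 1, 5, 1⟩, 2354),
  (⟨0, 0, 2, 0, -3, -1, -5, -1⟩, 7633),
  (⟨0, 0, 2, 0, -3, -1, -3, 1⟩, 8043),
  (⟨0, 0, 2, 0, -3, -1, -1, -1⟩, 4845),
  (⟨0, 0, 2, 0, -3, -1, -1, 3⟩, 1181),
  (⟨0, 0, 2, 0, -3, -1, 1, -3⟩, 8636),
  (⟨0, 0, 2, 0, -3, -1, 1, 1⟩, 5613),
  (⟨0, 0, 2, 0, -3, -1, 3, -1⟩, 8682),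
  (⟨0, 0, 2, 0, -3, -1, 5, 1⟩, 2387),
  (⟨0, 0, 2, 0, -3, 3, -1, -1⟩, 8983),
  (⟨0, 0, 2, 0, -3, 3, 1, 1⟩, 9101),
  (⟨0, 0, 2, 0, -1, -3, -3, 1⟩, 7988),
  (⟨0, 0, 2, 0, -1, -3, -1, -1⟩, 9247),
  (⟨0, 0, 2, 0, -1, -3, 1, 1⟩, 9422),
  (⟨0, 0, 2, 0, -1, -3, 3, -1⟩, 1308),
  (⟨0, 0, 2, 0, -1, 1, -7, 1⟩, 7567),
  (⟨0, 0, 2, 0, -1, 1, -5, -1⟩, 7640),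
  (⟨0, 0, 2, 0, -1, 1, -3, -3⟩, 8962),
  (⟨0, 0, 2, 0, -1, 1, -3, 1⟩, 4078),
  (⟨0, 0, 2, 0, -1, 1, -1, -1⟩, 9068),
  (⟨0, 0, 2, 0, -1, 1, -1, 3⟩, 9165),
  (⟨0, 0, 2, 0, -1, 1, 1, -3⟩, 8995),
  (⟨0, 0, 2, 0, -1, 1, 1, 1⟩, 9196),
  (⟨0, 0, 2, 0, -1, 1, 3, -1⟩, 2414),
  (⟨0, 0, 2, 0, -1, 1, 3, 3⟩, 9099),
  (⟨0, 0, 2, 0, -1, 1, 5, 1⟩, 9176),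
  (⟨0, 0, 2, 0, -1, 1, 7, -1⟩, 7702),
  (⟨0, 0, 2, 0, 1, -1, -7, 1⟩, 7573),
  (⟨0, 0, 2, 0, 1, -1, -5, -1⟩, 9305),
  (⟨0, 0, 2, 0, 1, -1, -3, -3⟩, 9228),
  (⟨0, 0, 2, 0, 1, -1, -3, 1⟩, 3566),
  (⟨0, 0, 2, 0, 1, -1, -1, -1⟩, 9324),
  (⟨0, 0, 2, 0, 1, -1, -1, 3⟩, 9380),
  (⟨0, 0, 2, 0, 1, -1, 1, -3⟩, 9292),
  (⟨0, 0, 2, 0, 1, -1, 1, 1⟩, 9452),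
  (⟨0, 0, 2, 0, 1, -1, 3, -1⟩, 1390),
  (⟨0, 0, 2, 0, 1, -1, 3, 3⟩, 9345),
  (⟨0, 0, 2, 0, 1, -1, 5, 1⟩, 7769),
  (⟨0, 0, 2, 0, 1, -1, 7, -1⟩, 7696),
  (⟨0, 0, 2, 0, 1, 3, -3, 1⟩, 1435),
  (⟨0, 0, 2, 0, 1, 3, -1, -1⟩, 9039),
  (⟨0, 0, 2, 0, 1, 3, 1, 1⟩, 9120),
  (⟨0, 0, 2, 0, 1, 3, 3, -1⟩, 8367),
  (⟨0, 0, 2, 0, 3, -3, -1, -1⟩, 9230),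
  (⟨0, 0, 2, 0, 3, -3, 1, 1⟩, 9368),
  (⟨0, 0, 2, 0, 3, 1, -5, -1⟩, 2518),
  (⟨0, 0, 2, 0, 3, 1, -3, 1⟩, 8809),
  (⟨0, 0, 2, 0, 3, 1, -1, -1⟩, 1645),
  (⟨0, 0, 2, 0, 3, 1, -1, 3⟩, 8759),
  (⟨0, 0, 2, 0, 3, 1, 1, -3⟩, 1562),
  (⟨0, 0, 2, 0, 3, 1, 1, 1⟩, 2669),
  (⟨0, 0, 2, 0, 3, 1, 3, -1⟩, 8424),
  (⟨0, 0, 2, 0, 3, 1, 5, 1⟩, 7762),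
  (⟨0, 0, 2, 0, 5, -1, -5, -1⟩, 2481),
  (⟨0, 0, 2, 0, 5, -1, -3, 1⟩, 7900),
  (⟨0, 0, 2, 0, 5, -1, -1, -1⟩, 7906),
  (⟨0, 0, 2, 0, 5, -1, 1, 1⟩, 9443),
  (⟨0, 0, 2, 0, 5, -1, 3, -1⟩, 2654),
  (⟨0, 0, 2, 0, 5, -1, 5, 1⟩, 2614),
  (⟨0, 0, 2, 0, 7, 1, -1, -1⟩, 7811),
  (⟨0, 0, 2, 0, 7, 1, 1, 1⟩, 7817),
  (⟨0, 0, 2, 2, -4, 0, -4, 0⟩, 8523),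
  (⟨0, 0, 2, 2, -4, 0, -2, -2⟩, 8588),
  (⟨0, 0, 2, 2, -4, 0, -2, 2⟩, 8448),
  (⟨0, 0, 2, 2, -4, 0, 0, 0⟩, 8537),
  (⟨0, 0, 2, 2, -4, 0, 2, -2⟩, 8576),
  (⟨0, 0, 2, 2, -4, 0, 2, 2⟩, 8449),
  (⟨0, 0, 2, 2, -4, 0, 4, 0⟩, 8622),
  (⟨0, 0, 2, 2, -2, -2, -4, 0⟩, 6918),
  (⟨0, 0, 2, 2, -2, -2, 0, 0⟩, 6999),
  (⟨0, 0, 2, 2, -2, -2, 4, 0⟩, 7048),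
  (⟨0, 0, 2, 2, -2, 2, -4, 0⟩, 7207),
  (⟨0, 0, 2, 2, -2, 2, 0, 0⟩, 1971),
  (⟨0, 0, 2, 2, -2, 2, 4, 0⟩, 1961),
  (⟨0, 0, 2, 2, 0, 0, -4, 0⟩, 10708),
  (⟨0, 0, 2, 2, 0, 0, -2, -2⟩, 983),
  (⟨0, 0, 2, 2, 0, 0, -2, 2⟩, 8761),
  (⟨0, 0, 2, 2, 0, 0, 0, 0⟩, 10733),
  (⟨0, 0, 2, 2, 0, 0, 2, -2⟩, 8634),
  (⟨0, 0, 2, 2, 0, 0, 2, 2⟩, 8535),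
  (⟨0, 0, 2, 2, 0, 0, 4, 0⟩, 10837),
  (⟨0, 0, 2, 2, 2, -2, -4, 0⟩, 2090),
  (⟨0, 0, 2, 2, 2, -2, 0, 0⟩, 2096),
  (⟨0, 0, 2, 2, 2, -2, 4, 0⟩, 7084),
  (⟨0, 0, 2, 2, 2, 2, -4, 0⟩, 7173),
  (⟨0, 0, 2, 2, 2, 2, 0, 0⟩, 2007),
  (⟨0, 0, 2, 2, 2, 2, 4, 0⟩, 7303),
  (⟨0, 0, 2, 2, 4, 0, -4, 0⟩, 8757),
  (⟨0, 0, 2, 2, 4, 0, -2, -2⟩, 8834),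
  (⟨0, 0, 2, 2, 4, 0, -2, 2⟩, 8704),
  (⟨0, 0, 2, 2, 4, 0, 0, 0⟩, 8920),
  (⟨0, 0, 2, 2, 4, 0, 2, -2⟩, 8832),
  (⟨0, 0, 2, 2, 4, 0, 2, 2⟩, 8715),
  (⟨0, 0, 2, 2, 4, 0, 4, 0⟩, 8906),
  (⟨0, 0, 3, -3, -1, -1, -2, 0⟩, 7953),
  (⟨0, 0, 3, -3, -1, -1, 2, 0⟩, 8083),
  (⟨0, 0, 3, -3, 1, 1, -2, 0⟩, 8210),
  (⟨0, 0, 3, -3, 1, 1, 2, 0⟩, 8340),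
  (⟨0, 0, 3, -1, -6, 0, -3, -1⟩, 2213),
  (⟨0, 0, 3, -1, -6, 0, -1, 1⟩, 7497),
  (⟨0, 0, 3, -1, -6, 0, 1, -1⟩, 7483),
  (⟨0, 0, 3, -1, -6, 0, 3, 1⟩, 7457),
  (⟨0, 0, 3, -1, -4, -2, -3, -1⟩, 7942),
  (⟨0, 0, 3, -1, -4, -2, -1, 1⟩, 7968),
  (⟨0, 0, 3, -1, -4, -2, 1, -1⟩, 8143),
  (⟨0, 0, 3, -1, -4, -2, 3, 1⟩, 8072),
  (⟨0, 0, 3, -1, -4, 2, -3, -1⟩, 8982),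
  (⟨0, 0, 3, -1, -4, 2, -1, 1⟩, 9168),
  (⟨0, 0, 3, -1, -4, 2, 1, -1⟩, 9040),
  (⟨0, 0, 3, -1, -4, 2, 3, 1⟩, 9103),
  (⟨0, 0, 3, -1, -2, 0, -5, 1⟩, 7646),
  (⟨0, 0, 3, -1, -2, 0, -3, -1⟩, 1771),
  (⟨0, 0, 3, -1, -2, 0, -1, -3⟩, 8989),
  (⟨0, 0, 3, -1, -2, 0, -1, 1⟩, 8046),
  (⟨0, 0, 3, -1, -2, 0, 1, -1⟩, 1774),
  (⟨0, 0, 3, -1, -2, 0, 1, 3⟩, 1852),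
  (⟨0, 0, 3, -1, -2, 0, 3, 1⟩, 2410),
  (⟨0, 0, 3, -1, -2, 0, 5, -1⟩, 2396),
  (⟨0, 0, 3, -1, 0, -2, -5, 1⟩, 7956),
  (⟨0, 0, 3, -1, 0, -2, -3, -1⟩, 9259),
  (⟨0, 0, 3, -1, 0, -2, -1, 1⟩, 8035),
  (⟨0, 0, 3, -1, 0, -2, 1, -1⟩, 9314),
  (⟨0, 0, 3, -1, 0, -2, 3, 1⟩, 8109),
  (⟨0, 0, 3, -1, 0, -2, 5, -1⟩, 8082),
  (⟨0, 0, 3, -1, 0, 2, -5, 1⟩, 8211),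
  (⟨0, 0, 3, -1, 0, 2, -3, -1⟩, 8230),
  (⟨0, 0, 3, -1, 0, 2, -1, 1⟩, 9187),
  (⟨0, 0, 3, -1, 0, 2, 1, -1⟩, 8418),
  (⟨0, 0, 3, -1, 0, 2, 3, 1⟩, 9128),
  (⟨0, 0, 3, -1, 0, 2, 5, -1⟩, 8337),
  (⟨0, 0, 3, -1, 2, 0, -5, 1⟩, 2525),
  (⟨0, 0, 3, -1, 2, 0, -3, -1⟩, 2537),
  (⟨0, 0, 3, -1, 2, 0, -1, -3⟩, 1719),
  (⟨0, 0, 3, -1, 2, 0, -1, 1⟩, 9454),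
  (⟨0, 0, 3, -1, 2, 0, 1, -1⟩, 2670),
  (⟨0, 0, 3, -1, 2, 0, 1, 3⟩, 9370),
  (⟨0, 0, 3, -1, 2, 0, 3, 1⟩, 1896),
  (⟨0, 0, 3, -1, 2, 0, 5, -1⟩, 7777),
  (⟨0, 0, 3, -1, 4, -2, -3, -1⟩, 9232),
  (⟨0, 0, 3, -1, 4, -2, -1, 1⟩, 9424),
  (⟨0, 0, 3, -1, 4, -2, 1, -1⟩, 9296),
  (⟨0, 0, 3, -1, 4, -2, 3, 1⟩, 9365),
  (⟨0, 0, 3, -1, 4, 2, -3, -1⟩, 8197),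
  (⟨0, 0, 3, -1, 4, 2, -1, 1⟩, 8270),
  (⟨0, 0, 3, -1, 4, 2, 1, -1⟩, 8351),
  (⟨0, 0, 3, -1, 4, 2, 3, 1⟩, 8327),
  (⟨0, 0, 3, -1, 6, 0, -3, -1⟩, 7838),
  (⟨0, 0, 3, -1, 6, 0, -1, 1⟩, 7864),
  (⟨0, 0, 3, -1, 6, 0, 1, -1⟩, 7880),
  (⟨0, 0, 3, -1, 6, 0, 3, 1⟩, 2594),
  (⟨0, 0, 3, 1, -5, -1, -2, 0⟩, 2258),
  (⟨0, 0, 3, 1, -5, -1, 0, -2⟩, 8583),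
  (⟨0, 0, 3, 1, -5, -1, 0, 2⟩, 8453),
  (⟨0, 0, 3, 1, -5, -1, 2, 0⟩, 7510),
  (⟨0, 0, 3, 1, -3, 1, -6, 0⟩, 7586),
  (⟨0, 0, 3, 1, -3, 1, -4, -2⟩, 8963),
  (⟨0, 0, 3, 1, -3, 1, -4, 2⟩, 8466),
  (⟨0, 0, 3, 1, -3, 1, -2, 0⟩, 2283),
  (⟨0, 0, 3, 1, -3, 1, 0, -2⟩, 8998),
  (⟨0, 0, 3, 1, -3, 1, 0, 2⟩, 8488),
  (⟨0, 0, 3, 1, -3, 1, 2, 0⟩, 2026),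
  (⟨0, 0, 3, 1, -3, 1, 4, -2⟩, 8596),
  (⟨0, 0, 3, 1, -3, 1, 4, 2⟩, 9097),
  (⟨0, 0, 3, 1, -3, 1, 6, 0⟩, 2334),
  (⟨0, 0, 3, 1, -1, -1, -6, 0⟩, 7598),
  (⟨0, 0, 3, 1, -1, -1, -4, -2⟩, 9241),
  (⟨0, 0, 3, 1, -1, -1, -4, 2⟩, 8524),
  (⟨0, 0, 3, 1, -1, -1, -2, 0⟩, 9325),
  (⟨0, 0, 3, 1, -1, -1, 0, -2⟩, 8665),
  (⟨0, 0, 3, 1, -1, -1, 0, 2⟩, 9433),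
  (⟨0, 0, 3, 1, -1, -1, 2, 0⟩, 8685),
  (⟨0, 0, 3, 1, -1, -1, 4, -2⟩, 8612),
  (⟨0, 0, 3, 1, -1, -1, 4, 2⟩, 9369),
  (⟨0, 0, 3, 1, -1, -1, 6, 0⟩, 7755),
  (⟨0, 0, 3, 1, -1, 3, -2, 0⟩, 1972),
  (⟨0, 0, 3, 1, -1, 3, 2, 0⟩, 9116),
  (⟨0, 0, 3, 1, 1, -3, -2, 0⟩, 9243),
  (⟨0, 0, 3, 1, 1, -3, 2, 0⟩, 2095),
  (⟨0, 0, 3, 1, 1, 1, -6, 0⟩, 7626),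
  (⟨0, 0, 3, 1, 1, 1, -4, -2⟩, 8985),
  (⟨0, 0, 3, 1, 1, 1, -4, 2⟩, 8739),
  (⟨0, 0, 3, 1, 1, 1, -2, 0⟩, 2541),
  (⟨0, 0, 3, 1, 1, 1, 0, -2⟩, 9048),
  (⟨0, 0, 3, 1, 1, 1, 0, 2⟩, 8792),
  (⟨0, 0, 3, 1, 1, 1, 2, 0⟩, 2029),
  (⟨0, 0, 3, 1, 1, 1, 4, -2⟩, 8909),
  (⟨0, 0, 3, 1, 1, 1, 4, 2⟩, 9113),
  (⟨0, 0, 3, 1, 1, 1, 6, 0⟩, 7733),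
  (⟨0, 0, 3, 1, 3, -1, -6, 0⟩, 2465),
  (⟨0, 0, 3, 1, 3, -1, -4, -2⟩, 9226),
  (⟨0, 0, 3, 1, 3, -1, -4, 2⟩, 8721),
  (⟨0, 0, 3, 1, 3, -1, -2, 0⟩, 2153),
  (⟨0, 0, 3, 1, 3, -1, 0, -2⟩, 8875),
  (⟨0, 0, 3, 1, 3, -1, 0, 2⟩, 9389),
  (⟨0, 0, 3, 1, 3, -1, 2, 0⟩, 2664),
  (⟨0, 0, 3, 1, 3, -1, 4, -2⟩, 8851),
  (⟨0, 0, 3, 1, 3, -1, 4, 2⟩, 9348),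
  (⟨0, 0, 3, 1, 3, -1, 6, 0⟩, 7717),
  (⟨0, 0, 3, 1, 5, 1, -2, 0⟩, 7891),
  (⟨0, 0, 3, 1, 5, 1, 0, -2⟩, 8840),
  (⟨0, 0, 3, 1, 5, 1, 0, 2⟩, 8710),
  (⟨0, 0, 3, 1, 5, 1, 2, 0⟩, 2641),
  (⟨0, 0, 3, 3, -2, 0, -1, 1⟩, 8456),
  (⟨0, 0, 3, 3, -2, 0, 1, -1⟩, 8582),
  (⟨0, 0, 3, 3, 2, 0, -1, 1⟩, 8711),
  (⟨0, 0, 3, 3, 2, 0, 1, -1⟩, 8837),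
  (⟨0, 0, 4, -2, -3, -1, -3, 1⟩, 7949),
  (⟨0, 0, 4, -2, -3, -1, -1, -1⟩, 7998),
  (⟨0, 0, 4, -2, -3, -1, 1, 1⟩, 8134),
  (⟨0, 0, 4, -2, -3, -1, 3, -1⟩, 8087),
  (⟨0, 0, 4, -2, -1, 1, -3, 1⟩, 8272),
  (⟨0, 0, 4, -2, -1, 1, -1, -1⟩, 8286),
  (⟨0, 0, 4, -2, -1, 1, 1, 1⟩, 1884),
  (⟨0, 0, 4, -2, -1, 1, 3, -1⟩, 8400),
  (⟨0, 0, 4, -2, 1, -1, -3, 1⟩, 8016),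
  (⟨0, 0, 4, -2, 1, -1, -1, -1⟩, 1757),
  (⟨0, 0, 4, -2, 1, -1, 1, 1⟩, 8161),
  (⟨0, 0, 4, -2, 1, -1, 3, -1⟩, 8144),
  (⟨0, 0, 4, -2, 3, 1, -3, 1⟩, 8216),
  (⟨0, 0, 4, -2, 3, 1, -1, -1⟩, 8255),
  (⟨0, 0, 4, -2, 3, 1, 1, 1⟩, 8391),
  (⟨0, 0, 4, -2, 3, 1, 3, -1⟩, 8334),
  (⟨0, 0, 4, 0, -4, 0, -4, 0⟩, 2221),
  (⟨0, 0, 4, 0, -4, 0, -2, -2⟩, 8991),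
  (⟨0, 0, 4, 0, -4, 0, -2, 2⟩, 8511),
  (⟨0, 0, 4, 0, -4, 0, 0, 0⟩, 2279),
  (⟨0, 0, 4, 0, -4, 0, 2, -2⟩, 8647),
  (⟨0, 0, 4, 0, -4, 0, 2, 2⟩, 9166),
  (⟨0, 0, 4, 0, -4, 0, 4, 0⟩, 2347),
  (⟨0, 0, 4, 0, -2, -2, -4, 0⟩, 8003),
  (⟨0, 0, 4, 0, -2, -2, -2, -2⟩, 9219),
  (⟨0, 0, 4, 0, -2, -2, -2, 2⟩, 1194),
  (⟨0, 0, 4, 0, -2, -2, 0, 0⟩, 5592),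
  (⟨0, 0, 4, 0, -2, -2, 2, -2⟩, 1324),
  (⟨0, 0, 4, 0, -2, -2, 2, 2⟩, 9353),
  (⟨0, 0, 4, 0, -2, -2, 4, 0⟩, 8133),
  (⟨0, 0, 4, 0, -2, 2, -4, 0⟩, 9037),
  (⟨0, 0, 4, 0, -2, 2, -2, -2⟩, 8960),
  (⟨0, 0, 4, 0, -2, 2, -2, 2⟩, 9110),
  (⟨0, 0, 4, 0, -2, 2, 0, 0⟩, 9184),
  (⟨0, 0, 4, 0, -2, 2, 2, -2⟩, 8975),
  (⟨0, 0, 4, 0, -2, 2, 2, 2⟩, 9088),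
  (⟨0, 0, 4, 0, -2, 2, 4, 0⟩, 9123),
  (⟨0, 0, 4, 0, 0, 0, -4, 0⟩, 2535),
  (⟨0, 0, 4, 0, 0, 0, -2, -2⟩, 9045),
  (⟨0, 0, 4, 0, 0, 0, -2, 2⟩, 4066),
  (⟨0, 0, 4, 0, 0, 0, 0, 0⟩, 9580),
  (⟨0, 0, 4, 0, 0, 0, 2, -2⟩, 4195),
  (⟨0, 0, 4, 0, 0, 0, 2, 2⟩, 9428),
  (⟨0, 0, 4, 0, 0, 0, 4, 0⟩, 2407),
  (⟨0, 0, 4, 0, 2, -2, -4, 0⟩, 9252),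
  (⟨0, 0, 4, 0, 2, -2, -2, -2⟩, 9216),
  (⟨0, 0, 4, 0, 2, -2, -2, 2⟩, 9360),
  (⟨0, 0, 4, 0, 2, -2, 0, 0⟩, 9311),
  (⟨0, 0, 4, 0, 2, -2, 2, -2⟩, 9237),
  (⟨0, 0, 4, 0, 2, -2, 2, 2⟩, 9344),
  (⟨0, 0, 4, 0, 2, -2, 4, 0⟩, 9420),
  (⟨0, 0, 4, 0, 2, 2, -4, 0⟩, 8256),
  (⟨0, 0, 4, 0, 2, 2, -2, -2⟩, 8970),
  (⟨0, 0, 4, 0, 2, 2, -2, 2⟩, 1447),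
  (⟨0, 0, 4, 0, 2, 2, 0, 0⟩, 5721),
  (⟨0, 0, 4, 0, 2, 2, 2, -2⟩, 1577),
  (⟨0, 0, 4, 0, 2, 2, 2, 2⟩, 9092),
  (⟨0, 0, 4, 0, 2, 2, 4, 0⟩, 8388),
  (⟨0, 0, 4, 0, 4, 0, -4, 0⟩, 2472),
  (⟨0, 0, 4, 0, 4, 0, -2, -2⟩, 9295),
  (⟨0, 0, 4, 0, 4, 0, -2, 2⟩, 8766),
  (⟨0, 0, 4, 0, 4, 0, 0, 0⟩, 2663),
  (⟨0, 0, 4, 0, 4, 0, 2, -2⟩, 8902),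
  (⟨0, 0, 4, 0, 4, 0, 2, 2⟩, 9376),
  (⟨0, 0, 4, 0, 4, 0, 4, 0⟩, 2598),
  (⟨0, 0, 4, 2, -3, -1, -3, 1⟩, 8460),
  (⟨0, 0, 4, 2, -3, -1, -1, -1⟩, 8601),
  (⟨0, 0, 4, 2, -3, -1, 1, 1⟩, 8473),
  (⟨0, 0, 4, 2, -3, -1, 3, -1⟩, 8577),
  (⟨0, 0, 4, 2, -1, 1, -3, 1⟩, 8517),
  (⟨0, 0, 4, 2, -1, 1, -1, -1⟩, 2002),
  (⟨0, 0, 4, 2, -1, 1, 1, 1⟩, 8534),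
  (⟨0, 0, 4, 2, -1, 1, 3, -1⟩, 8643),
  (⟨0, 0, 4, 2, 1, -1, -3, 1⟩, 8772),
  (⟨0, 0, 4, 2, 1, -1, -1, -1⟩, 8915),
  (⟨0, 0, 4, 2, 1, -1, 1, 1⟩, 2129),
  (⟨0, 0, 4, 2, 1, -1, 3, -1⟩, 8896),
  (⟨0, 0, 4, 2, 3, 1, -3, 1⟩, 8706),
  (⟨0, 0, 4, 2, 3, 1, -1, -1⟩, 8857),
  (⟨0, 0, 4, 2, 3, 1, 1, 1⟩, 8729),
  (⟨0, 0, 4, 2, 3, 1, 3, -1⟩, 8843),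
  (⟨0, 0, 5, -1, -5, -1, -2, 0⟩, 2205),
  (⟨0, 0, 5, -1, -5, -1, 2, 0⟩, 2364),
  (⟨0, 0, 5, -1, -3, 1, -2, 0⟩, 2269),
  (⟨0, 0, 5, -1, -3, 1, 0, -2⟩, 8974),
  (⟨0, 0, 5, -1, -3, 1, 0, 2⟩, 9112),
  (⟨0, 0, 5, -1, -3, 1, 2, 0⟩, 2401),
  (⟨0, 0, 5, -1, -1, -1, -2, 0⟩, 8038),
  (⟨0, 0, 5, -1, -1, -1, 0, -2⟩, 9288),
  (⟨0, 0, 5, -1, -1, -1, 0, 2⟩, 9400),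
  (⟨0, 0, 5, -1, -1, -1, 2, 0⟩, 9573),
  (⟨0, 0, 5, -1, 1, 1, -2, 0⟩, 8293),
  (⟨0, 0, 5, -1, 1, 1, 0, -2⟩, 9019),
  (⟨0, 0, 5, -1, 1, 1, 0, 2⟩, 9161),
  (⟨0, 0, 5, -1, 1, 1, 2, 0⟩, 9574),
  (⟨0, 0, 5, -1, 3, -1, -2, 0⟩, 2526),
  (⟨0, 0, 5, -1, 3, -1, 0, -2⟩, 9239),
  (⟨0, 0, 5, -1, 3, -1, 0, 2⟩, 9357),
  (⟨0, 0, 5, -1, 3, -1, 2, 0⟩, 2652),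
  (⟨0, 0, 5, -1, 5, 1, -2, 0⟩, 2487),
  (⟨0, 0, 5, -1, 5, 1, 2, 0⟩, 2586),
  (⟨0, 0, 5, 1, -2, 0, -5, 1⟩, 2228),
  (⟨0, 0, 5, 1, -2, 0, -3, -1⟩, 2262),
  (⟨0, 0, 5, 1, -2, 0, -1, 1⟩, 8539),
  (⟨0, 0, 5, 1, -2, 0, 1, -1⟩, 9562),
  (⟨0, 0, 5, 1, -2, 0, 3, 1⟩, 2386),
  (⟨0, 0, 5, 1, -2, 0, 5, -1⟩, 2332),
  (⟨0, 0, 5, 1, 0, -2, -3, -1⟩, 9217),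
  (⟨0, 0, 5, 1, 0, -2, -1, 1⟩, 9419),
  (⟨0, 0, 5, 1, 0, -2, 1, -1⟩, 9262),
  (⟨0, 0, 5, 1, 0, -2, 3, 1⟩, 9356),
  (⟨0, 0, 5, 1, 0, 2, -3, -1⟩, 8971),
  (⟨0, 0, 5, 1, 0, 2, -1, 1⟩, 9141),
  (⟨0, 0, 5, 1, 0, 2, 1, -1⟩, 9034),
  (⟨0, 0, 5, 1, 0, 2, 3, 1⟩, 9090),
  (⟨0, 0, 5, 1, 2, 0, -5, 1⟩, 2459),
  (⟨0, 0, 5, 1, 2, 0, -3, -1⟩, 2513),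
  (⟨0, 0, 5, 1, 2, 0, -1, 1⟩, 8794),
  (⟨0, 0, 5, 1, 2, 0, 1, -1⟩, 9563),
  (⟨0, 0, 5, 1, 2, 0, 3, 1⟩, 2643),
  (⟨0, 0, 5, 1, 2, 0, 5, -1⟩, 2607),
  (⟨0, 0, 6, -2, 0, 0, 0, 0⟩, 9552),
  (⟨0, 0, 6, 0, -3, -1, -3, 1⟩, 2209),
  (⟨0, 0, 6, 0, -3, -1, -1, -1⟩, 9540),
  (⟨0, 0, 6, 0, -3, -1, 1, 1⟩, 9536),
  (⟨0, 0, 6, 0, -3, -1, 3, -1⟩, 2341),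
  (⟨0, 0, 6, 0, -1, 1, -3, 1⟩, 9542),
  (⟨0, 0, 6, 0, -1, 1, -1, -1⟩, 9026),
  (⟨0, 0, 6, 0, -1, 1, 1, 1⟩, 9537),
  (⟨0, 0, 6, 0, -1, 1, 3, -1⟩, 9534),
  (⟨0, 0, 6, 0, 1, -1, -3, 1⟩, 9543),
  (⟨0, 0, 6, 0, 1, -1, -1, -1⟩, 9281),
  (⟨0, 0, 6, 0, 1, -1, 1, 1⟩, 9538),
  (⟨0, 0, 6, 0, 1, -1, 3, -1⟩, 9535),
  (⟨0, 0, 6, 0, 3, 1, -3, 1⟩, 2466),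
  (⟨0, 0, 6, 0, 3, 1, -1, -1⟩, 9541),
  (⟨0, 0, 6, 0, 3, 1, 1, 1⟩, 9539),
  (⟨0, 0, 6, 0, 3, 1, 3, -1⟩, 2590),
  (⟨0, 0, 6, 2, 0, 0, 0, 0⟩, 9497),
  (⟨0, 0, 7, -1, -2, 0, -1, 1⟩, 9491),
  (⟨0, 0, 7, -1, -2, 0, 1, -1⟩, 9489),
  (⟨0, 0, 7, -1, 2, 0, -1, 1⟩, 9492),
  (⟨0, 0, 7, -1, 2, 0, 1, -1⟩, 9490),
  (⟨0, 0, 7, 1, -1, -1, -2, 0⟩, 9479),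
  (⟨0, 0, 7, 1, -1, -1, 2, 0⟩, 9477),
  (⟨0, 0, 7, 1, 1, 1, -2, 0⟩, 9480),
  (⟨0, 0, 7, 1, 1, 1, 2, 0⟩, 9478),
  (⟨0, 0, 8, 0, 0, 0, 0, 0⟩, 9472),
  (⟨0, 2, -6, 0, -2, 0, -2, 0⟩, 9654),
  (⟨0, 2, -6, 0, -2, 0, 2, 0⟩, 9639),
  (⟨0, 2, -6, 0, 2, 0, -2, 0⟩, 9772),
  (⟨0, 2, -6, 0, 2, 0, 2, 0⟩, 9789),
  (⟨0, 2, -5, -1, -3, -1, 0, 0⟩, 9605),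
  (⟨0, 2, -5, -1, -1, 1, 0, 0⟩, 9797),
  (⟨0, 2, -5, -1, 1, -1, 0, 0⟩, 9664),
  (⟨0, 2, -5, -1, 3, 1, 0, 0⟩, 9736),
  (⟨0, 2, -5, 1, 0, 0, -3, 1⟩, 2708),
  (⟨0, 2, -5, 1, 0, 0, -1, -1⟩, 2878),
  (⟨0, 2, -5, 1, 0, 0, 1, 1⟩, 2759),
  (⟨0, 2, -5, 1, 0, 0, 3, -1⟩, 2833),
  (⟨0, 2, -4, -2, -2, 0, -2, 0⟩, 9858),
  (⟨0, 2, -4, -2, -2, 0, 2, 0⟩, 9990),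
  (⟨0, 2, -4, -2, 2, 0, -2, 0⟩, 9863),
  (⟨0, 2, -4, -2, 2, 0, 2, 0⟩, 9985),
  (⟨0, 2, -4, 0, -3, 1, -3, -1⟩, 3261),
  (⟨0, 2, -4, 0, -3, 1, -1, 1⟩, 2747),
  (⟨0, 2, -4, 0, -3, 1, 1, -1⟩, 2892),
  (⟨0, 2, -4, 0, -3, 1, 3, 1⟩, 10274),
  (⟨0, 2, -4, 0, -1, -1, -3, -1⟩, 9674),
  (⟨0, 2, -4, 0, -1, -1, -1, 1⟩, 9638),
  (⟨0, 2, -4, 0, -1, -1, 1, -1⟩, 9666),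
  (⟨0, 2, -4, 0, -1, -1, 3, 1⟩, 9631),
  (⟨0, 2, -4, 0, 1, 1, -3, -1⟩, 9760),
  (⟨0, 2, -4, 0, 1, 1, -1, 1⟩, 2754),
  (⟨0, 2, -4, 0, 1, 1, 1, -1⟩, 9773),
  (⟨0, 2, -4, 0, 1, 1, 3, 1⟩, 9803),
  (⟨0, 2, -4, 0, 3, -1, -3, -1⟩, 10405),
  (⟨0, 2, -4, 0, 3, -1, -1, 1⟩, 2765),
  (⟨0, 2, -4, 0, 3, -1, 1, -1⟩, 2872),
  (⟨0, 2, -4, 0, 3, -1, 3, 1⟩, 3638),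
  (⟨0, 2, -4, 2, -2, 0, -2, 0⟩, 2967),
  (⟨0, 2, -4, 2, -2, 0, 2, 0⟩, 2963),
  (⟨0, 2, -4, 2, 2, 0, -2, 0⟩, 3090),
  (⟨0, 2, -4, 2, 2, 0, 2, 0⟩, 3096),
  (⟨0, 2, -3, -1, -4, 0, -3, 1⟩, 9884),
  (⟨0, 2, -3, -1, -4, 0, -1, -1⟩, 10180),
  (⟨0, 2, -3, -1, -4, 0, 1, 1⟩, 10314),
  (⟨0, 2, -3, -1, -4, 0, 3, -1⟩, 6558),
  (⟨0, 2, -3, -1, -2, -2, -1, -1⟩, 9611),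
  (⟨0, 2, -3, -1, -2, -2, 1, 1⟩, 9603),
  (⟨0, 2, -3, -1, -2, 2, -1, -1⟩, 9777),
  (⟨0, 2, -3, -1, -2, 2, 1, 1⟩, 6068),
  (⟨0, 2, -3, -1, 0, 0, -5, -1⟩, 9857),
  (⟨0, 2, -3, -1, 0, 0, -3, 1⟩, 9899),
  (⟨0, 2, -3, -1, 0, 0, -1, -1⟩, 9941),
  (⟨0, 2, -3, -1, 0, 0, 1, 1⟩, 10068),
  (⟨0, 2, -3, -1, 0, 0, 3, -1⟩, 10024),
  (⟨0, 2, -3, -1, 0, 0, 5, 1⟩, 9986),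
  (⟨0, 2, -3, -1, 2, -2, -1, -1⟩, 6191),
  (⟨0, 2, -3, -1, 2, -2, 1, 1⟩, 9650),
  (⟨0, 2, -3, -1, 2, 2, -1, -1⟩, 9732),
  (⟨0, 2, -3, -1, 2, 2, 1, 1⟩, 9740),
  (⟨0, 2, -3, -1, 4, 0, -3, 1⟩, 6689),
  (⟨0, 2, -3, -1, 4, 0, -1, -1⟩, 10443),
  (⟨0, 2, -3, -1, 4, 0, 1, 1⟩, 10563),
  (⟨0, 2, -3, -1, 4, 0, 3, -1⟩, 10011),
  (⟨0, 2, -3, 1, -5, 1, 0, 0⟩, 2968),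
  (⟨0, 2, -3, 1, -3, -1, -4, 0⟩, 9655),
  (⟨0, 2, -3, 1, -3, -1, 0, 0⟩, 9640),
  (⟨0, 2, -3, 1, -3, -1, 4, 0⟩, 9633),
  (⟨0, 2, -3, 1, -1, 1, -4, 0⟩, 3270),
  (⟨0, 2, -3, 1, -1, 1, -2, -2⟩, 5938),
  (⟨0, 2, -3, 1, -1, 1, -2, 2⟩, 2702),
  (⟨0, 2, -3, 1, -1, 1, 0, 0⟩, 9824),
  (⟨0, 2, -3, 1, -1, 1, 2, -2⟩, 2837),
  (⟨0, 2, -3, 1, -1, 1, 2, 2⟩, 10266),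
  (⟨0, 2, -3, 1, -1, 1, 4, 0⟩, 3384),
  (⟨0, 2, -3, 1, 1, -1, -4, 0⟩, 3515),
  (⟨0, 2, -3, 1, 1, -1, -2, -2⟩, 10397),
  (⟨0, 2, -3, 1, 1, -1, -2, 2⟩, 2710),
  (⟨0, 2, -3, 1, 1, -1, 0, 0⟩, 9695),
  (⟨0, 2, -3, 1, 1, -1, 2, -2⟩, 2829),
  (⟨0, 2, -3, 1, 1, -1, 2, 2⟩, 6321),
  (⟨0, 2, -3, 1, 1, -1, 4, 0⟩, 3647),
  (⟨0, 2, -3, 1, 3, 1, -4, 0⟩, 9758),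
  (⟨0, 2, -3, 1, 3, 1, 0, 0⟩, 9771),
  (⟨0, 2, -3, 1, 3, 1, 4, 0⟩, 9788),
  (⟨0, 2, -3, 1, 5, -1, 0, 0⟩, 3095),
  (⟨0, 2, -2, -2, -3, 1, -1, 1⟩, 6427),
  (⟨0, 2, -2, -2, -3, 1, 1, -1⟩, 6578),
  (⟨0, 2, -2, -2, -1, -1, -3, -1⟩, 9860),
  (⟨0, 2, -2, -2, -1, -1, -1, 1⟩, 9909),
  (⟨0, 2, -2, -2, -1, -1, 1, -1⟩, 10051),
  (⟨0, 2, -2, -2, -1, -1, 3, 1⟩, 9992),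
  (⟨0, 2, -2, -2, 1, 1, -3, -1⟩, 9861),
  (⟨0, 2, -2, -2, 1, 1, -1, 1⟩, 9924),
  (⟨0, 2, -2, -2, 1, 1, 1, -1⟩, 10030),
  (⟨0, 2, -2, -2, 1, 1, 3, 1⟩, 9987),
  (⟨0, 2, -2, -2, 3, -1, -1, 1⟩, 6705),
  (⟨0, 2, -2, -2, 3, -1, 1, -1⟩, 6812),
  (⟨0, 2, -2, 0, -6, 0, -2, 0⟩, 10159),
  (⟨0, 2, -2, 0, -6, 0, 2, 0⟩, 7465),
  (⟨0, 2, -2, 0, -4, -2, -2, 0⟩, 9606),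
  (⟨0, 2, -2, 0, -4, -2, 2, 0⟩, 9604),
  (⟨0, 2, -2, 0, -4, 2, -2, 0⟩, 3216),
  (⟨0, 2, -2, 0, -4, 2, 2, 0⟩, 3351),
  (⟨0, 2, -2, 0, -2, 0, -6, 0⟩, 9882),
  (⟨0, 2, -2, 0, -2, 0, -4, -2⟩, 10121),
  (⟨0, 2, -2, 0, -2, 0, -4, 2⟩, 2706),
  (⟨0, 2, -2, 0, -2, 0, -2, 0⟩, 9959),
  (⟨0, 2, -2, 0, -2, 0, 0, -2⟩, 10169),
  (⟨0, 2, -2, 0, -2, 0, 0, 2⟩, 10305),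
  (⟨0, 2, -2, 0, -2, 0, 2, 0⟩, 10089),
  (⟨0, 2, -2, 0, -2, 0, 4, -2⟩, 2838),
  (⟨0, 2, -2, 0, -2, 0, 4, 2⟩, 10241),
  (⟨0, 2, -2, 0, -2, 0, 6, 0⟩, 10026),
  (⟨0, 2, -2, 0, 0, -2, -2, 0⟩, 9665),
  (⟨0, 2, -2, 0, 0, -2, 0, -2⟩, 2860),
  (⟨0, 2, -2, 0, 0, -2, 0, 2⟩, 9630),
  (⟨0, 2, -2, 0, 0, -2, 2, 0⟩, 9651),
  (⟨0, 2, -2, 0, 0, 2, -2, 0⟩, 9776),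
  (⟨0, 2, -2, 0, 0, 2, 0, -2⟩, 9761),
  (⟨0, 2, -2, 0, 0, 2, 0, 2⟩, 2727),
  (⟨0, 2, -2, 0, 0, 2, 2, 0⟩, 3393),
  (⟨0, 2, -2, 0, 2, 0, -6, 0⟩, 9897),
  (⟨0, 2, -2, 0, 2, 0, -4, -2⟩, 10370),
  (⟨0, 2, -2, 0, 2, 0, -4, 2⟩, 2709),
  (⟨0, 2, -2, 0, 2, 0, -2, 0⟩, 9962),
  (⟨0, 2, -2, 0, 2, 0, 0, -2⟩, 2881),
  (⟨0, 2, -2, 0, 2, 0, 0, 2⟩, 10554),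
  (⟨0, 2, -2, 0, 2, 0, 2, 0⟩, 10087),
  (⟨0, 2, -2, 0, 2, 0, 4, -2⟩, 2835),
  (⟨0, 2, -2, 0, 2, 0, 4, 2⟩, 10506),
  (⟨0, 2, -2, 0, 2, 0, 6, 0⟩, 10013),
  (⟨0, 2, -2, 0, 4, -2, -2, 0⟩, 3480),
  (⟨0, 2, -2, 0, 4, -2, 2, 0⟩, 3599),
  (⟨0, 2, -2, 0, 4, 2, -2, 0⟩, 9731),
  (⟨0, 2, -2, 0, 4, 2, 2, 0⟩, 9735),
  (⟨0, 2, -2, 0, 6, 0, -2, 0⟩, 7850),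
  (⟨0, 2, -2, 0, 6, 0, 2, 0⟩, 10548),
  (⟨0, 2, -2, 2, -3, 1, -1, 1⟩, 2965),
  (⟨0, 2, -2, 2, -3, 1, 1, -1⟩, 2964),
  (⟨0, 2, -2, 2, -1, -1, -3, -1⟩, 10684),
  (⟨0, 2, -2, 2, -1, -1, -1, 1⟩, 3016),
  (⟨0, 2, -2, 2, -1, -1, 1, -1⟩, 3014),
  (⟨0, 2, -2, 2, -1, -1, 3, 1⟩, 2994),
  (⟨0, 2, -2, 2, 1, 1, -3, -1⟩, 3121),
  (⟨0, 2, -2, 2, 1, 1, -1, 1⟩, 3135),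
  (⟨0, 2, -2, 2, 1, 1, 1, -1⟩, 3145),
  (⟨0, 2, -2, 2, 1, 1, 3, 1⟩, 10807),
  (⟨0, 2, -2, 2, 3, -1, -1, 1⟩, 3089),
  (⟨0, 2, -2, 2, 3, -1, 1, -1⟩, 3094),
  (⟨0, 2, -1, -1, -5, 1, 0, 0⟩, 3768),
  (⟨0, 2, -1, -1, -3, -1, -4, 0⟩, 9888),
  (⟨0, 2, -1, -1, -3, -1, -2, -2⟩, 10119),
  (⟨0, 2, -1, -1, -3, -1, -2, 2⟩, 6452),
  (⟨0, 2, -1, -1, -3, -1, 0, 0⟩, 3801),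
  (⟨0, 2, -1, -1, -3, -1, 2, -2⟩, 6554),
  (⟨0, 2, -1, -1, -3, -1, 2, 2⟩, 10251),
  (⟨0, 2, -1, -1, -3, -1, 4, 0⟩, 10053),
  (⟨0, 2, -1, -1, -1, 1, -4, 0⟩, 9894),
  (⟨0, 2, -1, -1, -1, 1, -2, -2⟩, 10190),
  (⟨0, 2, -1, -1, -1, 1, -2, 2⟩, 2751),
  (⟨0, 2, -1, -1, -1, 1, 0, 0⟩, 9960),
  (⟨0, 2, -1, -1, -1, 1, 2, -2⟩, 2893),
  (⟨0, 2, -1, -1, -1, 1, 2, 2⟩, 10286),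
  (⟨0, 2, -1, -1, -1, 1, 4, 0⟩, 10032),
  (⟨0, 2, -1, -1, 1, -1, -4, 0⟩, 9907),
  (⟨0, 2, -1, -1, 1, -1, -2, -2⟩, 10421),
  (⟨0, 2, -1, -1, 1, -1, -2, 2⟩, 2764),
  (⟨0, 2, -1, -1, 1, -1, 0, 0⟩, 10091),
  (⟨0, 2, -1, -1, 1, -1, 2, -2⟩, 2886),
  (⟨0, 2, -1, -1, 1, -1, 2, 2⟩, 10575),
  (⟨0, 2, -1, -1, 1, -1, 4, 0⟩, 10029),
  (⟨0, 2, -1, -1, 3, 1, -4, 0⟩, 9920),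
  (⟨0, 2, -1, -1, 3, 1, -2, -2⟩, 10380),
  (⟨0, 2, -1, -1, 3, 1, -2, 2⟩, 6685),
  (⟨0, 2, -1, -1, 3, 1, 0, 0⟩, 3928),
  (⟨0, 2, -1, -1, 3, 1, 2, -2⟩, 6831),
  (⟨0, 2, -1, -1, 3, 1, 2, 2⟩, 10502),
  (⟨0, 2, -1, -1, 3, 1, 4, 0⟩, 10015),
  (⟨0, 2, -1, -1, 5, -1, 0, 0⟩, 3899),
  (⟨0, 2, -1, 1, -4, 0, -3, 1⟩, 3020),
  (⟨0, 2, -1, 1, -4, 0, -1, -1⟩, 10150),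
  (⟨0, 2, -1, 1, -4, 0, 1, 1⟩, 10298),
  (⟨0, 2, -1, 1, -4, 0, 3, -1⟩, 3015),
  (⟨0, 2, -1, 1, -2, -2, -3, 1⟩, 3485),
  (⟨0, 2, -1, 1, -2, -2, -1, -1⟩, 9667),
  (⟨0, 2, -1, 1, -2, -2, 1, 1⟩, 9632),
  (⟨0, 2, -1, 1, -2, -2, 3, -1⟩, 9652),
  (⟨0, 2, -1, 1, -2, 2, -3, 1⟩, 3219),
  (⟨0, 2, -1, 1, -2, 2, -1, -1⟩, 3236),
  (⟨0, 2, -1, 1, -2, 2, 1, 1⟩, 3400),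
  (⟨0, 2, -1, 1, -2, 2, 3, -1⟩, 3341),
  (⟨0, 2, -1, 1, 0, 0, -5, -1⟩, 10699),
  (⟨0, 2, -1, 1, 0, 0, -3, 1⟩, 2787),
  (⟨0, 2, -1, 1, 0, 0, -1, -1⟩, 10472),
  (⟨0, 2, -1, 1, 0, 0, 1, 1⟩, 10347),
  (⟨0, 2, -1, 1, 0, 0, 3, -1⟩, 2914),
  (⟨0, 2, -1, 1, 0, 0, 5, 1⟩, 10826),
  (⟨0, 2, -1, 1, 2, -2, -3, 1⟩, 3470),
  (⟨0, 2, -1, 1, 2, -2, -1, -1⟩, 3529),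
  (⟨0, 2, -1, 1, 2, -2, 1, 1⟩, 3619),
  (⟨0, 2, -1, 1, 2, -2, 3, -1⟩, 3602),
  (⟨0, 2, -1, 1, 2, 2, -3, 1⟩, 9775),
  (⟨0, 2, -1, 1, 2, 2, -1, -1⟩, 9759),
  (⟨0, 2, -1, 1, 2, 2, 1, 1⟩, 9796),
  (⟨0, 2, -1, 1, 2, 2, 3, -1⟩, 3354),
  (⟨0, 2, -1, 1, 4, 0, -3, 1⟩, 3134),
  (⟨0, 2, -1, 1, 4, 0, -1, -1⟩, 10425),
  (⟨0, 2, -1, 1, 4, 0, 1, 1⟩, 10541),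
  (⟨0, 2, -1, 1, 4, 0, 3, -1⟩, 3149),
  (⟨0, 2, 0, -2, -2, 0, -2, 0⟩, 9904),
  (⟨0, 2, 0, -2, -2, 0, 0, -2⟩, 6569),
  (⟨0, 2, 0, -2, -2, 0, 0, 2⟩, 6433),
  (⟨0, 2, 0, -2, -2, 0, 2, 0⟩, 3769),
  (⟨0, 2, 0, -2, 0, -2, -2, 0⟩, 7975),
  (⟨0, 2, 0, -2, 0, -2, 2, 0⟩, 8098),
  (⟨0, 2, 0, -2, 0, 2, -2, 0⟩, 8229),
  (⟨0, 2, 0, -2, 0, 2, 2, 0⟩, 8364),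
  (⟨0, 2, 0, -2, 2, 0, -2, 0⟩, 3898),
  (⟨0, 2, 0, -2, 2, 0, 0, -2⟩, 6814),
  (⟨0, 2, 0, -2, 2, 0, 0, 2⟩, 6698),
  (⟨0, 2, 0, -2, 2, 0, 2, 0⟩, 10035),
  (⟨0, 2, 0, 0, -5, -1, -3, -1⟩, 10115),
  (⟨0, 2, 0, 0, -5, -1, -1, 1⟩, 10319),
  (⟨0, 2, 0, 0, -5, -1, 1, -1⟩, 10143),
  (⟨0, 2, 0, 0, -5, -1, 3, 1⟩, 10250),
  (⟨0, 2, 0, 0, -3, 1, -5, 1⟩, 3222),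
  (⟨0, 2, 0, 0, -3, 1, -3, -1⟩, 3245),
  (⟨0, 2, 0, 0, -3, 1, -1, 1⟩, 10342),
  (⟨0, 2, 0, 0, -3, 1, 1, -1⟩, 10213),
  (⟨0, 2, 0, 0, -3, 1, 3, 1⟩, 10280),
  (⟨0, 2, 0, 0, -3, 1, 5, -1⟩, 3344),
  (⟨0, 2, 0, 0, -1, -1, -5, 1⟩, 3491),
  (⟨0, 2, 0, 0, -1, -1, -3, -1⟩, 3547),
  (⟨0, 2, 0, 0, -1, -1, -1, 1⟩, 3560),
  (⟨0, 2, 0, 0, -1, -1, 1, -1⟩, 10218),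
  (⟨0, 2, 0, 0, -1, -1, 3, 1⟩, 3674),
  (⟨0, 2, 0, 0, -1, -1, 5, -1⟩, 3660),
  (⟨0, 2, 0, 0, 1, 1, -5, 1⟩, 3277),
  (⟨0, 2, 0, 0, 1, 1, -3, -1⟩, 10458),
  (⟨0, 2, 0, 0, 1, 1, -1, 1⟩, 10601),
  (⟨0, 2, 0, 0, 1, 1, 1, -1⟩, 3435),
  (⟨0, 2, 0, 0, 1, 1, 3, 1⟩, 10587),
  (⟨0, 2, 0, 0, 1, 1, 5, -1⟩, 3364),
  (⟨0, 2, 0, 0, 3, -1, -5, 1⟩, 3471),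
  (⟨0, 2, 0, 0, 3, -1, -3, -1⟩, 10411),
  (⟨0, 2, 0, 0, 3, -1, -1, 1⟩, 3557),
  (⟨0, 2, 0, 0, 3, -1, 1, -1⟩, 3686),
  (⟨0, 2, 0, 0, 3, -1, 3, 1⟩, 3622),
  (⟨0, 2, 0, 0, 3, -1, 5, -1⟩, 3605),
  (⟨0, 2, 0, 0, 5, 1, -3, -1⟩, 10377),
  (⟨0, 2, 0, 0, 5, 1, -1, 1⟩, 10528),
  (⟨0, 2, 0, 0, 5, 1, 1, -1⟩, 10446),
  (⟨0, 2, 0, 0, 5, 1, 3, 1⟩, 10500),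
  (⟨0, 2, 0, 2, -2, 0, -2, 0⟩, 10681),
  (⟨0, 2, 0, 2, -2, 0, 0, -2⟩, 10146),
  (⟨0, 2, 0, 2, -2, 0, 0, 2⟩, 10284),
  (⟨0, 2, 0, 2, -2, 0, 2, 0⟩, 2995),
  (⟨0, 2, 0, 2, 0, -2, -2, 0⟩, 3489),
  (⟨0, 2, 0, 2, 0, -2, 2, 0⟩, 3626),
  (⟨0, 2, 0, 2, 0, 2, -2, 0⟩, 3241),
  (⟨0, 2, 0, 2, 0, 2, 2, 0⟩, 3358),
  (⟨0, 2, 0, 2, 2, 0, -2, 0⟩, 3120),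
  (⟨0, 2, 0, 2, 2, 0, 0, -2⟩, 10407),
  (⟨0, 2, 0, 2, 2, 0, 0, 2⟩, 10533),
  (⟨0, 2, 0, 2, 2, 0, 2, 0⟩, 10810),
  (⟨0, 2, 1, -1, -4, 0, -3, 1⟩, 3782),
  (⟨0, 2, 1, -1, -4, 0, -1, -1⟩, 3770),
  (⟨0, 2, 1, -1, -4, 0, 1, 1⟩, 3755),
  (⟨0, 2, 1, -1, -4, 0, 3, -1⟩, 3747),
  (⟨0, 2, 1, -1, -2, -2, -3, 1⟩, 7963),
  (⟨0, 2, 1, -1, -2, -2, -1, -1⟩, 10958),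
  (⟨0, 2, 1, -1, -2, -2, 1, 1⟩, 10944),
  (⟨0, 2, 1, -1, -2, -2, 3, -1⟩, 8119),
  (⟨0, 2, 1, -1, -2, 2, -3, 1⟩, 3224),
  (⟨0, 2, 1, -1, -2, 2, -1, -1⟩, 3259),
  (⟨0, 2, 1, -1, -2, 2, 1, 1⟩, 3405),
  (⟨0, 2, 1, -1, -2, 2, 3, -1⟩, 3348),
  (⟨0, 2, 1, -1, 0, 0, -5, -1⟩, 9902),
  (⟨0, 2, 1, -1, 0, 0, -3, 1⟩, 9954),
  (⟨0, 2, 1, -1, 0, 0, -1, -1⟩, 3945),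
  (⟨0, 2, 1, -1, 0, 0, 1, 1⟩, 3818),
  (⟨0, 2, 1, -1, 0, 0, 3, -1⟩, 10083),
  (⟨0, 2, 1, -1, 0, 0, 5, 1⟩, 10037),
  (⟨0, 2, 1, -1, 2, -2, -3, 1⟩, 3473),
  (⟨0, 2, 1, -1, 2, -2, -1, -1⟩, 3532),
  (⟨0, 2, 1, -1, 2, -2, 1, 1⟩, 3640),
  (⟨0, 2, 1, -1, 2, -2, 3, -1⟩, 3607),
  (⟨0, 2, 1, -1, 2, 2, -3, 1⟩, 8252),
  (⟨0, 2, 1, -1, 2, 2, -1, -1⟩, 11077),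
  (⟨0, 2, 1, -1, 2, 2, 1, 1⟩, 11087),
  (⟨0, 2, 1, -1, 2, 2, 3, -1⟩, 8348),
  (⟨0, 2, 1, -1, 4, 0, -3, 1⟩, 3876),
  (⟨0, 2, 1, -1, 4, 0, -1, -1⟩, 3880),
  (⟨0, 2, 1, -1, 4, 0, 1, 1⟩, 3897),
  (⟨0, 2, 1, -1, 4, 0, 3, -1⟩, 3903),
  (⟨0, 2, 1, 1, -5, 1, 0, 0⟩, 3017),
  (⟨0, 2, 1, 1, -3, -1, -4, 0⟩, 10692),
  (⟨0, 2, 1, 1, -3, -1, -2, -2⟩, 10113),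
  (⟨0, 2, 1, 1, -3, -1, -2, 2⟩, 4028),
  (⟨0, 2, 1, 1, -3, -1, 0, 0⟩, 10968),
  (⟨0, 2, 1, 1, -3, -1, 2, -2⟩, 10139),
  (⟨0, 2, 1, 1, -3, -1, 2, 2⟩, 10248),
  (⟨0, 2, 1, 1, -3, -1, 4, 0⟩, 10830),
  (⟨0, 2, 1, 1, -1, 1, -4, 0⟩, 3251),
  (⟨0, 2, 1, 1, -1, 1, -2, -2⟩, 10186),
  (⟨0, 2, 1, 1, -1, 1, -2, 2⟩, 4004),
  (⟨0, 2, 1, 1, -1, 1, 0, 0⟩, 3306),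
  (⟨0, 2, 1, 1, -1, 1, 2, -2⟩, 4158),
  (⟨0, 2, 1, 1, -1, 1, 2, 2⟩, 10272),
  (⟨0, 2, 1, 1, -1, 1, 4, 0⟩, 3371),
  (⟨0, 2, 1, 1, 1, -1, -4, 0⟩, 3496),
  (⟨0, 2, 1, 1, 1, -1, -2, -2⟩, 10399),
  (⟨0, 2, 1, 1, 1, -1, -2, 2⟩, 4039),
  (⟨0, 2, 1, 1, 1, -1, 0, 0⟩, 3689),
  (⟨0, 2, 1, 1, 1, -1, 2, -2⟩, 4131),
  (⟨0, 2, 1, 1, 1, -1, 2, 2⟩, 10571),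
  (⟨0, 2, 1, 1, 1, -1, 4, 0⟩, 3632),
  (⟨0, 2, 1, 1, 3, 1, -4, 0⟩, 10703),
  (⟨0, 2, 1, 1, 3, 1, -2, -2⟩, 10373),
  (⟨0, 2, 1, 1, 3, 1, -2, 2⟩, 10524),
  (⟨0, 2, 1, 1, 3, 1, 0, 0⟩, 11097),
  (⟨0, 2, 1, 1, 3, 1, 2, -2⟩, 4151),
  (⟨0, 2, 1, 1, 3, 1, 2, 2⟩, 10498),
  (⟨0, 2, 1, 1, 3, 1, 4, 0⟩, 10819),
  (⟨0, 2, 1, 1, 5, -1, 0, 0⟩, 3144),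
  (⟨0, 2, 2, -2, -3, 1, -1, 1⟩, 3731),
  (⟨0, 2, 2, -2, -3, 1, 1, -1⟩, 3727),
  (⟨0, 2, 2, -2, -1, -1, -3, -1⟩, 7990),
  (⟨0, 2, 2, -2, -1, -1, -1, 1⟩, 3783),
  (⟨0, 2, 2, -2, -1, -1, 1, -1⟩, 3771),
  (⟨0, 2, 2, -2, -1, -1, 3, 1⟩, 8090),
  (⟨0, 2, 2, -2, 1, 1, -3, -1⟩, 8221),
  (⟨0, 2, 2, -2, 1, 1, -1, 1⟩, 3896),
  (⟨0, 2, 2, -2, 1, 1, 1, -1⟩, 3902),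
  (⟨0, 2, 2, -2, 1, 1, 3, 1⟩, 8381),
  (⟨0, 2, 2, -2, 3, -1, -1, 1⟩, 3856),
  (⟨0, 2, 2, -2, 3, -1, 1, -1⟩, 3858),
  (⟨0, 2, 2, 0, -6, 0, -2, 0⟩, 3756),
  (⟨0, 2, 2, 0, -6, 0, 2, 0⟩, 3740),
  (⟨0, 2, 2, 0, -4, -2, -2, 0⟩, 10889),
  (⟨0, 2, 2, 0, -4, -2, 2, 0⟩, 10885),
  (⟨0, 2, 2, 0, -4, 2, -2, 0⟩, 3214),
  (⟨0, 2, 2, 0, -4, 2, 2, 0⟩, 3350),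
  (⟨0, 2, 2, 0, -2, 0, -6, 0⟩, 7591),
  (⟨0, 2, 2, 0, -2, 0, -4, -2⟩, 10123),
  (⟨0, 2, 2, 0, -2, 0, -4, 2⟩, 3984),
  (⟨0, 2, 2, 0, -2, 0, -2, 0⟩, 3819),
  (⟨0, 2, 2, 0, -2, 0, 0, -2⟩, 10178),
  (⟨0, 2, 2, 0, -2, 0, 0, 2⟩, 4025),
  (⟨0, 2, 2, 0, -2, 0, 2, 0⟩, 3815),
  (⟨0, 2, 2, 0, -2, 0, 4, -2⟩, 4113),
  (⟨0, 2, 2, 0, -2, 0, 4, 2⟩, 10244),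
  (⟨0, 2, 2, 0, -2, 0, 6, 0⟩, 3388),
  (⟨0, 2, 2, 0, 0, -2, -2, 0⟩, 3504),
  (⟨0, 2, 2, 0, 0, -2, 0, -2⟩, 4133),
  (⟨0, 2, 2, 0, 0, -2, 0, 2⟩, 10921),
  (⟨0, 2, 2, 0, 0, -2, 2, 0⟩, 10946),
  (⟨0, 2, 2, 0, 0, 2, -2, 0⟩, 3266),
  (⟨0, 2, 2, 0, 0, 2, 0, -2⟩, 11050),
  (⟨0, 2, 2, 0, 0, 2, 0, 2⟩, 4002),
  (⟨0, 2, 2, 0, 0, 2, 2, 0⟩, 3379),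
  (⟨0, 2, 2, 0, 2, 0, -6, 0⟩, 3511),
  (⟨0, 2, 2, 0, 2, 0, -4, -2⟩, 10371),
  (⟨0, 2, 2, 0, 2, 0, -4, 2⟩, 3988),
  (⟨0, 2, 2, 0, 2, 0, -2, 0⟩, 3943),
  (⟨0, 2, 2, 0, 2, 0, 0, -2⟩, 4154),
  (⟨0, 2, 2, 0, 2, 0, 0, 2⟩, 4034),
  (⟨0, 2, 2, 0, 2, 0, 2, 0⟩, 3944),
  (⟨0, 2, 2, 0, 2, 0, 4, -2⟩, 4111),
  (⟨0, 2, 2, 0, 2, 0, 4, 2⟩, 10508),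
  (⟨0, 2, 2, 0, 2, 0, 6, 0⟩, 7724),
  (⟨0, 2, 2, 0, 4, -2, -2, 0⟩, 3477),
  (⟨0, 2, 2, 0, 4, -2, 2, 0⟩, 3597),
  (⟨0, 2, 2, 0, 4, 2, -2, 0⟩, 11016),
  (⟨0, 2, 2, 0, 4, 2, 2, 0⟩, 11018),
  (⟨0, 2, 2, 0, 6, 0, -2, 0⟩, 3867),
  (⟨0, 2, 2, 0, 6, 0, 2, 0⟩, 3879),
  (⟨0, 2, 2, 2, -3, 1, -1, 1⟩, 10678),
  (⟨0, 2, 2, 2, -3, 1, 1, -1⟩, 2996),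
  (⟨0, 2, 2, 2, -1, -1, -3, -1⟩, 10631),
  (⟨0, 2, 2, 2, -1, -1, -1, 1⟩, 10688),
  (⟨0, 2, 2, 2, -1, -1, 1, -1⟩, 10827),
  (⟨0, 2, 2, 2, -1, -1, 3, 1⟩, 10761),
  (⟨0, 2, 2, 2, 1, 1, -3, -1⟩, 10634),
  (⟨0, 2, 2, 2, 1, 1, -1, 1⟩, 10698),
  (⟨0, 2, 2, 2, 1, 1, 1, -1⟩, 10821),
  (⟨0, 2, 2, 2, 1, 1, 3, 1⟩, 10758),
  (⟨0, 2, 2, 2, 3, -1, -1, 1⟩, 3119),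
  (⟨0, 2, 2, 2, 3, -1, 1, -1⟩, 10813),
  (⟨0, 2, 3, -1, -5, 1, 0, 0⟩, 3725),
  (⟨0, 2, 3, -1, -3, -1, -4, 0⟩, 7970),
  (⟨0, 2, 3, -1, -3, -1, 0, 0⟩, 3757),
  (⟨0, 2, 3, -1, -3, -1, 4, 0⟩, 3741),
  (⟨0, 2, 3, -1, -1, 1, -4, 0⟩, 3273),
  (⟨0, 2, 3, -1, -1, 1, -2, -2⟩, 9020),
  (⟨0, 2, 3, -1, -1, 1, -2, 2⟩, 3983),
  (⟨0, 2, 3, -1, -1, 1, 0, 0⟩, 3807),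
  (⟨0, 2, 3, -1, -1, 1, 2, -2⟩, 4119),
  (⟨0, 2, 3, -1, -1, 1, 2, 2⟩, 4022),
  (⟨0, 2, 3, -1, -1, 1, 4, 0⟩, 3399),
  (⟨0, 2, 3, -1, 1, -1, -4, 0⟩, 3518),
  (⟨0, 2, 3, -1, 1, -1, -2, -2⟩, 4157),
  (⟨0, 2, 3, -1, 1, -1, -2, 2⟩, 3992),
  (⟨0, 2, 3, -1, 1, -1, 0, 0⟩, 3936),
  (⟨0, 2, 3, -1, 1, -1, 2, -2⟩, 4112),
  (⟨0, 2, 3, -1, 1, -1, 2, 2⟩, 9399),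
  (⟨0, 2, 3, -1, 1, -1, 4, 0⟩, 3656),
  (⟨0, 2, 3, -1, 3, 1, -4, 0⟩, 3866),
  (⟨0, 2, 3, -1, 3, 1, 0, 0⟩, 3878),
  (⟨0, 2, 3, -1, 3, 1, 4, 0⟩, 8357),
  (⟨0, 2, 3, -1, 5, -1, 0, 0⟩, 3854),
  (⟨0, 2, 3, 1, -4, 0, -3, 1⟩, 4005),
  (⟨0, 2, 3, 1, -4, 0, -1, -1⟩, 10158),
  (⟨0, 2, 3, 1, -4, 0, 1, 1⟩, 10309),
  (⟨0, 2, 3, 1, -4, 0, 3, -1⟩, 4143),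
  (⟨0, 2, 3, 1, -2, -2, -1, -1⟩, 10890),
  (⟨0, 2, 3, 1, -2, -2, 1, 1⟩, 10881),
  (⟨0, 2, 3, 1, -2, 2, -1, -1⟩, 3227),
  (⟨0, 2, 3, 1, -2, 2, 1, 1⟩, 9149),
  (⟨0, 2, 3, 1, 0, 0, -5, -1⟩, 10636),
  (⟨0, 2, 3, 1, 0, 0, -3, 1⟩, 4013),
  (⟨0, 2, 3, 1, 0, 0, -1, -1⟩, 4180),
  (⟨0, 2, 3, 1, 0, 0, 1, 1⟩, 4053),
  (⟨0, 2, 3, 1, 0, 0, 3, -1⟩, 4134),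
  (⟨0, 2, 3, 1, 0, 0, 5, 1⟩, 10763),
  (⟨0, 2, 3, 1, 2, -2, -1, -1⟩, 9270),
  (⟨0, 2, 3, 1, 2, -2, 1, 1⟩, 3612),
  (⟨0, 2, 3, 1, 2, 2, -1, -1⟩, 11010),
  (⟨0, 2, 3, 1, 2, 2, 1, 1⟩, 11017),
  (⟨0, 2, 3, 1, 4, 0, -3, 1⟩, 4020),
  (⟨0, 2, 3, 1, 4, 0, -1, -1⟩, 10432),
  (⟨0, 2, 3, 1, 4, 0, 1, 1⟩, 10549),
  (⟨0, 2, 3, 1, 4, 0, 3, -1⟩, 4130),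
  (⟨0, 2, 4, -2, -2, 0, -2, 0⟩, 3732),
  (⟨0, 2, 4, -2, -2, 0, 2, 0⟩, 3726),
  (⟨0, 2, 4, -2, 2, 0, -2, 0⟩, 3853),
  (⟨0, 2, 4, -2, 2, 0, 2, 0⟩, 3857),
  (⟨0, 2, 4, 0, -3, 1, -3, -1⟩, 3233),
  (⟨0, 2, 4, 0, -3, 1, -1, 1⟩, 4003),
  (⟨0, 2, 4, 0, -3, 1, 1, -1⟩, 4168),
  (⟨0, 2, 4, 0, -3, 1, 3, 1⟩, 10289),
  (⟨0, 2, 4, 0, -1, -1, -3, -1⟩, 10959),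
  (⟨0, 2, 4, 0, -1, -1, -1, 1⟩, 10945),
  (⟨0, 2, 4, 0, -1, -1, 1, -1⟩, 4139),
  (⟨0, 2, 4, 0, -1, -1, 3, 1⟩, 10926),
  (⟨0, 2, 4, 0, 1, 1, -3, -1⟩, 11061),
  (⟨0, 2, 4, 0, 1, 1, -1, 1⟩, 4008),
  (⟨0, 2, 4, 0, 1, 1, 1, -1⟩, 4161),
  (⟨0, 2, 4, 0, 1, 1, 3, 1⟩, 11086),
  (⟨0, 2, 4, 0, 3, -1, -3, -1⟩, 10418),
  (⟨0, 2, 4, 0, 3, -1, -1, 1⟩, 4041),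
  (⟨0, 2, 4, 0, 3, -1, 1, -1⟩, 4132),
  (⟨0, 2, 4, 0, 3, -1, 3, 1⟩, 3614),
  (⟨0, 2, 4, 2, -2, 0, -2, 0⟩, 10629),
  (⟨0, 2, 4, 2, -2, 0, 2, 0⟩, 10764),
  (⟨0, 2, 4, 2, 2, 0, -2, 0⟩, 10635),
  (⟨0, 2, 4, 2, 2, 0, 2, 0⟩, 10760),
  (⟨0, 2, 5, -1, 0, 0, -3, 1⟩, 3986),
  (⟨0, 2, 5, -1, 0, 0, -1, -1⟩, 4166),
  (⟨0, 2, 5, -1, 0, 0, 1, 1⟩, 4031),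
  (⟨0, 2, 5, -1, 0, 0, 3, -1⟩, 4115),
  (⟨0, 2, 5, 1, -3, -1, 0, 0⟩, 10886),
  (⟨0, 2, 5, 1, -1, 1, 0, 0⟩, 11076),
  (⟨0, 2, 5, 1, 1, -1, 0, 0⟩, 10947),
  (⟨0, 2, 5, 1, 3, 1, 0, 0⟩, 11015),
  (⟨0, 2, 6, 0, -2, 0, -2, 0⟩, 4010),
  (⟨0, 2, 6, 0, -2, 0, 2, 0⟩, 4146),
  (⟨0, 2, 6, 0, 2, 0, -2, 0⟩, 4017),
  (⟨0, 2, 6, 0, 2, 0, 2, 0⟩, 4137),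
  (⟨1, -3, -3, -1, -2, 0, 0, 0⟩, 4284),
  (⟨1, -3, -3, -1, 2, 0, 0, 0⟩, 4407),
  (⟨1, -3, -2, 0, 0, 0, -3, -1⟩, 5044),
  (⟨1, -3, -2, 0, 0, 0, -1, 1⟩, 11192),
  (⟨1, -3, -2, 0, 0, 0, 1, -1⟩, 11323),
  (⟨1, -3, -2, 0, 0, 0, 3, 1⟩, 4911),
  (⟨1, -3, -1, -1, -1, -1, -1, -1⟩, 4778),
  (⟨1, -3, -1, -1, -1, -1, 1, 1⟩, 4261),
  (⟨1, -3, -1, -1, 1, 1, -1, -1⟩, 4386),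
  (⟨1, -3, -1, -1, 1, 1, 1, 1⟩, 5161),
  (⟨1, -3, -1, 1, -2, 0, 0, 0⟩, 11427),
  (⟨1, -3, -1, 1, 2, 0, 0, 0⟩, 11556),
  (⟨1, -3, 0, 0, -3, -1, -2, 0⟩, 4785),
  (⟨1, -3, 0, 0, -3, -1, 2, 0⟩, 4285),
  (⟨1, -3, 0, 0, -1, 1, -2, 0⟩, 11710),
  (⟨1, -3, 0, 0, -1, 1, 2, 0⟩, 11839),
  (⟨1, -3, 0, 0, 1, -1, -2, 0⟩, 11974),
  (⟨1, -3, 0, 0, 1, -1, 2, 0⟩, 12103),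
  (⟨1, -3, 0, 0, 3, 1, -2, 0⟩, 4406),
  (⟨1, -3, 0, 0, 3, 1, 2, 0⟩, 5170),
  (⟨1, -3, 1, -1, -2, 0, 0, 0⟩, 12236),
  (⟨1, -3, 1, -1, 2, 0, 0, 0⟩, 12365),
  (⟨1, -3, 1, 1, -1, -1, -1, -1⟩, 5278),
  (⟨1, -3, 1, 1, -1, -1, 1, 1⟩, 5415),
  (⟨1, -3, 1, 1, 1, 1, -1, -1⟩, 5292),
  (⟨1, -3, 1, 1, 1, 1, 1, 1⟩, 5409),
  (⟨1, -3, 2, 0, 0, 0, -3, -1⟩, 5276),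
  (⟨1, -3, 2, 0, 0, 0, -1, 1⟩, 12488),
  (⟨1, -3, 2, 0, 0, 0, 1, -1⟩, 12617),
  (⟨1, -3, 2, 0, 0, 0, 3, 1⟩, 5403),
  (⟨1, -3, 3, 1, -2, 0, 0, 0⟩, 5274),
  (⟨1, -3, 3, 1, 2, 0, 0, 0⟩, 5405),
  (⟨1, -1, -7, 1, 0, 0, -2, 0⟩, 5775),
  (⟨1, -1, -7, 1, 0, 0, 2, 0⟩, 5776),
  (⟨1, -1, -6, 0, -3, 1, 0, 0⟩, 5819),
  (⟨1, -1, -6, 0, -1, -1, -4, 0⟩, 5815),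
  (⟨1, -1, -6, 0, -1, -1, 0, 0⟩, 5818),
  (⟨1, -1, -6, 0, -1, -1, 4, 0⟩, 5821),
  (⟨1, -1, -6, 0, 1, 1, -4, 0⟩, 5814),
  (⟨1, -1, -6, 0, 1, 1, 0, 0⟩, 5817),
  (⟨1, -1, -6, 0, 1, 1, 4, 0⟩, 5820),
  (⟨1, -1, -6, 0, 3, -1, 0, 0⟩, 5816),
  (⟨1, -1, -5, -1, -4, 0, -2, 0⟩, 203),
  (⟨1, -1, -5, -1, -4, 0, 2, 0⟩, 334),
  (⟨1, -1, -5, -1, -2, -2, -2, 0⟩, 4229),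
  (⟨1, -1, -5, -1, -2, -2, 2, 0⟩, 4227),
  (⟨1, -1, -5, -1, -2, 2, -2, 0⟩, 4404),
  (⟨1, -1, -5, -1, -2, 2, 2, 0⟩, 6050),
  (⟨1, -1, -5, -1, 0, 0, -2, 0⟩, 5848),
  (⟨1, -1, -5, -1, 0, 0, 0, -2⟩, 11295),
  (⟨1, -1, -5, -1, 0, 0, 0, 2⟩, 11168),
  (⟨1, -1, -5, -1, 0, 0, 2, 0⟩, 5849),
  (⟨1, -1, -5, -1, 2, -2, -2, 0⟩, 6181),
  (⟨1, -1, -5, -1, 2, -2, 2, 0⟩, 4271),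
  (⟨1, -1, -5, -1, 2, 2, -2, 0⟩, 4356),
  (⟨1, -1, -5, -1, 2, 2, 2, 0⟩, 4360),
  (⟨1, -1, -5, -1, 4, 0, -2, 0⟩, 463),
  (⟨1, -1, -5, -1, 4, 0, 2, 0⟩, 586),
  (⟨1, -1, -5, 1, -3, -1, -3, -1⟩, 6972),
  (⟨1, -1, -5, 1, -3, -1, -1, 1⟩, 4297),
  (⟨1, -1, -5, 1, -3, -1, 1, -1⟩, 4301),
  (⟨1, -1, -5, 1, -3, -1, 3, 1⟩, 7079),
  (⟨1, -1, -5, 1, -1, 1, -3, -1⟩, 5950),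
  (⟨1, -1, -5, 1, -1, 1, -1, 1⟩, 11233),
  (⟨1, -1, -5, 1, -1, 1, 1, -1⟩, 5988),
  (⟨1, -1, -5, 1, -1, 1, 3, 1⟩, 6072),
  (⟨1, -1, -5, 1, 1, -1, -3, -1⟩, 6203),
  (⟨1, -1, -5, 1, 1, -1, -1, 1⟩, 5860),
  (⟨1, -1, -5, 1, 1, -1, 1, -1⟩, 11358),
  (⟨1, -1, -5, 1, 1, -1, 3, 1⟩, 6343),
  (⟨1, -1, -5, 1, 3, 1, -3, -1⟩, 7212),
  (⟨1, -1, -5, 1, 3, 1, -1, 1⟩, 4428),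
  (⟨1, -1, -5, 1, 3, 1, 1, -1⟩, 4424),
  (⟨1, -1, -5, 1, 3, 1, 3, 1⟩, 7351),
  (⟨1, -1, -4, -2, -3, 1, 0, 0⟩, 719),
  (⟨1, -1, -4, -2, -1, -1, -4, 0⟩, 4484),
  (⟨1, -1, -4, -2, -1, -1, 0, 0⟩, 4307),
  (⟨1, -1, -4, -2, -1, -1, 4, 0⟩, 4614),
  (⟨1, -1, -4, -2, 1, 1, -4, 0⟩, 4487),
  (⟨1, -1, -4, -2, 1, 1, 0, 0⟩, 4438),
  (⟨1, -1, -4, -2, 1, 1, 4, 0⟩, 4611),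
  (⟨1, -1, -4, -2, 3, -1, 0, 0⟩, 846),
  (⟨1, -1, -4, 0, -6, 0, -1, -1⟩, 189),
  (⟨1, -1, -4, 0, -6, 0, 1, 1⟩, 7471),
  (⟨1, -1, -4, 0, -4, -2, -1, -1⟩, 4235),
  (⟨1, -1, -4, 0, -4, -2, 1, 1⟩, 4228),
  (⟨1, -1, -4, 0, -4, 2, -1, -1⟩, 5906),
  (⟨1, -1, -4, 0, -4, 2, 1, 1⟩, 6031),
  (⟨1, -1, -4, 0, -2, 0, -5, -1⟩, 207),
  (⟨1, -1, -4, 0, -2, 0, -3, 1⟩, 11231),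
  (⟨1, -1, -4, 0, -2, 0, -1, -1⟩, 5993),
  (⟨1, -1, -4, 0, -2, 0, 1, 1⟩, 11243),
  (⟨1, -1, -4, 0, -2, 0, 3, -1⟩, 11363),
  (⟨1, -1, -4, 0, -2, 0, 5, 1⟩, 324),
  (⟨1, -1, -4, 0, 0, -2, -3, 1⟩, 4287),
  (⟨1, -1, -4, 0, 0, -2, -1, -1⟩, 6189),
  (⟨1, -1, -4, 0, 0, -2, 1, 1⟩, 4272),
  (⟨1, -1, -4, 0, 0, -2, 3, -1⟩, 4296),
  (⟨1, -1, -4, 0, 0, 2, -3, 1⟩, 4425),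
  (⟨1, -1, -4, 0, 0, 2, -1, -1⟩, 4403),
  (⟨1, -1, -4, 0, 0, 2, 1, 1⟩, 6054),
  (⟨1, -1, -4, 0, 0, 2, 3, -1⟩, 4422),
  (⟨1, -1, -4, 0, 2, 0, -5, -1⟩, 451),
  (⟨1, -1, -4, 0, 2, 0, -3, 1⟩, 11234),
  (⟨1, -1, -4, 0, 2, 0, -1, -1⟩, 11368),
  (⟨1, -1, -4, 0, 2, 0, 1, 1⟩, 6378),
  (⟨1, -1, -4, 0, 2, 0, 3, -1⟩, 11360),
  (⟨1, -1, -4, 0, 2, 0, 5, 1⟩, 590),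
  (⟨1, -1, -4, 0, 4, -2, -1, -1⟩, 6160),
  (⟨1, -1, -4, 0, 4, -2, 1, 1⟩, 6291),
  (⟨1, -1, -4, 0, 4, 2, -1, -1⟩, 4355),
  (⟨1, -1, -4, 0, 4, 2, 1, 1⟩, 4364),
  (⟨1, -1, -4, 0, 6, 0, -1, -1⟩, 7860),
  (⟨1, -1, -4, 0, 6, 0, 1, 1⟩, 566),
  (⟨1, -1, -4, 2, -3, 1, 0, 0⟩, 11472),
  (⟨1, -1, -4, 2, -1, -1, -4, 0⟩, 6928),
  (⟨1, -1, -4, 2, -1, -1, 0, 0⟩, 7009),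
  (⟨1, -1, -4, 2, -1, -1, 4, 0⟩, 7054),
  (⟨1, -1, -4, 2, 1, 1, -4, 0⟩, 7181),
  (⟨1, -1, -4, 2, 1, 1, 0, 0⟩, 7390),
  (⟨1, -1, -4, 2, 1, 1, 4, 0⟩, 7311),
  (⟨1, -1, -4, 2, 3, -1, 0, 0⟩, 11600),
  (⟨1, -1, -3, -3, 0, 0, -2, 0⟩, 4482),
  (⟨1, -1, -3, -3, 0, 0, 2, 0⟩, 4609),
  (⟨1, -1, -3, -1, -5, 1, -3, -1⟩, 5937),
  (⟨1, -1, -3, -1, -5, 1, -1, 1⟩, 6456),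
  (⟨1, -1, -3, -1, -5, 1, 1, -1⟩, 6604),
  (⟨1, -1, -3, -1, -5, 1, 3, 1⟩, 4905),
  (⟨1, -1, -3, -1, -3, -1, -5, 1⟩, 4532),
  (⟨1, -1, -3, -1, -3, -1, -3, -1⟩, 4567),
  (⟨1, -1, -3, -1, -3, -1, -1, 1⟩, 4309),
  (⟨1, -1, -3, -1, -3, -1, 1, -1⟩, 6619),
  (⟨1, -1, -3, -1, -3, -1, 3, 1⟩, 4306),
  (⟨1, -1, -3, -1, -3, -1, 5, -1⟩, 6570),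
  (⟨1, -1, -3, -1, -1, 1, -5, 1⟩, 4551),
  (⟨1, -1, -3, -1, -1, 1, -3, -1⟩, 5979),
  (⟨1, -1, -3, -1, -1, 1, -1, 1⟩, 11239),
  (⟨1, -1, -3, -1, -1, 1, 1, -1⟩, 4459),
  (⟨1, -1, -3, -1, -1, 1, 3, 1⟩, 6104),
  (⟨1, -1, -3, -1, -1, 1, 5, -1⟩, 4680),
  (⟨1, -1, -3, -1, 1, -1, -5, 1⟩, 4553),
  (⟨1, -1, -3, -1, 1, -1, -3, -1⟩, 6233),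
  (⟨1, -1, -3, -1, 1, -1, -1, 1⟩, 4328),
  (⟨1, -1, -3, -1, 1, -1, 1, -1⟩, 11367),
  (⟨1, -1, -3, -1, 1, -1, 3, 1⟩, 4699),
  (⟨1, -1, -3, -1, 1, -1, 5, -1⟩, 4670),
  (⟨1, -1, -3, -1, 3, 1, -5, 1⟩, 6697),
  (⟨1, -1, -3, -1, 3, 1, -3, -1⟩, 4433),
  (⟨1, -1, -3, -1, 3, 1, -1, 1⟩, 4443),
  (⟨1, -1, -3, -1, 3, 1, 1, -1⟩, 4436),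
  (⟨1, -1, -3, -1, 3, 1, 3, 1⟩, 5207),
  (⟨1, -1, -3, -1, 3, 1, 5, -1⟩, 4655),
  (⟨1, -1, -3, -1, 5, -1, -3, -1⟩, 5034),
  (⟨1, -1, -3, -1, 5, -1, -1, 1⟩, 6733),
  (⟨1, -1, -3, -1, 5, -1, 1, -1⟩, 6843),
  (⟨1, -1, -3, -1, 5, -1, 3, 1⟩, 6322),
  (⟨1, -1, -3, 1, -4, 0, -2, 0⟩, 11493),
  (⟨1, -1, -3, 1, -4, 0, 0, -2⟩, 4808),
  (⟨1, -1, -3, 1, -4, 0, 0, 2⟩, 4941),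
  (⟨1, -1, -3, 1, -4, 0, 2, 0⟩, 11487),
  (⟨1, -1, -3, 1, -2, -2, -2, 0⟩, 6955),
  (⟨1, -1, -3, 1, -2, -2, 0, -2⟩, 6196),
  (⟨1, -1, -3, 1, -2, -2, 0, 2⟩, 4273),
  (⟨1, -1, -3, 1, -2, -2, 2, 0⟩, 7097),
  (⟨1, -1, -3, 1, -2, 2, -2, 0⟩, 7261),
  (⟨1, -1, -3, 1, -2, 2, 0, -2⟩, 5903),
  (⟨1, -1, -3, 1, -2, 2, 0, 2⟩, 6033),
  (⟨1, -1, -3, 1, -2, 2, 2, 0⟩, 6108),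
  (⟨1, -1, -3, 1, 0, 0, -6, 0⟩, 7622),
  (⟨1, -1, -3, 1, 0, 0, -4, -2⟩, 965),
  (⟨1, -1, -3, 1, 0, 0, -4, 2⟩, 11216),
  (⟨1, -1, -3, 1, 0, 0, -2, 0⟩, 7278),
  (⟨1, -1, -3, 1, 0, 0, 0, -2⟩, 11365),
  (⟨1, -1, -3, 1, 0, 0, 0, 2⟩, 1125),
  (⟨1, -1, -3, 1, 0, 0, 2, 0⟩, 11502),
  (⟨1, -1, -3, 1, 0, 0, 4, -2⟩, 11344),
  (⟨1, -1, -3, 1, 0, 0, 4, 2⟩, 1088),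
  (⟨1, -1, -3, 1, 0, 0, 6, 0⟩, 7743),
  (⟨1, -1, -3, 1, 2, -2, -2, 0⟩, 6237),
  (⟨1, -1, -3, 1, 2, -2, 0, -2⟩, 6164),
  (⟨1, -1, -3, 1, 2, -2, 0, 2⟩, 6288),
  (⟨1, -1, -3, 1, 2, -2, 2, 0⟩, 7132),
  (⟨1, -1, -3, 1, 2, 2, -2, 0⟩, 7226),
  (⟨1, -1, -3, 1, 2, 2, 0, -2⟩, 4402),
  (⟨1, -1, -3, 1, 2, 2, 0, 2⟩, 6063),
  (⟨1, -1, -3, 1, 2, 2, 2, 0⟩, 7336),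
  (⟨1, -1, -3, 1, 4, 0, -2, 0⟩, 11616),
  (⟨1, -1, -3, 1, 4, 0, 0, -2⟩, 5068),
  (⟨1, -1, -3, 1, 4, 0, 0, 2⟩, 5193),
  (⟨1, -1, -3, 1, 4, 0, 2, 0⟩, 613),
  (⟨1, -1, -2, -2, -2, 0, -5, -1⟩, 4481),
  (⟨1, -1, -2, -2, -2, 0, -3, 1⟩, 4525),
  (⟨1, -1, -2, -2, -2, 0, -1, -1⟩, 4564),
  (⟨1, -1, -2, -2, -2, 0, 1, 1⟩, 6490),
  (⟨1, -1, -2, -2, -2, 0, 3, -1⟩, 4673),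
  (⟨1, -1, -2, -2, -2, 0, 5, 1⟩, 4616),
  (⟨1, -1, -2, -2, 0, -2, -3, 1⟩, 4529),
  (⟨1, -1, -2, -2, 0, -2, -1, -1⟩, 847),
  (⟨1, -1, -2, -2, 0, -2, 1, 1⟩, 843),
  (⟨1, -1, -2, -2, 0, -2, 3, -1⟩, 4663),
  (⟨1, -1, -2, -2, 0, 2, -3, 1⟩, 4540),
  (⟨1, -1, -2, -2, 0, 2, -1, -1⟩, 714),
  (⟨1, -1, -2, -2, 0, 2, 1, 1⟩, 718),
  (⟨1, -1, -2, -2, 0, 2, 3, -1⟩, 4658),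
  (⟨1, -1, -2, -2, 2, 0, -5, -1⟩, 4485),
  (⟨1, -1, -2, -2, 2, 0, -3, 1⟩, 6721),
  (⟨1, -1, -2, -2, 2, 0, -1, -1⟩, 4570),
  (⟨1, -1, -2, -2, 2, 0, 1, 1⟩, 4693),
  (⟨1, -1, -2, -2, 2, 0, 3, -1⟩, 4646),
  (⟨1, -1, -2, -2, 2, 0, 5, 1⟩, 4610),
  (⟨1, -1, -2, 0, -7, 1, 0, 0⟩, 7441),
  (⟨1, -1, -2, 0, -5, -1, -4, 0⟩, 197),
  (⟨1, -1, -2, 0, -5, -1, -2, -2⟩, 4739),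
  (⟨1, -1, -2, 0, -5, -1, -2, 2⟩, 1212),
  (⟨1, -1, -2, 0, -5, -1, 0, 0⟩, 7514),
  (⟨1, -1, -2, 0, -5, -1, 2, -2⟩, 4766),
  (⟨1, -1, -2, 0, -5, -1, 2, 2⟩, 4875),
  (⟨1, -1, -2, 0, -5, -1, 4, 0⟩, 331),
  (⟨1, -1, -2, 0, -3, -3, 0, 0⟩, 4230),
  (⟨1, -1, -2, 0, -3, 1, -4, 0⟩, 11746),
  (⟨1, -1, -2, 0, -3, 1, -2, -2⟩, 5928),
  (⟨1, -1, -2, 0, -3, 1, -2, 2⟩, 11229),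
  (⟨1, -1, -2, 0, -3, 1, 0, 0⟩, 11758),
  (⟨1, -1, -2, 0, -3, 1, 2, -2⟩, 5981),
  (⟨1, -1, -2, 0, -3, 1, 2, 2⟩, 4915),
  (⟨1, -1, -2, 0, -3, 1, 4, 0⟩, 11878),
  (⟨1, -1, -2, 0, -1, -1, -4, 0⟩, 12010),
  (⟨1, -1, -2, 0, -1, -1, -2, -2⟩, 4826),
  (⟨1, -1, -2, 0, -1, -1, -2, 2⟩, 11238),
  (⟨1, -1, -2, 0, -1, -1, 0, 0⟩, 4332),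
  (⟨1, -1, -2, 0, -1, -1, 2, -2⟩, 11359),
  (⟨1, -1, -2, 0, -1, -1, 2, 2⟩, 6361),
  (⟨1, -1, -2, 0, -1, -1, 4, 0⟩, 7146),
  (⟨1, -1, -2, 0, -1, 3, 0, 0⟩, 4423),
  (⟨1, -1, -2, 0, 1, -3, 0, 0⟩, 4286),
  (⟨1, -1, -2, 0, 1, 1, -4, 0⟩, 7273),
  (⟨1, -1, -2, 0, 1, 1, -2, -2⟩, 5976),
  (⟨1, -1, -2, 0, 1, 1, -2, 2⟩, 11232),
  (⟨1, -1, -2, 0, 1, 1, 0, 0⟩, 4460),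
  (⟨1, -1, -2, 0, 1, 1, 2, -2⟩, 1638),
  (⟨1, -1, -2, 0, 1, 1, 2, 2⟩, 6106),
  (⟨1, -1, -2, 0, 1, 1, 4, 0⟩, 11881),
  (⟨1, -1, -2, 0, 3, -1, -4, 0⟩, 486),
  (⟨1, -1, -2, 0, 3, -1, -2, -2⟩, 5040),
  (⟨1, -1, -2, 0, 3, -1, -2, 2⟩, 6364),
  (⟨1, -1, -2, 0, 3, -1, 0, 0⟩, 11630),
  (⟨1, -1, -2, 0, 3, -1, 2, -2⟩, 11356),
  (⟨1, -1, -2, 0, 3, -1, 2, 2⟩, 6315),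
  (⟨1, -1, -2, 0, 3, -1, 4, 0⟩, 12131),
  (⟨1, -1, -2, 0, 3, 3, 0, 0⟩, 4359),
  (⟨1, -1, -2, 0, 5, 1, -4, 0⟩, 458),
  (⟨1, -1, -2, 0, 5, 1, -2, -2⟩, 5004),
  (⟨1, -1, -2, 0, 5, 1, -2, 2⟩, 5153),
  (⟨1, -1, -2, 0, 5, 1, 0, 0⟩, 4442),
  (⟨1, -1, -2, 0, 5, 1, 2, -2⟩, 1591),
  (⟨1, -1, -2, 0, 5, 1, 2, 2⟩, 5124),
  (⟨1, -1, -2, 0, 5, 1, 4, 0⟩, 576),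
  (⟨1, -1, -2, 0, 7, -1, 0, 0⟩, 7828),
  (⟨1, -1, -2, 2, -2, 0, -5, -1⟩, 945),
  (⟨1, -1, -2, 2, -2, 0, -3, 1⟩, 7005),
  (⟨1, -1, -2, 2, -2, 0, -1, -1⟩, 995),
  (⟨1, -1, -2, 2, -2, 0, 1, 1⟩, 11494),
  (⟨1, -1, -2, 2, -2, 0, 3, -1⟩, 8670),
  (⟨1, -1, -2, 2, -2, 0, 5, 1⟩, 7073),
  (⟨1, -1, -2, 2, 0, -2, -3, 1⟩, 6925),
  (⟨1, -1, -2, 2, 0, -2, -1, -1⟩, 6982),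
  (⟨1, -1, -2, 2, 0, -2, 1, 1⟩, 7075),
  (⟨1, -1, -2, 2, 0, -2, 3, -1⟩, 7056),
  (⟨1, -1, -2, 2, 0, 2, -3, 1⟩, 7183),
  (⟨1, -1, -2, 2, 0, 2, -1, -1⟩, 7204),
  (⟨1, -1, -2, 2, 0, 2, 1, 1⟩, 7359),
  (⟨1, -1, -2, 2, 0, 2, 3, -1⟩, 7310),
  (⟨1, -1, -2, 2, 2, 0, -5, -1⟩, 7198),
  (⟨1, -1, -2, 2, 2, 0, -3, 1⟩, 8801),
  (⟨1, -1, -2, 2, 2, 0, -1, -1⟩, 998),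
  (⟨1, -1, -2, 2, 2, 0, 1, 1⟩, 1122),
  (⟨1, -1, -2, 2, 2, 0, 3, -1⟩, 7388),
  (⟨1, -1, -2, 2, 2, 0, 5, 1⟩, 1074),
  (⟨1, -1, -1, -3, -1, 1, -1, 1⟩, 4517),
  (⟨1, -1, -1, -3, -1, 1, 1, -1⟩, 4649),
  (⟨1, -1, -1, -3, 1, -1, -1, 1⟩, 4522),
  (⟨1, -1, -1, -3, 1, -1, 1, -1⟩, 4642),
  (⟨1, -1, -1, -1, -4, 0, -6, 0⟩, 7580),
  (⟨1, -1, -1, -1, -4, 0, -4, -2⟩, 4743),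
  (⟨1, -1, -1, -1, -4, 0, -4, 2⟩, 6423),
  (⟨1, -1, -1, -1, -4, 0, -2, 0⟩, 4587),
  (⟨1, -1, -1, -1, -4, 0, 0, -2⟩, 4779),
  (⟨1, -1, -1, -1, -4, 0, 0, 2⟩, 4930),
  (⟨1, -1, -1, -1, -4, 0, 2, 0⟩, 7528),
  (⟨1, -1, -1, -1, -4, 0, 4, -2⟩, 6546),
  (⟨1, -1, -1, -1, -4, 0, 4, 2⟩, 4865),
  (⟨1, -1, -1, -1, -4, 0, 6, 0⟩, 316),
  (⟨1, -1, -1, -1, -2, -2, -2, 0⟩, 4312),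
  (⟨1, -1, -1, -1, -2, -2, 0, -2⟩, 1355),
  (⟨1, -1, -1, -1, -2, -2, 0, 2⟩, 1220),
  (⟨1, -1, -1, -1, -2, -2, 2, 0⟩, 4308),
  (⟨1, -1, -1, -1, -2, 2, -2, 0⟩, 11744),
  (⟨1, -1, -1, -1, -2, 2, 0, -2⟩, 5947),
  (⟨1, -1, -1, -1, -2, 2, 0, 2⟩, 6079),
  (⟨1, -1, -1, -1, -2, 2, 2, 0⟩, 11875),
  (⟨1, -1, -1, -1, 0, 0, -6, 0⟩, 4546),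
  (⟨1, -1, -1, -1, 0, 0, -4, -2⟩, 5074),
  (⟨1, -1, -1, -1, 0, 0, -4, 2⟩, 11230),
  (⟨1, -1, -1, -1, 0, 0, -2, 0⟩, 4588),
  (⟨1, -1, -1, -1, 0, 0, 0, -2⟩, 11370),
  (⟨1, -1, -1, -1, 0, 0, 0, 2⟩, 11241),
  (⟨1, -1, -1, -1, 0, 0, 2, 0⟩, 4716),
  (⟨1, -1, -1, -1, 0, 0, 4, -2⟩, 11361),
  (⟨1, -1, -1, -1, 0, 0, 4, 2⟩, 4945),
  (⟨1, -1, -1, -1, 0, 0, 6, 0⟩, 7746),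
  (⟨1, -1, -1, -1, 2, -2, -2, 0⟩, 12002),
  (⟨1, -1, -1, -1, 2, -2, 0, -2⟩, 6214),
  (⟨1, -1, -1, -1, 2, -2, 0, 2⟩, 6328),
  (⟨1, -1, -1, -1, 2, -2, 2, 0⟩, 12127),
  (⟨1, -1, -1, -1, 2, 2, -2, 0⟩, 4437),
  (⟨1, -1, -1, -1, 2, 2, 0, -2⟩, 1603),
  (⟨1, -1, -1, -1, 2, 2, 0, 2⟩, 1482),
  (⟨1, -1, -1, -1, 2, 2, 2, 0⟩, 4441),
  (⟨1, -1, -1, -1, 4, 0, -6, 0⟩, 439),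
  (⟨1, -1, -1, -1, 4, 0, -4, -2⟩, 4994),
  (⟨1, -1, -1, -1, 4, 0, -4, 2⟩, 6675),
  (⟨1, -1, -1, -1, 4, 0, -2, 0⟩, 7915),
  (⟨1, -1, -1, -1, 4, 0, 0, -2⟩, 6850),
  (⟨1, -1, -1, -1, 4, 0, 0, 2⟩, 5160),
  (⟨1, -1, -1, -1, 4, 0, 2, 0⟩, 4712),
  (⟨1, -1, -1, -1, 4, 0, 4, -2⟩, 6808),
  (⟨1, -1, -1, -1, 4, 0, 4, 2⟩, 5126),
  (⟨1, -1, -1, -1, 4, 0, 6, 0⟩, 7707),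
  (⟨1, -1, -1, 1, -5, 1, -3, -1⟩, 4813),
  (⟨1, -1, -1, 1, -5, 1, -1, 1⟩, 8540),
  (⟨1, -1, -1, 1, -5, 1, 1, -1⟩, 7524),
  (⟨1, -1, -1, 1, -5, 1, 3, 1⟩, 4934),
  (⟨1, -1, -1, 1, -3, -1, -5, 1⟩, 6947),
  (⟨1, -1, -1, 1, -3, -1, -3, -1⟩, 7001),
  (⟨1, -1, -1, 1, -3, -1, -1, 1⟩, 7015),
  (⟨1, -1, -1, 1, -3, -1, 1, -1⟩, 8680),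
  (⟨1, -1, -1, 1, -3, -1, 3, 1⟩, 7125),
  (⟨1, -1, -1, 1, -3, -1, 5, -1⟩, 7111),
  (⟨1, -1, -1, 1, -1, -3, -1, 1⟩, 6942),
  (⟨1, -1, -1, 1, -1, -3, 1, -1⟩, 1322),
  (⟨1, -1, -1, 1, -1, 1, -5, 1⟩, 7262),
  (⟨1, -1, -1, 1, -1, 1, -3, -1⟩, 7271),
  (⟨1, -1, -1, 1, -1, 1, -1, -3⟩, 5922),
  (⟨1, -1, -1, 1, -1, 1, -1, 1⟩, 8558),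
  (⟨1, -1, -1, 1, -1, 1, 1, -1⟩, 2030),
  (⟨1, -1, -1, 1, -1, 1, 1, 3⟩, 1063),
  (⟨1, -1, -1, 1, -1, 1, 3, 1⟩, 1130),
  (⟨1, -1, -1, 1, -1, 1, 5, -1⟩, 11876),
  (⟨1, -1, -1, 1, 1, -1, -5, 1⟩, 7012),
  (⟨1, -1, -1, 1, 1, -1, -3, -1⟩, 1001),
  (⟨1, -1, -1, 1, 1, -1, -1, -3⟩, 940),
  (⟨1, -1, -1, 1, 1, -1, -1, 1⟩, 7022),
  (⟨1, -1, -1, 1, 1, -1, 1, -1⟩, 1006),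
  (⟨1, -1, -1, 1, 1, -1, 1, 3⟩, 6309),
  (⟨1, -1, -1, 1, 1, -1, 3, 1⟩, 7143),
  (⟨1, -1, -1, 1, 1, -1, 5, -1⟩, 7137),
  (⟨1, -1, -1, 1, 1, 3, -1, 1⟩, 1449),
  (⟨1, -1, -1, 1, 1, 3, 1, -1⟩, 7329),
  (⟨1, -1, -1, 1, 3, 1, -5, 1⟩, 7230),
  (⟨1, -1, -1, 1, 3, 1, -3, -1⟩, 7252),
  (⟨1, -1, -1, 1, 3, 1, -1, 1⟩, 8811),
  (⟨1, -1, -1, 1, 3, 1, 1, -1⟩, 7399),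
  (⟨1, -1, -1, 1, 3, 1, 3, 1⟩, 7384),
  (⟨1, -1, -1, 1, 3, 1, 5, -1⟩, 7332),
  (⟨1, -1, -1, 1, 5, -1, -3, -1⟩, 5055),
  (⟨1, -1, -1, 1, 5, -1, -1, 1⟩, 11620),
  (⟨1, -1, -1, 1, 5, -1, 1, -1⟩, 8925),
  (⟨1, -1, -1, 1, 5, -1, 3, 1⟩, 5196),
  (⟨1, -1, -1, 3, 0, 0, -2, 0⟩, 5325),
  (⟨1, -1, -1, 3, 0, 0, 2, 0⟩, 5452),
  (⟨1, -1, 0, -2, -5, -1, 0, 0⟩, 12206),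
  (⟨1, -1, 0, -2, -3, 1, -4, 0⟩, 4516),
  (⟨1, -1, 0, -2, -3, 1, -2, -2⟩, 4796),
  (⟨1, -1, 0, -2, -3, 1, -2, 2⟩, 6417),
  (⟨1, -1, 0, -2, -3, 1, 0, 0⟩, 12258),
  (⟨1, -1, 0, -2, -3, 1, 2, -2⟩, 6552),
  (⟨1, -1, 0, -2, -3, 1, 2, 2⟩, 4891),
  (⟨1, -1, 0, -2, -3, 1, 4, 0⟩, 4678),
  (⟨1, -1, 0, -2, -1, -1, -4, 0⟩, 4520),
  (⟨1, -1, 0, -2, -1, -1, -2, -2⟩, 1733),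
  (⟨1, -1, 0, -2, -1, -1, -2, 2⟩, 6476),
  (⟨1, -1, 0, -2, -1, -1, 0, 0⟩, 4585),
  (⟨1, -1, 0, -2, -1, -1, 2, -2⟩, 6587),
  (⟨1, -1, 0, -2, -1, -1, 2, 2⟩, 1870),
  (⟨1, -1, 0, -2, -1, -1, 4, 0⟩, 4666),
  (⟨1, -1, 0, -2, 1, 1, -4, 0⟩, 4537),
  (⟨1, -1, 0, -2, 1, 1, -2, -2⟩, 1743),
  (⟨1, -1, 0, -2, 1, 1, -2, 2⟩, 6712),
  (⟨1, -1, 0, -2, 1, 1, 0, 0⟩, 4714),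
  (⟨1, -1, 0, -2, 1, 1, 2, -2⟩, 6861),
  (⟨1, -1, 0, -2, 1, 1, 2, 2⟩, 1856),
  (⟨1, -1, 0, -2, 1, 1, 4, 0⟩, 4651),
  (⟨1, -1, 0, -2, 3, -1, -4, 0⟩, 4543),
  (⟨1, -1, 0, -2, 3, -1, -2, -2⟩, 5020),
  (⟨1, -1, 0, -2, 3, -1, -2, 2⟩, 6679),
  (⟨1, -1, 0, -2, 3, -1, 0, 0⟩, 12387),
  (⟨1, -1, 0, -2, 3, -1, 2, -2⟩, 6804),
  (⟨1, -1, 0, -2, 3, -1, 2, 2⟩, 5175),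
  (⟨1, -1, 0, -2, 3, -1, 4, 0⟩, 4643),
  (⟨1, -1, 0, -2, 5, 1, 0, 0⟩, 12341),
  (⟨1, -1, 0, 0, -6, 0, -3, 1⟩, 7500),
  (⟨1, -1, 0, 0, -6, 0, -1, -1⟩, 4787),
  (⟨1, -1, 0, 0, -6, 0, 1, 1⟩, 7472),
  (⟨1, -1, 0, 0, -6, 0, 3, -1⟩, 7459),
  (⟨1, -1, 0, 0, -4, -2, -3, 1⟩, 1227),
  (⟨1, -1, 0, 0, -4, -2, -1, -1⟩, 4817),
  (⟨1, -1, 0, 0, -4, -2, 1, 1⟩, 4310),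
  (⟨1, -1, 0, 0, -4, -2, 3, -1⟩, 1333),
  (⟨1, -1, 0, 0, -4, 2, -3, 1⟩, 11728),
  (⟨1, -1, 0, 0, -4, 2, -1, -1⟩, 11740),
  (⟨1, -1, 0, 0, -4, 2, 1, 1⟩, 4961),
  (⟨1, -1, 0, 0, -4, 2, 3, -1⟩, 11856),
  (⟨1, -1, 0, 0, -2, 0, -7, 1⟩, 7565),
  (⟨1, -1, 0, 0, -2, 0, -5, -1⟩, 7636),
  (⟨1, -1, 0, 0, -2, 0, -3, -3⟩, 4745),
  (⟨1, -1, 0, 0, -2, 0, -3, 1⟩, 7662),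
  (⟨1, -1, 0, 0, -2, 0, -1, -1⟩, 4844),
  (⟨1, -1, 0, 0, -2, 0, -1, 3⟩, 4937),
  (⟨1, -1, 0, 0, -2, 0, 1, -3⟩, 4792),
  (⟨1, -1, 0, 0, -2, 0, 1, 1⟩, 4972),
  (⟨1, -1, 0, 0, -2, 0, 3, -1⟩, 4846),
  (⟨1, -1, 0, 0, -2, 0, 3, 3⟩, 4868),
  (⟨1, -1, 0, 0, -2, 0, 5, 1⟩, 4948),
  (⟨1, -1, 0, 0, -2, 0, 7, -1⟩, 7704),
  (⟨1, -1, 0, 0, 0, -2, -5, -1⟩, 11968),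
  (⟨1, -1, 0, 0, 0, -2, -3, 1⟩, 11999),
  (⟨1, -1, 0, 0, 0, -2, -1, -1⟩, 6251),
  (⟨1, -1, 0, 0, 0, -2, 1, 1⟩, 4329),
  (⟨1, -1, 0, 0, 0, -2, 3, -1⟩, 1376),
  (⟨1, -1, 0, 0, 0, -2, 5, 1⟩, 12099),
  (⟨1, -1, 0, 0, 0, 2, -5, -1⟩, 11716),
  (⟨1, -1, 0, 0, 0, 2, -3, 1⟩, 1503),
  (⟨1, -1, 0, 0, 0, 2, -1, -1⟩, 4458),
  (⟨1, -1, 0, 0, 0, 2, 1, 1⟩, 6120),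
  (⟨1, -1, 0, 0, 0, 2, 3, -1⟩, 11872),
  (⟨1, -1, 0, 0, 0, 2, 5, 1⟩, 11845),
  (⟨1, -1, 0, 0, 2, 0, -7, 1⟩, 7575),
  (⟨1, -1, 0, 0, 2, 0, -5, -1⟩, 5077),
  (⟨1, -1, 0, 0, 2, 0, -3, -3⟩, 4995),
  (⟨1, -1, 0, 0, 2, 0, -3, 1⟩, 8814),
  (⟨1, -1, 0, 0, 2, 0, -1, -1⟩, 5100),
  (⟨1, -1, 0, 0, 2, 0, -1, 3⟩, 5179),
  (⟨1, -1, 0, 0, 2, 0, 1, -3⟩, 5064),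
  (⟨1, -1, 0, 0, 2, 0, 1, 1⟩, 5228),
  (⟨1, -1, 0, 0, 2, 0, 3, -1⟩, 5486),
  (⟨1, -1, 0, 0, 2, 0, 3, 3⟩, 5130),
  (⟨1, -1, 0, 0, 2, 0, 5, 1⟩, 7765),
  (⟨1, -1, 0, 0, 2, 0, 7, -1⟩, 7694),
  (⟨1, -1, 0, 0, 4, -2, -3, 1⟩, 11984),
  (⟨1, -1, 0, 0, 4, -2, -1, -1⟩, 5086),
  (⟨1, -1, 0, 0, 4, -2, 1, 1⟩, 12125),
  (⟨1, -1, 0, 0, 4, -2, 3, -1⟩, 12112),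
  (⟨1, -1, 0, 0, 4, 2, -3, 1⟩, 1454),
  (⟨1, -1, 0, 0, 4, 2, -1, -1⟩, 4435),
  (⟨1, -1, 0, 0, 4, 2, 1, 1⟩, 5202),
  (⟨1, -1, 0, 0, 4, 2, 3, -1⟩, 1610),
  (⟨1, -1, 0, 0, 6, 0, -3, 1⟩, 7844),
  (⟨1, -1, 0, 0, 6, 0, -1, -1⟩, 7859),
  (⟨1, -1, 0, 0, 6, 0, 1, 1⟩, 5168),
  (⟨1, -1, 0, 0, 6, 0, 3, -1⟩, 7885),
  (⟨1, -1, 0, 2, -5, -1, 0, 0⟩, 11466),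
  (⟨1, -1, 0, 2, -3, 1, -4, 0⟩, 5319),
  (⟨1, -1, 0, 2, -3, 1, -2, -2⟩, 948),
  (⟨1, -1, 0, 2, -3, 1, -2, 2⟩, 8461),
  (⟨1, -1, 0, 2, -3, 1, 0, 0⟩, 2018),
  (⟨1, -1, 0, 2, -3, 1, 2, -2⟩, 8594),
  (⟨1, -1, 0, 2, -3, 1, 2, 2⟩, 8474),
  (⟨1, -1, 0, 2, -3, 1, 4, 0⟩, 5453),
  (⟨1, -1, 0, 2, -1, -1, -4, 0⟩, 6970),
  (⟨1, -1, 0, 2, -1, -1, -2, -2⟩, 928),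
  (⟨1, -1, 0, 2, -1, -1, -2, 2⟩, 8520),
  (⟨1, -1, 0, 2, -1, -1, 0, 0⟩, 7019),
  (⟨1, -1, 0, 2, -1, -1, 2, -2⟩, 8611),
  (⟨1, -1, 0, 2, -1, -1, 2, 2⟩, 1092),
  (⟨1, -1, 0, 2, -1, -1, 4, 0⟩, 7085),
  (⟨1, -1, 0, 2, 1, 1, -4, 0⟩, 7206),
  (⟨1, -1, 0, 2, 1, 1, -2, -2⟩, 963),
  (⟨1, -1, 0, 2, 1, 1, -2, 2⟩, 8740),
  (⟨1, -1, 0, 2, 1, 1, 0, 0⟩, 7400),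
  (⟨1, -1, 0, 2, 1, 1, 2, -2⟩, 8905),
  (⟨1, -1, 0, 2, 1, 1, 2, 2⟩, 1055),
  (⟨1, -1, 0, 2, 1, 1, 4, 0⟩, 7353),
  (⟨1, -1, 0, 2, 3, -1, -4, 0⟩, 5324),
  (⟨1, -1, 0, 2, 3, -1, -2, -2⟩, 8861),
  (⟨1, -1, 0, 2, 3, -1, -2, 2⟩, 8723),
  (⟨1, -1, 0, 2, 3, -1, 0, 0⟩, 2147),
  (⟨1, -1, 0, 2, 3, -1, 2, -2⟩, 8846),
  (⟨1, -1, 0, 2, 3, -1, 2, 2⟩, 1071),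
  (⟨1, -1, 0, 2, 3, -1, 4, 0⟩, 5438),
  (⟨1, -1, 0, 2, 5, 1, 0, 0⟩, 11595),
  (⟨1, -1, 1, -3, 0, 0, -2, 0⟩, 4515),
  (⟨1, -1, 1, -3, 0, 0, 2, 0⟩, 4644),
  (⟨1, -1, 1, -1, -5, 1, -3, -1⟩, 4807),
  (⟨1, -1, 1, -1, -5, 1, -1, 1⟩, 6500),
  (⟨1, -1, 1, -1, -5, 1, 1, -1⟩, 4833),
  (⟨1, -1, 1, -1, -5, 1, 3, 1⟩, 4900),
  (⟨1, -1, 1, -1, -3, -1, -5, 1⟩, 8006),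
  (⟨1, -1, 1, -1, -3, -1, -3, -1⟩, 4821),
  (⟨1, -1, 1, -1, -3, -1, -1, 1⟩, 5610),
  (⟨1, -1, 1, -1, -3, -1, 1, -1⟩, 4839),
  (⟨1, -1, 1, -1, -3, -1, 3, 1⟩, 4952),
  (⟨1, -1, 1, -1, -3, -1, 5, -1⟩, 8140),
  (⟨1, -1, 1, -1, -1, -3, -1, 1⟩, 5543),
  (⟨1, -1, 1, -1, -1, -3, 1, -1⟩, 1317),
  (⟨1, -1, 1, -1, -1, 1, -5, 1⟩, 7652),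
  (⟨1, -1, 1, -1, -1, 1, -3, -1⟩, 11752),
  (⟨1, -1, 1, -1, -1, 1, -1, -3⟩, 9002),
  (⟨1, -1, 1, -1, -1, 1, -1, 1⟩, 12526),
  (⟨1, -1, 1, -1, -1, 1, 1, -1⟩, 5742),
  (⟨1, -1, 1, -1, -1, 1, 1, 3⟩, 4897),
  (⟨1, -1, 1, -1, -1, 1, 3, 1⟩, 4967),
  (⟨1, -1, 1, -1, -1, 1, 5, -1⟩, 11869),
  (⟨1, -1, 1, -1, 1, -1, -5, 1⟩, 11996),
  (⟨1, -1, 1, -1, 1, -1, -3, -1⟩, 5095),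
  (⟨1, -1, 1, -1, 1, -1, -1, -3⟩, 5022),
  (⟨1, -1, 1, -1, 1, -1, -1, 1⟩, 12014),
  (⟨1, -1, 1, -1, 1, -1, 1, -1⟩, 5102),
  (⟨1, -1, 1, -1, 1, -1, 1, 3⟩, 9385),
  (⟨1, -1, 1, -1, 1, -1, 3, 1⟩, 12139),
  (⟨1, -1, 1, -1, 1, -1, 5, -1⟩, 4708),
  (⟨1, -1, 1, -1, 1, 3, -1, 1⟩, 1442),
  (⟨1, -1, 1, -1, 1, 3, 1, -1⟩, 5676),
  (⟨1, -1, 1, -1, 3, 1, -5, 1⟩, 8269),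
  (⟨1, -1, 1, -1, 3, 1, -3, -1⟩, 5081),
  (⟨1, -1, 1, -1, 3, 1, -1, 1⟩, 5223),
  (⟨1, -1, 1, -1, 3, 1, 1, -1⟩, 5737),
  (⟨1, -1, 1, -1, 3, 1, 3, 1⟩, 5204),
  (⟨1, -1, 1, -1, 3, 1, 5, -1⟩, 8383),
  (⟨1, -1, 1, -1, 5, -1, -3, -1⟩, 5027),
  (⟨1, -1, 1, -1, 5, -1, -1, 1⟩, 5214),
  (⟨1, -1, 1, -1, 5, -1, 1, -1⟩, 5092),
  (⟨1, -1, 1, -1, 5, -1, 3, 1⟩, 5182),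
  (⟨1, -1, 1, 1, -4, 0, -6, 0⟩, 7578),
  (⟨1, -1, 1, 1, -4, 0, -4, -2⟩, 4747),
  (⟨1, -1, 1, 1, -4, 0, -4, 2⟩, 8465),
  (⟨1, -1, 1, 1, -4, 0, -2, 0⟩, 5354),
  (⟨1, -1, 1, 1, -4, 0, 0, -2⟩, 4801),
  (⟨1, -1, 1, 1, -4, 0, 0, 2⟩, 8486),
  (⟨1, -1, 1, 1, -4, 0, 2, 0⟩, 7529),
  (⟨1, -1, 1, 1, -4, 0, 4, -2⟩, 8590),
  (⟨1, -1, 1, 1, -4, 0, 4, 2⟩, 4872),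
  (⟨1, -1, 1, 1, -4, 0, 6, 0⟩, 2351),
  (⟨1, -1, 1, 1, -2, -2, -2, 0⟩, 6996),
  (⟨1, -1, 1, 1, -2, -2, 0, -2⟩, 1349),
  (⟨1, -1, 1, 1, -2, -2, 0, 2⟩, 1205),
  (⟨1, -1, 1, 1, -2, -2, 2, 0⟩, 7129),
  (⟨1, -1, 1, 1, -2, 2, -2, 0⟩, 2019),
  (⟨1, -1, 1, 1, -2, 2, 0, -2⟩, 9022),
  (⟨1, -1, 1, 1, -2, 2, 0, 2⟩, 9160),
  (⟨1, -1, 1, 1, -2, 2, 2, 0⟩, 2015),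
  (⟨1, -1, 1, 1, 0, 0, -6, 0⟩, 7617),
  (⟨1, -1, 1, 1, 0, 0, -4, -2⟩, 982),
  (⟨1, -1, 1, 1, 0, 0, -4, 2⟩, 8796),
  (⟨1, -1, 1, 1, 0, 0, -2, 0⟩, 5356),
  (⟨1, -1, 1, 1, 0, 0, 0, -2⟩, 1003),
  (⟨1, -1, 1, 1, 0, 0, 0, 2⟩, 1128),
  (⟨1, -1, 1, 1, 0, 0, 2, 0⟩, 5484),
  (⟨1, -1, 1, 1, 0, 0, 4, -2⟩, 8669),
  (⟨1, -1, 1, 1, 0, 0, 4, 2⟩, 1107),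
  (⟨1, -1, 1, 1, 0, 0, 6, 0⟩, 5441),
  (⟨1, -1, 1, 1, 2, -2, -2, 0⟩, 2144),
  (⟨1, -1, 1, 1, 2, -2, 0, -2⟩, 9289),
  (⟨1, -1, 1, 1, 2, -2, 0, 2⟩, 9415),
  (⟨1, -1, 1, 1, 2, -2, 2, 0⟩, 2146),
  (⟨1, -1, 1, 1, 2, 2, -2, 0⟩, 7256),
  (⟨1, -1, 1, 1, 2, 2, 0, -2⟩, 1582),
  (⟨1, -1, 1, 1, 2, 2, 0, 2⟩, 1472),
  (⟨1, -1, 1, 1, 2, 2, 2, 0⟩, 7381),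
  (⟨1, -1, 1, 1, 4, 0, -6, 0⟩, 2484),
  (⟨1, -1, 1, 1, 4, 0, -4, -2⟩, 4997),
  (⟨1, -1, 1, 1, 4, 0, -4, 2⟩, 8717),
  (⟨1, -1, 1, 1, 4, 0, -2, 0⟩, 7914),
  (⟨1, -1, 1, 1, 4, 0, 0, -2⟩, 8877),
  (⟨1, -1, 1, 1, 4, 0, 0, 2⟩, 8769),
  (⟨1, -1, 1, 1, 4, 0, 2, 0⟩, 5481),
  (⟨1, -1, 1, 1, 4, 0, 4, -2⟩, 8852),
  (⟨1, -1, 1, 1, 4, 0, 4, 2⟩, 5132),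
  (⟨1, -1, 1, 1, 4, 0, 6, 0⟩, 7709),
  (⟨1, -1, 1, 3, -1, 1, -1, 1⟩, 8492),
  (⟨1, -1, 1, 3, -1, 1, 1, -1⟩, 1950),
  (⟨1, -1, 1, 3, 1, -1, -1, 1⟩, 2081),
  (⟨1, -1, 1, 3, 1, -1, 1, -1⟩, 8871),
  (⟨1, -1, 2, -2, -2, 0, -5, -1⟩, 4514),
  (⟨1, -1, 2, -2, -2, 0, -3, 1⟩, 4573),
  (⟨1, -1, 2, -2, -2, 0, -1, -1⟩, 12261),
  (⟨1, -1, 2, -2, -2, 0, 1, 1⟩, 12259),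
  (⟨1, -1, 2, -2, -2, 0, 3, -1⟩, 12254),
  (⟨1, -1, 2, -2, -2, 0, 5, 1⟩, 4669),
  (⟨1, -1, 2, -2, 0, -2, -3, 1⟩, 7958),
  (⟨1, -1, 2, -2, 0, -2, -1, -1⟩, 8012),
  (⟨1, -1, 2, -2, 0, -2, 1, 1⟩, 8135),
  (⟨1, -1, 2, -2, 0, -2, 3, -1⟩, 8088),
  (⟨1, -1, 2, -2, 0, 2, -3, 1⟩, 8215),
  (⟨1, -1, 2, -2, 0, 2, -1, -1⟩, 8254),
  (⟨1, -1, 2, -2, 0, 2, 1, 1⟩, 8397),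
  (⟨1, -1, 2, -2, 0, 2, 3, -1⟩, 8341),
  (⟨1, -1, 2, -2, 2, 0, -5, -1⟩, 4534),
  (⟨1, -1, 2, -2, 2, 0, -3, 1⟩, 12385),
  (⟨1, -1, 2, -2, 2, 0, -1, -1⟩, 12386),
  (⟨1, -1, 2, -2, 2, 0, 1, 1⟩, 1893),
  (⟨1, -1, 2, -2, 2, 0, 3, -1⟩, 4700),
  (⟨1, -1, 2, -2, 2, 0, 5, 1⟩, 4645),
  (⟨1, -1, 2, 0, -7, 1, 0, 0⟩, 7442),
  (⟨1, -1, 2, 0, -5, -1, -4, 0⟩, 2229),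
  (⟨1, -1, 2, 0, -5, -1, -2, -2⟩, 4737),
  (⟨1, -1, 2, 0, -5, -1, -2, 2⟩, 1189),
  (⟨1, -1, 2, 0, -5, -1, 0, 0⟩, 7515),
  (⟨1, -1, 2, 0, -5, -1, 2, -2⟩, 4762),
  (⟨1, -1, 2, 0, -5, -1, 2, 2⟩, 4874),
  (⟨1, -1, 2, 0, -5, -1, 4, 0⟩, 2372),
  (⟨1, -1, 2, 0, -3, -3, 0, 0⟩, 5509),
  (⟨1, -1, 2, 0, -3, 1, -4, 0⟩, 11749),
  (⟨1, -1, 2, 0, -3, 1, -2, -2⟩, 9008)]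

set_option maxRecDepth 1000000 in
def xPairs5 : List (Z8 × Nat) := [
  (⟨1, -1, 2, 0, -3, 1, -2, 2⟩, 8542),
  (⟨1, -1, 2, 0, -3, 1, 0, 0⟩, 2286),
  (⟨1, -1, 2, 0, -3, 1, 2, -2⟩, 9054),
  (⟨1, -1, 2, 0, -3, 1, 2, 2⟩, 4909),
  (⟨1, -1, 2, 0, -3, 1, 4, 0⟩, 2402),
  (⟨1, -1, 2, 0, -1, -1, -4, 0⟩, 5352),
  (⟨1, -1, 2, 0, -1, -1, -2, -2⟩, 4824),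
  (⟨1, -1, 2, 0, -1, -1, -2, 2⟩, 1248),
  (⟨1, -1, 2, 0, -1, -1, 0, 0⟩, 5612),
  (⟨1, -1, 2, 0, -1, -1, 2, -2⟩, 12645),
  (⟨1, -1, 2, 0, -1, -1, 2, 2⟩, 4955),
  (⟨1, -1, 2, 0, -1, -1, 4, 0⟩, 2408),
  (⟨1, -1, 2, 0, -1, 3, 0, 0⟩, 5702),
  (⟨1, -1, 2, 0, 1, -3, 0, 0⟩, 5567),
  (⟨1, -1, 2, 0, 1, 1, -4, 0⟩, 2539),
  (⟨1, -1, 2, 0, 1, 1, -2, -2⟩, 9051),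
  (⟨1, -1, 2, 0, 1, 1, -2, 2⟩, 1509),
  (⟨1, -1, 2, 0, 1, 1, 0, 0⟩, 5740),
  (⟨1, -1, 2, 0, 1, 1, 2, -2⟩, 1631),
  (⟨1, -1, 2, 0, 1, 1, 2, 2⟩, 5209),
  (⟨1, -1, 2, 0, 1, 1, 4, 0⟩, 5483),
  (⟨1, -1, 2, 0, 3, -1, -4, 0⟩, 2531),
  (⟨1, -1, 2, 0, 3, -1, -2, -2⟩, 5030),
  (⟨1, -1, 2, 0, 3, -1, -2, 2⟩, 9441),
  (⟨1, -1, 2, 0, 3, -1, 0, 0⟩, 2158),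
  (⟨1, -1, 2, 0, 3, -1, 2, -2⟩, 8929),
  (⟨1, -1, 2, 0, 3, -1, 2, 2⟩, 9395),
  (⟨1, -1, 2, 0, 3, -1, 4, 0⟩, 2661),
  (⟨1, -1, 2, 0, 3, 3, 0, 0⟩, 5640),
  (⟨1, -1, 2, 0, 5, 1, -4, 0⟩, 2499),
  (⟨1, -1, 2, 0, 5, 1, -2, -2⟩, 5001),
  (⟨1, -1, 2, 0, 5, 1, -2, 2⟩, 5149),
  (⟨1, -1, 2, 0, 5, 1, 0, 0⟩, 5723),
  (⟨1, -1, 2, 0, 5, 1, 2, -2⟩, 1570),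
  (⟨1, -1, 2, 0, 5, 1, 2, 2⟩, 5122),
  (⟨1, -1, 2, 0, 5, 1, 4, 0⟩, 2606),
  (⟨1, -1, 2, 0, 7, -1, 0, 0⟩, 7827),
  (⟨1, -1, 2, 2, -2, 0, -5, -1⟩, 5255),
  (⟨1, -1, 2, 2, -2, 0, -3, 1⟩, 5314),
  (⟨1, -1, 2, 2, -2, 0, -1, -1⟩, 8667),
  (⟨1, -1, 2, 2, -2, 0, 1, 1⟩, 8532),
  (⟨1, -1, 2, 2, -2, 0, 3, -1⟩, 8616),
  (⟨1, -1, 2, 2, -2, 0, 5, 1⟩, 5387),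
  (⟨1, -1, 2, 2, 0, -2, -3, 1⟩, 2077),
  (⟨1, -1, 2, 2, 0, -2, -1, -1⟩, 2101),
  (⟨1, -1, 2, 2, 0, -2, 1, 1⟩, 2079),
  (⟨1, -1, 2, 2, 0, -2, 3, -1⟩, 7101),
  (⟨1, -1, 2, 2, 0, 2, -3, 1⟩, 7222),
  (⟨1, -1, 2, 2, 0, 2, -1, -1⟩, 1952),
  (⟨1, -1, 2, 2, 0, 2, 1, 1⟩, 1966),
  (⟨1, -1, 2, 2, 0, 2, 3, -1⟩, 1946),
  (⟨1, -1, 2, 2, 2, 0, -5, -1⟩, 5260),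
  (⟨1, -1, 2, 2, 2, 0, -3, 1⟩, 8747),
  (⟨1, -1, 2, 2, 2, 0, -1, -1⟩, 8917),
  (⟨1, -1, 2, 2, 2, 0, 1, 1⟩, 5467),
  (⟨1, -1, 2, 2, 2, 0, 3, -1⟩, 8898),
  (⟨1, -1, 2, 2, 2, 0, 5, 1⟩, 5382),
  (⟨1, -1, 3, -1, -4, 0, -2, 0⟩, 2272),
  (⟨1, -1, 3, -1, -4, 0, 0, -2⟩, 4772),
  (⟨1, -1, 3, -1, -4, 0, 0, 2⟩, 4923),
  (⟨1, -1, 3, -1, -4, 0, 2, 0⟩, 12262),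
  (⟨1, -1, 3, -1, -2, -2, -2, 0⟩, 5561),
  (⟨1, -1, 3, -1, -2, -2, 0, -2⟩, 1341),
  (⟨1, -1, 3, -1, -2, -2, 0, 2⟩, 5531),
  (⟨1, -1, 3, -1, -2, -2, 2, 0⟩, 5542),
  (⟨1, -1, 3, -1, -2, 2, -2, 0⟩, 5729),
  (⟨1, -1, 3, -1, -2, 2, 0, -2⟩, 8978),
  (⟨1, -1, 3, -1, -2, 2, 0, 2⟩, 9109),
  (⟨1, -1, 3, -1, -2, 2, 2, 0⟩, 9182),
  (⟨1, -1, 3, -1, 0, 0, -6, 0⟩, 7614),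
  (⟨1, -1, 3, -1, 0, 0, -4, -2⟩, 1731),
  (⟨1, -1, 3, -1, 0, 0, -4, 2⟩, 12496),
  (⟨1, -1, 3, -1, 0, 0, -2, 0⟩, 2542),
  (⟨1, -1, 3, -1, 0, 0, 0, -2⟩, 1766),
  (⟨1, -1, 3, -1, 0, 0, 0, 2⟩, 12518),
  (⟨1, -1, 3, -1, 0, 0, 2, 0⟩, 5614),
  (⟨1, -1, 3, -1, 0, 0, 4, -2⟩, 12624),
  (⟨1, -1, 3, -1, 0, 0, 4, 2⟩, 1860),
  (⟨1, -1, 3, -1, 0, 0, 6, 0⟩, 7751),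
  (⟨1, -1, 3, -1, 2, -2, -2, 0⟩, 9313),
  (⟨1, -1, 3, -1, 2, -2, 0, -2⟩, 9238),
  (⟨1, -1, 3, -1, 2, -2, 0, 2⟩, 9363),
  (⟨1, -1, 3, -1, 2, -2, 2, 0⟩, 5598),
  (⟨1, -1, 3, -1, 2, 2, -2, 0⟩, 5677),
  (⟨1, -1, 3, -1, 2, 2, 0, -2⟩, 5660),
  (⟨1, -1, 3, -1, 2, 2, 0, 2⟩, 1462),
  (⟨1, -1, 3, -1, 2, 2, 2, 0⟩, 5690),
  (⟨1, -1, 3, -1, 4, 0, -2, 0⟩, 2534),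
  (⟨1, -1, 3, -1, 4, 0, 0, -2⟩, 5048),
  (⟨1, -1, 3, -1, 4, 0, 0, 2⟩, 5155),
  (⟨1, -1, 3, -1, 4, 0, 2, 0⟩, 2655),
  (⟨1, -1, 3, 1, -5, 1, -3, -1⟩, 2220),
  (⟨1, -1, 3, 1, -5, 1, -1, 1⟩, 8483),
  (⟨1, -1, 3, 1, -5, 1, 1, -1⟩, 8649),
  (⟨1, -1, 3, 1, -5, 1, 3, 1⟩, 4925),
  (⟨1, -1, 3, 1, -3, -1, -5, 1⟩, 5287),
  (⟨1, -1, 3, 1, -3, -1, -3, -1⟩, 5331),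
  (⟨1, -1, 3, 1, -3, -1, -1, 1⟩, 8538),
  (⟨1, -1, 3, 1, -3, -1, 1, -1⟩, 8661),
  (⟨1, -1, 3, 1, -3, -1, 3, 1⟩, 5591),
  (⟨1, -1, 3, 1, -3, -1, 5, -1⟩, 8603),
  (⟨1, -1, 3, 1, -1, 1, -5, 1⟩, 5307),
  (⟨1, -1, 3, 1, -1, 1, -3, -1⟩, 5337),
  (⟨1, -1, 3, 1, -1, 1, -1, 1⟩, 8553),
  (⟨1, -1, 3, 1, -1, 1, 1, -1⟩, 2023),
  (⟨1, -1, 3, 1, -1, 1, 3, 1⟩, 9178),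
  (⟨1, -1, 3, 1, -1, 1, 5, -1⟩, 5446),
  (⟨1, -1, 3, 1, 1, -1, -5, 1⟩, 5311),
  (⟨1, -1, 3, 1, 1, -1, -3, -1⟩, 5338),
  (⟨1, -1, 3, 1, 1, -1, -1, 1⟩, 2151),
  (⟨1, -1, 3, 1, 1, -1, 1, -1⟩, 8938),
  (⟨1, -1, 3, 1, 1, -1, 3, 1⟩, 5464),
  (⟨1, -1, 3, 1, 1, -1, 5, -1⟩, 5432),
  (⟨1, -1, 3, 1, 3, 1, -5, 1⟩, 8732),
  (⟨1, -1, 3, 1, 3, 1, -3, -1⟩, 2519),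
  (⟨1, -1, 3, 1, 3, 1, -1, 1⟩, 8788),
  (⟨1, -1, 3, 1, 3, 1, 1, -1⟩, 5722),
  (⟨1, -1, 3, 1, 3, 1, 3, 1⟩, 5462),
  (⟨1, -1, 3, 1, 3, 1, 5, -1⟩, 5420),
  (⟨1, -1, 3, 1, 5, -1, -3, -1⟩, 5046),
  (⟨1, -1, 3, 1, 5, -1, -1, 1⟩, 8776),
  (⟨1, -1, 3, 1, 5, -1, 1, -1⟩, 8868),
  (⟨1, -1, 3, 1, 5, -1, 3, 1⟩, 2599),
  (⟨1, -1, 3, 3, 0, 0, -2, 0⟩, 5259),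
  (⟨1, -1, 3, 3, 0, 0, 2, 0⟩, 5388),
  (⟨1, -1, 4, -2, -3, 1, 0, 0⟩, 12240),
  (⟨1, -1, 4, -2, -1, -1, -4, 0⟩, 7959),
  (⟨1, -1, 4, -2, -1, -1, 0, 0⟩, 5596),
  (⟨1, -1, 4, -2, -1, -1, 4, 0⟩, 8086),
  (⟨1, -1, 4, -2, 1, 1, -4, 0⟩, 8213),
  (⟨1, -1, 4, -2, 1, 1, 0, 0⟩, 5725),
  (⟨1, -1, 4, -2, 1, 1, 4, 0⟩, 8344),
  (⟨1, -1, 4, -2, 3, -1, 0, 0⟩, 12368),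
  (⟨1, -1, 4, 0, -6, 0, -1, -1⟩, 2204),
  (⟨1, -1, 4, 0, -6, 0, 1, 1⟩, 7473),
  (⟨1, -1, 4, 0, -4, -2, -1, -1⟩, 5513),
  (⟨1, -1, 4, 0, -4, -2, 1, 1⟩, 5505),
  (⟨1, -1, 4, 0, -4, 2, -1, -1⟩, 8981),
  (⟨1, -1, 4, 0, -4, 2, 1, 1⟩, 9105),
  (⟨1, -1, 4, 0, -2, 0, -5, -1⟩, 2245),
  (⟨1, -1, 4, 0, -2, 0, -3, 1⟩, 2275),
  (⟨1, -1, 4, 0, -2, 0, -1, -1⟩, 2281),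
  (⟨1, -1, 4, 0, -2, 0, 1, 1⟩, 5611),
  (⟨1, -1, 4, 0, -2, 0, 3, -1⟩, 2400),
  (⟨1, -1, 4, 0, -2, 0, 5, 1⟩, 2335),
  (⟨1, -1, 4, 0, 0, -2, -3, 1⟩, 5563),
  (⟨1, -1, 4, 0, 0, -2, -1, -1⟩, 9267),
  (⟨1, -1, 4, 0, 0, -2, 1, 1⟩, 5544),
  (⟨1, -1, 4, 0, 0, -2, 3, -1⟩, 5566),
  (⟨1, -1, 4, 0, 0, 2, -3, 1⟩, 5703),
  (⟨1, -1, 4, 0, 0, 2, -1, -1⟩, 5675),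
  (⟨1, -1, 4, 0, 0, 2, 1, 1⟩, 9136),
  (⟨1, -1, 4, 0, 0, 2, 3, -1⟩, 5688),
  (⟨1, -1, 4, 0, 2, 0, -5, -1⟩, 2464),
  (⟨1, -1, 4, 0, 2, 0, -3, 1⟩, 2527),
  (⟨1, -1, 4, 0, 2, 0, -1, -1⟩, 5736),
  (⟨1, -1, 4, 0, 2, 0, 1, 1⟩, 2666),
  (⟨1, -1, 4, 0, 2, 0, 3, -1⟩, 2658),
  (⟨1, -1, 4, 0, 2, 0, 5, 1⟩, 2624),
  (⟨1, -1, 4, 0, 4, -2, -1, -1⟩, 9236),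
  (⟨1, -1, 4, 0, 4, -2, 1, 1⟩, 9366),
  (⟨1, -1, 4, 0, 4, 2, -1, -1⟩, 5634),
  (⟨1, -1, 4, 0, 4, 2, 1, 1⟩, 5642),
  (⟨1, -1, 4, 0, 6, 0, -1, -1⟩, 7858),
  (⟨1, -1, 4, 0, 6, 0, 1, 1⟩, 2587),
  (⟨1, -1, 4, 2, -3, 1, 0, 0⟩, 1951),
  (⟨1, -1, 4, 2, -1, -1, -4, 0⟩, 5253),
  (⟨1, -1, 4, 2, -1, -1, 0, 0⟩, 2130),
  (⟨1, -1, 4, 2, -1, -1, 4, 0⟩, 5385),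
  (⟨1, -1, 4, 2, 1, 1, -4, 0⟩, 5258),
  (⟨1, -1, 4, 2, 1, 1, 0, 0⟩, 2001),
  (⟨1, -1, 4, 2, 1, 1, 4, 0⟩, 5384),
  (⟨1, -1, 4, 2, 3, -1, 0, 0⟩, 2080),
  (⟨1, -1, 5, -1, -3, -1, -3, -1⟩, 2218),
  (⟨1, -1, 5, -1, -3, -1, -1, 1⟩, 5540),
  (⟨1, -1, 5, -1, -3, -1, 1, -1⟩, 5560),
  (⟨1, -1, 5, -1, -3, -1, 3, 1⟩, 5530),
  (⟨1, -1, 5, -1, -1, 1, -3, -1⟩, 9033),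
  (⟨1, -1, 5, -1, -1, 1, -1, 1⟩, 12516),
  (⟨1, -1, 5, -1, -1, 1, 1, -1⟩, 5724),
  (⟨1, -1, 5, -1, -1, 1, 3, 1⟩, 9151),
  (⟨1, -1, 5, -1, 1, -1, -3, -1⟩, 9286),
  (⟨1, -1, 5, -1, 1, -1, -1, 1⟩, 5597),
  (⟨1, -1, 5, -1, 1, -1, 1, -1⟩, 5604),
  (⟨1, -1, 5, -1, 1, -1, 3, 1⟩, 9416),
  (⟨1, -1, 5, -1, 3, 1, -3, -1⟩, 5661),
  (⟨1, -1, 5, -1, 3, 1, -1, 1⟩, 5691),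
  (⟨1, -1, 5, -1, 3, 1, 1, -1⟩, 5667),
  (⟨1, -1, 5, -1, 3, 1, 3, 1⟩, 2601),
  (⟨1, -1, 5, 1, -4, 0, -2, 0⟩, 2208),
  (⟨1, -1, 5, 1, -4, 0, 2, 0⟩, 2357),
  (⟨1, -1, 5, 1, -2, -2, -2, 0⟩, 5514),
  (⟨1, -1, 5, 1, -2, -2, 2, 0⟩, 5510),
  (⟨1, -1, 5, 1, -2, 2, -2, 0⟩, 1953),
  (⟨1, -1, 5, 1, -2, 2, 2, 0⟩, 1947),
  (⟨1, -1, 5, 1, 0, 0, -2, 0⟩, 5336),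
  (⟨1, -1, 5, 1, 0, 0, 0, -2⟩, 12622),
  (⟨1, -1, 5, 1, 0, 0, 0, 2⟩, 12495),
  (⟨1, -1, 5, 1, 0, 0, 2, 0⟩, 5465),
  (⟨1, -1, 5, 1, 2, -2, -2, 0⟩, 2076),
  (⟨1, -1, 5, 1, 2, -2, 2, 0⟩, 2078),
  (⟨1, -1, 5, 1, 2, 2, -2, 0⟩, 5639),
  (⟨1, -1, 5, 1, 2, 2, 2, 0⟩, 5641),
  (⟨1, -1, 5, 1, 4, 0, -2, 0⟩, 2478),
  (⟨1, -1, 5, 1, 4, 0, 2, 0⟩, 2591),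
  (⟨1, -1, 6, 0, -3, 1, 0, 0⟩, 9544),
  (⟨1, -1, 6, 0, -1, -1, -4, 0⟩, 2225),
  (⟨1, -1, 6, 0, -1, -1, 0, 0⟩, 5562),
  (⟨1, -1, 6, 0, -1, -1, 4, 0⟩, 2333),
  (⟨1, -1, 6, 0, 1, 1, -4, 0⟩, 2458),
  (⟨1, -1, 6, 0, 1, 1, 0, 0⟩, 5689),
  (⟨1, -1, 6, 0, 1, 1, 4, 0⟩, 2610),
  (⟨1, -1, 6, 0, 3, -1, 0, 0⟩, 9545),
  (⟨1, -1, 7, -1, 0, 0, -2, 0⟩, 9494),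
  (⟨1, -1, 7, -1, 0, 0, 2, 0⟩, 9493),
  (⟨1, 1, -7, -1, -2, 0, 0, 0⟩, 5764),
  (⟨1, 1, -7, -1, 2, 0, 0, 0⟩, 5763),
  (⟨1, 1, -6, 0, -4, 0, -1, 1⟩, 5809),
  (⟨1, 1, -6, 0, -4, 0, 1, -1⟩, 5812),
  (⟨1, 1, -6, 0, 0, 0, -3, -1⟩, 5806),
  (⟨1, 1, -6, 0, 0, 0, -1, 1⟩, 5808),
  (⟨1, 1, -6, 0, 0, 0, 1, -1⟩, 5811),
  (⟨1, 1, -6, 0, 0, 0, 3, 1⟩, 5813),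
  (⟨1, 1, -6, 0, 4, 0, -1, 1⟩, 5807),
  (⟨1, 1, -6, 0, 4, 0, 1, -1⟩, 5810),
  (⟨1, 1, -5, -1, -3, 1, -3, 1⟩, 6441),
  (⟨1, 1, -5, -1, -3, 1, -1, -1⟩, 5941),
  (⟨1, 1, -5, -1, -3, 1, 1, 1⟩, 6083),
  (⟨1, 1, -5, -1, -3, 1, 3, -1⟩, 6575),
  (⟨1, 1, -5, -1, -1, -1, -3, 1⟩, 2767),
  (⟨1, 1, -5, -1, -1, -1, -1, -1⟩, 5847),
  (⟨1, 1, -5, -1, -1, -1, 1, 1⟩, 9683),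
  (⟨1, 1, -5, -1, -1, -1, 3, -1⟩, 2891),
  (⟨1, 1, -5, -1, 1, 1, -3, 1⟩, 2762),
  (⟨1, 1, -5, -1, 1, 1, -1, -1⟩, 9814),
  (⟨1, 1, -5, -1, 1, 1, 1, 1⟩, 6103),
  (⟨1, 1, -5, -1, 1, 1, 3, -1⟩, 2894),
  (⟨1, 1, -5, -1, 3, -1, -3, 1⟩, 6708),
  (⟨1, 1, -5, -1, 3, -1, -1, -1⟩, 6212),
  (⟨1, 1, -5, -1, 3, -1, 1, 1⟩, 6318),
  (⟨1, 1, -5, -1, 3, -1, 3, -1⟩, 6826),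
  (⟨1, 1, -5, 1, -2, 0, -4, 0⟩, 205),
  (⟨1, 1, -5, 1, -2, 0, -2, -2⟩, 5918),
  (⟨1, 1, -5, 1, -2, 0, -2, 2⟩, 2704),
  (⟨1, 1, -5, 1, -2, 0, 0, 0⟩, 5859),
  (⟨1, 1, -5, 1, -2, 0, 2, -2⟩, 2834),
  (⟨1, 1, -5, 1, -2, 0, 2, 2⟩, 2748),
  (⟨1, 1, -5, 1, -2, 0, 4, 0⟩, 328),
  (⟨1, 1, -5, 1, 0, -2, 0, 0⟩, 9636),
  (⟨1, 1, -5, 1, 0, 2, 0, 0⟩, 9763),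
  (⟨1, 1, -5, 1, 2, 0, -4, 0⟩, 457),
  (⟨1, 1, -5, 1, 2, 0, -2, -2⟩, 2871),
  (⟨1, 1, -5, 1, 2, 0, -2, 2⟩, 2707),
  (⟨1, 1, -5, 1, 2, 0, 0, 0⟩, 5858),
  (⟨1, 1, -5, 1, 2, 0, 2, -2⟩, 2831),
  (⟨1, 1, -5, 1, 2, 0, 2, 2⟩, 6305),
  (⟨1, 1, -5, 1, 2, 0, 4, 0⟩, 588),
  (⟨1, 1, -4, -2, -4, 0, -1, 1⟩, 6401),
  (⟨1, 1, -4, -2, -4, 0, 1, -1⟩, 6531),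
  (⟨1, 1, -4, -2, 0, 0, -3, -1⟩, 9881),
  (⟨1, 1, -4, -2, 0, 0, -1, 1⟩, 6742),
  (⟨1, 1, -4, -2, 0, 0, 1, -1⟩, 6611),
  (⟨1, 1, -4, -2, 0, 0, 3, 1⟩, 10009),
  (⟨1, 1, -4, -2, 4, 0, -1, 1⟩, 6660),
  (⟨1, 1, -4, -2, 4, 0, 1, -1⟩, 6786),
  (⟨1, 1, -4, 0, -5, 1, -2, 0⟩, 199),
  (⟨1, 1, -4, 0, -5, 1, 2, 0⟩, 333),
  (⟨1, 1, -4, 0, -3, -1, -2, 0⟩, 9688),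
  (⟨1, 1, -4, 0, -3, -1, 0, -2⟩, 2885),
  (⟨1, 1, -4, 0, -3, -1, 0, 2⟩, 2763),
  (⟨1, 1, -4, 0, -3, -1, 2, 0⟩, 9685),
  (⟨1, 1, -4, 0, -1, 1, -6, 0⟩, 7612),
  (⟨1, 1, -4, 0, -1, 1, -4, -2⟩, 5891),
  (⟨1, 1, -4, 0, -1, 1, -4, 2⟩, 2703),
  (⟨1, 1, -4, 0, -1, 1, -2, 0⟩, 9833),
  (⟨1, 1, -4, 0, -1, 1, 0, -2⟩, 5931),
  (⟨1, 1, -4, 0, -1, 1, 0, 2⟩, 2745),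
  (⟨1, 1, -4, 0, -1, 1, 2, 0⟩, 6123),
  (⟨1, 1, -4, 0, -1, 1, 4, -2⟩, 2840),
  (⟨1, 1, -4, 0, -1, 1, 4, 2⟩, 6024),
  (⟨1, 1, -4, 0, -1, 1, 6, 0⟩, 306),
  (⟨1, 1, -4, 0, 1, -1, -6, 0⟩, 433),
  (⟨1, 1, -4, 0, 1, -1, -4, -2⟩, 6149),
  (⟨1, 1, -4, 0, 1, -1, -4, 2⟩, 2711),
  (⟨1, 1, -4, 0, 1, -1, -2, 0⟩, 6248),
  (⟨1, 1, -4, 0, 1, -1, 0, -2⟩, 2874),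
  (⟨1, 1, -4, 0, 1, -1, 0, 2⟩, 6312),
  (⟨1, 1, -4, 0, 1, -1, 2, 0⟩, 9706),
  (⟨1, 1, -4, 0, 1, -1, 4, -2⟩, 2832),
  (⟨1, 1, -4, 0, 1, -1, 4, 2⟩, 6276),
  (⟨1, 1, -4, 0, 1, -1, 6, 0⟩, 7735),
  (⟨1, 1, -4, 0, 3, 1, -2, 0⟩, 9812),
  (⟨1, 1, -4, 0, 3, 1, 0, -2⟩, 2890),
  (⟨1, 1, -4, 0, 3, 1, 0, 2⟩, 2752),
  (⟨1, 1, -4, 0, 3, 1, 2, 0⟩, 9817),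
  (⟨1, 1, -4, 0, 5, -1, -2, 0⟩, 460),
  (⟨1, 1, -4, 0, 5, -1, 2, 0⟩, 574),
  (⟨1, 1, -4, 2, -4, 0, -1, 1⟩, 2961),
  (⟨1, 1, -4, 2, -4, 0, 1, -1⟩, 2960),
  (⟨1, 1, -4, 2, 0, 0, -3, -1⟩, 972),
  (⟨1, 1, -4, 2, 0, 0, -1, 1⟩, 2785),
  (⟨1, 1, -4, 2, 0, 0, 1, -1⟩, 2910),
  (⟨1, 1, -4, 2, 0, 0, 3, 1⟩, 1101),
  (⟨1, 1, -4, 2, 4, 0, -1, 1⟩, 3087),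
  (⟨1, 1, -4, 2, 4, 0, 1, -1⟩, 3092),
  (⟨1, 1, -3, -1, -6, 0, 0, 0⟩, 7488),
  (⟨1, 1, -3, -1, -4, -2, 0, 0⟩, 9625),
  (⟨1, 1, -3, -1, -4, 2, 0, 0⟩, 710),
  (⟨1, 1, -3, -1, -2, 0, -4, 0⟩, 9940),
  (⟨1, 1, -3, -1, -2, 0, -2, -2⟩, 5970),
  (⟨1, 1, -3, -1, -2, 0, -2, 2⟩, 6451),
  (⟨1, 1, -3, -1, -2, 0, 0, 0⟩, 6509),
  (⟨1, 1, -3, -1, -2, 0, 2, -2⟩, 6566),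
  (⟨1, 1, -3, -1, -2, 0, 2, 2⟩, 6482),
  (⟨1, 1, -3, -1, -2, 0, 4, 0⟩, 10075),
  (⟨1, 1, -3, -1, 0, -2, -4, 0⟩, 3531),
  (⟨1, 1, -3, -1, 0, -2, -2, -2⟩, 6147),
  (⟨1, 1, -3, -1, 0, -2, -2, 2⟩, 6327),
  (⟨1, 1, -3, -1, 0, -2, 0, 0⟩, 859),
  (⟨1, 1, -3, -1, 0, -2, 2, -2⟩, 2877),
  (⟨1, 1, -3, -1, 0, -2, 2, 2⟩, 6278),
  (⟨1, 1, -3, -1, 0, -2, 4, 0⟩, 3662),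
  (⟨1, 1, -3, -1, 0, 2, -4, 0⟩, 3279),
  (⟨1, 1, -3, -1, 0, 2, -2, -2⟩, 5895),
  (⟨1, 1, -3, -1, 0, 2, -2, 2⟩, 2742),
  (⟨1, 1, -3, -1, 0, 2, 0, 0⟩, 9819),
  (⟨1, 1, -3, -1, 0, 2, 2, -2⟩, 5948),
  (⟨1, 1, -3, -1, 0, 2, 2, 2⟩, 6020),
  (⟨1, 1, -3, -1, 0, 2, 4, 0⟩, 3402),
  (⟨1, 1, -3, -1, 2, 0, -4, 0⟩, 475),
  (⟨1, 1, -3, -1, 2, 0, -2, -2⟩, 6865),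
  (⟨1, 1, -3, -1, 2, 0, -2, 2⟩, 6701),
  (⟨1, 1, -3, -1, 2, 0, 0, 0⟩, 10093),
  (⟨1, 1, -3, -1, 2, 0, 2, -2⟩, 6832),
  (⟨1, 1, -3, -1, 2, 0, 2, 2⟩, 6353),
  (⟨1, 1, -3, -1, 2, 0, 4, 0⟩, 10069),
  (⟨1, 1, -3, -1, 4, -2, 0, 0⟩, 831),
  (⟨1, 1, -3, -1, 4, 2, 0, 0⟩, 9753),
  (⟨1, 1, -3, -1, 6, 0, 0, 0⟩, 7877),
  (⟨1, 1, -3, 1, -5, -1, -3, 1⟩, 6951),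
  (⟨1, 1, -3, 1, -5, -1, -1, -1⟩, 3019),
  (⟨1, 1, -3, 1, -5, -1, 1, 1⟩, 3012),
  (⟨1, 1, -3, 1, -5, -1, 3, -1⟩, 3004),
  (⟨1, 1, -3, 1, -3, 1, -5, -1⟩, 3244),
  (⟨1, 1, -3, 1, -3, 1, -3, 1⟩, 2781),
  (⟨1, 1, -3, 1, -3, 1, -1, -1⟩, 5986),
  (⟨1, 1, -3, 1, -3, 1, 1, 1⟩, 3045),
  (⟨1, 1, -3, 1, -3, 1, 3, -1⟩, 3428),
  (⟨1, 1, -3, 1, -3, 1, 5, 1⟩, 6077),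
  (⟨1, 1, -3, 1, -1, -1, -5, -1⟩, 6990),
  (⟨1, 1, -3, 1, -1, -1, -3, 1⟩, 7013),
  (⟨1, 1, -3, 1, -1, -1, -1, -1⟩, 2921),
  (⟨1, 1, -3, 1, -1, -1, 1, 1⟩, 9703),
  (⟨1, 1, -3, 1, -1, -1, 3, -1⟩, 2912),
  (⟨1, 1, -3, 1, -1, -1, 5, 1⟩, 7086),
  (⟨1, 1, -3, 1, 1, 1, -5, -1⟩, 7221),
  (⟨1, 1, -3, 1, 1, 1, -3, 1⟩, 2783),
  (⟨1, 1, -3, 1, 1, 1, -1, -1⟩, 9831),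
  (⟨1, 1, -3, 1, 1, 1, 1, 1⟩, 2794),
  (⟨1, 1, -3, 1, 1, 1, 3, -1⟩, 2917),
  (⟨1, 1, -3, 1, 1, 1, 5, 1⟩, 7375),
  (⟨1, 1, -3, 1, 3, -1, -5, -1⟩, 6198),
  (⟨1, 1, -3, 1, 3, -1, -3, 1⟩, 3172),
  (⟨1, 1, -3, 1, 3, -1, -1, -1⟩, 6245),
  (⟨1, 1, -3, 1, 3, -1, 1, 1⟩, 6371),
  (⟨1, 1, -3, 1, 3, -1, 3, -1⟩, 2908),
  (⟨1, 1, -3, 1, 3, -1, 5, 1⟩, 3623),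
  (⟨1, 1, -3, 1, 5, 1, -3, 1⟩, 3127),
  (⟨1, 1, -3, 1, 5, 1, -1, -1⟩, 3139),
  (⟨1, 1, -3, 1, 5, 1, 1, 1⟩, 3146),
  (⟨1, 1, -3, 1, 5, 1, 3, -1⟩, 7340),
  (⟨1, 1, -3, 3, -2, 0, 0, 0⟩, 2957),
  (⟨1, 1, -3, 3, 2, 0, 0, 0⟩, 3086),
  (⟨1, 1, -2, -2, -5, 1, -2, 0⟩, 6434),
  (⟨1, 1, -2, -2, -5, 1, 2, 0⟩, 701),
  (⟨1, 1, -2, -2, -3, -1, -2, 0⟩, 8019),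
  (⟨1, 1, -2, -2, -3, -1, 0, -2⟩, 6529),
  (⟨1, 1, -2, -2, -3, -1, 0, 2⟩, 6404),
  (⟨1, 1, -2, -2, -3, -1, 2, 0⟩, 6610),
  (⟨1, 1, -2, -2, -1, 1, -2, 0⟩, 9946),
  (⟨1, 1, -2, -2, -1, 1, 0, -2⟩, 6592),
  (⟨1, 1, -2, -2, -1, 1, 0, 2⟩, 6431),
  (⟨1, 1, -2, -2, -1, 1, 2, 0⟩, 729),
  (⟨1, 1, -2, -2, 1, -1, -2, 0⟩, 856),
  (⟨1, 1, -2, -2, 1, -1, 0, -2⟩, 6816),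
  (⟨1, 1, -2, -2, 1, -1, 0, 2⟩, 6725),
  (⟨1, 1, -2, -2, 1, -1, 2, 0⟩, 858),
  (⟨1, 1, -2, -2, 3, 1, -2, 0⟩, 6737),
  (⟨1, 1, -2, -2, 3, 1, 0, -2⟩, 6787),
  (⟨1, 1, -2, -2, 3, 1, 0, 2⟩, 6658),
  (⟨1, 1, -2, -2, 3, 1, 2, 0⟩, 8406),
  (⟨1, 1, -2, -2, 5, -1, -2, 0⟩, 822),
  (⟨1, 1, -2, -2, 5, -1, 2, 0⟩, 6821),
  (⟨1, 1, -2, 0, -4, 0, -5, 1⟩, 201),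
  (⟨1, 1, -2, 0, -4, 0, -3, -1⟩, 10202),
  (⟨1, 1, -2, 0, -4, 0, -1, 1⟩, 6507),
  (⟨1, 1, -2, 0, -4, 0, 1, -1⟩, 10216),
  (⟨1, 1, -2, 0, -4, 0, 3, 1⟩, 10328),
  (⟨1, 1, -2, 0, -4, 0, 5, -1⟩, 326),
  (⟨1, 1, -2, 0, -2, -2, -5, 1⟩, 3493),
  (⟨1, 1, -2, 0, -2, -2, -3, -1⟩, 6225),
  (⟨1, 1, -2, 0, -2, -2, -1, 1⟩, 9684),
  (⟨1, 1, -2, 0, -2, -2, 1, -1⟩, 1370),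
  (⟨1, 1, -2, 0, -2, -2, 3, 1⟩, 9682),
  (⟨1, 1, -2, 0, -2, -2, 5, -1⟩, 1327),
  (⟨1, 1, -2, 0, -2, 2, -5, 1⟩, 3223),
  (⟨1, 1, -2, 0, -2, 2, -3, -1⟩, 3258),
  (⟨1, 1, -2, 0, -2, 2, -1, 1⟩, 6115),
  (⟨1, 1, -2, 0, -2, 2, 1, -1⟩, 3430),
  (⟨1, 1, -2, 0, -2, 2, 3, 1⟩, 6061),
  (⟨1, 1, -2, 0, -2, 2, 5, -1⟩, 3343),
  (⟨1, 1, -2, 0, 0, 0, -7, -1⟩, 7559),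
  (⟨1, 1, -2, 0, 0, 0, -5, 1⟩, 2790),
  (⟨1, 1, -2, 0, 0, 0, -3, -1⟩, 9965),
  (⟨1, 1, -2, 0, 0, 0, -3, 3⟩, 2705),
  (⟨1, 1, -2, 0, 0, 0, -1, -3⟩, 2883),
  (⟨1, 1, -2, 0, 0, 0, -1, 1⟩, 2796),
  (⟨1, 1, -2, 0, 0, 0, 1, -1⟩, 2924),
  (⟨1, 1, -2, 0, 0, 0, 1, 3⟩, 2756),
  (⟨1, 1, -2, 0, 0, 0, 3, -3⟩, 2836),
  (⟨1, 1, -2, 0, 0, 0, 3, 1⟩, 10349),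
  (⟨1, 1, -2, 0, 0, 0, 5, -1⟩, 7782),
  (⟨1, 1, -2, 0, 0, 0, 7, 1⟩, 7686),
  (⟨1, 1, -2, 0, 2, -2, -5, 1⟩, 3472),
  (⟨1, 1, -2, 0, 2, -2, -3, -1⟩, 6182),
  (⟨1, 1, -2, 0, 2, -2, -1, 1⟩, 6374),
  (⟨1, 1, -2, 0, 2, -2, 1, -1⟩, 6242),
  (⟨1, 1, -2, 0, 2, -2, 3, 1⟩, 3641),
  (⟨1, 1, -2, 0, 2, -2, 5, -1⟩, 3608),
  (⟨1, 1, -2, 0, 2, 2, -5, 1⟩, 1460),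
  (⟨1, 1, -2, 0, 2, 2, -3, -1⟩, 9809),
  (⟨1, 1, -2, 0, 2, 2, -1, 1⟩, 9818),
  (⟨1, 1, -2, 0, 2, 2, 1, -1⟩, 9813),
  (⟨1, 1, -2, 0, 2, 2, 3, 1⟩, 6098),
  (⟨1, 1, -2, 0, 2, 2, 5, -1⟩, 3362),
  (⟨1, 1, -2, 0, 4, 0, -5, 1⟩, 447),
  (⟨1, 1, -2, 0, 4, 0, -3, -1⟩, 10457),
  (⟨1, 1, -2, 0, 4, 0, -1, 1⟩, 10603),
  (⟨1, 1, -2, 0, 4, 0, 1, -1⟩, 6888),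
  (⟨1, 1, -2, 0, 4, 0, 3, 1⟩, 602),
  (⟨1, 1, -2, 0, 4, 0, 5, -1⟩, 584),
  (⟨1, 1, -2, 2, -5, 1, -2, 0⟩, 2962),
  (⟨1, 1, -2, 2, -5, 1, 2, 0⟩, 2958),
  (⟨1, 1, -2, 2, -3, -1, -2, 0⟩, 6978),
  (⟨1, 1, -2, 2, -3, -1, 0, -2⟩, 3005),
  (⟨1, 1, -2, 2, -3, -1, 0, 2⟩, 2991),
  (⟨1, 1, -2, 2, -3, -1, 2, 0⟩, 2987),
  (⟨1, 1, -2, 2, -1, 1, -2, 0⟩, 3046),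
  (⟨1, 1, -2, 2, -1, 1, 0, -2⟩, 973),
  (⟨1, 1, -2, 2, -1, 1, 0, 2⟩, 1097),
  (⟨1, 1, -2, 2, -1, 1, 2, 0⟩, 3039),
  (⟨1, 1, -2, 2, 1, -1, -2, 0⟩, 3168),
  (⟨1, 1, -2, 2, 1, -1, 0, -2⟩, 968),
  (⟨1, 1, -2, 2, 1, -1, 0, 2⟩, 1100),
  (⟨1, 1, -2, 2, 1, -1, 2, 0⟩, 7142),
  (⟨1, 1, -2, 2, 3, 1, -2, 0⟩, 3112),
  (⟨1, 1, -2, 2, 3, 1, 0, -2⟩, 3124),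
  (⟨1, 1, -2, 2, 3, 1, 0, 2⟩, 3126),
  (⟨1, 1, -2, 2, 3, 1, 2, 0⟩, 3138),
  (⟨1, 1, -2, 2, 5, -1, -2, 0⟩, 3085),
  (⟨1, 1, -2, 2, 5, -1, 2, 0⟩, 3091),
  (⟨1, 1, -1, -3, -2, 0, 0, 0⟩, 3790),
  (⟨1, 1, -1, -3, 2, 0, 0, 0⟩, 3919),
  (⟨1, 1, -1, -1, -5, -1, -3, 1⟩, 6467),
  (⟨1, 1, -1, -1, -5, -1, -1, -1⟩, 6615),
  (⟨1, 1, -1, -1, -5, -1, 1, 1⟩, 6486),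
  (⟨1, 1, -1, -1, -5, -1, 3, -1⟩, 6560),
  (⟨1, 1, -1, -1, -3, 1, -5, -1⟩, 3269),
  (⟨1, 1, -1, -1, -3, 1, -3, 1⟩, 6495),
  (⟨1, 1, -1, -1, -3, 1, -1, -1⟩, 747),
  (⟨1, 1, -1, -1, -3, 1, 1, 1⟩, 6503),
  (⟨1, 1, -1, -1, -3, 1, 3, -1⟩, 6626),
  (⟨1, 1, -1, -1, -3, 1, 5, 1⟩, 3406),
  (⟨1, 1, -1, -1, -1, -1, -5, -1⟩, 9943),
  (⟨1, 1, -1, -1, -1, -1, -3, 1⟩, 8042),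
  (⟨1, 1, -1, -1, -1, -1, -1, -1⟩, 6637),
  (⟨1, 1, -1, -1, -1, -1, -1, 3⟩, 1191),
  (⟨1, 1, -1, -1, -1, -1, 1, -3⟩, 6562),
  (⟨1, 1, -1, -1, -1, -1, 1, 1⟩, 8173),
  (⟨1, 1, -1, -1, -1, -1, 3, -1⟩, 6631),
  (⟨1, 1, -1, -1, -1, -1, 5, 1⟩, 8145),
  (⟨1, 1, -1, -1, -1, 3, -1, -1⟩, 681),
  (⟨1, 1, -1, -1, -1, 3, 1, 1⟩, 6049),
  (⟨1, 1, -1, -1, 1, -3, -1, -1⟩, 6174),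
  (⟨1, 1, -1, -1, 1, -3, 1, 1⟩, 810),
  (⟨1, 1, -1, -1, 1, 1, -5, -1⟩, 8274),
  (⟨1, 1, -1, -1, 1, 1, -3, 1⟩, 6759),
  (⟨1, 1, -1, -1, 1, 1, -1, -1⟩, 749),
  (⟨1, 1, -1, -1, 1, 1, -1, 3⟩, 6693),
  (⟨1, 1, -1, -1, 1, 1, 1, -3⟩, 1580),
  (⟨1, 1, -1, -1, 1, 1, 1, 1⟩, 1901),
  (⟨1, 1, -1, -1, 1, 1, 3, -1⟩, 8425),
  (⟨1, 1, -1, -1, 1, 1, 5, 1⟩, 7767),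
  (⟨1, 1, -1, -1, 3, -1, -5, -1⟩, 3535),
  (⟨1, 1, -1, -1, 3, -1, -3, 1⟩, 6755),
  (⟨1, 1, -1, -1, 3, -1, -1, -1⟩, 6887),
  (⟨1, 1, -1, -1, 3, -1, 1, 1⟩, 872),
  (⟨1, 1, -1, -1, 3, -1, 3, -1⟩, 6880),
  (⟨1, 1, -1, -1, 3, -1, 5, 1⟩, 3648),
  (⟨1, 1, -1, -1, 5, 1, -3, 1⟩, 6687),
  (⟨1, 1, -1, -1, 5, 1, -1, -1⟩, 6867),
  (⟨1, 1, -1, -1, 5, 1, 1, 1⟩, 10583),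
  (⟨1, 1, -1, -1, 5, 1, 3, -1⟩, 6852),
  (⟨1, 1, -1, 1, -6, 0, -4, 0⟩, 180),
  (⟨1, 1, -1, 1, -6, 0, 0, 0⟩, 7489),
  (⟨1, 1, -1, 1, -6, 0, 4, 0⟩, 7450),
  (⟨1, 1, -1, 1, -4, -2, -4, 0⟩, 6917),
  (⟨1, 1, -1, 1, -4, -2, 0, 0⟩, 9686),
  (⟨1, 1, -1, 1, -4, -2, 4, 0⟩, 7051),
  (⟨1, 1, -1, 1, -4, 2, -4, 0⟩, 3213),
  (⟨1, 1, -1, 1, -4, 2, 0, 0⟩, 3292),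
  (⟨1, 1, -1, 1, -4, 2, 4, 0⟩, 3345),
  (⟨1, 1, -1, 1, -2, 0, -4, 0⟩, 7658),
  (⟨1, 1, -1, 1, -2, 0, -2, -2⟩, 10200),
  (⟨1, 1, -1, 1, -2, 0, -2, 2⟩, 2784),
  (⟨1, 1, -1, 1, -2, 0, 0, 0⟩, 3052),
  (⟨1, 1, -1, 1, -2, 0, 2, -2⟩, 2915),
  (⟨1, 1, -1, 1, -2, 0, 2, 2⟩, 10324),
  (⟨1, 1, -1, 1, -2, 0, 4, 0⟩, 3050),
  (⟨1, 1, -1, 1, 0, -2, -4, 0⟩, 3501),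
  (⟨1, 1, -1, 1, 0, -2, -2, -2⟩, 6190),
  (⟨1, 1, -1, 1, 0, -2, -2, 2⟩, 1225),
  (⟨1, 1, -1, 1, 0, -2, 0, 0⟩, 9707),
  (⟨1, 1, -1, 1, 0, -2, 2, -2⟩, 1342),
  (⟨1, 1, -1, 1, 0, -2, 2, 2⟩, 6341),
  (⟨1, 1, -1, 1, 0, -2, 4, 0⟩, 7105),
  (⟨1, 1, -1, 1, 0, 2, -4, 0⟩, 3265),
  (⟨1, 1, -1, 1, 0, 2, -2, -2⟩, 5952),
  (⟨1, 1, -1, 1, 0, 2, -2, 2⟩, 1479),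
  (⟨1, 1, -1, 1, 0, 2, 0, 0⟩, 9832),
  (⟨1, 1, -1, 1, 0, 2, 2, -2⟩, 1608),
  (⟨1, 1, -1, 1, 0, 2, 2, 2⟩, 6069),
  (⟨1, 1, -1, 1, 0, 2, 4, 0⟩, 3366),
  (⟨1, 1, -1, 1, 2, 0, -4, 0⟩, 3177),
  (⟨1, 1, -1, 1, 2, 0, -2, -2⟩, 10453),
  (⟨1, 1, -1, 1, 2, 0, -2, 2⟩, 2786),
  (⟨1, 1, -1, 1, 2, 0, 0, 0⟩, 3180),
  (⟨1, 1, -1, 1, 2, 0, 2, -2⟩, 2911),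
  (⟨1, 1, -1, 1, 2, 0, 2, 2⟩, 10585),
  (⟨1, 1, -1, 1, 2, 0, 4, 0⟩, 7785),
  (⟨1, 1, -1, 1, 4, -2, -4, 0⟩, 3476),
  (⟨1, 1, -1, 1, 4, -2, 0, 0⟩, 3677),
  (⟨1, 1, -1, 1, 4, -2, 4, 0⟩, 3598),
  (⟨1, 1, -1, 1, 4, 2, -4, 0⟩, 7180),
  (⟨1, 1, -1, 1, 4, 2, 0, 0⟩, 9811),
  (⟨1, 1, -1, 1, 4, 2, 4, 0⟩, 7304),
  (⟨1, 1, -1, 1, 6, 0, -4, 0⟩, 7837),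
  (⟨1, 1, -1, 1, 6, 0, 0, 0⟩, 3137),
  (⟨1, 1, -1, 1, 6, 0, 4, 0⟩, 559),
  (⟨1, 1, -1, 3, -1, -1, -1, -1⟩, 2988),
  (⟨1, 1, -1, 3, -1, -1, 1, 1⟩, 2974),
  (⟨1, 1, -1, 3, 1, 1, -1, -1⟩, 3105),
  (⟨1, 1, -1, 3, 1, 1, 1, 1⟩, 3111),
  (⟨1, 1, 0, -2, -4, 0, -3, -1⟩, 3791),
  (⟨1, 1, 0, -2, -4, 0, -1, 1⟩, 6440),
  (⟨1, 1, 0, -2, -4, 0, 1, -1⟩, 6579),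
  (⟨1, 1, 0, -2, -4, 0, 3, 1⟩, 3780),
  (⟨1, 1, 0, -2, -2, -2, -3, -1⟩, 7941),
  (⟨1, 1, 0, -2, -2, -2, -1, 1⟩, 7967),
  (⟨1, 1, 0, -2, -2, -2, 1, -1⟩, 8138),
  (⟨1, 1, 0, -2, -2, -2, 3, 1⟩, 8065),
  (⟨1, 1, 0, -2, -2, 2, -3, -1⟩, 8220),
  (⟨1, 1, 0, -2, -2, 2, -1, 1⟩, 711),
  (⟨1, 1, 0, -2, -2, 2, 1, -1⟩, 676),
  (⟨1, 1, 0, -2, -2, 2, 3, 1⟩, 700),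
  (⟨1, 1, 0, -2, 0, 0, -5, 1⟩, 9928),
  (⟨1, 1, 0, -2, 0, 0, -3, -1⟩, 1753),
  (⟨1, 1, 0, -2, 0, 0, -1, 1⟩, 6761),
  (⟨1, 1, 0, -2, 0, 0, 1, -1⟩, 6634),
  (⟨1, 1, 0, -2, 0, 0, 3, 1⟩, 1880),
  (⟨1, 1, 0, -2, 0, 0, 5, -1⟩, 10057),
  (⟨1, 1, 0, -2, 2, -2, -3, -1⟩, 823),
  (⟨1, 1, 0, -2, 2, -2, -1, 1⟩, 803),
  (⟨1, 1, 0, -2, 2, -2, 1, -1⟩, 830),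
  (⟨1, 1, 0, -2, 2, -2, 3, 1⟩, 8091),
  (⟨1, 1, 0, -2, 2, 2, -3, -1⟩, 8194),
  (⟨1, 1, 0, -2, 2, 2, -1, 1⟩, 8267),
  (⟨1, 1, 0, -2, 2, 2, 1, -1⟩, 8352),
  (⟨1, 1, 0, -2, 2, 2, 3, 1⟩, 8328),
  (⟨1, 1, 0, -2, 4, 0, -3, -1⟩, 3907),
  (⟨1, 1, 0, -2, 4, 0, -1, 1⟩, 6704),
  (⟨1, 1, 0, -2, 4, 0, 1, -1⟩, 6827),
  (⟨1, 1, 0, -2, 4, 0, 3, 1⟩, 3918),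
  (⟨1, 1, 0, 0, -7, -1, -2, 0⟩, 7435),
  (⟨1, 1, 0, 0, -7, -1, 2, 0⟩, 7425),
  (⟨1, 1, 0, 0, -5, 1, -2, 0⟩, 3296),
  (⟨1, 1, 0, 0, -5, 1, 0, -2⟩, 10175),
  (⟨1, 1, 0, 0, -5, 1, 0, 2⟩, 10302),
  (⟨1, 1, 0, 0, -5, 1, 2, 0⟩, 7519),
  (⟨1, 1, 0, 0, -3, -1, -6, 0⟩, 7583),
  (⟨1, 1, 0, 0, -3, -1, -4, -2⟩, 10137),
  (⟨1, 1, 0, 0, -3, -1, -4, 2⟩, 1211),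
  (⟨1, 1, 0, 0, -3, -1, -2, 0⟩, 8045),
  (⟨1, 1, 0, 0, -3, -1, 0, -2⟩, 10197),
  (⟨1, 1, 0, 0, -3, -1, 0, 2⟩, 1237),
  (⟨1, 1, 0, 0, -3, -1, 2, 0⟩, 7533),
  (⟨1, 1, 0, 0, -3, -1, 4, -2⟩, 1352),
  (⟨1, 1, 0, 0, -3, -1, 4, 2⟩, 10265),
  (⟨1, 1, 0, 0, -3, -1, 6, 0⟩, 7759),
  (⟨1, 1, 0, 0, -3, 3, -2, 0⟩, 3215),
  (⟨1, 1, 0, 0, -3, 3, 2, 0⟩, 3349),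
  (⟨1, 1, 0, 0, -1, -3, -2, 0⟩, 3509),
  (⟨1, 1, 0, 0, -1, -3, 2, 0⟩, 3659),
  (⟨1, 1, 0, 0, -1, 1, -6, 0⟩, 7609),
  (⟨1, 1, 0, 0, -1, 1, -4, -2⟩, 3286),
  (⟨1, 1, 0, 0, -1, 1, -4, 2⟩, 2782),
  (⟨1, 1, 0, 0, -1, 1, -2, 0⟩, 3308),
  (⟨1, 1, 0, 0, -1, 1, 0, -2⟩, 5994),
  (⟨1, 1, 0, 0, -1, 1, 0, 2⟩, 2792),
  (⟨1, 1, 0, 0, -1, 1, 2, 0⟩, 3436),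
  (⟨1, 1, 0, 0, -1, 1, 4, -2⟩, 3421),
  (⟨1, 1, 0, 0, -1, 1, 4, 2⟩, 10321),
  (⟨1, 1, 0, 0, -1, 1, 6, 0⟩, 3385),
  (⟨1, 1, 0, 0, 1, -1, -6, 0⟩, 3514),
  (⟨1, 1, 0, 0, 1, -1, -4, -2⟩, 10450),
  (⟨1, 1, 0, 0, 1, -1, -4, 2⟩, 3548),
  (⟨1, 1, 0, 0, 1, -1, -2, 0⟩, 3564),
  (⟨1, 1, 0, 0, 1, -1, 0, -2⟩, 2923),
  (⟨1, 1, 0, 0, 1, -1, 0, 2⟩, 6377),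
  (⟨1, 1, 0, 0, 1, -1, 2, 0⟩, 3692),
  (⟨1, 1, 0, 0, 1, -1, 4, -2⟩, 2913),
  (⟨1, 1, 0, 0, 1, -1, 4, 2⟩, 3667),
  (⟨1, 1, 0, 0, 1, -1, 6, 0⟩, 7738),
  (⟨1, 1, 0, 0, 1, 3, -2, 0⟩, 3274),
  (⟨1, 1, 0, 0, 1, 3, 2, 0⟩, 3374),
  (⟨1, 1, 0, 0, 3, -3, -2, 0⟩, 3478),
  (⟨1, 1, 0, 0, 3, -3, 2, 0⟩, 3600),
  (⟨1, 1, 0, 0, 3, 1, -6, 0⟩, 7630),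
  (⟨1, 1, 0, 0, 3, 1, -4, -2⟩, 10393),
  (⟨1, 1, 0, 0, 3, 1, -4, 2⟩, 1481),
  (⟨1, 1, 0, 0, 3, 1, -2, 0⟩, 3949),
  (⟨1, 1, 0, 0, 3, 1, 0, -2⟩, 1620),
  (⟨1, 1, 0, 0, 3, 1, 0, 2⟩, 10580),
  (⟨1, 1, 0, 0, 3, 1, 2, 0⟩, 3437),
  (⟨1, 1, 0, 0, 3, 1, 4, -2⟩, 1592),
  (⟨1, 1, 0, 0, 3, 1, 4, 2⟩, 10521),
  (⟨1, 1, 0, 0, 3, 1, 6, 0⟩, 7712),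
  (⟨1, 1, 0, 0, 5, -1, -2, 0⟩, 7904),
  (⟨1, 1, 0, 0, 5, -1, 0, -2⟩, 10439),
  (⟨1, 1, 0, 0, 5, -1, 0, 2⟩, 10566),
  (⟨1, 1, 0, 0, 5, -1, 2, 0⟩, 3679),
  (⟨1, 1, 0, 0, 7, 1, -2, 0⟩, 7810),
  (⟨1, 1, 0, 0, 7, 1, 2, 0⟩, 7820),
  (⟨1, 1, 0, 2, -4, 0, -3, -1⟩, 3013),
  (⟨1, 1, 0, 2, -4, 0, -1, 1⟩, 2992),
  (⟨1, 1, 0, 2, -4, 0, 1, -1⟩, 2989),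
  (⟨1, 1, 0, 2, -4, 0, 3, 1⟩, 2975),
  (⟨1, 1, 0, 2, -2, -2, -3, -1⟩, 6923),
  (⟨1, 1, 0, 2, -2, -2, -1, 1⟩, 6958),
  (⟨1, 1, 0, 2, -2, -2, 1, -1⟩, 7119),
  (⟨1, 1, 0, 2, -2, -2, 3, 1⟩, 7046),
  (⟨1, 1, 0, 2, -2, 2, -3, -1⟩, 3226),
  (⟨1, 1, 0, 2, -2, 2, -1, 1⟩, 1997),
  (⟨1, 1, 0, 2, -2, 2, 1, -1⟩, 1990),
  (⟨1, 1, 0, 2, -2, 2, 3, 1⟩, 3375),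
  (⟨1, 1, 0, 2, 0, 0, -5, 1⟩, 10680),
  (⟨1, 1, 0, 2, 0, 0, -3, -1⟩, 10713),
  (⟨1, 1, 0, 2, 0, 0, -1, 1⟩, 3176),
  (⟨1, 1, 0, 2, 0, 0, 1, -1⟩, 3051),
  (⟨1, 1, 0, 2, 0, 0, 3, 1⟩, 10840),
  (⟨1, 1, 0, 2, 0, 0, 5, -1⟩, 10811),
  (⟨1, 1, 0, 2, 2, -2, -3, -1⟩, 3508),
  (⟨1, 1, 0, 2, 2, -2, -1, 1⟩, 2111),
  (⟨1, 1, 0, 2, 2, -2, 1, -1⟩, 2124),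
  (⟨1, 1, 0, 2, 2, -2, 3, 1⟩, 3613),
  (⟨1, 1, 0, 2, 2, 2, -3, -1⟩, 7175),
  (⟨1, 1, 0, 2, 2, 2, -1, 1⟩, 7246),
  (⟨1, 1, 0, 2, 2, 2, 1, -1⟩, 7349),
  (⟨1, 1, 0, 2, 2, 2, 3, 1⟩, 7308),
  (⟨1, 1, 0, 2, 4, 0, -3, -1⟩, 3104),
  (⟨1, 1, 0, 2, 4, 0, -1, 1⟩, 3110),
  (⟨1, 1, 0, 2, 4, 0, 1, -1⟩, 3123),
  (⟨1, 1, 0, 2, 4, 0, 3, 1⟩, 3136),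
  (⟨1, 1, 1, -3, -1, -1, -1, -1⟩, 1701),
  (⟨1, 1, 1, -3, -1, -1, 1, 1⟩, 8105),
  (⟨1, 1, 1, -3, 1, 1, -1, -1⟩, 8234),
  (⟨1, 1, 1, -3, 1, 1, 1, 1⟩, 1826),
  (⟨1, 1, 1, -1, -6, 0, -4, 0⟩, 2236),
  (⟨1, 1, 1, -1, -6, 0, 0, 0⟩, 7490),
  (⟨1, 1, 1, -1, -6, 0, 4, 0⟩, 7451),
  (⟨1, 1, 1, -1, -4, -2, -4, 0⟩, 7937),
  (⟨1, 1, 1, -1, -4, -2, 0, 0⟩, 8017),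
  (⟨1, 1, 1, -1, -4, -2, 4, 0⟩, 8070),
  (⟨1, 1, 1, -1, -4, 2, -4, 0⟩, 3218),
  (⟨1, 1, 1, -1, -4, 2, 0, 0⟩, 737),
  (⟨1, 1, 1, -1, -4, 2, 4, 0⟩, 3352),
  (⟨1, 1, 1, -1, -2, 0, -4, 0⟩, 7656),
  (⟨1, 1, 1, -1, -2, 0, -2, -2⟩, 1748),
  (⟨1, 1, 1, -1, -2, 0, -2, 2⟩, 6499),
  (⟨1, 1, 1, -1, -2, 0, 0, 0⟩, 3820),
  (⟨1, 1, 1, -1, -2, 0, 2, -2⟩, 6623),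
  (⟨1, 1, 1, -1, -2, 0, 2, 2⟩, 1881),
  (⟨1, 1, 1, -1, -2, 0, 4, 0⟩, 3816),
  (⟨1, 1, 1, -1, 0, -2, -4, 0⟩, 8002),
  (⟨1, 1, 1, -1, 0, -2, -2, -2⟩, 9284),
  (⟨1, 1, 1, -1, 0, -2, -2, 2⟩, 1215),
  (⟨1, 1, 1, -1, 0, -2, 0, 0⟩, 873),
  (⟨1, 1, 1, -1, 0, -2, 2, -2⟩, 1336),
  (⟨1, 1, 1, -1, 0, -2, 2, 2⟩, 9418),
  (⟨1, 1, 1, -1, 0, -2, 4, 0⟩, 8104),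
  (⟨1, 1, 1, -1, 0, 2, -4, 0⟩, 8235),
  (⟨1, 1, 1, -1, 0, 2, -2, -2⟩, 9035),
  (⟨1, 1, 1, -1, 0, 2, -2, 2⟩, 1467),
  (⟨1, 1, 1, -1, 0, 2, 0, 0⟩, 746),
  (⟨1, 1, 1, -1, 0, 2, 2, -2⟩, 1606),
  (⟨1, 1, 1, -1, 0, 2, 2, 2⟩, 9155),
  (⟨1, 1, 1, -1, 0, 2, 4, 0⟩, 3394),
  (⟨1, 1, 1, -1, 2, 0, -4, 0⟩, 3947),
  (⟨1, 1, 1, -1, 2, 0, -2, -2⟩, 1752),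
  (⟨1, 1, 1, -1, 2, 0, -2, 2⟩, 6752),
  (⟨1, 1, 1, -1, 2, 0, 0, 0⟩, 3948),
  (⟨1, 1, 1, -1, 2, 0, 2, -2⟩, 6882),
  (⟨1, 1, 1, -1, 2, 0, 2, 2⟩, 1877),
  (⟨1, 1, 1, -1, 2, 0, 4, 0⟩, 7787),
  (⟨1, 1, 1, -1, 4, -2, -4, 0⟩, 3479),
  (⟨1, 1, 1, -1, 4, -2, 0, 0⟩, 862),
  (⟨1, 1, 1, -1, 4, -2, 4, 0⟩, 3603),
  (⟨1, 1, 1, -1, 4, 2, -4, 0⟩, 8199),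
  (⟨1, 1, 1, -1, 4, 2, 0, 0⟩, 8402),
  (⟨1, 1, 1, -1, 4, 2, 4, 0⟩, 8322),
  (⟨1, 1, 1, -1, 6, 0, -4, 0⟩, 7836),
  (⟨1, 1, 1, -1, 6, 0, 0, 0⟩, 3906),
  (⟨1, 1, 1, -1, 6, 0, 4, 0⟩, 2615),
  (⟨1, 1, 1, 1, -5, -1, -3, 1⟩, 8526),
  (⟨1, 1, 1, 1, -5, -1, -1, -1⟩, 10193),
  (⟨1, 1, 1, 1, -5, -1, 1, 1⟩, 7511),
  (⟨1, 1, 1, 1, -5, -1, 3, -1⟩, 8640),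
  (⟨1, 1, 1, 1, -3, 1, -5, -1⟩, 3232),
  (⟨1, 1, 1, 1, -3, 1, -3, 1⟩, 3298),
  (⟨1, 1, 1, 1, -3, 1, -1, -1⟩, 3303),
  (⟨1, 1, 1, 1, -3, 1, 1, 1⟩, 10345),
  (⟨1, 1, 1, 1, -3, 1, 3, -1⟩, 3424),
  (⟨1, 1, 1, 1, -3, 1, 5, 1⟩, 3396),
  (⟨1, 1, 1, 1, -1, -1, -5, -1⟩, 3542),
  (⟨1, 1, 1, 1, -1, -1, -3, 1⟩, 3559),
  (⟨1, 1, 1, 1, -1, -1, -1, -1⟩, 10221),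
  (⟨1, 1, 1, 1, -1, -1, -1, 3⟩, 1185),
  (⟨1, 1, 1, 1, -1, -1, 1, -3⟩, 4138),
  (⟨1, 1, 1, 1, -1, -1, 1, 1⟩, 10989),
  (⟨1, 1, 1, 1, -1, -1, 3, -1⟩, 4200),
  (⟨1, 1, 1, 1, -1, -1, 5, 1⟩, 7127),
  (⟨1, 1, 1, 1, -1, 3, -1, -1⟩, 3234),
  (⟨1, 1, 1, 1, -1, 3, 1, 1⟩, 9132),
  (⟨1, 1, 1, 1, 1, -3, -1, -1⟩, 9255),
  (⟨1, 1, 1, 1, 1, -3, 1, 1⟩, 3621),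
  (⟨1, 1, 1, 1, 1, 1, -5, -1⟩, 3287),
  (⟨1, 1, 1, 1, 1, 1, -3, 1⟩, 4075),
  (⟨1, 1, 1, 1, 1, 1, -1, -1⟩, 3309),
  (⟨1, 1, 1, 1, 1, 1, -1, 3⟩, 4009),
  (⟨1, 1, 1, 1, 1, 1, 1, -3⟩, 1566),
  (⟨1, 1, 1, 1, 1, 1, 1, 1⟩, 4077),
  (⟨1, 1, 1, 1, 1, 1, 3, -1⟩, 3431),
  (⟨1, 1, 1, 1, 1, 1, 5, 1⟩, 3411),
  (⟨1, 1, 1, 1, 3, -1, -5, -1⟩, 3523),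
  (⟨1, 1, 1, 1, 3, -1, -3, 1⟩, 3551),
  (⟨1, 1, 1, 1, 3, -1, -1, -1⟩, 10474),
  (⟨1, 1, 1, 1, 3, -1, 1, 1⟩, 3687),
  (⟨1, 1, 1, 1, 3, -1, 3, -1⟩, 3683),
  (⟨1, 1, 1, 1, 3, -1, 5, 1⟩, 3615),
  (⟨1, 1, 1, 1, 5, 1, -3, 1⟩, 8773),
  (⟨1, 1, 1, 1, 5, 1, -1, -1⟩, 3159),
  (⟨1, 1, 1, 1, 5, 1, 1, 1⟩, 10578),
  (⟨1, 1, 1, 1, 5, 1, 3, -1⟩, 8911),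
  (⟨1, 1, 1, 3, -2, 0, 0, 0⟩, 2976),
  (⟨1, 1, 1, 3, 2, 0, 0, 0⟩, 3103),
  (⟨1, 1, 2, -2, -5, 1, -2, 0⟩, 3735),
  (⟨1, 1, 2, -2, -5, 1, 2, 0⟩, 3729),
  (⟨1, 1, 2, -2, -3, -1, -2, 0⟩, 7974),
  (⟨1, 1, 2, -2, -3, -1, 0, -2⟩, 1692),
  (⟨1, 1, 2, -2, -3, -1, 0, 2⟩, 6449),
  (⟨1, 1, 2, -2, -3, -1, 2, 0⟩, 8129),
  (⟨1, 1, 2, -2, -1, 1, -2, 0⟩, 8288),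
  (⟨1, 1, 2, -2, -1, 1, 0, -2⟩, 1720),
  (⟨1, 1, 2, -2, -1, 1, 0, 2⟩, 1828),
  (⟨1, 1, 2, -2, -1, 1, 2, 0⟩, 3813),
  (⟨1, 1, 2, -2, 1, -1, -2, 0⟩, 8037),
  (⟨1, 1, 2, -2, 1, -1, 0, -2⟩, 1699),
  (⟨1, 1, 2, -2, 1, -1, 0, 2⟩, 1851),
  (⟨1, 1, 2, -2, 1, -1, 2, 0⟩, 8159),
  (⟨1, 1, 2, -2, 3, 1, -2, 0⟩, 3905),
  (⟨1, 1, 2, -2, 3, 1, 0, -2⟩, 6834),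
  (⟨1, 1, 2, -2, 3, 1, 0, 2⟩, 1819),
  (⟨1, 1, 2, -2, 3, 1, 2, 0⟩, 8365),
  (⟨1, 1, 2, -2, 5, -1, -2, 0⟩, 3860),
  (⟨1, 1, 2, -2, 5, -1, 2, 0⟩, 3864),
  (⟨1, 1, 2, 0, -4, 0, -5, 1⟩, 2247),
  (⟨1, 1, 2, 0, -4, 0, -3, -1⟩, 2265),
  (⟨1, 1, 2, 0, -4, 0, -1, 1⟩, 2282),
  (⟨1, 1, 2, 0, -4, 0, 1, -1⟩, 3817),
  (⟨1, 1, 2, 0, -4, 0, 3, 1⟩, 10331),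
  (⟨1, 1, 2, 0, -4, 0, 5, -1⟩, 2360),
  (⟨1, 1, 2, 0, -2, -2, -5, 1⟩, 3484),
  (⟨1, 1, 2, 0, -2, -2, -3, -1⟩, 9299),
  (⟨1, 1, 2, 0, -2, -2, -1, 1⟩, 1243),
  (⟨1, 1, 2, 0, -2, -2, 1, -1⟩, 1364),
  (⟨1, 1, 2, 0, -2, -2, 3, 1⟩, 8150),
  (⟨1, 1, 2, 0, -2, -2, 5, -1⟩, 1310),
  (⟨1, 1, 2, 0, -2, 2, -5, 1⟩, 3221),
  (⟨1, 1, 2, 0, -2, 2, -3, -1⟩, 3240),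
  (⟨1, 1, 2, 0, -2, 2, -1, 1⟩, 3301),
  (⟨1, 1, 2, 0, -2, 2, 1, -1⟩, 3427),
  (⟨1, 1, 2, 0, -2, 2, 3, 1⟩, 9146),
  (⟨1, 1, 2, 0, -2, 2, 5, -1⟩, 3342),
  (⟨1, 1, 2, 0, 0, 0, -7, -1⟩, 7557),
  (⟨1, 1, 2, 0, 0, 0, -5, 1⟩, 7653),
  (⟨1, 1, 2, 0, 0, 0, -3, -1⟩, 1773),
  (⟨1, 1, 2, 0, 0, 0, -3, 3⟩, 3987),
  (⟨1, 1, 2, 0, 0, 0, -1, -3⟩, 4165),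
  (⟨1, 1, 2, 0, 0, 0, -1, 1⟩, 4076),
  (⟨1, 1, 2, 0, 0, 0, 1, -1⟩, 4204),
  (⟨1, 1, 2, 0, 0, 0, 1, 3⟩, 4032),
  (⟨1, 1, 2, 0, 0, 0, 3, -3⟩, 4114),
  (⟨1, 1, 2, 0, 0, 0, 3, 1⟩, 2413),
  (⟨1, 1, 2, 0, 0, 0, 5, -1⟩, 4197),
  (⟨1, 1, 2, 0, 0, 0, 7, 1⟩, 7688),
  (⟨1, 1, 2, 0, 2, -2, -5, 1⟩, 3469),
  (⟨1, 1, 2, 0, 2, -2, -3, -1⟩, 9273),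
  (⟨1, 1, 2, 0, 2, -2, -1, 1⟩, 3554),
  (⟨1, 1, 2, 0, 2, -2, 1, -1⟩, 9317),
  (⟨1, 1, 2, 0, 2, -2, 3, 1⟩, 3627),
  (⟨1, 1, 2, 0, 2, -2, 5, -1⟩, 3606),
  (⟨1, 1, 2, 0, 2, 2, -5, 1⟩, 1441),
  (⟨1, 1, 2, 0, 2, 2, -3, -1⟩, 8275),
  (⟨1, 1, 2, 0, 2, 2, -1, 1⟩, 1493),
  (⟨1, 1, 2, 0, 2, 2, 1, -1⟩, 11099),
  (⟨1, 1, 2, 0, 2, 2, 3, 1⟩, 9174),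
  (⟨1, 1, 2, 0, 2, 2, 5, -1⟩, 3355),
  (⟨1, 1, 2, 0, 4, 0, -5, 1⟩, 2491),
  (⟨1, 1, 2, 0, 4, 0, -3, -1⟩, 2523),
  (⟨1, 1, 2, 0, 4, 0, -1, 1⟩, 3946),
  (⟨1, 1, 2, 0, 4, 0, 1, -1⟩, 2665),
  (⟨1, 1, 2, 0, 4, 0, 3, 1⟩, 2648),
  (⟨1, 1, 2, 0, 4, 0, 5, -1⟩, 2622),
  (⟨1, 1, 2, 2, -5, 1, -2, 0⟩, 2993),
  (⟨1, 1, 2, 2, -5, 1, 2, 0⟩, 2977),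
  (⟨1, 1, 2, 2, -3, -1, -2, 0⟩, 10707),
  (⟨1, 1, 2, 2, -3, -1, 0, -2⟩, 8585),
  (⟨1, 1, 2, 2, -3, -1, 0, 2⟩, 8459),
  (⟨1, 1, 2, 2, -3, -1, 2, 0⟩, 3026),
  (⟨1, 1, 2, 2, -1, 1, -2, 0⟩, 10712),
  (⟨1, 1, 2, 2, -1, 1, 0, -2⟩, 8655),
  (⟨1, 1, 2, 2, -1, 1, 0, 2⟩, 8515),
  (⟨1, 1, 2, 2, -1, 1, 2, 0⟩, 10843),
  (⟨1, 1, 2, 2, 1, -1, -2, 0⟩, 2139),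
  (⟨1, 1, 2, 2, 1, -1, 0, -2⟩, 8900),
  (⟨1, 1, 2, 2, 1, -1, 0, 2⟩, 8782),
  (⟨1, 1, 2, 2, 1, -1, 2, 0⟩, 10841),
  (⟨1, 1, 2, 2, 3, 1, -2, 0⟩, 3153),
  (⟨1, 1, 2, 2, 3, 1, 0, -2⟩, 8844),
  (⟨1, 1, 2, 2, 3, 1, 0, 2⟩, 8714),
  (⟨1, 1, 2, 2, 3, 1, 2, 0⟩, 10838),
  (⟨1, 1, 2, 2, 5, -1, -2, 0⟩, 3102),
  (⟨1, 1, 2, 2, 5, -1, 2, 0⟩, 3122),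
  (⟨1, 1, 3, -3, -2, 0, 0, 0⟩, 3736),
  (⟨1, 1, 3, -3, 2, 0, 0, 0⟩, 3863),
  (⟨1, 1, 3, -1, -5, -1, -3, 1⟩, 7962),
  (⟨1, 1, 3, -1, -5, -1, -1, -1⟩, 3781),
  (⟨1, 1, 3, -1, -5, -1, 1, 1⟩, 3765),
  (⟨1, 1, 3, -1, -5, -1, 3, -1⟩, 3754),
  (⟨1, 1, 3, -1, -3, 1, -5, -1⟩, 3249),
  (⟨1, 1, 3, -1, -3, 1, -3, 1⟩, 4068),
  (⟨1, 1, 3, -1, -3, 1, -1, -1⟩, 3814),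
  (⟨1, 1, 3, -1, -3, 1, 1, 1⟩, 3810),
  (⟨1, 1, 3, -1, -3, 1, 3, -1⟩, 3806),
  (⟨1, 1, 3, -1, -3, 1, 5, 1⟩, 2345),
  (⟨1, 1, 3, -1, -1, -1, -5, -1⟩, 8010),
  (⟨1, 1, 3, -1, -1, -1, -3, 1⟩, 8031),
  (⟨1, 1, 3, -1, -1, -1, -1, -1⟩, 1767),
  (⟨1, 1, 3, -1, -1, -1, 1, 1⟩, 8171),
  (⟨1, 1, 3, -1, -1, -1, 3, -1⟩, 8166),
  (⟨1, 1, 3, -1, -1, -1, 5, 1⟩, 8096),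
  (⟨1, 1, 3, -1, 1, 1, -5, -1⟩, 8223),
  (⟨1, 1, 3, -1, 1, 1, -3, 1⟩, 4070),
  (⟨1, 1, 3, -1, 1, 1, -1, -1⟩, 8296),
  (⟨1, 1, 3, -1, 1, 1, 1, 1⟩, 1895),
  (⟨1, 1, 3, -1, 1, 1, 3, -1⟩, 8416),
  (⟨1, 1, 3, -1, 1, 1, 5, 1⟩, 8395),
  (⟨1, 1, 3, -1, 3, -1, -5, -1⟩, 2474),
  (⟨1, 1, 3, -1, 3, -1, -3, 1⟩, 3937),
  (⟨1, 1, 3, -1, 3, -1, -1, -1⟩, 3939),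
  (⟨1, 1, 3, -1, 3, -1, 1, 1⟩, 9446),
  (⟨1, 1, 3, -1, 3, -1, 3, -1⟩, 2660),
  (⟨1, 1, 3, -1, 3, -1, 5, 1⟩, 3634),
  (⟨1, 1, 3, -1, 5, 1, -3, 1⟩, 3881),
  (⟨1, 1, 3, -1, 5, 1, -1, -1⟩, 3886),
  (⟨1, 1, 3, -1, 5, 1, 1, 1⟩, 3904),
  (⟨1, 1, 3, -1, 5, 1, 3, -1⟩, 8349),
  (⟨1, 1, 3, 1, -6, 0, 0, 0⟩, 7491),
  (⟨1, 1, 3, 1, -4, -2, 0, 0⟩, 10905),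
  (⟨1, 1, 3, 1, -4, 2, 0, 0⟩, 1991),
  (⟨1, 1, 3, 1, -2, 0, -4, 0⟩, 10714),
  (⟨1, 1, 3, 1, -2, 0, -2, -2⟩, 9043),
  (⟨1, 1, 3, 1, -2, 0, -2, 2⟩, 4011),
  (⟨1, 1, 3, 1, -2, 0, 0, 0⟩, 2285),
  (⟨1, 1, 3, 1, -2, 0, 2, -2⟩, 4144),
  (⟨1, 1, 3, 1, -2, 0, 2, 2⟩, 4051),
  (⟨1, 1, 3, 1, -2, 0, 4, 0⟩, 2388),
  (⟨1, 1, 3, 1, 0, -2, -4, 0⟩, 3488),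
  (⟨1, 1, 3, 1, 0, -2, -2, -2⟩, 9221),
  (⟨1, 1, 3, 1, 0, -2, -2, 2⟩, 1201),
  (⟨1, 1, 3, 1, 0, -2, 0, 0⟩, 2138),
  (⟨1, 1, 3, 1, 0, -2, 2, -2⟩, 4125),
  (⟨1, 1, 3, 1, 0, -2, 2, 2⟩, 9354),
  (⟨1, 1, 3, 1, 0, -2, 4, 0⟩, 3637),
  (⟨1, 1, 3, 1, 0, 2, -4, 0⟩, 3246),
  (⟨1, 1, 3, 1, 0, 2, -2, -2⟩, 8969),
  (⟨1, 1, 3, 1, 0, 2, -2, 2⟩, 3994),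
  (⟨1, 1, 3, 1, 0, 2, 0, 0⟩, 11098),
  (⟨1, 1, 3, 1, 0, 2, 2, -2⟩, 1586),
  (⟨1, 1, 3, 1, 0, 2, 2, 2⟩, 9096),
  (⟨1, 1, 3, 1, 0, 2, 4, 0⟩, 3359),
  (⟨1, 1, 3, 1, 2, 0, -4, 0⟩, 2517),
  (⟨1, 1, 3, 1, 2, 0, -2, -2⟩, 4182),
  (⟨1, 1, 3, 1, 2, 0, -2, 2⟩, 4019),
  (⟨1, 1, 3, 1, 2, 0, 0, 0⟩, 4205),
  (⟨1, 1, 3, 1, 2, 0, 2, -2⟩, 4136),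
  (⟨1, 1, 3, 1, 2, 0, 2, 2⟩, 9430),
  (⟨1, 1, 3, 1, 2, 0, 4, 0⟩, 2650),
  (⟨1, 1, 3, 1, 4, -2, 0, 0⟩, 2110),
  (⟨1, 1, 3, 1, 4, 2, 0, 0⟩, 11033),
  (⟨1, 1, 3, 1, 6, 0, 0, 0⟩, 7876),
  (⟨1, 1, 4, -2, -4, 0, -1, 1⟩, 3734),
  (⟨1, 1, 4, -2, -4, 0, 1, -1⟩, 3730),
  (⟨1, 1, 4, -2, 0, 0, -3, -1⟩, 1700),
  (⟨1, 1, 4, -2, 0, 0, -1, 1⟩, 1885),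
  (⟨1, 1, 4, -2, 0, 0, 1, -1⟩, 1756),
  (⟨1, 1, 4, -2, 0, 0, 3, 1⟩, 1827),
  (⟨1, 1, 4, -2, 4, 0, -1, 1⟩, 3859),
  (⟨1, 1, 4, -2, 4, 0, 1, -1⟩, 3861),
  (⟨1, 1, 4, 0, -5, 1, -2, 0⟩, 2212),
  (⟨1, 1, 4, 0, -5, 1, 2, 0⟩, 2374),
  (⟨1, 1, 4, 0, -3, -1, -2, 0⟩, 2261),
  (⟨1, 1, 4, 0, -3, -1, 0, -2⟩, 4149),
  (⟨1, 1, 4, 0, -3, -1, 0, 2⟩, 4036),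
  (⟨1, 1, 4, 0, -3, -1, 2, 0⟩, 2393),
  (⟨1, 1, 4, 0, -1, 1, -6, 0⟩, 7606),
  (⟨1, 1, 4, 0, -1, 1, -4, -2⟩, 8967),
  (⟨1, 1, 4, 0, -1, 1, -4, 2⟩, 3981),
  (⟨1, 1, 4, 0, -1, 1, -2, 0⟩, 4073),
  (⟨1, 1, 4, 0, -1, 1, 0, -2⟩, 9017),
  (⟨1, 1, 4, 0, -1, 1, 0, 2⟩, 4006),
  (⟨1, 1, 4, 0, -1, 1, 2, 0⟩, 2411),
  (⟨1, 1, 4, 0, -1, 1, 4, -2⟩, 4117),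
  (⟨1, 1, 4, 0, -1, 1, 4, 2⟩, 9098),
  (⟨1, 1, 4, 0, -1, 1, 6, 0⟩, 2330),
  (⟨1, 1, 4, 0, 1, -1, -6, 0⟩, 2461),
  (⟨1, 1, 4, 0, 1, -1, -4, -2⟩, 9225),
  (⟨1, 1, 4, 0, 1, -1, -4, 2⟩, 3990),
  (⟨1, 1, 4, 0, 1, -1, -2, 0⟩, 2536),
  (⟨1, 1, 4, 0, 1, -1, 0, -2⟩, 4141),
  (⟨1, 1, 4, 0, 1, -1, 0, 2⟩, 9402),
  (⟨1, 1, 4, 0, 1, -1, 2, 0⟩, 4202),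
  (⟨1, 1, 4, 0, 1, -1, 4, -2⟩, 4110),
  (⟨1, 1, 4, 0, 1, -1, 4, 2⟩, 9350),
  (⟨1, 1, 4, 0, 1, -1, 6, 0⟩, 7741),
  (⟨1, 1, 4, 0, 3, 1, -2, 0⟩, 2520),
  (⟨1, 1, 4, 0, 3, 1, 0, -2⟩, 4163),
  (⟨1, 1, 4, 0, 3, 1, 0, 2⟩, 4014),
  (⟨1, 1, 4, 0, 3, 1, 2, 0⟩, 2644),
  (⟨1, 1, 4, 0, 5, -1, -2, 0⟩, 2495),
  (⟨1, 1, 4, 0, 5, -1, 2, 0⟩, 2595),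
  (⟨1, 1, 4, 2, -4, 0, -1, 1⟩, 8458),
  (⟨1, 1, 4, 2, -4, 0, 1, -1⟩, 8587),
  (⟨1, 1, 4, 2, 0, 0, -3, -1⟩, 10649),
  (⟨1, 1, 4, 2, 0, 0, -1, 1⟩, 4050),
  (⟨1, 1, 4, 2, 0, 0, 1, -1⟩, 4177),
  (⟨1, 1, 4, 2, 0, 0, 3, 1⟩, 10777),
  (⟨1, 1, 4, 2, 4, 0, -1, 1⟩, 8716),
  (⟨1, 1, 4, 2, 4, 0, 1, -1⟩, 8841),
  (⟨1, 1, 5, -1, -2, 0, -4, 0⟩, 2235),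
  (⟨1, 1, 5, -1, -2, 0, -2, -2⟩, 1690),
  (⟨1, 1, 5, -1, -2, 0, -2, 2⟩, 3985),
  (⟨1, 1, 5, -1, -2, 0, 0, 0⟩, 3811),
  (⟨1, 1, 5, -1, -2, 0, 2, -2⟩, 4118),
  (⟨1, 1, 5, -1, -2, 0, 2, 2⟩, 1829),
  (⟨1, 1, 5, -1, -2, 0, 4, 0⟩, 2340),
  (⟨1, 1, 5, -1, 0, -2, 0, 0⟩, 10957),
  (⟨1, 1, 5, -1, 0, 2, 0, 0⟩, 11084),
  (⟨1, 1, 5, -1, 2, 0, -4, 0⟩, 2467),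
  (⟨1, 1, 5, -1, 2, 0, -2, -2⟩, 1698),
  (⟨1, 1, 5, -1, 2, 0, -2, 2⟩, 3989),
  (⟨1, 1, 5, -1, 2, 0, 0, 0⟩, 3938),
  (⟨1, 1, 5, -1, 2, 0, 2, -2⟩, 4116),
  (⟨1, 1, 5, -1, 2, 0, 2, 2⟩, 1821),
  (⟨1, 1, 5, -1, 2, 0, 4, 0⟩, 2616),
  (⟨1, 1, 5, 1, -3, 1, -3, 1⟩, 3996),
  (⟨1, 1, 5, 1, -3, 1, -1, -1⟩, 9024),
  (⟨1, 1, 5, 1, -3, 1, 1, 1⟩, 9163),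
  (⟨1, 1, 5, 1, -3, 1, 3, -1⟩, 2348),
  (⟨1, 1, 5, 1, -1, -1, -3, 1⟩, 4021),
  (⟨1, 1, 5, 1, -1, -1, -1, -1⟩, 4178),
  (⟨1, 1, 5, 1, -1, -1, 1, 1⟩, 10967),
  (⟨1, 1, 5, 1, -1, -1, 3, -1⟩, 4127),
  (⟨1, 1, 5, 1, 1, 1, -3, 1⟩, 4000),
  (⟨1, 1, 5, 1, 1, 1, -1, -1⟩, 4183),
  (⟨1, 1, 5, 1, 1, 1, 1, 1⟩, 4049),
  (⟨1, 1, 5, 1, 1, 1, 3, -1⟩, 4142),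
  (⟨1, 1, 5, 1, 3, -1, -3, 1⟩, 2471),
  (⟨1, 1, 5, 1, 3, -1, -1, -1⟩, 9290),
  (⟨1, 1, 5, 1, 3, -1, 1, 1⟩, 9413),
  (⟨1, 1, 5, 1, 3, -1, 3, -1⟩, 4123),
  (⟨1, 1, 6, 0, -4, 0, -1, 1⟩, 2203),
  (⟨1, 1, 6, 0, -4, 0, 1, -1⟩, 2365),
  (⟨1, 1, 6, 0, 0, 0, -3, -1⟩, 9547),
  (⟨1, 1, 6, 0, 0, 0, -1, 1⟩, 4016),
  (⟨1, 1, 6, 0, 0, 0, 1, -1⟩, 4147),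
  (⟨1, 1, 6, 0, 0, 0, 3, 1⟩, 9546),
  (⟨1, 1, 6, 0, 4, 0, -1, 1⟩, 2486),
  (⟨1, 1, 6, 0, 4, 0, 1, -1⟩, 2588),
  (⟨1, 1, 7, 1, -2, 0, 0, 0⟩, 9481),
  (⟨1, 1, 7, 1, 2, 0, 0, 0⟩, 9482),
  (⟨1, 3, -3, 1, 0, 0, -2, 0⟩, 2740),
  (⟨1, 3, -3, 1, 0, 0, 2, 0⟩, 2863),
  (⟨1, 3, -2, 0, -3, 1, 0, 0⟩, 3260),
  (⟨1, 3, -2, 0, -1, -1, 0, 0⟩, 9646),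
  (⟨1, 3, -2, 0, 1, 1, 0, 0⟩, 9781),
  (⟨1, 3, -2, 0, 3, -1, 0, 0⟩, 3639),
  (⟨1, 3, -1, -1, 0, 0, -2, 0⟩, 9887),
  (⟨1, 3, -1, -1, 0, 0, 2, 0⟩, 10016),
  (⟨1, 3, -1, 1, -1, 1, -1, 1⟩, 2721),
  (⟨1, 3, -1, 1, -1, 1, 1, -1⟩, 3372),
  (⟨1, 3, -1, 1, 1, -1, -1, 1⟩, 3495),
  (⟨1, 3, -1, 1, 1, -1, 1, -1⟩, 2846),
  (⟨1, 3, 0, 0, -2, 0, -3, 1⟩, 2737),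
  (⟨1, 3, 0, 0, -2, 0, -1, -1⟩, 10176),
  (⟨1, 3, 0, 0, -2, 0, 1, 1⟩, 10307),
  (⟨1, 3, 0, 0, -2, 0, 3, -1⟩, 3389),
  (⟨1, 3, 0, 0, 2, 0, -3, 1⟩, 3510),
  (⟨1, 3, 0, 0, 2, 0, -1, -1⟩, 10436),
  (⟨1, 3, 0, 0, 2, 0, 1, 1⟩, 10565),
  (⟨1, 3, 0, 0, 2, 0, 3, -1⟩, 2866),
  (⟨1, 3, 1, -1, -1, 1, -1, 1⟩, 3753),
  (⟨1, 3, 1, -1, -1, 1, 1, -1⟩, 3746),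
  (⟨1, 3, 1, -1, 1, -1, -1, 1⟩, 3877),
  (⟨1, 3, 1, -1, 1, -1, 1, -1⟩, 3882),
  (⟨1, 3, 1, 1, 0, 0, -2, 0⟩, 10702),
  (⟨1, 3, 1, 1, 0, 0, 2, 0⟩, 10831),
  (⟨1, 3, 2, 0, -3, 1, 0, 0⟩, 3738),
  (⟨1, 3, 2, 0, -1, -1, 0, 0⟩, 10954),
  (⟨1, 3, 2, 0, 1, 1, 0, 0⟩, 11083),
  (⟨1, 3, 2, 0, 3, -1, 0, 0⟩, 3869),
  (⟨1, 3, 3, -1, 0, 0, -2, 0⟩, 3868),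
  (⟨1, 3, 3, -1, 0, 0, 2, 0⟩, 3739),
  (⟨2, -2, -5, -1, -2, 0, -1, 1⟩, 11162),
  (⟨2, -2, -5, -1, -2, 0, 1, -1⟩, 11297),
  (⟨2, -2, -5, -1, 2, 0, -1, 1⟩, 11166),
  (⟨2, -2, -5, -1, 2, 0, 1, -1⟩, 11293),
  (⟨2, -2, -5, 1, -1, -1, -2, 0⟩, 4248),
  (⟨2, -2, -5, 1, -1, -1, 2, 0⟩, 4246),
  (⟨2, -2, -5, 1, 1, 1, -2, 0⟩, 4373),
  (⟨2, -2, -5, 1, 1, 1, 2, 0⟩, 4375),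
  (⟨2, -2, -4, 0, -4, 0, 0, 0⟩, 4295),
  (⟨2, -2, -4, 0, -2, -2, 0, 0⟩, 4224),
  (⟨2, -2, -4, 0, -2, 2, 0, 0⟩, 4372),
  (⟨2, -2, -4, 0, 0, 0, -4, 0⟩, 4557),
  (⟨2, -2, -4, 0, 0, 0, -2, -2⟩, 11303),
  (⟨2, -2, -4, 0, 0, 0, -2, 2⟩, 11149),
  (⟨2, -2, -4, 0, 0, 0, 0, 0⟩, 4454),
  (⟨2, -2, -4, 0, 0, 0, 2, -2⟩, 11278),
  (⟨2, -2, -4, 0, 0, 0, 2, 2⟩, 11180),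
  (⟨2, -2, -4, 0, 0, 0, 4, 0⟩, 4684),
  (⟨2, -2, -4, 0, 2, -2, 0, 0⟩, 4241),
  (⟨2, -2, -4, 0, 2, 2, 0, 0⟩, 4352),
  (⟨2, -2, -4, 0, 4, 0, 0, 0⟩, 4414),
  (⟨2, -2, -3, -1, -3, 1, -2, 0⟩, 4550),
  (⟨2, -2, -3, -1, -3, 1, 2, 0⟩, 4685),
  (⟨2, -2, -3, -1, -1, -1, -2, 0⟩, 4281),
  (⟨2, -2, -3, -1, -1, -1, 0, -2⟩, 11291),
  (⟨2, -2, -3, -1, -1, -1, 0, 2⟩, 4253),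
  (⟨2, -2, -3, -1, -1, -1, 2, 0⟩, 4267),
  (⟨2, -2, -3, -1, 1, 1, -2, 0⟩, 4392),
  (⟨2, -2, -3, -1, 1, 1, 0, -2⟩, 4378),
  (⟨2, -2, -3, -1, 1, 1, 0, 2⟩, 11164),
  (⟨2, -2, -3, -1, 1, 1, 2, 0⟩, 4410),
  (⟨2, -2, -3, -1, 3, -1, -2, 0⟩, 4556),
  (⟨2, -2, -3, -1, 3, -1, 2, 0⟩, 4671),
  (⟨2, -2, -3, 1, -2, 0, -3, -1⟩, 4812),
  (⟨2, -2, -3, 1, -2, 0, -1, 1⟩, 11486),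
  (⟨2, -2, -3, 1, -2, 0, 1, -1⟩, 11484),
  (⟨2, -2, -3, 1, -2, 0, 3, 1⟩, 4936),
  (⟨2, -2, -3, 1, 0, -2, -1, 1⟩, 4242),
  (⟨2, -2, -3, 1, 0, -2, 1, -1⟩, 4247),
  (⟨2, -2, -3, 1, 0, 2, -1, 1⟩, 4376),
  (⟨2, -2, -3, 1, 0, 2, 1, -1⟩, 4371),
  (⟨2, -2, -3, 1, 2, 0, -3, -1⟩, 5065),
  (⟨2, -2, -3, 1, 2, 0, -1, 1⟩, 11613),
  (⟨2, -2, -3, 1, 2, 0, 1, -1⟩, 11617),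
  (⟨2, -2, -3, 1, 2, 0, 3, 1⟩, 5197),
  (⟨2, -2, -2, -2, -4, 0, 0, 0⟩, 4524),
  (⟨2, -2, -2, -2, 0, 0, -4, 0⟩, 4480),
  (⟨2, -2, -2, -2, 0, 0, 0, 0⟩, 4674),
  (⟨2, -2, -2, -2, 0, 0, 4, 0⟩, 4608),
  (⟨2, -2, -2, -2, 4, 0, 0, 0⟩, 4647),
  (⟨2, -2, -2, 0, -5, 1, -1, -1⟩, 4758),
  (⟨2, -2, -2, 0, -5, 1, 1, 1⟩, 4883),
  (⟨2, -2, -2, 0, -3, -1, -3, 1⟩, 4283),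
  (⟨2, -2, -2, 0, -3, -1, -1, -1⟩, 4784),
  (⟨2, -2, -2, 0, -3, -1, 1, 1⟩, 4269),
  (⟨2, -2, -2, 0, -3, -1, 3, -1⟩, 4294),
  (⟨2, -2, -2, 0, -1, 1, -5, -1⟩, 11695),
  (⟨2, -2, -2, 0, -1, 1, -3, 1⟩, 11228),
  (⟨2, -2, -2, 0, -1, 1, -1, -1⟩, 4447),
  (⟨2, -2, -2, 0, -1, 1, 1, 1⟩, 4962),
  (⟨2, -2, -2, 0, -1, 1, 3, -1⟩, 11870),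
  (⟨2, -2, -2, 0, -1, 1, 5, 1⟩, 4894),
  (⟨2, -2, -2, 0, 1, -1, -5, -1⟩, 5025),
  (⟨2, -2, -2, 0, 1, -1, -3, 1⟩, 12001),
  (⟨2, -2, -2, 0, 1, -1, -1, -1⟩, 5091),
  (⟨2, -2, -2, 0, 1, -1, 1, 1⟩, 4320),
  (⟨2, -2, -2, 0, 1, -1, 3, -1⟩, 11357),
  (⟨2, -2, -2, 0, 1, -1, 5, 1⟩, 12084),
  (⟨2, -2, -2, 0, 3, 1, -3, 1⟩, 4415),
  (⟨2, -2, -2, 0, 3, 1, -1, -1⟩, 4390),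
  (⟨2, -2, -2, 0, 3, 1, 1, 1⟩, 5171),
  (⟨2, -2, -2, 0, 3, 1, 3, -1⟩, 4408),
  (⟨2, -2, -2, 0, 5, -1, -1, -1⟩, 5010),
  (⟨2, -2, -2, 0, 5, -1, 1, 1⟩, 5141),
  (⟨2, -2, -2, 2, -4, 0, 0, 0⟩, 11407),
  (⟨2, -2, -2, 2, 0, 0, -4, 0⟩, 5270),
  (⟨2, -2, -2, 2, 0, 0, 0, 0⟩, 11492),
  (⟨2, -2, -2, 2, 0, 0, 4, 0⟩, 5397),
  (⟨2, -2, -2, 2, 4, 0, 0, 0⟩, 11536),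
  (⟨2, -2, -1, -1, -2, 0, -5, 1⟩, 4500),
  (⟨2, -2, -1, -1, -2, 0, -3, -1⟩, 4545),
  (⟨2, -2, -1, -1, -2, 0, -1, 1⟩, 4965),
  (⟨2, -2, -1, -1, -2, 0, 1, -1⟩, 4832),
  (⟨2, -2, -1, -1, -2, 0, 3, 1⟩, 4902),
  (⟨2, -2, -1, -1, -2, 0, 5, -1⟩, 4631),
  (⟨2, -2, -1, -1, 0, -2, -3, -1⟩, 11954),
  (⟨2, -2, -1, -1, 0, -2, -1, 1⟩, 4259),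
  (⟨2, -2, -1, -1, 0, -2, 1, -1⟩, 4280),
  (⟨2, -2, -1, -1, 0, -2, 3, 1⟩, 4252),
  (⟨2, -2, -1, -1, 0, 2, -3, -1⟩, 4379),
  (⟨2, -2, -1, -1, 0, 2, -1, 1⟩, 4411),
  (⟨2, -2, -1, -1, 0, 2, 1, -1⟩, 4388),
  (⟨2, -2, -1, -1, 0, 2, 3, 1⟩, 11825),
  (⟨2, -2, -1, -1, 2, 0, -5, 1⟩, 4504),
  (⟨2, -2, -1, -1, 2, 0, -3, -1⟩, 5037),
  (⟨2, -2, -1, -1, 2, 0, -1, 1⟩, 5215),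
  (⟨2, -2, -1, -1, 2, 0, 1, -1⟩, 4709),
  (⟨2, -2, -1, -1, 2, 0, 3, 1⟩, 5185),
  (⟨2, -2, -1, -1, 2, 0, 5, -1⟩, 4625),
  (⟨2, -2, -1, 1, -5, -1, -2, 0⟩, 11446),
  (⟨2, -2, -1, 1, -5, -1, 2, 0⟩, 11426),
  (⟨2, -2, -1, 1, -3, 1, -2, 0⟩, 5345),
  (⟨2, -2, -1, 1, -3, 1, 0, -2⟩, 4759),
  (⟨2, -2, -1, 1, -3, 1, 0, 2⟩, 4886),
  (⟨2, -2, -1, 1, -3, 1, 2, 0⟩, 11485),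
  (⟨2, -2, -1, 1, -1, -1, -2, 0⟩, 5346),
  (⟨2, -2, -1, 1, -1, -1, 0, -2⟩, 4798),
  (⟨2, -2, -1, 1, -1, -1, 0, 2⟩, 4940),
  (⟨2, -2, -1, 1, -1, -1, 2, 0⟩, 5477),
  (⟨2, -2, -1, 1, 1, 1, -2, 0⟩, 4453),
  (⟨2, -2, -1, 1, 1, 1, 0, -2⟩, 5069),
  (⟨2, -2, -1, 1, 1, 1, 0, 2⟩, 5191),
  (⟨2, -2, -1, 1, 1, 1, 2, 0⟩, 5475),
  (⟨2, -2, -1, 1, 3, -1, -2, 0⟩, 11612),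
  (⟨2, -2, -1, 1, 3, -1, 0, -2⟩, 5013),
  (⟨2, -2, -1, 1, 3, -1, 0, 2⟩, 5144),
  (⟨2, -2, -1, 1, 3, -1, 2, 0⟩, 5470),
  (⟨2, -2, -1, 1, 5, 1, -2, 0⟩, 11557),
  (⟨2, -2, -1, 1, 5, 1, 2, 0⟩, 11581),
  (⟨2, -2, 0, -2, -3, -1, -1, -1⟩, 4765),
  (⟨2, -2, 0, -2, -3, -1, 1, 1⟩, 4918),
  (⟨2, -2, 0, -2, -1, 1, -3, 1⟩, 4496),
  (⟨2, -2, 0, -2, -1, 1, -1, -1⟩, 4536),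
  (⟨2, -2, 0, -2, -1, 1, 1, 1⟩, 4679),
  (⟨2, -2, 0, -2, -1, 1, 3, -1⟩, 4627),
  (⟨2, -2, 0, -2, 1, -1, -3, 1⟩, 4498),
  (⟨2, -2, 0, -2, 1, -1, -1, -1⟩, 4542),
  (⟨2, -2, 0, -2, 1, -1, 1, 1⟩, 4667),
  (⟨2, -2, 0, -2, 1, -1, 3, -1⟩, 4623),
  (⟨2, -2, 0, -2, 3, 1, -1, -1⟩, 5053),
  (⟨2, -2, 0, -2, 3, 1, 1, 1⟩, 5146),
  (⟨2, -2, 0, 0, -4, 0, -4, 0⟩, 4809),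
  (⟨2, -2, 0, 0, -4, 0, -2, -2⟩, 4736),
  (⟨2, -2, 0, 0, -4, 0, -2, 2⟩, 4888),
  (⟨2, -2, 0, 0, -4, 0, 0, 0⟩, 4835),
  (⟨2, -2, 0, 0, -4, 0, 2, -2⟩, 4749),
  (⟨2, -2, 0, 0, -4, 0, 2, 2⟩, 4864),
  (⟨2, -2, 0, 0, -4, 0, 4, 0⟩, 4920),
  (⟨2, -2, 0, 0, -2, -2, -4, 0⟩, 11945),
  (⟨2, -2, 0, 0, -2, -2, 0, 0⟩, 4282),
  (⟨2, -2, 0, 0, -2, -2, 4, 0⟩, 4268),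
  (⟨2, -2, 0, 0, -2, 2, -4, 0⟩, 11665),
  (⟨2, -2, 0, 0, -2, 2, 0, 0⟩, 11748),
  (⟨2, -2, 0, 0, -2, 2, 4, 0⟩, 11794),
  (⟨2, -2, 0, 0, 0, 0, -4, 0⟩, 5344),
  (⟨2, -2, 0, 0, 0, 0, -2, -2⟩, 5043),
  (⟨2, -2, 0, 0, 0, 0, -2, 2⟩, 11236),
  (⟨2, -2, 0, 0, 0, 0, 0, 0⟩, 5358),
  (⟨2, -2, 0, 0, 0, 0, 2, -2⟩, 4836),
  (⟨2, -2, 0, 0, 0, 0, 2, 2⟩, 4912),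
  (⟨2, -2, 0, 0, 0, 0, 4, 0⟩, 5471),
  (⟨2, -2, 0, 0, 2, -2, -4, 0⟩, 11923),
  (⟨2, -2, 0, 0, 2, -2, 0, 0⟩, 4324),
  (⟨2, -2, 0, 0, 2, -2, 4, 0⟩, 12052),
  (⟨2, -2, 0, 0, 2, 2, -4, 0⟩, 4391),
  (⟨2, -2, 0, 0, 2, 2, 0, 0⟩, 4409),
  (⟨2, -2, 0, 0, 2, 2, 4, 0⟩, 11818),
  (⟨2, -2, 0, 0, 4, 0, -4, 0⟩, 5051),
  (⟨2, -2, 0, 0, 4, 0, -2, -2⟩, 4992),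
  (⟨2, -2, 0, 0, 4, 0, -2, 2⟩, 5134),
  (⟨2, -2, 0, 0, 4, 0, 0, 0⟩, 5218),
  (⟨2, -2, 0, 0, 4, 0, 2, -2⟩, 5015),
  (⟨2, -2, 0, 0, 4, 0, 2, 2⟩, 5120),
  (⟨2, -2, 0, 0, 4, 0, 4, 0⟩, 5192),
  (⟨2, -2, 0, 2, -3, -1, -1, -1⟩, 5298),
  (⟨2, -2, 0, 2, -3, -1, 1, 1⟩, 11447),
  (⟨2, -2, 0, 2, -1, 1, -3, 1⟩, 5268),
  (⟨2, -2, 0, 2, -1, 1, -1, -1⟩, 5318),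
  (⟨2, -2, 0, 2, -1, 1, 1, 1⟩, 5449),
  (⟨2, -2, 0, 2, -1, 1, 3, -1⟩, 5398),
  (⟨2, -2, 0, 2, 1, -1, -3, 1⟩, 5269),
  (⟨2, -2, 0, 2, 1, -1, -1, -1⟩, 5320),
  (⟨2, -2, 0, 2, 1, -1, 1, 1⟩, 5439),
  (⟨2, -2, 0, 2, 1, -1, 3, -1⟩, 5393),
  (⟨2, -2, 0, 2, 3, 1, -1, -1⟩, 11580),
  (⟨2, -2, 0, 2, 3, 1, 1, 1⟩, 5425),
  (⟨2, -2, 1, -1, -5, -1, -2, 0⟩, 4769),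
  (⟨2, -2, 1, -1, -5, -1, 2, 0⟩, 5554),
  (⟨2, -2, 1, -1, -3, 1, -2, 0⟩, 11742),
  (⟨2, -2, 1, -1, -3, 1, 0, -2⟩, 4752),
  (⟨2, -2, 1, -1, -3, 1, 0, 2⟩, 4878),
  (⟨2, -2, 1, -1, -3, 1, 2, 0⟩, 4956),
  (⟨2, -2, 1, -1, -1, -1, -2, 0⟩, 4582),
  (⟨2, -2, 1, -1, -1, -1, 0, -2⟩, 4771),
  (⟨2, -2, 1, -1, -1, -1, 0, 2⟩, 4927),
  (⟨2, -2, 1, -1, -1, -1, 2, 0⟩, 5602),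
  (⟨2, -2, 1, -1, 1, 1, -2, 0⟩, 5731),
  (⟨2, -2, 1, -1, 1, 1, 0, -2⟩, 5062),
  (⟨2, -2, 1, -1, 1, 1, 0, 2⟩, 5156),
  (⟨2, -2, 1, -1, 1, 1, 2, 0⟩, 5734),
  (⟨2, -2, 1, -1, 3, -1, -2, 0⟩, 5085),
  (⟨2, -2, 1, -1, 3, -1, 0, -2⟩, 5005),
  (⟨2, -2, 1, -1, 3, -1, 0, 2⟩, 5135),
  (⟨2, -2, 1, -1, 3, -1, 2, 0⟩, 12129),
  (⟨2, -2, 1, -1, 5, 1, -2, 0⟩, 5681),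
  (⟨2, -2, 1, -1, 5, 1, 2, 0⟩, 5150),
  (⟨2, -2, 1, 1, -2, 0, -5, 1⟩, 5262),
  (⟨2, -2, 1, 1, -2, 0, -3, -1⟩, 5291),
  (⟨2, -2, 1, 1, -2, 0, -1, 1⟩, 5343),
  (⟨2, -2, 1, 1, -2, 0, 1, -1⟩, 4838),
  (⟨2, -2, 1, 1, -2, 0, 3, 1⟩, 5442),
  (⟨2, -2, 1, 1, -2, 0, 5, -1⟩, 5395),
  (⟨2, -2, 1, 1, 0, -2, -3, -1⟩, 5295),
  (⟨2, -2, 1, 1, 0, -2, -1, 1⟩, 5577),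
  (⟨2, -2, 1, 1, 0, -2, 1, -1⟩, 5580),
  (⟨2, -2, 1, 1, 0, -2, 3, 1⟩, 5430),
  (⟨2, -2, 1, 1, 0, 2, -3, -1⟩, 5309),
  (⟨2, -2, 1, 1, 0, 2, -1, 1⟩, 5709),
  (⟨2, -2, 1, 1, 0, 2, 1, -1⟩, 5704),
  (⟨2, -2, 1, 1, 0, 2, 3, 1⟩, 5428),
  (⟨2, -2, 1, 1, 2, 0, -5, 1⟩, 5266),
  (⟨2, -2, 1, 1, 2, 0, -3, -1⟩, 5058),
  (⟨2, -2, 1, 1, 2, 0, -1, 1⟩, 5350),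
  (⟨2, -2, 1, 1, 2, 0, 1, -1⟩, 5472),
  (⟨2, -2, 1, 1, 2, 0, 3, 1⟩, 5416),
  (⟨2, -2, 1, 1, 2, 0, 5, -1⟩, 5389),
  (⟨2, -2, 2, -2, -4, 0, 0, 0⟩, 12181),
  (⟨2, -2, 2, -2, 0, 0, -4, 0⟩, 4495),
  (⟨2, -2, 2, -2, 0, 0, 0, 0⟩, 4580),
  (⟨2, -2, 2, -2, 0, 0, 4, 0⟩, 4624),
  (⟨2, -2, 2, -2, 4, 0, 0, 0⟩, 12310),
  (⟨2, -2, 2, 0, -5, 1, -1, -1⟩, 4756),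
  (⟨2, -2, 2, 0, -5, 1, 1, 1⟩, 4880),
  (⟨2, -2, 2, 0, -3, -1, -3, 1⟩, 5575),
  (⟨2, -2, 2, 0, -3, -1, -1, -1⟩, 4776),
  (⟨2, -2, 2, 0, -3, -1, 1, 1⟩, 5555),
  (⟨2, -2, 2, 0, -3, -1, 3, -1⟩, 5576),
  (⟨2, -2, 2, 0, -1, 1, -5, -1⟩, 5285),
  (⟨2, -2, 2, 0, -1, 1, -3, 1⟩, 5341),
  (⟨2, -2, 2, 0, -1, 1, -1, -1⟩, 5730),
  (⟨2, -2, 2, 0, -1, 1, 1, 1⟩, 4960),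
  (⟨2, -2, 2, 0, -1, 1, 3, -1⟩, 5473),
  (⟨2, -2, 2, 0, -1, 1, 5, 1⟩, 4892),
  (⟨2, -2, 2, 0, 1, -1, -5, -1⟩, 5019),
  (⟨2, -2, 2, 0, 1, -1, -3, 1⟩, 5342),
  (⟨2, -2, 2, 0, 1, -1, -1, -1⟩, 5087),
  (⟨2, -2, 2, 0, 1, -1, 1, 1⟩, 5603),
  (⟨2, -2, 2, 0, 1, -1, 3, -1⟩, 5468),
  (⟨2, -2, 2, 0, 1, -1, 5, 1⟩, 5410),
  (⟨2, -2, 2, 0, 3, 1, -3, 1⟩, 5705),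
  (⟨2, -2, 2, 0, 3, 1, -1, -1⟩, 5680),
  (⟨2, -2, 2, 0, 3, 1, 1, 1⟩, 5163),
  (⟨2, -2, 2, 0, 3, 1, 3, -1⟩, 5694),
  (⟨2, -2, 2, 0, 5, -1, -1, -1⟩, 5007),
  (⟨2, -2, 2, 0, 5, -1, 1, 1⟩, 5137),
  (⟨2, -2, 2, 2, -4, 0, 0, 0⟩, 5289),
  (⟨2, -2, 2, 2, 0, 0, -4, 0⟩, 5248),
  (⟨2, -2, 2, 2, 0, 0, 0, 0⟩, 5313),
  (⟨2, -2, 2, 2, 0, 0, 4, 0⟩, 5376),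
  (⟨2, -2, 2, 2, 4, 0, 0, 0⟩, 5418),
  (⟨2, -2, 3, -1, -2, 0, -3, -1⟩, 4795),
  (⟨2, -2, 3, -1, -2, 0, -1, 1⟩, 5601),
  (⟨2, -2, 3, -1, -2, 0, 1, -1⟩, 4829),
  (⟨2, -2, 3, -1, -2, 0, 3, 1⟩, 4899),
  (⟨2, -2, 3, -1, 0, -2, -1, 1⟩, 5518),
  (⟨2, -2, 3, -1, 0, -2, 1, -1⟩, 5521),
  (⟨2, -2, 3, -1, 0, 2, -1, 1⟩, 5652),
  (⟨2, -2, 3, -1, 0, 2, 1, -1⟩, 5645),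
  (⟨2, -2, 3, -1, 2, 0, -3, -1⟩, 5028),
  (⟨2, -2, 3, -1, 2, 0, -1, 1⟩, 5212),
  (⟨2, -2, 3, -1, 2, 0, 1, -1⟩, 5726),
  (⟨2, -2, 3, -1, 2, 0, 3, 1⟩, 5176),
  (⟨2, -2, 3, 1, -3, 1, -2, 0⟩, 5284),
  (⟨2, -2, 3, 1, -3, 1, 2, 0⟩, 5447),
  (⟨2, -2, 3, 1, -1, -1, -2, 0⟩, 5286),
  (⟨2, -2, 3, 1, -1, -1, 0, -2⟩, 4791),
  (⟨2, -2, 3, 1, -1, -1, 0, 2⟩, 5556),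
  (⟨2, -2, 3, 1, -1, -1, 2, 0⟩, 5433),
  (⟨2, -2, 3, 1, 1, 1, -2, 0⟩, 5306),
  (⟨2, -2, 3, 1, 1, 1, 0, -2⟩, 5679),
  (⟨2, -2, 3, 1, 1, 1, 0, 2⟩, 5180),
  (⟨2, -2, 3, 1, 1, 1, 2, 0⟩, 5421),
  (⟨2, -2, 3, 1, 3, -1, -2, 0⟩, 5310),
  (⟨2, -2, 3, 1, 3, -1, 2, 0⟩, 5411),
  (⟨2, -2, 4, 0, -4, 0, 0, 0⟩, 5574),
  (⟨2, -2, 4, 0, -2, -2, 0, 0⟩, 5504),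
  (⟨2, -2, 4, 0, -2, 2, 0, 0⟩, 5651),
  (⟨2, -2, 4, 0, 0, 0, -4, 0⟩, 5283),
  (⟨2, -2, 4, 0, 0, 0, -2, -2⟩, 5033),
  (⟨2, -2, 4, 0, 0, 0, -2, 2⟩, 12439),
  (⟨2, -2, 4, 0, 0, 0, 0, 0⟩, 5733),
  (⟨2, -2, 4, 0, 0, 0, 2, -2⟩, 12568),
  (⟨2, -2, 4, 0, 0, 0, 2, 2⟩, 4906),
  (⟨2, -2, 4, 0, 0, 0, 4, 0⟩, 5412),
  (⟨2, -2, 4, 0, 2, -2, 0, 0⟩, 5522),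
  (⟨2, -2, 4, 0, 2, 2, 0, 0⟩, 5632),
  (⟨2, -2, 4, 0, 4, 0, 0, 0⟩, 5695),
  (⟨2, -2, 5, -1, -1, -1, -2, 0⟩, 5520),
  (⟨2, -2, 5, -1, -1, -1, 2, 0⟩, 5517),
  (⟨2, -2, 5, -1, 1, 1, -2, 0⟩, 5646),
  (⟨2, -2, 5, -1, 1, 1, 2, 0⟩, 5647),
  (⟨2, -2, 5, 1, -2, 0, -1, 1⟩, 5282),
  (⟨2, -2, 5, 1, -2, 0, 1, -1⟩, 5436),
  (⟨2, -2, 5, 1, 2, 0, -1, 1⟩, 5303),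
  (⟨2, -2, 5, 1, 2, 0, 1, -1⟩, 5413),
  (⟨2, 0, -7, -1, 0, 0, -1, -1⟩, 5761),
  (⟨2, 0, -7, -1, 0, 0, 1, 1⟩, 5762),
  (⟨2, 0, -7, 1, -1, 1, 0, 0⟩, 5774),
  (⟨2, 0, -7, 1, 1, -1, 0, 0⟩, 5773),
  (⟨2, 0, -6, 0, -2, 0, -2, 0⟩, 5800),
  (⟨2, 0, -6, 0, -2, 0, 0, -2⟩, 5916),
  (⟨2, 0, -6, 0, -2, 0, 0, 2⟩, 5802),
  (⟨2, 0, -6, 0, -2, 0, 2, 0⟩, 5805),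
  (⟨2, 0, -6, 0, 0, -2, -2, 0⟩, 6173),
  (⟨2, 0, -6, 0, 0, -2, 2, 0⟩, 5804),
  (⟨2, 0, -6, 0, 0, 2, -2, 0⟩, 5799),
  (⟨2, 0, -6, 0, 0, 2, 2, 0⟩, 6042),
  (⟨2, 0, -6, 0, 2, 0, -2, 0⟩, 5798),
  (⟨2, 0, -6, 0, 2, 0, 0, -2⟩, 5801),
  (⟨2, 0, -6, 0, 2, 0, 0, 2⟩, 6299),
  (⟨2, 0, -6, 0, 2, 0, 2, 0⟩, 5803),
  (⟨2, 0, -5, -1, -5, 1, 0, 0⟩, 188),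
  (⟨2, 0, -5, -1, -3, -1, -4, 0⟩, 140),
  (⟨2, 0, -5, -1, -3, -1, 0, 0⟩, 5846),
  (⟨2, 0, -5, -1, -3, -1, 4, 0⟩, 265),
  (⟨2, 0, -5, -1, -1, 1, -4, 0⟩, 206),
  (⟨2, 0, -5, -1, -1, 1, -2, -2⟩, 5890),
  (⟨2, 0, -5, -1, -1, 1, -2, 2⟩, 6450),
  (⟨2, 0, -5, -1, -1, 1, 0, 0⟩, 5845),
  (⟨2, 0, -5, -1, -1, 1, 2, -2⟩, 5925),
  (⟨2, 0, -5, -1, -1, 1, 2, 2⟩, 6022),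
  (⟨2, 0, -5, -1, -1, 1, 4, 0⟩, 320),
  (⟨2, 0, -5, -1, 1, -1, -4, 0⟩, 453),
  (⟨2, 0, -5, -1, 1, -1, -2, -2⟩, 6151),
  (⟨2, 0, -5, -1, 1, -1, -2, 2⟩, 6306),
  (⟨2, 0, -5, -1, 1, -1, 0, 0⟩, 5844),
  (⟨2, 0, -5, -1, 1, -1, 2, -2⟩, 6833),
  (⟨2, 0, -5, -1, 1, -1, 2, 2⟩, 6273),
  (⟨2, 0, -5, -1, 1, -1, 4, 0⟩, 591),
  (⟨2, 0, -5, -1, 3, 1, -4, 0⟩, 394),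
  (⟨2, 0, -5, -1, 3, 1, 0, 0⟩, 5843),
  (⟨2, 0, -5, -1, 3, 1, 4, 0⟩, 523),
  (⟨2, 0, -5, -1, 5, -1, 0, 0⟩, 567),
  (⟨2, 0, -5, 1, -4, 0, -3, 1⟩, 150),
  (⟨2, 0, -5, 1, -4, 0, -1, -1⟩, 198),
  (⟨2, 0, -5, 1, -4, 0, 1, 1⟩, 332),
  (⟨2, 0, -5, 1, -4, 0, 3, -1⟩, 279),
  (⟨2, 0, -5, 1, -2, -2, -1, -1⟩, 6177),
  (⟨2, 0, -5, 1, -2, -2, 1, 1⟩, 7094),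
  (⟨2, 0, -5, 1, -2, 2, -1, -1⟩, 5905),
  (⟨2, 0, -5, 1, -2, 2, 1, 1⟩, 6029),
  (⟨2, 0, -5, 1, 0, 0, -5, -1⟩, 436),
  (⟨2, 0, -5, 1, 0, 0, -3, 1⟩, 5854),
  (⟨2, 0, -5, 1, 0, 0, -1, -1⟩, 5855),
  (⟨2, 0, -5, 1, 0, 0, 1, 1⟩, 5856),
  (⟨2, 0, -5, 1, 0, 0, 3, -1⟩, 5857),
  (⟨2, 0, -5, 1, 0, 0, 5, 1⟩, 303),
  (⟨2, 0, -5, 1, 2, -2, -1, -1⟩, 6158),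
  (⟨2, 0, -5, 1, 2, -2, 1, 1⟩, 6292),
  (⟨2, 0, -5, 1, 2, 2, -1, -1⟩, 7229),
  (⟨2, 0, -5, 1, 2, 2, 1, 1⟩, 6046),
  (⟨2, 0, -5, 1, 4, 0, -3, 1⟩, 408),
  (⟨2, 0, -5, 1, 4, 0, -1, -1⟩, 461),
  (⟨2, 0, -5, 1, 4, 0, 1, 1⟩, 575),
  (⟨2, 0, -5, 1, 4, 0, 3, -1⟩, 533),
  (⟨2, 0, -4, -2, -2, 0, -2, 0⟩, 4562),
  (⟨2, 0, -4, -2, -2, 0, 0, -2⟩, 6533),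
  (⟨2, 0, -4, -2, -2, 0, 0, 2⟩, 6403),
  (⟨2, 0, -4, -2, -2, 0, 2, 0⟩, 4695),
  (⟨2, 0, -4, -2, 0, -2, -2, 0⟩, 778),
  (⟨2, 0, -4, -2, 0, -2, 2, 0⟩, 780),
  (⟨2, 0, -4, -2, 0, 2, -2, 0⟩, 651),
  (⟨2, 0, -4, -2, 0, 2, 2, 0⟩, 649),
  (⟨2, 0, -4, -2, 2, 0, -2, 0⟩, 6743),
  (⟨2, 0, -4, -2, 2, 0, 0, -2⟩, 6788),
  (⟨2, 0, -4, -2, 2, 0, 0, 2⟩, 6664),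
  (⟨2, 0, -4, -2, 2, 0, 2, 0⟩, 4689),
  (⟨2, 0, -4, 0, -5, -1, -3, -1⟩, 136),
  (⟨2, 0, -4, 0, -5, -1, -1, 1⟩, 181),
  (⟨2, 0, -4, 0, -5, -1, 1, -1⟩, 335),
  (⟨2, 0, -4, 0, -5, -1, 3, 1⟩, 268),
  (⟨2, 0, -4, 0, -3, 1, -5, 1⟩, 152),
  (⟨2, 0, -4, 0, -3, 1, -3, -1⟩, 5936),
  (⟨2, 0, -4, 0, -3, 1, -1, 1⟩, 6118),
  (⟨2, 0, -4, 0, -3, 1, 1, -1⟩, 5984),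
  (⟨2, 0, -4, 0, -3, 1, 3, 1⟩, 6074),
  (⟨2, 0, -4, 0, -3, 1, 5, -1⟩, 275),
  (⟨2, 0, -4, 0, -1, -1, -5, 1⟩, 204),
  (⟨2, 0, -4, 0, -1, -1, -3, -1⟩, 6229),
  (⟨2, 0, -4, 0, -1, -1, -1, 1⟩, 5865),
  (⟨2, 0, -4, 0, -1, -1, 1, -1⟩, 5867),
  (⟨2, 0, -4, 0, -1, -1, 3, 1⟩, 346),
  (⟨2, 0, -4, 0, -1, -1, 5, -1⟩, 312),
  (⟨2, 0, -4, 0, 1, 1, -5, 1⟩, 443),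
  (⟨2, 0, -4, 0, 1, 1, -3, -1⟩, 5978),
  (⟨2, 0, -4, 0, 1, 1, -1, 1⟩, 5864),
  (⟨2, 0, -4, 0, 1, 1, 1, -1⟩, 5866),
  (⟨2, 0, -4, 0, 1, 1, 3, 1⟩, 6100),
  (⟨2, 0, -4, 0, 1, 1, 5, -1⟩, 589),
  (⟨2, 0, -4, 0, 3, -1, -5, 1⟩, 402),
  (⟨2, 0, -4, 0, 3, -1, -3, -1⟩, 6201),
  (⟨2, 0, -4, 0, 3, -1, -1, 1⟩, 6367),
  (⟨2, 0, -4, 0, 3, -1, 1, -1⟩, 614),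
  (⟨2, 0, -4, 0, 3, -1, 3, 1⟩, 6323),
  (⟨2, 0, -4, 0, 3, -1, 5, -1⟩, 535),
  (⟨2, 0, -4, 0, 5, 1, -3, -1⟩, 395),
  (⟨2, 0, -4, 0, 5, 1, -1, 1⟩, 462),
  (⟨2, 0, -4, 0, 5, 1, 1, -1⟩, 558),
  (⟨2, 0, -4, 0, 5, 1, 3, 1⟩, 517),
  (⟨2, 0, -4, 2, -2, 0, -2, 0⟩, 3044),
  (⟨2, 0, -4, 2, -2, 0, 0, -2⟩, 918),
  (⟨2, 0, -4, 2, -2, 0, 0, 2⟩, 1048),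
  (⟨2, 0, -4, 2, -2, 0, 2, 0⟩, 3036),
  (⟨2, 0, -4, 2, 0, -2, -2, 0⟩, 6931),
  (⟨2, 0, -4, 2, 0, -2, 2, 0⟩, 7055),
  (⟨2, 0, -4, 2, 0, 2, -2, 0⟩, 7184),
  (⟨2, 0, -4, 2, 0, 2, 2, 0⟩, 7314),
  (⟨2, 0, -4, 2, 2, 0, -2, 0⟩, 3165),
  (⟨2, 0, -4, 2, 2, 0, 0, -2⟩, 919),
  (⟨2, 0, -4, 2, 2, 0, 0, 2⟩, 1045),
  (⟨2, 0, -4, 2, 2, 0, 2, 0⟩, 7396),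
  (⟨2, 0, -3, -3, -1, 1, 0, 0⟩, 650),
  (⟨2, 0, -3, -3, 1, -1, 0, 0⟩, 777),
  (⟨2, 0, -3, -1, -4, 0, -5, -1⟩, 138),
  (⟨2, 0, -3, -1, -4, 0, -3, 1⟩, 6465),
  (⟨2, 0, -3, -1, -4, 0, -1, -1⟩, 217),
  (⟨2, 0, -3, -1, -4, 0, 1, 1⟩, 6484),
  (⟨2, 0, -3, -1, -4, 0, 3, -1⟩, 6576),
  (⟨2, 0, -3, -1, -4, 0, 5, 1⟩, 263),
  (⟨2, 0, -3, -1, -2, -2, -3, 1⟩, 1230),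
  (⟨2, 0, -3, -1, -2, -2, -1, -1⟩, 6226),
  (⟨2, 0, -3, -1, -2, -2, 1, 1⟩, 4305),
  (⟨2, 0, -3, -1, -2, -2, 3, -1⟩, 1348),
  (⟨2, 0, -3, -1, -2, 2, -3, 1⟩, 717),
  (⟨2, 0, -3, -1, -2, 2, -1, -1⟩, 705),
  (⟨2, 0, -3, -1, -2, 2, 1, 1⟩, 6056),
  (⟨2, 0, -3, -1, -2, 2, 3, -1⟩, 696),
  (⟨2, 0, -3, -1, 0, 0, -5, -1⟩, 470),
  (⟨2, 0, -3, -1, 0, 0, -3, 1⟩, 6763),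
  (⟨2, 0, -3, -1, 0, 0, -1, -1⟩, 5869),
  (⟨2, 0, -3, -1, 0, 0, -1, 3⟩, 6717),
  (⟨2, 0, -3, -1, 0, 0, 1, -3⟩, 6582),
  (⟨2, 0, -3, -1, 0, 0, 1, 1⟩, 6381),
  (⟨2, 0, -3, -1, 0, 0, 3, -1⟩, 6632),
  (⟨2, 0, -3, -1, 0, 0, 5, 1⟩, 339),
  (⟨2, 0, -3, -1, 2, -2, -3, 1⟩, 827),
  (⟨2, 0, -3, -1, 2, -2, -1, -1⟩, 6187),
  (⟨2, 0, -3, -1, 2, -2, 1, 1⟩, 6337),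
  (⟨2, 0, -3, -1, 2, -2, 3, -1⟩, 844),
  (⟨2, 0, -3, -1, 2, 2, -3, 1⟩, 1475),
  (⟨2, 0, -3, -1, 2, 2, -1, -1⟩, 4434),
  (⟨2, 0, -3, -1, 2, 2, 1, 1⟩, 6097),
  (⟨2, 0, -3, -1, 2, 2, 3, -1⟩, 1615),
  (⟨2, 0, -3, -1, 4, 0, -5, -1⟩, 390),
  (⟨2, 0, -3, -1, 4, 0, -3, 1⟩, 6707),
  (⟨2, 0, -3, -1, 4, 0, -1, -1⟩, 6869),
  (⟨2, 0, -3, -1, 4, 0, 1, 1⟩, 600),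
  (⟨2, 0, -3, -1, 4, 0, 3, -1⟩, 577),
  (⟨2, 0, -3, -1, 4, 0, 5, 1⟩, 521),
  (⟨2, 0, -3, 1, -5, 1, -4, 0⟩, 148),
  (⟨2, 0, -3, 1, -5, 1, 0, 0⟩, 225),
  (⟨2, 0, -3, 1, -5, 1, 4, 0⟩, 278),
  (⟨2, 0, -3, 1, -3, -1, -4, 0⟩, 6969),
  (⟨2, 0, -3, 1, -3, -1, -2, -2⟩, 949),
  (⟨2, 0, -3, 1, -3, -1, -2, 2⟩, 1223),
  (⟨2, 0, -3, 1, -3, -1, 0, 0⟩, 7018),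
  (⟨2, 0, -3, 1, -3, -1, 2, -2⟩, 1356),
  (⟨2, 0, -3, 1, -3, -1, 2, 2⟩, 1102),
  (⟨2, 0, -3, 1, -3, -1, 4, 0⟩, 7106),
  (⟨2, 0, -3, 1, -1, -3, 0, 0⟩, 6962),
  (⟨2, 0, -3, 1, -1, 1, -4, 0⟩, 7264),
  (⟨2, 0, -3, 1, -1, 1, -2, -2⟩, 5926),
  (⟨2, 0, -3, 1, -1, 1, -2, 2⟩, 2780),
  (⟨2, 0, -3, 1, -1, 1, 0, 0⟩, 6126),
  (⟨2, 0, -3, 1, -1, 1, 2, -2⟩, 5980),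
  (⟨2, 0, -3, 1, -1, 1, 2, 2⟩, 1090),
  (⟨2, 0, -3, 1, -1, 1, 4, 0⟩, 354),
  (⟨2, 0, -3, 1, 1, -1, -4, 0⟩, 483),
  (⟨2, 0, -3, 1, 1, -1, -2, -2⟩, 6210),
  (⟨2, 0, -3, 1, 1, -1, -2, 2⟩, 6365),
  (⟨2, 0, -3, 1, 1, -1, 0, 0⟩, 5870),
  (⟨2, 0, -3, 1, 1, -1, 2, -2⟩, 2909),
  (⟨2, 0, -3, 1, 1, -1, 2, 2⟩, 6317),
  (⟨2, 0, -3, 1, 1, -1, 4, 0⟩, 7135),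
  (⟨2, 0, -3, 1, 1, 3, 0, 0⟩, 7345),
  (⟨2, 0, -3, 1, 3, 1, -4, 0⟩, 450),
  (⟨2, 0, -3, 1, 3, 1, -2, -2⟩, 975),
  (⟨2, 0, -3, 1, 3, 1, -2, 2⟩, 1485),
  (⟨2, 0, -3, 1, 3, 1, 0, 0⟩, 7401),
  (⟨2, 0, -3, 1, 3, 1, 2, -2⟩, 1598),
  (⟨2, 0, -3, 1, 3, 1, 2, 2⟩, 1070),
  (⟨2, 0, -3, 1, 3, 1, 4, 0⟩, 7354),
  (⟨2, 0, -3, 1, 5, -1, -4, 0⟩, 405),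
  (⟨2, 0, -3, 1, 5, -1, 0, 0⟩, 606),
  (⟨2, 0, -3, 1, 5, -1, 4, 0⟩, 529),
  (⟨2, 0, -3, 3, 0, 0, -1, -1⟩, 917),
  (⟨2, 0, -3, 3, 0, 0, 1, 1⟩, 1046),
  (⟨2, 0, -2, -2, -5, -1, -1, 1⟩, 6406),
  (⟨2, 0, -2, -2, -5, -1, 1, -1⟩, 6532),
  (⟨2, 0, -2, -2, -3, 1, -3, -1⟩, 707),
  (⟨2, 0, -2, -2, -3, 1, -1, 1⟩, 6438),
  (⟨2, 0, -2, -2, -3, 1, 1, -1⟩, 698),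
  (⟨2, 0, -2, -2, -3, 1, 3, 1⟩, 715),
  (⟨2, 0, -2, -2, -1, -1, -5, 1⟩, 4513),
  (⟨2, 0, -2, -2, -1, -1, -3, -1⟩, 4561),
  (⟨2, 0, -2, -2, -1, -1, -1, 1⟩, 857),
  (⟨2, 0, -2, -2, -1, -1, 1, -1⟩, 6613),
  (⟨2, 0, -2, -2, -1, -1, 3, 1⟩, 4694),
  (⟨2, 0, -2, -2, -1, -1, 5, -1⟩, 6557),
  (⟨2, 0, -2, -2, 1, 1, -5, 1⟩, 6682),
  (⟨2, 0, -2, -2, 1, 1, -3, -1⟩, 4563),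
  (⟨2, 0, -2, -2, 1, 1, -1, 1⟩, 6740),
  (⟨2, 0, -2, -2, 1, 1, 1, -1⟩, 728),
  (⟨2, 0, -2, -2, 1, 1, 3, 1⟩, 4690),
  (⟨2, 0, -2, -2, 1, 1, 5, -1⟩, 4638),
  (⟨2, 0, -2, -2, 3, -1, -3, -1⟩, 842),
  (⟨2, 0, -2, -2, 3, -1, -1, 1⟩, 825),
  (⟨2, 0, -2, -2, 3, -1, 1, -1⟩, 6829),
  (⟨2, 0, -2, -2, 3, -1, 3, 1⟩, 836),
  (⟨2, 0, -2, -2, 5, 1, -1, 1⟩, 6659),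
  (⟨2, 0, -2, -2, 5, 1, 1, -1⟩, 6791),
  (⟨2, 0, -2, 0, -6, 0, -2, 0⟩, 173),
  (⟨2, 0, -2, 0, -6, 0, 0, -2⟩, 4786),
  (⟨2, 0, -2, 0, -6, 0, 0, 2⟩, 6444),
  (⟨2, 0, -2, 0, -6, 0, 2, 0⟩, 7462),
  (⟨2, 0, -2, 0, -4, -2, -2, 0⟩, 6995),
  (⟨2, 0, -2, 0, -4, -2, 0, -2⟩, 1292),
  (⟨2, 0, -2, 0, -4, -2, 0, 2⟩, 1159),
  (⟨2, 0, -2, 0, -4, -2, 2, 0⟩, 4311),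
  (⟨2, 0, -2, 0, -4, 2, -2, 0⟩, 3300),
  (⟨2, 0, -2, 0, -4, 2, 0, -2⟩, 5902),
  (⟨2, 0, -2, 0, -4, 2, 0, 2⟩, 6034),
  (⟨2, 0, -2, 0, -4, 2, 2, 0⟩, 6109),
  (⟨2, 0, -2, 0, -2, 0, -6, 0⟩, 7595),
  (⟨2, 0, -2, 0, -2, 0, -4, -2⟩, 5969),
  (⟨2, 0, -2, 0, -2, 0, -4, 2⟩, 2788),
  (⟨2, 0, -2, 0, -2, 0, -2, 0⟩, 236),
  (⟨2, 0, -2, 0, -2, 0, 0, -2⟩, 5991),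
  (⟨2, 0, -2, 0, -2, 0, 0, 2⟩, 1258),
  (⟨2, 0, -2, 0, -2, 0, 2, 0⟩, 364),
  (⟨2, 0, -2, 0, -2, 0, 4, -2⟩, 6622),
  (⟨2, 0, -2, 0, -2, 0, 4, 2⟩, 4951),
  (⟨2, 0, -2, 0, -2, 0, 6, 0⟩, 299),
  (⟨2, 0, -2, 0, 0, -2, -6, 0⟩, 3517),
  (⟨2, 0, -2, 0, 0, -2, -4, -2⟩, 6145),
  (⟨2, 0, -2, 0, 0, -2, -4, 2⟩, 1176),
  (⟨2, 0, -2, 0, 0, -2, -2, 0⟩, 6247),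
  (⟨2, 0, -2, 0, 0, -2, 0, -2⟩, 6195),
  (⟨2, 0, -2, 0, 0, -2, 0, 2⟩, 6330),
  (⟨2, 0, -2, 0, 0, -2, 2, 0⟩, 1384),
  (⟨2, 0, -2, 0, 0, -2, 4, -2⟩, 1297),
  (⟨2, 0, -2, 0, 0, -2, 4, 2⟩, 6280),
  (⟨2, 0, -2, 0, 0, -2, 6, 0⟩, 7081),
  (⟨2, 0, -2, 0, 0, 2, -6, 0⟩, 7210),
  (⟨2, 0, -2, 0, 0, 2, -4, -2⟩, 5893),
  (⟨2, 0, -2, 0, 0, 2, -4, 2⟩, 1428),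
  (⟨2, 0, -2, 0, 0, 2, -2, 0⟩, 1515),
  (⟨2, 0, -2, 0, 0, 2, 0, -2⟩, 5945),
  (⟨2, 0, -2, 0, 0, 2, 0, 2⟩, 6064),
  (⟨2, 0, -2, 0, 0, 2, 2, 0⟩, 6119),
  (⟨2, 0, -2, 0, 0, 2, 4, -2⟩, 1559),
  (⟨2, 0, -2, 0, 0, 2, 4, 2⟩, 6018),
  (⟨2, 0, -2, 0, 0, 2, 6, 0⟩, 3382),
  (⟨2, 0, -2, 0, 2, 0, -6, 0⟩, 424),
  (⟨2, 0, -2, 0, 2, 0, -4, -2⟩, 471),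
  (⟨2, 0, -2, 0, 2, 0, -4, 2⟩, 6753),
  (⟨2, 0, -2, 0, 2, 0, -2, 0⟩, 492),
  (⟨2, 0, -2, 0, 2, 0, 0, -2⟩, 1641),
  (⟨2, 0, -2, 0, 2, 0, 0, 2⟩, 6375),
  (⟨2, 0, -2, 0, 2, 0, 2, 0⟩, 620),
  (⟨2, 0, -2, 0, 2, 0, 4, -2⟩, 1636),
  (⟨2, 0, -2, 0, 2, 0, 4, 2⟩, 6354),
  (⟨2, 0, -2, 0, 2, 0, 6, 0⟩, 7720),
  (⟨2, 0, -2, 0, 4, -2, -2, 0⟩, 6236),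
  (⟨2, 0, -2, 0, 4, -2, 0, -2⟩, 6163),
  (⟨2, 0, -2, 0, 4, -2, 0, 2⟩, 6285),
  (⟨2, 0, -2, 0, 4, -2, 2, 0⟩, 612),
  (⟨2, 0, -2, 0, 4, 2, -2, 0⟩, 1495),
  (⟨2, 0, -2, 0, 4, 2, 0, -2⟩, 1542),
  (⟨2, 0, -2, 0, 4, 2, 0, 2⟩, 1419),
  (⟨2, 0, -2, 0, 4, 2, 2, 0⟩, 7382),
  (⟨2, 0, -2, 0, 6, 0, -2, 0⟩, 7853),
  (⟨2, 0, -2, 0, 6, 0, 0, -2⟩, 6823),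
  (⟨2, 0, -2, 0, 6, 0, 0, 2⟩, 5169),
  (⟨2, 0, -2, 0, 6, 0, 2, 0⟩, 550),
  (⟨2, 0, -2, 2, -5, -1, -1, 1⟩, 6939),
  (⟨2, 0, -2, 2, -5, -1, 1, -1⟩, 2981),
  (⟨2, 0, -2, 2, -3, 1, -3, -1⟩, 969),
  (⟨2, 0, -2, 2, -3, 1, -1, 1⟩, 3038),
  (⟨2, 0, -2, 2, -3, 1, 1, -1⟩, 3037),
  (⟨2, 0, -2, 2, -3, 1, 3, 1⟩, 1095),
  (⟨2, 0, -2, 2, -1, -1, -5, 1⟩, 6927),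
  (⟨2, 0, -2, 2, -1, -1, -3, -1⟩, 944),
  (⟨2, 0, -2, 2, -1, -1, -1, 1⟩, 7007),
  (⟨2, 0, -2, 2, -1, -1, 1, -1⟩, 994),
  (⟨2, 0, -2, 2, -1, -1, 3, 1⟩, 7080),
  (⟨2, 0, -2, 2, -1, -1, 5, -1⟩, 7060),
  (⟨2, 0, -2, 2, 1, 1, -5, 1⟩, 7185),
  (⟨2, 0, -2, 2, 1, 1, -3, -1⟩, 7211),
  (⟨2, 0, -2, 2, 1, 1, -1, 1⟩, 1123),
  (⟨2, 0, -2, 2, 1, 1, 1, -1⟩, 7392),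
  (⟨2, 0, -2, 2, 1, 1, 3, 1⟩, 1075),
  (⟨2, 0, -2, 2, 1, 1, 5, -1⟩, 7312),
  (⟨2, 0, -2, 2, 3, -1, -3, -1⟩, 958),
  (⟨2, 0, -2, 2, 3, -1, -1, 1⟩, 3164),
  (⟨2, 0, -2, 2, 3, -1, 1, -1⟩, 3169),
  (⟨2, 0, -2, 2, 3, -1, 3, 1⟩, 1096),
  (⟨2, 0, -2, 2, 5, 1, -1, 1⟩, 3106),
  (⟨2, 0, -2, 2, 5, 1, 1, -1⟩, 7324),
  (⟨2, 0, -1, -3, 0, 0, -3, 1⟩, 4509),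
  (⟨2, 0, -1, -3, 0, 0, -1, -1⟩, 1739),
  (⟨2, 0, -1, -3, 0, 0, 1, 1⟩, 1866),
  (⟨2, 0, -1, -3, 0, 0, 3, -1⟩, 4634),
  (⟨2, 0, -1, -1, -7, -1, 0, 0⟩, 7429),
  (⟨2, 0, -1, -1, -5, 1, -4, 0⟩, 187),
  (⟨2, 0, -1, -1, -5, 1, -2, -2⟩, 5921),
  (⟨2, 0, -1, -1, -5, 1, -2, 2⟩, 6413),
  (⟨2, 0, -1, -1, -5, 1, 0, 0⟩, 7525),
  (⟨2, 0, -1, -1, -5, 1, 2, -2⟩, 6549),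
  (⟨2, 0, -1, -1, -5, 1, 2, 2⟩, 6428),
  (⟨2, 0, -1, -1, -5, 1, 4, 0⟩, 327),
  (⟨2, 0, -1, -1, -3, -1, -4, 0⟩, 219),
  (⟨2, 0, -1, -1, -3, -1, -2, -2⟩, 4819),
  (⟨2, 0, -1, -1, -3, -1, -2, 2⟩, 1209),
  (⟨2, 0, -1, -1, -3, -1, 0, 0⟩, 4333),
  (⟨2, 0, -1, -1, -3, -1, 2, -2⟩, 6568),
  (⟨2, 0, -1, -1, -3, -1, 2, 2⟩, 1235),
  (⟨2, 0, -1, -1, -3, -1, 4, 0⟩, 345),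
  (⟨2, 0, -1, -1, -3, 3, 0, 0⟩, 659),
  (⟨2, 0, -1, -1, -1, -3, 0, 0⟩, 837),
  (⟨2, 0, -1, -1, -1, 1, -4, 0⟩, 4586),
  (⟨2, 0, -1, -1, -1, 1, -2, -2⟩, 5973),
  (⟨2, 0, -1, -1, -1, 1, -2, 2⟩, 6498)]

set_option maxRecDepth 1000000 in
def xPairs6 : List (Z8 × Nat) := [
  (⟨2, 0, -1, -1, -1, 1, 0, 0⟩, 748),
  (⟨2, 0, -1, -1, -1, 1, 2, -2⟩, 6629),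
  (⟨2, 0, -1, -1, -1, 1, 2, 2⟩, 6107),
  (⟨2, 0, -1, -1, -1, 1, 4, 0⟩, 362),
  (⟨2, 0, -1, -1, 1, -1, -4, 0⟩, 489),
  (⟨2, 0, -1, -1, 1, -1, -2, -2⟩, 1755),
  (⟨2, 0, -1, -1, 1, -1, -2, 2⟩, 1253),
  (⟨2, 0, -1, -1, 1, -1, 0, 0⟩, 876),
  (⟨2, 0, -1, -1, 1, -1, 2, -2⟩, 6883),
  (⟨2, 0, -1, -1, 1, -1, 2, 2⟩, 6356),
  (⟨2, 0, -1, -1, 1, -1, 4, 0⟩, 4713),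
  (⟨2, 0, -1, -1, 1, 3, 0, 0⟩, 704),
  (⟨2, 0, -1, -1, 3, -3, 0, 0⟩, 786),
  (⟨2, 0, -1, -1, 3, 1, -4, 0⟩, 472),
  (⟨2, 0, -1, -1, 3, 1, -2, -2⟩, 1622),
  (⟨2, 0, -1, -1, 3, 1, -2, 2⟩, 6699),
  (⟨2, 0, -1, -1, 3, 1, 0, 0⟩, 621),
  (⟨2, 0, -1, -1, 3, 1, 2, -2⟩, 1594),
  (⟨2, 0, -1, -1, 3, 1, 2, 2⟩, 5206),
  (⟨2, 0, -1, -1, 3, 1, 4, 0⟩, 8411),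
  (⟨2, 0, -1, -1, 5, -1, -4, 0⟩, 446),
  (⟨2, 0, -1, -1, 5, -1, -2, -2⟩, 6811),
  (⟨2, 0, -1, -1, 5, -1, -2, 2⟩, 6678),
  (⟨2, 0, -1, -1, 5, -1, 0, 0⟩, 869),
  (⟨2, 0, -1, -1, 5, -1, 2, -2⟩, 6798),
  (⟨2, 0, -1, -1, 5, -1, 2, 2⟩, 6302),
  (⟨2, 0, -1, -1, 5, -1, 4, 0⟩, 568),
  (⟨2, 0, -1, -1, 7, 1, 0, 0⟩, 7816),
  (⟨2, 0, -1, 1, -4, 0, -5, -1⟩, 195),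
  (⟨2, 0, -1, 1, -4, 0, -3, 1⟩, 227),
  (⟨2, 0, -1, 1, -4, 0, -1, -1⟩, 235),
  (⟨2, 0, -1, 1, -4, 0, 1, 1⟩, 3048),
  (⟨2, 0, -1, 1, -4, 0, 3, -1⟩, 8677),
  (⟨2, 0, -1, 1, -4, 0, 5, 1⟩, 309),
  (⟨2, 0, -1, 1, -2, -2, -5, -1⟩, 6921),
  (⟨2, 0, -1, 1, -2, -2, -3, 1⟩, 6950),
  (⟨2, 0, -1, 1, -2, -2, -1, -1⟩, 1371),
  (⟨2, 0, -1, 1, -2, -2, 1, 1⟩, 7128),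
  (⟨2, 0, -1, 1, -2, -2, 3, -1⟩, 1328),
  (⟨2, 0, -1, 1, -2, -2, 5, 1⟩, 7041),
  (⟨2, 0, -1, 1, -2, 2, -5, -1⟩, 7197),
  (⟨2, 0, -1, 1, -2, 2, -3, 1⟩, 1505),
  (⟨2, 0, -1, 1, -2, 2, -1, -1⟩, 5989),
  (⟨2, 0, -1, 1, -2, 2, 1, 1⟩, 6112),
  (⟨2, 0, -1, 1, -2, 2, 3, -1⟩, 3422),
  (⟨2, 0, -1, 1, -2, 2, 5, 1⟩, 6053),
  (⟨2, 0, -1, 1, 0, 0, -7, 1⟩, 7571),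
  (⟨2, 0, -1, 1, 0, 0, -5, -1⟩, 987),
  (⟨2, 0, -1, 1, 0, 0, -3, -3⟩, 904),
  (⟨2, 0, -1, 1, 0, 0, -3, 1⟩, 2798),
  (⟨2, 0, -1, 1, 0, 0, -1, -1⟩, 1004),
  (⟨2, 0, -1, 1, 0, 0, -1, 3⟩, 1087),
  (⟨2, 0, -1, 1, 0, 0, 1, -3⟩, 966),
  (⟨2, 0, -1, 1, 0, 0, 1, 1⟩, 1132),
  (⟨2, 0, -1, 1, 0, 0, 3, -1⟩, 366),
  (⟨2, 0, -1, 1, 0, 0, 3, 3⟩, 1029),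
  (⟨2, 0, -1, 1, 0, 0, 5, 1⟩, 7771),
  (⟨2, 0, -1, 1, 0, 0, 7, -1⟩, 7698),
  (⟨2, 0, -1, 1, 2, -2, -5, -1⟩, 6178),
  (⟨2, 0, -1, 1, 2, -2, -3, 1⟩, 3553),
  (⟨2, 0, -1, 1, 2, -2, -1, -1⟩, 6239),
  (⟨2, 0, -1, 1, 2, -2, 1, 1⟩, 2149),
  (⟨2, 0, -1, 1, 2, -2, 3, -1⟩, 1374),
  (⟨2, 0, -1, 1, 2, -2, 5, 1⟩, 7066),
  (⟨2, 0, -1, 1, 2, 2, -5, -1⟩, 7170),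
  (⟨2, 0, -1, 1, 2, 2, -3, 1⟩, 1459),
  (⟨2, 0, -1, 1, 2, 2, -1, -1⟩, 7257),
  (⟨2, 0, -1, 1, 2, 2, 1, 1⟩, 7387),
  (⟨2, 0, -1, 1, 2, 2, 3, -1⟩, 7341),
  (⟨2, 0, -1, 1, 2, 2, 5, 1⟩, 7306),
  (⟨2, 0, -1, 1, 4, 0, -5, -1⟩, 430),
  (⟨2, 0, -1, 1, 4, 0, -3, 1⟩, 485),
  (⟨2, 0, -1, 1, 4, 0, -1, -1⟩, 3179),
  (⟨2, 0, -1, 1, 4, 0, 1, 1⟩, 616),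
  (⟨2, 0, -1, 1, 4, 0, 3, -1⟩, 610),
  (⟨2, 0, -1, 1, 4, 0, 5, 1⟩, 580),
  (⟨2, 0, -1, 3, -3, -1, 0, 0⟩, 2972),
  (⟨2, 0, -1, 3, -1, 1, 0, 0⟩, 1992),
  (⟨2, 0, -1, 3, 1, -1, 0, 0⟩, 2121),
  (⟨2, 0, -1, 3, 3, 1, 0, 0⟩, 3099),
  (⟨2, 0, 0, -2, -6, 0, -2, 0⟩, 6455),
  (⟨2, 0, 0, -2, -6, 0, 2, 0⟩, 7463),
  (⟨2, 0, 0, -2, -4, -2, -2, 0⟩, 7939),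
  (⟨2, 0, 0, -2, -4, -2, 2, 0⟩, 8075),
  (⟨2, 0, 0, -2, -4, 2, -2, 0⟩, 660),
  (⟨2, 0, 0, -2, -4, 2, 2, 0⟩, 656),
  (⟨2, 0, 0, -2, -2, 0, -6, 0⟩, 4507),
  (⟨2, 0, 0, -2, -2, 0, -4, -2⟩, 1672),
  (⟨2, 0, 0, -2, -2, 0, -4, 2⟩, 6421),
  (⟨2, 0, 0, -2, -2, 0, -2, 0⟩, 4583),
  (⟨2, 0, 0, -2, -2, 0, 0, -2⟩, 6594),
  (⟨2, 0, 0, -2, -2, 0, 0, 2⟩, 6448),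
  (⟨2, 0, 0, -2, -2, 0, 2, 0⟩, 4715),
  (⟨2, 0, 0, -2, -2, 0, 4, -2⟩, 6542),
  (⟨2, 0, 0, -2, -2, 0, 4, 2⟩, 1801),
  (⟨2, 0, 0, -2, -2, 0, 6, 0⟩, 4652),
  (⟨2, 0, 0, -2, 0, -2, -2, 0⟩, 826),
  (⟨2, 0, 0, -2, 0, -2, 0, -2⟩, 1706),
  (⟨2, 0, 0, -2, 0, -2, 0, 2⟩, 805),
  (⟨2, 0, 0, -2, 0, -2, 2, 0⟩, 8130),
  (⟨2, 0, 0, -2, 0, 2, -2, 0⟩, 706),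
  (⟨2, 0, 0, -2, 0, 2, 0, -2⟩, 674),
  (⟨2, 0, 0, -2, 0, 2, 0, 2⟩, 1833),
  (⟨2, 0, 0, -2, 0, 2, 2, 0⟩, 697),
  (⟨2, 0, 0, -2, 2, 0, -6, 0⟩, 4519),
  (⟨2, 0, 0, -2, 2, 0, -4, -2⟩, 1674),
  (⟨2, 0, 0, -2, 2, 0, -4, 2⟩, 6669),
  (⟨2, 0, 0, -2, 2, 0, -2, 0⟩, 4584),
  (⟨2, 0, 0, -2, 2, 0, 0, -2⟩, 6835),
  (⟨2, 0, 0, -2, 2, 0, 0, 2⟩, 1858),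
  (⟨2, 0, 0, -2, 2, 0, 2, 0⟩, 4711),
  (⟨2, 0, 0, -2, 2, 0, 4, -2⟩, 6806),
  (⟨2, 0, 0, -2, 2, 0, 4, 2⟩, 1797),
  (⟨2, 0, 0, -2, 2, 0, 6, 0⟩, 4636),
  (⟨2, 0, 0, -2, 4, -2, -2, 0⟩, 783),
  (⟨2, 0, 0, -2, 4, -2, 2, 0⟩, 785),
  (⟨2, 0, 0, -2, 4, 2, -2, 0⟩, 8204),
  (⟨2, 0, 0, -2, 4, 2, 2, 0⟩, 8324),
  (⟨2, 0, 0, -2, 6, 0, -2, 0⟩, 7852),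
  (⟨2, 0, 0, -2, 6, 0, 2, 0⟩, 6844),
  (⟨2, 0, 0, 0, -7, 1, -1, 1⟩, 7445),
  (⟨2, 0, 0, 0, -7, 1, 1, -1⟩, 7439),
  (⟨2, 0, 0, 0, -5, -1, -5, 1⟩, 177),
  (⟨2, 0, 0, 0, -5, -1, -3, -1⟩, 214),
  (⟨2, 0, 0, 0, -5, -1, -1, 1⟩, 1241),
  (⟨2, 0, 0, 0, -5, -1, 1, -1⟩, 7512),
  (⟨2, 0, 0, 0, -5, -1, 3, 1⟩, 7505),
  (⟨2, 0, 0, 0, -5, -1, 5, -1⟩, 317),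
  (⟨2, 0, 0, 0, -3, -3, -1, 1⟩, 1164),
  (⟨2, 0, 0, 0, -3, -3, 1, -1⟩, 1282),
  (⟨2, 0, 0, 0, -3, 1, -5, 1⟩, 7644),
  (⟨2, 0, 0, 0, -3, 1, -3, -1⟩, 3305),
  (⟨2, 0, 0, 0, -3, 1, -1, -3⟩, 5915),
  (⟨2, 0, 0, 0, -3, 1, -1, 1⟩, 6510),
  (⟨2, 0, 0, 0, -3, 1, 1, -1⟩, 750),
  (⟨2, 0, 0, 0, -3, 1, 1, 3⟩, 4916),
  (⟨2, 0, 0, 0, -3, 1, 3, 1⟩, 4971),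
  (⟨2, 0, 0, 0, -3, 1, 5, -1⟩, 353),
  (⟨2, 0, 0, 0, -1, -1, -7, -1⟩, 7555),
  (⟨2, 0, 0, 0, -1, -1, -5, 1⟩, 7650),
  (⟨2, 0, 0, 0, -1, -1, -3, -1⟩, 6253),
  (⟨2, 0, 0, 0, -1, -1, -3, 3⟩, 1166),
  (⟨2, 0, 0, 0, -1, -1, -1, -3⟩, 1359),
  (⟨2, 0, 0, 0, -1, -1, -1, 1⟩, 1260),
  (⟨2, 0, 0, 0, -1, -1, 1, -1⟩, 1388),
  (⟨2, 0, 0, 0, -1, -1, 1, 3⟩, 1183),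
  (⟨2, 0, 0, 0, -1, -1, 3, -3⟩, 1303),
  (⟨2, 0, 0, 0, -1, -1, 3, 1⟩, 7149),
  (⟨2, 0, 0, 0, -1, -1, 5, -1⟩, 1378),
  (⟨2, 0, 0, 0, -1, -1, 7, 1⟩, 7690),
  (⟨2, 0, 0, 0, -1, 3, -3, -1⟩, 3255),
  (⟨2, 0, 0, 0, -1, 3, -1, 1⟩, 1444),
  (⟨2, 0, 0, 0, -1, 3, 1, -1⟩, 1613),
  (⟨2, 0, 0, 0, -1, 3, 3, 1⟩, 6045),
  (⟨2, 0, 0, 0, 1, -3, -3, -1⟩, 6170),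
  (⟨2, 0, 0, 0, 1, -3, -1, 1⟩, 1228),
  (⟨2, 0, 0, 0, 1, -3, 1, -1⟩, 1315),
  (⟨2, 0, 0, 0, 1, -3, 3, 1⟩, 3644),
  (⟨2, 0, 0, 0, 1, 1, -7, -1⟩, 7561),
  (⟨2, 0, 0, 0, 1, 1, -5, 1⟩, 1507),
  (⟨2, 0, 0, 0, 1, 1, -3, -1⟩, 493),
  (⟨2, 0, 0, 0, 1, 1, -3, 3⟩, 1432),
  (⟨2, 0, 0, 0, 1, 1, -1, -3⟩, 1568),
  (⟨2, 0, 0, 0, 1, 1, -1, 1⟩, 1516),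
  (⟨2, 0, 0, 0, 1, 1, 1, -1⟩, 1644),
  (⟨2, 0, 0, 0, 1, 1, 1, 3⟩, 1486),
  (⟨2, 0, 0, 0, 1, 1, 3, -3⟩, 1549),
  (⟨2, 0, 0, 0, 1, 1, 3, 1⟩, 1133),
  (⟨2, 0, 0, 0, 1, 1, 5, -1⟩, 7779),
  (⟨2, 0, 0, 0, 1, 1, 7, 1⟩, 7684),
  (⟨2, 0, 0, 0, 3, -1, -5, 1⟩, 478),
  (⟨2, 0, 0, 0, 3, -1, -3, -1⟩, 5096),
  (⟨2, 0, 0, 0, 3, -1, -1, -3⟩, 5039),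
  (⟨2, 0, 0, 0, 3, -1, -1, 1⟩, 6382),
  (⟨2, 0, 0, 0, 3, -1, 1, -1⟩, 622),
  (⟨2, 0, 0, 0, 3, -1, 1, 3⟩, 6300),
  (⟨2, 0, 0, 0, 3, -1, 3, 1⟩, 3690),
  (⟨2, 0, 0, 0, 3, -1, 5, -1⟩, 7773),
  (⟨2, 0, 0, 0, 3, 3, -1, 1⟩, 1409),
  (⟨2, 0, 0, 0, 3, 3, 1, -1⟩, 1547),
  (⟨2, 0, 0, 0, 5, 1, -5, 1⟩, 438),
  (⟨2, 0, 0, 0, 5, 1, -3, -1⟩, 7890),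
  (⟨2, 0, 0, 0, 5, 1, -1, 1⟩, 7897),
  (⟨2, 0, 0, 0, 5, 1, 1, -1⟩, 1624),
  (⟨2, 0, 0, 0, 5, 1, 3, 1⟩, 595),
  (⟨2, 0, 0, 0, 5, 1, 5, -1⟩, 562),
  (⟨2, 0, 0, 0, 7, -1, -1, 1⟩, 7824),
  (⟨2, 0, 0, 0, 7, -1, 1, -1⟩, 7830),
  (⟨2, 0, 0, 2, -6, 0, -2, 0⟩, 2986),
  (⟨2, 0, 0, 2, -6, 0, 2, 0⟩, 2973),
  (⟨2, 0, 0, 2, -4, -2, -2, 0⟩, 6913),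
  (⟨2, 0, 0, 2, -4, -2, 2, 0⟩, 7050),
  (⟨2, 0, 0, 2, -4, 2, -2, 0⟩, 1942),
  (⟨2, 0, 0, 2, -4, 2, 2, 0⟩, 1939),
  (⟨2, 0, 0, 2, -2, 0, -6, 0⟩, 7593),
  (⟨2, 0, 0, 2, -2, 0, -4, -2⟩, 900),
  (⟨2, 0, 0, 2, -2, 0, -4, 2⟩, 8471),
  (⟨2, 0, 0, 2, -2, 0, -2, 0⟩, 3049),
  (⟨2, 0, 0, 2, -2, 0, 0, -2⟩, 947),
  (⟨2, 0, 0, 2, -2, 0, 0, 2⟩, 8513),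
  (⟨2, 0, 0, 2, -2, 0, 2, 0⟩, 3047),
  (⟨2, 0, 0, 2, -2, 0, 4, -2⟩, 8591),
  (⟨2, 0, 0, 2, -2, 0, 4, 2⟩, 1031),
  (⟨2, 0, 0, 2, -2, 0, 6, 0⟩, 7092),
  (⟨2, 0, 0, 2, 0, -2, -2, 0⟩, 6977),
  (⟨2, 0, 0, 2, 0, -2, 0, -2⟩, 926),
  (⟨2, 0, 0, 2, 0, -2, 0, 2⟩, 2087),
  (⟨2, 0, 0, 2, 0, -2, 2, 0⟩, 7098),
  (⟨2, 0, 0, 2, 0, 2, -2, 0⟩, 7225),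
  (⟨2, 0, 0, 2, 0, 2, 0, -2⟩, 1964),
  (⟨2, 0, 0, 2, 0, 2, 0, 2⟩, 1057),
  (⟨2, 0, 0, 2, 0, 2, 2, 0⟩, 1985),
  (⟨2, 0, 0, 2, 2, 0, -6, 0⟩, 7215),
  (⟨2, 0, 0, 2, 2, 0, -4, -2⟩, 902),
  (⟨2, 0, 0, 2, 2, 0, -4, 2⟩, 8720),
  (⟨2, 0, 0, 2, 2, 0, -2, 0⟩, 3175),
  (⟨2, 0, 0, 2, 2, 0, 0, -2⟩, 961),
  (⟨2, 0, 0, 2, 2, 0, 0, 2⟩, 1072),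
  (⟨2, 0, 0, 2, 2, 0, 2, 0⟩, 3178),
  (⟨2, 0, 0, 2, 2, 0, 4, -2⟩, 8856),
  (⟨2, 0, 0, 2, 2, 0, 4, 2⟩, 1027),
  (⟨2, 0, 0, 2, 2, 0, 6, 0⟩, 7722),
  (⟨2, 0, 0, 2, 4, -2, -2, 0⟩, 2066),
  (⟨2, 0, 0, 2, 4, -2, 2, 0⟩, 2069),
  (⟨2, 0, 0, 2, 4, 2, -2, 0⟩, 7177),
  (⟨2, 0, 0, 2, 4, 2, 2, 0⟩, 7298),
  (⟨2, 0, 0, 2, 6, 0, -2, 0⟩, 3098),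
  (⟨2, 0, 0, 2, 6, 0, 2, 0⟩, 3113),
  (⟨2, 0, 1, -3, -3, -1, 0, 0⟩, 7983),
  (⟨2, 0, 1, -3, -1, 1, 0, 0⟩, 699),
  (⟨2, 0, 1, -3, 1, -1, 0, 0⟩, 824),
  (⟨2, 0, 1, -3, 3, 1, 0, 0⟩, 8372),
  (⟨2, 0, 1, -1, -4, 0, -5, -1⟩, 2251),
  (⟨2, 0, 1, -1, -4, 0, -3, 1⟩, 6502),
  (⟨2, 0, 1, -1, -4, 0, -1, -1⟩, 4842),
  (⟨2, 0, 1, -1, -4, 0, 1, 1⟩, 6505),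
  (⟨2, 0, 1, -1, -4, 0, 3, -1⟩, 6627),
  (⟨2, 0, 1, -1, -4, 0, 5, 1⟩, 2368),
  (⟨2, 0, 1, -1, -2, -2, -5, -1⟩, 7947),
  (⟨2, 0, 1, -1, -2, -2, -3, 1⟩, 7987),
  (⟨2, 0, 1, -1, -2, -2, -1, -1⟩, 1369),
  (⟨2, 0, 1, -1, -2, -2, 1, 1⟩, 1242),
  (⟨2, 0, 1, -1, -2, -2, 3, -1⟩, 1323),
  (⟨2, 0, 1, -1, -2, -2, 5, 1⟩, 8068),
  (⟨2, 0, 1, -1, -2, 2, -5, -1⟩, 8222),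
  (⟨2, 0, 1, -1, -2, 2, -3, 1⟩, 1501),
  (⟨2, 0, 1, -1, -2, 2, -1, -1⟩, 735),
  (⟨2, 0, 1, -1, -2, 2, 1, 1⟩, 9190),
  (⟨2, 0, 1, -1, -2, 2, 3, -1⟩, 732),
  (⟨2, 0, 1, -1, -2, 2, 5, 1⟩, 9143),
  (⟨2, 0, 1, -1, 0, 0, -7, 1⟩, 7569),
  (⟨2, 0, 1, -1, 0, 0, -5, -1⟩, 7642),
  (⟨2, 0, 1, -1, 0, 0, -3, -3⟩, 1670),
  (⟨2, 0, 1, -1, 0, 0, -3, 1⟩, 6766),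
  (⟨2, 0, 1, -1, 0, 0, -1, -1⟩, 1772),
  (⟨2, 0, 1, -1, 0, 0, -1, 3⟩, 1863),
  (⟨2, 0, 1, -1, 0, 0, 1, -3⟩, 1726),
  (⟨2, 0, 1, -1, 0, 0, 1, 1⟩, 1900),
  (⟨2, 0, 1, -1, 0, 0, 3, -1⟩, 4718),
  (⟨2, 0, 1, -1, 0, 0, 3, 3⟩, 1799),
  (⟨2, 0, 1, -1, 0, 0, 5, 1⟩, 1882),
  (⟨2, 0, 1, -1, 0, 0, 7, -1⟩, 7700),
  (⟨2, 0, 1, -1, 2, -2, -5, -1⟩, 9276),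
  (⟨2, 0, 1, -1, 2, -2, -3, 1⟩, 861),
  (⟨2, 0, 1, -1, 2, -2, -1, -1⟩, 870),
  (⟨2, 0, 1, -1, 2, -2, 1, 1⟩, 864),
  (⟨2, 0, 1, -1, 2, -2, 3, -1⟩, 1372),
  (⟨2, 0, 1, -1, 2, -2, 5, 1⟩, 8097),
  (⟨2, 0, 1, -1, 2, 2, -5, -1⟩, 8195),
  (⟨2, 0, 1, -1, 2, 2, -3, 1⟩, 1448),
  (⟨2, 0, 1, -1, 2, 2, -1, -1⟩, 8282),
  (⟨2, 0, 1, -1, 2, 2, 1, 1⟩, 1496),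
  (⟨2, 0, 1, -1, 2, 2, 3, -1⟩, 8368),
  (⟨2, 0, 1, -1, 2, 2, 5, 1⟩, 8332),
  (⟨2, 0, 1, -1, 4, 0, -5, -1⟩, 2501),
  (⟨2, 0, 1, -1, 4, 0, -3, 1⟩, 6754),
  (⟨2, 0, 1, -1, 4, 0, -1, -1⟩, 6890),
  (⟨2, 0, 1, -1, 4, 0, 1, 1⟩, 5225),
  (⟨2, 0, 1, -1, 4, 0, 3, -1⟩, 2662),
  (⟨2, 0, 1, -1, 4, 0, 5, 1⟩, 2634),
  (⟨2, 0, 1, 1, -7, -1, 0, 0⟩, 7430),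
  (⟨2, 0, 1, 1, -5, 1, -4, 0⟩, 2246),
  (⟨2, 0, 1, 1, -5, 1, -2, -2⟩, 9007),
  (⟨2, 0, 1, 1, -5, 1, -2, 2⟩, 8463),
  (⟨2, 0, 1, 1, -5, 1, 0, 0⟩, 7526),
  (⟨2, 0, 1, 1, -5, 1, 2, -2⟩, 8600),
  (⟨2, 0, 1, 1, -5, 1, 2, 2⟩, 8482),
  (⟨2, 0, 1, 1, -5, 1, 4, 0⟩, 2376),
  (⟨2, 0, 1, 1, -3, -1, -4, 0⟩, 7000),
  (⟨2, 0, 1, 1, -3, -1, -2, -2⟩, 978),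
  (⟨2, 0, 1, 1, -3, -1, -2, 2⟩, 1197),
  (⟨2, 0, 1, 1, -3, -1, 0, 0⟩, 7021),
  (⟨2, 0, 1, 1, -3, -1, 2, -2⟩, 8633),
  (⟨2, 0, 1, 1, -3, -1, 2, 2⟩, 1234),
  (⟨2, 0, 1, 1, -3, -1, 4, 0⟩, 2394),
  (⟨2, 0, 1, 1, -3, 3, 0, 0⟩, 1940),
  (⟨2, 0, 1, 1, -1, -3, 0, 0⟩, 2116),
  (⟨2, 0, 1, 1, -1, 1, -4, 0⟩, 7272),
  (⟨2, 0, 1, 1, -1, 1, -2, -2⟩, 9050),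
  (⟨2, 0, 1, 1, -1, 1, -2, 2⟩, 8550),
  (⟨2, 0, 1, 1, -1, 1, 0, 0⟩, 2028),
  (⟨2, 0, 1, 1, -1, 1, 2, -2⟩, 1634),
  (⟨2, 0, 1, 1, -1, 1, 2, 2⟩, 1109),
  (⟨2, 0, 1, 1, -1, 1, 4, 0⟩, 3432),
  (⟨2, 0, 1, 1, 1, -1, -4, 0⟩, 3563),
  (⟨2, 0, 1, 1, 1, -1, -2, -2⟩, 980),
  (⟨2, 0, 1, 1, 1, -1, -2, 2⟩, 1251),
  (⟨2, 0, 1, 1, 1, -1, 0, 0⟩, 2156),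
  (⟨2, 0, 1, 1, 1, -1, 2, -2⟩, 1382),
  (⟨2, 0, 1, 1, 1, -1, 2, 2⟩, 1114),
  (⟨2, 0, 1, 1, 1, -1, 4, 0⟩, 7147),
  (⟨2, 0, 1, 1, 1, 3, 0, 0⟩, 1987),
  (⟨2, 0, 1, 1, 3, -3, 0, 0⟩, 2065),
  (⟨2, 0, 1, 1, 3, 1, -4, 0⟩, 7258),
  (⟨2, 0, 1, 1, 3, 1, -2, -2⟩, 1617),
  (⟨2, 0, 1, 1, 3, 1, -2, 2⟩, 8762),
  (⟨2, 0, 1, 1, 3, 1, 0, 0⟩, 3181),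
  (⟨2, 0, 1, 1, 3, 1, 2, -2⟩, 1574),
  (⟨2, 0, 1, 1, 3, 1, 2, 2⟩, 1105),
  (⟨2, 0, 1, 1, 3, 1, 4, 0⟩, 7385),
  (⟨2, 0, 1, 1, 5, -1, -4, 0⟩, 2505),
  (⟨2, 0, 1, 1, 5, -1, -2, -2⟩, 8869),
  (⟨2, 0, 1, 1, 5, -1, -2, 2⟩, 8727),
  (⟨2, 0, 1, 1, 5, -1, 0, 0⟩, 2150),
  (⟨2, 0, 1, 1, 5, -1, 2, -2⟩, 8848),
  (⟨2, 0, 1, 1, 5, -1, 2, 2⟩, 9396),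
  (⟨2, 0, 1, 1, 5, -1, 4, 0⟩, 2623),
  (⟨2, 0, 1, 1, 7, 1, 0, 0⟩, 7815),
  (⟨2, 0, 1, 3, 0, 0, -3, 1⟩, 8764),
  (⟨2, 0, 1, 3, 0, 0, -1, -1⟩, 942),
  (⟨2, 0, 1, 3, 0, 0, 1, 1⟩, 1077),
  (⟨2, 0, 1, 3, 0, 0, 3, -1⟩, 8631),
  (⟨2, 0, 2, -2, -5, -1, -1, 1⟩, 7966),
  (⟨2, 0, 2, -2, -5, -1, 1, -1⟩, 6580),
  (⟨2, 0, 2, -2, -3, 1, -3, -1⟩, 1734),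
  (⟨2, 0, 2, -2, -3, 1, -1, 1⟩, 6494),
  (⟨2, 0, 2, -2, -3, 1, 1, -1⟩, 733),
  (⟨2, 0, 2, -2, -3, 1, 3, 1⟩, 1848),
  (⟨2, 0, 2, -2, -1, -1, -5, 1⟩, 7955),
  (⟨2, 0, 2, -2, -1, -1, -3, -1⟩, 1709),
  (⟨2, 0, 2, -2, -1, -1, -1, 1⟩, 8034),
  (⟨2, 0, 2, -2, -1, -1, 1, -1⟩, 1760),
  (⟨2, 0, 2, -2, -1, -1, 3, 1⟩, 8115),
  (⟨2, 0, 2, -2, -1, -1, 5, -1⟩, 8085),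
  (⟨2, 0, 2, -2, 1, 1, -5, 1⟩, 8214),
  (⟨2, 0, 2, -2, 1, 1, -3, -1⟩, 8240),
  (⟨2, 0, 2, -2, 1, 1, -1, 1⟩, 1887),
  (⟨2, 0, 2, -2, 1, 1, 1, -1⟩, 8419),
  (⟨2, 0, 2, -2, 1, 1, 3, 1⟩, 1830),
  (⟨2, 0, 2, -2, 1, 1, 5, -1⟩, 8338),
  (⟨2, 0, 2, -2, 3, -1, -3, -1⟩, 1723),
  (⟨2, 0, 2, -2, 3, -1, -1, 1⟩, 860),
  (⟨2, 0, 2, -2, 3, -1, 1, -1⟩, 6881),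
  (⟨2, 0, 2, -2, 3, -1, 3, 1⟩, 1855),
  (⟨2, 0, 2, -2, 5, 1, -1, 1⟩, 6703),
  (⟨2, 0, 2, -2, 5, 1, 1, -1⟩, 8353),
  (⟨2, 0, 2, 0, -6, 0, -2, 0⟩, 2219),
  (⟨2, 0, 2, 0, -6, 0, 0, -2⟩, 4777),
  (⟨2, 0, 2, 0, -6, 0, 0, 2⟩, 8502),
  (⟨2, 0, 2, 0, -6, 0, 2, 0⟩, 7464),
  (⟨2, 0, 2, 0, -4, -2, -2, 0⟩, 8023),
  (⟨2, 0, 2, 0, -4, -2, 0, -2⟩, 1288),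
  (⟨2, 0, 2, 0, -4, -2, 0, 2⟩, 1154),
  (⟨2, 0, 2, 0, -4, -2, 2, 0⟩, 1362),
  (⟨2, 0, 2, 0, -4, 2, -2, 0⟩, 3294),
  (⟨2, 0, 2, 0, -4, 2, 0, -2⟩, 8977),
  (⟨2, 0, 2, 0, -4, 2, 0, 2⟩, 9111),
  (⟨2, 0, 2, 0, -4, 2, 2, 0⟩, 9188),
  (⟨2, 0, 2, 0, -2, 0, -6, 0⟩, 7590),
  (⟨2, 0, 2, 0, -2, 0, -4, -2⟩, 1751),
  (⟨2, 0, 2, 0, -2, 0, -4, 2⟩, 1245),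
  (⟨2, 0, 2, 0, -2, 0, -2, 0⟩, 2284),
  (⟨2, 0, 2, 0, -2, 0, 0, -2⟩, 9064),
  (⟨2, 0, 2, 0, -2, 0, 0, 2⟩, 1255),
  (⟨2, 0, 2, 0, -2, 0, 2, 0⟩, 2412),
  (⟨2, 0, 2, 0, -2, 0, 4, -2⟩, 2404),
  (⟨2, 0, 2, 0, -2, 0, 4, 2⟩, 4950),
  (⟨2, 0, 2, 0, -2, 0, 6, 0⟩, 2342),
  (⟨2, 0, 2, 0, 0, -2, -6, 0⟩, 3500),
  (⟨2, 0, 2, 0, 0, -2, -4, -2⟩, 9223),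
  (⟨2, 0, 2, 0, 0, -2, -4, 2⟩, 1170),
  (⟨2, 0, 2, 0, 0, -2, -2, 0⟩, 9322),
  (⟨2, 0, 2, 0, 0, -2, 0, -2⟩, 1338),
  (⟨2, 0, 2, 0, 0, -2, 0, 2⟩, 1200),
  (⟨2, 0, 2, 0, 0, -2, 2, 0⟩, 1383),
  (⟨2, 0, 2, 0, 0, -2, 4, -2⟩, 1293),
  (⟨2, 0, 2, 0, 0, -2, 4, 2⟩, 9355),
  (⟨2, 0, 2, 0, 0, -2, 6, 0⟩, 8113),
  (⟨2, 0, 2, 0, 0, 2, -6, 0⟩, 8242),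
  (⟨2, 0, 2, 0, 0, 2, -4, -2⟩, 8972),
  (⟨2, 0, 2, 0, 0, 2, -4, 2⟩, 1422),
  (⟨2, 0, 2, 0, 0, 2, -2, 0⟩, 1511),
  (⟨2, 0, 2, 0, 0, 2, 0, -2⟩, 1587),
  (⟨2, 0, 2, 0, 0, 2, 0, 2⟩, 1465),
  (⟨2, 0, 2, 0, 0, 2, 2, 0⟩, 9193),
  (⟨2, 0, 2, 0, 0, 2, 4, -2⟩, 1555),
  (⟨2, 0, 2, 0, 0, 2, 4, 2⟩, 9094),
  (⟨2, 0, 2, 0, 0, 2, 6, 0⟩, 3367),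
  (⟨2, 0, 2, 0, 2, 0, -6, 0⟩, 2477),
  (⟨2, 0, 2, 0, 2, 0, -4, -2⟩, 5075),
  (⟨2, 0, 2, 0, 2, 0, -4, 2⟩, 8804),
  (⟨2, 0, 2, 0, 2, 0, -2, 0⟩, 2540),
  (⟨2, 0, 2, 0, 2, 0, 0, -2⟩, 1639),
  (⟨2, 0, 2, 0, 2, 0, 0, 2⟩, 9451),
  (⟨2, 0, 2, 0, 2, 0, 2, 0⟩, 2668),
  (⟨2, 0, 2, 0, 2, 0, 4, -2⟩, 1628),
  (⟨2, 0, 2, 0, 2, 0, 4, 2⟩, 9431),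
  (⟨2, 0, 2, 0, 2, 0, 6, 0⟩, 7725),
  (⟨2, 0, 2, 0, 4, -2, -2, 0⟩, 2148),
  (⟨2, 0, 2, 0, 4, -2, 0, -2⟩, 9240),
  (⟨2, 0, 2, 0, 4, -2, 0, 2⟩, 9364),
  (⟨2, 0, 2, 0, 4, -2, 2, 0⟩, 3681),
  (⟨2, 0, 2, 0, 4, 2, -2, 0⟩, 1489),
  (⟨2, 0, 2, 0, 4, 2, 0, -2⟩, 1537),
  (⟨2, 0, 2, 0, 4, 2, 0, 2⟩, 1413),
  (⟨2, 0, 2, 0, 4, 2, 2, 0⟩, 2647),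
  (⟨2, 0, 2, 0, 6, 0, -2, 0⟩, 7851),
  (⟨2, 0, 2, 0, 6, 0, 0, -2⟩, 8893),
  (⟨2, 0, 2, 0, 6, 0, 0, 2⟩, 5162),
  (⟨2, 0, 2, 0, 6, 0, 2, 0⟩, 2600),
  (⟨2, 0, 2, 2, -5, -1, -1, 1⟩, 8457),
  (⟨2, 0, 2, 2, -5, -1, 1, -1⟩, 8581),
  (⟨2, 0, 2, 2, -3, 1, -3, -1⟩, 1973),
  (⟨2, 0, 2, 2, -3, 1, -1, 1⟩, 8506),
  (⟨2, 0, 2, 2, -3, 1, 1, -1⟩, 1963),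
  (⟨2, 0, 2, 2, -3, 1, 3, 1⟩, 1984),
  (⟨2, 0, 2, 2, -1, -1, -5, 1⟩, 6967),
  (⟨2, 0, 2, 2, -1, -1, -3, -1⟩, 977),
  (⟨2, 0, 2, 2, -1, -1, -1, 1⟩, 2133),
  (⟨2, 0, 2, 2, -1, -1, 1, -1⟩, 8664),
  (⟨2, 0, 2, 2, -1, -1, 3, 1⟩, 7126),
  (⟨2, 0, 2, 2, -1, -1, 5, -1⟩, 8610),
  (⟨2, 0, 2, 2, 1, 1, -5, 1⟩, 8741),
  (⟨2, 0, 2, 2, 1, 1, -3, -1⟩, 7251),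
  (⟨2, 0, 2, 2, 1, 1, -1, 1⟩, 8793),
  (⟨2, 0, 2, 2, 1, 1, 1, -1⟩, 2004),
  (⟨2, 0, 2, 2, 1, 1, 3, 1⟩, 1106),
  (⟨2, 0, 2, 2, 1, 1, 5, -1⟩, 7356),
  (⟨2, 0, 2, 2, 3, -1, -3, -1⟩, 2117),
  (⟨2, 0, 2, 2, 3, -1, -1, 1⟩, 2088),
  (⟨2, 0, 2, 2, 3, -1, 1, -1⟩, 8889),
  (⟨2, 0, 2, 2, 3, -1, 3, 1⟩, 2094),
  (⟨2, 0, 2, 2, 5, 1, -1, 1⟩, 8712),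
  (⟨2, 0, 2, 2, 5, 1, 1, -1⟩, 8842),
  (⟨2, 0, 3, -3, 0, 0, -1, -1⟩, 1680),
  (⟨2, 0, 3, -3, 0, 0, 1, 1⟩, 1807),
  (⟨2, 0, 3, -1, -5, 1, -4, 0⟩, 2192),
  (⟨2, 0, 3, -1, -5, 1, 0, 0⟩, 2268),
  (⟨2, 0, 3, -1, -5, 1, 4, 0⟩, 2323),
  (⟨2, 0, 3, -1, -3, -1, -4, 0⟩, 8001),
  (⟨2, 0, 3, -1, -3, -1, -2, -2⟩, 1696),
  (⟨2, 0, 3, -1, -3, -1, -2, 2⟩, 1187),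
  (⟨2, 0, 3, -1, -3, -1, 0, 0⟩, 2280),
  (⟨2, 0, 3, -1, -3, -1, 2, -2⟩, 1350),
  (⟨2, 0, 3, -1, -3, -1, 2, 2⟩, 1867),
  (⟨2, 0, 3, -1, -3, -1, 4, 0⟩, 2361),
  (⟨2, 0, 3, -1, -1, -3, 0, 0⟩, 5558),
  (⟨2, 0, 3, -1, -1, 1, -4, 0⟩, 8290),
  (⟨2, 0, 3, -1, -1, 1, -2, -2⟩, 1729),
  (⟨2, 0, 3, -1, -1, 1, -2, 2⟩, 1889),
  (⟨2, 0, 3, -1, -1, 1, 0, 0⟩, 1902),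
  (⟨2, 0, 3, -1, -1, 1, 2, -2⟩, 1633),
  (⟨2, 0, 3, -1, -1, 1, 2, 2⟩, 1835),
  (⟨2, 0, 3, -1, -1, 1, 4, 0⟩, 2399),
  (⟨2, 0, 3, -1, 1, -1, -4, 0⟩, 2528),
  (⟨2, 0, 3, -1, 1, -1, -2, -2⟩, 1704),
  (⟨2, 0, 3, -1, 1, -1, -2, 2⟩, 1246),
  (⟨2, 0, 3, -1, 1, -1, 0, 0⟩, 878),
  (⟨2, 0, 3, -1, 1, -1, 2, -2⟩, 1758),
  (⟨2, 0, 3, -1, 1, -1, 2, 2⟩, 9409),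
  (⟨2, 0, 3, -1, 1, -1, 4, 0⟩, 8163),
  (⟨2, 0, 3, -1, 1, 3, 0, 0⟩, 5693),
  (⟨2, 0, 3, -1, 3, 1, -4, 0⟩, 2490),
  (⟨2, 0, 3, -1, 3, 1, -2, -2⟩, 1738),
  (⟨2, 0, 3, -1, 3, 1, -2, 2⟩, 1471),
  (⟨2, 0, 3, -1, 3, 1, 0, 0⟩, 2667),
  (⟨2, 0, 3, -1, 3, 1, 2, -2⟩, 1572),
  (⟨2, 0, 3, -1, 3, 1, 2, 2⟩, 1823),
  (⟨2, 0, 3, -1, 3, 1, 4, 0⟩, 2625),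
  (⟨2, 0, 3, -1, 5, -1, -4, 0⟩, 2450),
  (⟨2, 0, 3, -1, 5, -1, 0, 0⟩, 2653),
  (⟨2, 0, 3, -1, 5, -1, 4, 0⟩, 2575),
  (⟨2, 0, 3, 1, -4, 0, -5, -1⟩, 2184),
  (⟨2, 0, 3, 1, -4, 0, -3, 1⟩, 2227),
  (⟨2, 0, 3, 1, -4, 0, -1, -1⟩, 2260),
  (⟨2, 0, 3, 1, -4, 0, 1, 1⟩, 8536),
  (⟨2, 0, 3, 1, -4, 0, 3, -1⟩, 8642),
  (⟨2, 0, 3, 1, -4, 0, 5, 1⟩, 2307),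
  (⟨2, 0, 3, 1, -2, -2, -3, 1⟩, 1221),
  (⟨2, 0, 3, 1, -2, -2, -1, -1⟩, 1366),
  (⟨2, 0, 3, 1, -2, -2, 1, 1⟩, 2131),
  (⟨2, 0, 3, 1, -2, -2, 3, -1⟩, 1312),
  (⟨2, 0, 3, 1, -2, 2, -3, 1⟩, 1993),
  (⟨2, 0, 3, 1, -2, 2, -1, -1⟩, 1965),
  (⟨2, 0, 3, 1, -2, 2, 1, 1⟩, 1986),
  (⟨2, 0, 3, 1, -2, 2, 3, -1⟩, 1956),
  (⟨2, 0, 3, 1, 0, 0, -5, -1⟩, 2514),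
  (⟨2, 0, 3, 1, 0, 0, -3, 1⟩, 2538),
  (⟨2, 0, 3, 1, 0, 0, -1, -1⟩, 1005),
  (⟨2, 0, 3, 1, 0, 0, -1, 3⟩, 4018),
  (⟨2, 0, 3, 1, 0, 0, 1, -3⟩, 4145),
  (⟨2, 0, 3, 1, 0, 0, 1, 1⟩, 2157),
  (⟨2, 0, 3, 1, 0, 0, 3, -1⟩, 2409),
  (⟨2, 0, 3, 1, 0, 0, 5, 1⟩, 2385),
  (⟨2, 0, 3, 1, 2, -2, -3, 1⟩, 2083),
  (⟨2, 0, 3, 1, 2, -2, -1, -1⟩, 9282),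
  (⟨2, 0, 3, 1, 2, -2, 1, 1⟩, 2086),
  (⟨2, 0, 3, 1, 2, -2, 3, -1⟩, 2120),
  (⟨2, 0, 3, 1, 2, 2, -3, 1⟩, 1439),
  (⟨2, 0, 3, 1, 2, 2, -1, -1⟩, 2006),
  (⟨2, 0, 3, 1, 2, 2, 1, 1⟩, 1491),
  (⟨2, 0, 3, 1, 2, 2, 3, -1⟩, 1600),
  (⟨2, 0, 3, 1, 4, 0, -5, -1⟩, 2436),
  (⟨2, 0, 3, 1, 4, 0, -3, 1⟩, 2498),
  (⟨2, 0, 3, 1, 4, 0, -1, -1⟩, 8921),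
  (⟨2, 0, 3, 1, 4, 0, 1, 1⟩, 2645),
  (⟨2, 0, 3, 1, 4, 0, 3, -1⟩, 2608),
  (⟨2, 0, 3, 1, 4, 0, 5, 1⟩, 2565),
  (⟨2, 0, 3, 3, -1, 1, 0, 0⟩, 1923),
  (⟨2, 0, 3, 3, 1, -1, 0, 0⟩, 2052),
  (⟨2, 0, 4, -2, -2, 0, -2, 0⟩, 1761),
  (⟨2, 0, 4, -2, -2, 0, 0, -2⟩, 1677),
  (⟨2, 0, 4, -2, -2, 0, 0, 2⟩, 1808),
  (⟨2, 0, 4, -2, -2, 0, 2, 0⟩, 1892),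
  (⟨2, 0, 4, -2, 0, -2, -2, 0⟩, 7957),
  (⟨2, 0, 4, -2, 0, -2, 2, 0⟩, 8084),
  (⟨2, 0, 4, -2, 0, 2, -2, 0⟩, 8209),
  (⟨2, 0, 4, -2, 0, 2, 2, 0⟩, 8342),
  (⟨2, 0, 4, -2, 2, 0, -2, 0⟩, 2532),
  (⟨2, 0, 4, -2, 2, 0, 0, -2⟩, 1679),
  (⟨2, 0, 4, -2, 2, 0, 0, 2⟩, 1806),
  (⟨2, 0, 4, -2, 2, 0, 2, 0⟩, 1886),
  (⟨2, 0, 4, 0, -5, -1, -3, -1⟩, 2178),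
  (⟨2, 0, 4, 0, -5, -1, -1, 1⟩, 2207),
  (⟨2, 0, 4, 0, -5, -1, 1, -1⟩, 2379),
  (⟨2, 0, 4, 0, -5, -1, 3, 1⟩, 2311),
  (⟨2, 0, 4, 0, -3, 1, -5, 1⟩, 2196),
  (⟨2, 0, 4, 0, -3, 1, -3, -1⟩, 2234),
  (⟨2, 0, 4, 0, -3, 1, -1, 1⟩, 2271),
  (⟨2, 0, 4, 0, -3, 1, 1, -1⟩, 9061),
  (⟨2, 0, 4, 0, -3, 1, 3, 1⟩, 2355),
  (⟨2, 0, 4, 0, -3, 1, 5, -1⟩, 2317),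
  (⟨2, 0, 4, 0, -1, -1, -5, 1⟩, 2249),
  (⟨2, 0, 4, 0, -1, -1, -3, -1⟩, 2267),
  (⟨2, 0, 4, 0, -1, -1, -1, 1⟩, 1257),
  (⟨2, 0, 4, 0, -1, -1, 1, -1⟩, 1387),
  (⟨2, 0, 4, 0, -1, -1, 3, 1⟩, 2389),
  (⟨2, 0, 4, 0, -1, -1, 5, -1⟩, 2339),
  (⟨2, 0, 4, 0, 1, 1, -5, 1⟩, 2468),
  (⟨2, 0, 4, 0, 1, 1, -3, -1⟩, 2516),
  (⟨2, 0, 4, 0, 1, 1, -1, 1⟩, 1512),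
  (⟨2, 0, 4, 0, 1, 1, 1, -1⟩, 1642),
  (⟨2, 0, 4, 0, 1, 1, 3, 1⟩, 9179),
  (⟨2, 0, 4, 0, 1, 1, 5, -1⟩, 2632),
  (⟨2, 0, 4, 0, 3, -1, -5, 1⟩, 2446),
  (⟨2, 0, 4, 0, 3, -1, -3, -1⟩, 2480),
  (⟨2, 0, 4, 0, 3, -1, -1, 1⟩, 2533),
  (⟨2, 0, 4, 0, 3, -1, 1, -1⟩, 2656),
  (⟨2, 0, 4, 0, 3, -1, 3, 1⟩, 2617),
  (⟨2, 0, 4, 0, 3, -1, 5, -1⟩, 2577),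
  (⟨2, 0, 4, 0, 5, 1, -3, -1⟩, 2438),
  (⟨2, 0, 4, 0, 5, 1, -1, 1⟩, 2506),
  (⟨2, 0, 4, 0, 5, 1, 1, -1⟩, 2592),
  (⟨2, 0, 4, 0, 5, 1, 3, 1⟩, 2561),
  (⟨2, 0, 4, 2, -2, 0, -2, 0⟩, 2263),
  (⟨2, 0, 4, 2, -2, 0, 0, -2⟩, 8586),
  (⟨2, 0, 4, 2, -2, 0, 0, 2⟩, 8454),
  (⟨2, 0, 4, 2, -2, 0, 2, 0⟩, 2003),
  (⟨2, 0, 4, 2, 0, -2, -2, 0⟩, 2050),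
  (⟨2, 0, 4, 2, 0, -2, 2, 0⟩, 2051),
  (⟨2, 0, 4, 2, 0, 2, -2, 0⟩, 1924),
  (⟨2, 0, 4, 2, 0, 2, 2, 0⟩, 1921),
  (⟨2, 0, 4, 2, 2, 0, -2, 0⟩, 2134),
  (⟨2, 0, 4, 2, 2, 0, 0, -2⟩, 8839),
  (⟨2, 0, 4, 2, 2, 0, 0, 2⟩, 8713),
  (⟨2, 0, 4, 2, 2, 0, 2, 0⟩, 2135),
  (⟨2, 0, 5, -1, -4, 0, -3, 1⟩, 2190),
  (⟨2, 0, 5, -1, -4, 0, -1, -1⟩, 2211),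
  (⟨2, 0, 5, -1, -4, 0, 1, 1⟩, 2375),
  (⟨2, 0, 5, -1, -4, 0, 3, -1⟩, 2320),
  (⟨2, 0, 5, -1, -2, -2, -1, -1⟩, 9266),
  (⟨2, 0, 5, -1, -2, -2, 1, 1⟩, 5538),
  (⟨2, 0, 5, -1, -2, 2, -1, -1⟩, 8984),
  (⟨2, 0, 5, -1, -2, 2, 1, 1⟩, 9106),
  (⟨2, 0, 5, -1, 0, 0, -5, -1⟩, 2460),
  (⟨2, 0, 5, -1, 0, 0, -3, 1⟩, 2524),
  (⟨2, 0, 5, -1, 0, 0, -1, -1⟩, 1759),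
  (⟨2, 0, 5, -1, 0, 0, 1, 1⟩, 1888),
  (⟨2, 0, 5, -1, 0, 0, 3, -1⟩, 2397),
  (⟨2, 0, 5, -1, 0, 0, 5, 1⟩, 2331),
  (⟨2, 0, 5, -1, 2, -2, -1, -1⟩, 9235),
  (⟨2, 0, 5, -1, 2, -2, 1, 1⟩, 9367),
  (⟨2, 0, 5, -1, 2, 2, -1, -1⟩, 5669),
  (⟨2, 0, 5, -1, 2, 2, 1, 1⟩, 9137),
  (⟨2, 0, 5, -1, 4, 0, -3, 1⟩, 2447),
  (⟨2, 0, 5, -1, 4, 0, -1, -1⟩, 2494),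
  (⟨2, 0, 5, -1, 4, 0, 1, 1⟩, 2596),
  (⟨2, 0, 5, -1, 4, 0, 3, -1⟩, 2573),
  (⟨2, 0, 5, 1, -5, 1, 0, 0⟩, 2202),
  (⟨2, 0, 5, 1, -3, -1, -4, 0⟩, 2180),
  (⟨2, 0, 5, 1, -3, -1, 0, 0⟩, 2257),
  (⟨2, 0, 5, 1, -3, -1, 4, 0⟩, 2306),
  (⟨2, 0, 5, 1, -1, 1, -4, 0⟩, 2243),
  (⟨2, 0, 5, 1, -1, 1, -2, -2⟩, 8965),
  (⟨2, 0, 5, 1, -1, 1, -2, 2⟩, 3998),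
  (⟨2, 0, 5, 1, -1, 1, 0, 0⟩, 2005),
  (⟨2, 0, 5, 1, -1, 1, 2, -2⟩, 9014),
  (⟨2, 0, 5, 1, -1, 1, 2, 2⟩, 9100),
  (⟨2, 0, 5, 1, -1, 1, 4, 0⟩, 2336),
  (⟨2, 0, 5, 1, 1, -1, -4, 0⟩, 2463),
  (⟨2, 0, 5, 1, 1, -1, -2, -2⟩, 9227),
  (⟨2, 0, 5, 1, 1, -1, -2, 2⟩, 9405),
  (⟨2, 0, 5, 1, 1, -1, 0, 0⟩, 2132),
  (⟨2, 0, 5, 1, 1, -1, 2, -2⟩, 4129),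
  (⟨2, 0, 5, 1, 1, -1, 2, 2⟩, 9352),
  (⟨2, 0, 5, 1, 1, -1, 4, 0⟩, 2628),
  (⟨2, 0, 5, 1, 3, 1, -4, 0⟩, 2433),
  (⟨2, 0, 5, 1, 3, 1, 0, 0⟩, 2642),
  (⟨2, 0, 5, 1, 3, 1, 4, 0⟩, 2563),
  (⟨2, 0, 5, 1, 5, -1, 0, 0⟩, 2589),
  (⟨2, 0, 6, 0, -2, 0, -2, 0⟩, 2216),
  (⟨2, 0, 6, 0, -2, 0, 0, -2⟩, 8999),
  (⟨2, 0, 6, 0, -2, 0, 0, 2⟩, 4015),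
  (⟨2, 0, 6, 0, -2, 0, 2, 0⟩, 2349),
  (⟨2, 0, 6, 0, 0, -2, -2, 0⟩, 9257),
  (⟨2, 0, 6, 0, 0, -2, 2, 0⟩, 5559),
  (⟨2, 0, 6, 0, 0, 2, -2, 0⟩, 5692),
  (⟨2, 0, 6, 0, 0, 2, 2, 0⟩, 9130),
  (⟨2, 0, 6, 0, 2, 0, -2, 0⟩, 2470),
  (⟨2, 0, 6, 0, 2, 0, 0, -2⟩, 4148),
  (⟨2, 0, 6, 0, 2, 0, 0, 2⟩, 9388),
  (⟨2, 0, 6, 0, 2, 0, 2, 0⟩, 2603),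
  (⟨2, 0, 7, -1, -1, 1, 0, 0⟩, 9495),
  (⟨2, 0, 7, -1, 1, -1, 0, 0⟩, 9496),
  (⟨2, 0, 7, 1, 0, 0, -1, -1⟩, 9484),
  (⟨2, 0, 7, 1, 0, 0, 1, 1⟩, 9483),
  (⟨2, 2, -5, -1, -2, 0, -1, 1⟩, 2698),
  (⟨2, 2, -5, -1, -2, 0, 1, -1⟩, 2828),
  (⟨2, 2, -5, -1, 2, 0, -1, 1⟩, 2699),
  (⟨2, 2, -5, -1, 2, 0, 1, -1⟩, 2825),
  (⟨2, 2, -5, 1, -1, -1, -2, 0⟩, 9634),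
  (⟨2, 2, -5, 1, -1, -1, 2, 0⟩, 9627),
  (⟨2, 2, -5, 1, 1, 1, -2, 0⟩, 9756),
  (⟨2, 2, -5, 1, 1, 1, 2, 0⟩, 9765),
  (⟨2, 2, -4, 0, -4, 0, 0, 0⟩, 3022),
  (⟨2, 2, -4, 0, -2, -2, 0, 0⟩, 9601),
  (⟨2, 2, -4, 0, -2, 2, 0, 0⟩, 9770),
  (⟨2, 2, -4, 0, 0, 0, -4, 0⟩, 2755),
  (⟨2, 2, -4, 0, 0, 0, -2, -2⟩, 2822),
  (⟨2, 2, -4, 0, 0, 0, -2, 2⟩, 2688),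
  (⟨2, 2, -4, 0, 0, 0, 0, 0⟩, 2906),
  (⟨2, 2, -4, 0, 0, 0, 2, -2⟩, 2816),
  (⟨2, 2, -4, 0, 0, 0, 2, 2⟩, 2695),
  (⟨2, 2, -4, 0, 0, 0, 4, 0⟩, 2884),
  (⟨2, 2, -4, 0, 2, -2, 0, 0⟩, 9641),
  (⟨2, 2, -4, 0, 2, 2, 0, 0⟩, 9730),
  (⟨2, 2, -4, 0, 4, 0, 0, 0⟩, 3151),
  (⟨2, 2, -3, -1, -3, 1, -2, 0⟩, 3275),
  (⟨2, 2, -3, -1, -3, 1, 2, 0⟩, 3407),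
  (⟨2, 2, -3, -1, -1, -1, -2, 0⟩, 9938),
  (⟨2, 2, -3, -1, -1, -1, 0, -2⟩, 2824),
  (⟨2, 2, -3, -1, -1, -1, 0, 2⟩, 2700),
  (⟨2, 2, -3, -1, -1, -1, 2, 0⟩, 10070),
  (⟨2, 2, -3, -1, 1, 1, -2, 0⟩, 9939),
  (⟨2, 2, -3, -1, 1, 1, 0, -2⟩, 2827),
  (⟨2, 2, -3, -1, 1, 1, 0, 2⟩, 2693),
  (⟨2, 2, -3, -1, 1, 1, 2, 0⟩, 10065),
  (⟨2, 2, -3, -1, 3, -1, -2, 0⟩, 3534),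
  (⟨2, 2, -3, -1, 3, -1, 2, 0⟩, 3658),
  (⟨2, 2, -3, 1, -2, 0, -3, -1⟩, 3023),
  (⟨2, 2, -3, 1, -2, 0, -1, 1⟩, 2733),
  (⟨2, 2, -3, 1, -2, 0, 1, -1⟩, 2864),
  (⟨2, 2, -3, 1, -2, 0, 3, 1⟩, 3008),
  (⟨2, 2, -3, 1, 0, -2, -1, 1⟩, 9626),
  (⟨2, 2, -3, 1, 0, -2, 1, -1⟩, 2844),
  (⟨2, 2, -3, 1, 0, 2, -1, 1⟩, 2715),
  (⟨2, 2, -3, 1, 0, 2, 1, -1⟩, 9757),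
  (⟨2, 2, -3, 1, 2, 0, -3, -1⟩, 3141),
  (⟨2, 2, -3, 1, 2, 0, -1, 1⟩, 2739),
  (⟨2, 2, -3, 1, 2, 0, 1, -1⟩, 2854),
  (⟨2, 2, -3, 1, 2, 0, 3, 1⟩, 3150),
  (⟨2, 2, -2, -2, -4, 0, 0, 0⟩, 3721),
  (⟨2, 2, -2, -2, 0, 0, -4, 0⟩, 9859),
  (⟨2, 2, -2, -2, 0, 0, 0, 0⟩, 10071),
  (⟨2, 2, -2, -2, 0, 0, 4, 0⟩, 9988),
  (⟨2, 2, -2, -2, 4, 0, 0, 0⟩, 3850),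
  (⟨2, 2, -2, 0, -5, 1, -1, -1⟩, 3237),
  (⟨2, 2, -2, 0, -5, 1, 1, 1⟩, 10295),
  (⟨2, 2, -2, 0, -3, -1, -3, 1⟩, 2757),
  (⟨2, 2, -2, 0, -3, -1, -1, -1⟩, 10195),
  (⟨2, 2, -2, 0, -3, -1, 1, 1⟩, 9681),
  (⟨2, 2, -2, 0, -3, -1, 3, -1⟩, 2869),
  (⟨2, 2, -2, 0, -1, 1, -5, -1⟩, 3208),
  (⟨2, 2, -2, 0, -1, 1, -3, 1⟩, 2728),
  (⟨2, 2, -2, 0, -1, 1, -1, -1⟩, 3289),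
  (⟨2, 2, -2, 0, -1, 1, 1, 1⟩, 2773),
  (⟨2, 2, -2, 0, -1, 1, 3, -1⟩, 3386),
  (⟨2, 2, -2, 0, -1, 1, 5, 1⟩, 3337),
  (⟨2, 2, -2, 0, 1, -1, -5, -1⟩, 3466),
  (⟨2, 2, -2, 0, 1, -1, -3, 1⟩, 3513),
  (⟨2, 2, -2, 0, 1, -1, -1, -1⟩, 2900),
  (⟨2, 2, -2, 0, 1, -1, 1, 1⟩, 3672),
  (⟨2, 2, -2, 0, 1, -1, 3, -1⟩, 2859),
  (⟨2, 2, -2, 0, 1, -1, 5, 1⟩, 3589),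
  (⟨2, 2, -2, 0, 3, 1, -3, 1⟩, 2734),
  (⟨2, 2, -2, 0, 3, 1, -1, -1⟩, 9810),
  (⟨2, 2, -2, 0, 3, 1, 1, 1⟩, 10582),
  (⟨2, 2, -2, 0, 3, 1, 3, -1⟩, 2880),
  (⟨2, 2, -2, 0, 5, -1, -1, -1⟩, 10428),
  (⟨2, 2, -2, 0, 5, -1, 1, 1⟩, 3618),
  (⟨2, 2, -2, 2, -4, 0, 0, 0⟩, 2944),
  (⟨2, 2, -2, 2, 0, 0, -4, 0⟩, 3114),
  (⟨2, 2, -2, 2, 0, 0, 0, 0⟩, 3009),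
  (⟨2, 2, -2, 2, 0, 0, 4, 0⟩, 2985),
  (⟨2, 2, -2, 2, 4, 0, 0, 0⟩, 3072),
  (⟨2, 2, -1, -1, -2, 0, -5, 1⟩, 9886),
  (⟨2, 2, -1, -1, -2, 0, -3, -1⟩, 9937),
  (⟨2, 2, -1, -1, -2, 0, -1, 1⟩, 2779),
  (⟨2, 2, -1, -1, -2, 0, 1, -1⟩, 3800),
  (⟨2, 2, -1, -1, -2, 0, 3, 1⟩, 3795),
  (⟨2, 2, -1, -1, -2, 0, 5, -1⟩, 10033),
  (⟨2, 2, -1, -1, 0, -2, -3, -1⟩, 3468),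
  (⟨2, 2, -1, -1, 0, -2, -1, 1⟩, 3524),
  (⟨2, 2, -1, -1, 0, -2, 1, -1⟩, 3663),
  (⟨2, 2, -1, -1, 0, -2, 3, 1⟩, 3593),
  (⟨2, 2, -1, -1, 0, 2, -3, -1⟩, 3210),
  (⟨2, 2, -1, -1, 0, 2, -1, 1⟩, 3278),
  (⟨2, 2, -1, -1, 0, 2, 1, -1⟩, 3395),
  (⟨2, 2, -1, -1, 0, 2, 3, 1⟩, 3339),
  (⟨2, 2, -1, -1, 2, 0, -5, 1⟩, 9906),
  (⟨2, 2, -1, -1, 2, 0, -3, -1⟩, 3926),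
  (⟨2, 2, -1, -1, 2, 0, -1, 1⟩, 3929),
  (⟨2, 2, -1, -1, 2, 0, 1, -1⟩, 3931),
  (⟨2, 2, -1, -1, 2, 0, 3, 1⟩, 10066),
  (⟨2, 2, -1, -1, 2, 0, 5, -1⟩, 10017),
  (⟨2, 2, -1, 1, -5, -1, -2, 0⟩, 2956),
  (⟨2, 2, -1, 1, -5, -1, 2, 0⟩, 2951),
  (⟨2, 2, -1, 1, -3, 1, -2, 0⟩, 3243),
  (⟨2, 2, -1, 1, -3, 1, 0, -2⟩, 10166),
  (⟨2, 2, -1, 1, -3, 1, 0, 2⟩, 2717),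
  (⟨2, 2, -1, 1, -3, 1, 2, 0⟩, 3010),
  (⟨2, 2, -1, 1, -1, -1, -2, 0⟩, 3541),
  (⟨2, 2, -1, 1, -1, -1, 0, -2⟩, 2848),
  (⟨2, 2, -1, 1, -1, -1, 0, 2⟩, 2741),
  (⟨2, 2, -1, 1, -1, -1, 2, 0⟩, 3675),
  (⟨2, 2, -1, 1, 1, 1, -2, 0⟩, 3163),
  (⟨2, 2, -1, 1, 1, 1, 0, -2⟩, 2862),
  (⟨2, 2, -1, 1, 1, 1, 0, 2⟩, 2719),
  (⟨2, 2, -1, 1, 1, 1, 2, 0⟩, 3412),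
  (⟨2, 2, -1, 1, 3, -1, -2, 0⟩, 3522),
  (⟨2, 2, -1, 1, 3, -1, 0, -2⟩, 2842),
  (⟨2, 2, -1, 1, 3, -1, 0, 2⟩, 10557),
  (⟨2, 2, -1, 1, 3, -1, 2, 0⟩, 3624),
  (⟨2, 2, -1, 1, 5, 1, -2, 0⟩, 3078),
  (⟨2, 2, -1, 1, 5, 1, 2, 0⟩, 3083),
  (⟨2, 2, 0, -2, -3, -1, -1, -1⟩, 3722),
  (⟨2, 2, 0, -2, -3, -1, 1, 1⟩, 3719),
  (⟨2, 2, 0, -2, -1, 1, -3, 1⟩, 9903),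
  (⟨2, 2, 0, -2, -1, 1, -1, -1⟩, 3786),
  (⟨2, 2, 0, -2, -1, 1, 1, 1⟩, 3776),
  (⟨2, 2, 0, -2, -1, 1, 3, -1⟩, 3766),
  (⟨2, 2, 0, -2, 1, -1, -3, 1⟩, 3901),
  (⟨2, 2, 0, -2, 1, -1, -1, -1⟩, 3909),
  (⟨2, 2, 0, -2, 1, -1, 1, 1⟩, 3915),
  (⟨2, 2, 0, -2, 1, -1, 3, -1⟩, 10036),
  (⟨2, 2, 0, -2, 3, 1, -1, -1⟩, 3846),
  (⟨2, 2, 0, -2, 3, 1, 1, 1⟩, 3849),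
  (⟨2, 2, 0, 0, -4, 0, -4, 0⟩, 3253),
  (⟨2, 2, 0, 0, -4, 0, -2, -2⟩, 10117),
  (⟨2, 2, 0, 0, -4, 0, -2, 2⟩, 2730),
  (⟨2, 2, 0, 0, -4, 0, 0, 0⟩, 3796),
  (⟨2, 2, 0, 0, -4, 0, 2, -2⟩, 10151),
  (⟨2, 2, 0, 0, -4, 0, 2, 2⟩, 10246),
  (⟨2, 2, 0, 0, -4, 0, 4, 0⟩, 3403),
  (⟨2, 2, 0, 0, -2, -2, -4, 0⟩, 3458),
  (⟨2, 2, 0, 0, -2, -2, 0, 0⟩, 9687),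
  (⟨2, 2, 0, 0, -2, -2, 4, 0⟩, 3596),
  (⟨2, 2, 0, 0, -2, 2, -4, 0⟩, 3200),
  (⟨2, 2, 0, 0, -2, 2, 0, 0⟩, 3257),
  (⟨2, 2, 0, 0, -2, 2, 4, 0⟩, 3328),
  (⟨2, 2, 0, 0, 0, 0, -4, 0⟩, 3544),
  (⟨2, 2, 0, 0, 0, 0, -2, -2⟩, 2903),
  (⟨2, 2, 0, 0, 0, 0, -2, 2⟩, 2736),
  (⟨2, 2, 0, 0, 0, 0, 0, 0⟩, 3821),
  (⟨2, 2, 0, 0, 0, 0, 2, -2⟩, 2867),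
  (⟨2, 2, 0, 0, 0, 0, 2, 2⟩, 10327),
  (⟨2, 2, 0, 0, 0, 0, 4, 0⟩, 3417),
  (⟨2, 2, 0, 0, 2, -2, -4, 0⟩, 3456),
  (⟨2, 2, 0, 0, 2, -2, 0, 0⟩, 3642),
  (⟨2, 2, 0, 0, 2, -2, 4, 0⟩, 3584),
  (⟨2, 2, 0, 0, 2, 2, -4, 0⟩, 3211),
  (⟨2, 2, 0, 0, 2, 2, 0, 0⟩, 3415),
  (⟨2, 2, 0, 0, 2, 2, 4, 0⟩, 3329),
  (⟨2, 2, 0, 0, 4, 0, -4, 0⟩, 3530),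
  (⟨2, 2, 0, 0, 4, 0, -2, -2⟩, 10375),
  (⟨2, 2, 0, 0, 4, 0, -2, 2⟩, 10540),
  (⟨2, 2, 0, 0, 4, 0, 0, 0⟩, 3925),
  (⟨2, 2, 0, 0, 4, 0, 2, -2⟩, 2857),
  (⟨2, 2, 0, 0, 4, 0, 2, 2⟩, 10504),
  (⟨2, 2, 0, 0, 4, 0, 4, 0⟩, 3630),
  (⟨2, 2, 0, 2, -3, -1, -1, -1⟩, 2952),
  (⟨2, 2, 0, 2, -3, -1, 1, 1⟩, 2947),
  (⟨2, 2, 0, 2, -1, 1, -3, 1⟩, 3250),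
  (⟨2, 2, 0, 2, -1, 1, -1, -1⟩, 3011),
  (⟨2, 2, 0, 2, -1, 1, 1, 1⟩, 2990),
  (⟨2, 2, 0, 2, -1, 1, 3, -1⟩, 3356),
  (⟨2, 2, 0, 2, 1, -1, -3, 1⟩, 3483),
  (⟨2, 2, 0, 2, 1, -1, -1, -1⟩, 3125),
  (⟨2, 2, 0, 2, 1, -1, 1, 1⟩, 3140),
  (⟨2, 2, 0, 2, 1, -1, 3, -1⟩, 3633),
  (⟨2, 2, 0, 2, 3, 1, -1, -1⟩, 3076),
  (⟨2, 2, 0, 2, 3, 1, 1, 1⟩, 3077),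
  (⟨2, 2, 1, -1, -5, -1, -2, 0⟩, 3720),
  (⟨2, 2, 1, -1, -5, -1, 2, 0⟩, 3714),
  (⟨2, 2, 1, -1, -3, 1, -2, 0⟩, 3777),
  (⟨2, 2, 1, -1, -3, 1, 0, -2⟩, 3767),
  (⟨2, 2, 1, -1, -3, 1, 0, 2⟩, 3762),
  (⟨2, 2, 1, -1, -3, 1, 2, 0⟩, 3750),
  (⟨2, 2, 1, -1, -1, -1, -2, 0⟩, 3546),
  (⟨2, 2, 1, -1, -1, -1, 0, -2⟩, 4171),
  (⟨2, 2, 1, -1, -1, -1, 0, 2⟩, 4046),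
  (⟨2, 2, 1, -1, -1, -1, 2, 0⟩, 3797),
  (⟨2, 2, 1, -1, 1, 1, -2, 0⟩, 3924),
  (⟨2, 2, 1, -1, 1, 1, 0, -2⟩, 4175),
  (⟨2, 2, 1, -1, 1, 1, 0, 2⟩, 4042),
  (⟨2, 2, 1, -1, 1, 1, 2, 0⟩, 3930),
  (⟨2, 2, 1, -1, 3, -1, -2, 0⟩, 3885),
  (⟨2, 2, 1, -1, 3, -1, 0, -2⟩, 3889),
  (⟨2, 2, 1, -1, 3, -1, 0, 2⟩, 3900),
  (⟨2, 2, 1, -1, 3, -1, 2, 0⟩, 3649),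
  (⟨2, 2, 1, -1, 5, 1, -2, 0⟩, 3841),
  (⟨2, 2, 1, -1, 5, 1, 2, 0⟩, 3845),
  (⟨2, 2, 1, 1, -2, 0, -5, 1⟩, 4029),
  (⟨2, 2, 1, 1, -2, 0, -3, -1⟩, 3282),
  (⟨2, 2, 1, 1, -2, 0, -1, 1⟩, 4057),
  (⟨2, 2, 1, 1, -2, 0, 1, -1⟩, 4186),
  (⟨2, 2, 1, 1, -2, 0, 3, 1⟩, 10326),
  (⟨2, 2, 1, 1, -2, 0, 5, -1⟩, 3365),
  (⟨2, 2, 1, 1, 0, -2, -3, -1⟩, 3460),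
  (⟨2, 2, 1, 1, 0, -2, -1, 1⟩, 3487),
  (⟨2, 2, 1, 1, 0, -2, 1, -1⟩, 3653),
  (⟨2, 2, 1, 1, 0, -2, 3, 1⟩, 3586),
  (⟨2, 2, 1, 1, 0, 2, -3, -1⟩, 3201),
  (⟨2, 2, 1, 1, 0, 2, -1, 1⟩, 3264),
  (⟨2, 2, 1, 1, 0, 2, 1, -1⟩, 3360),
  (⟨2, 2, 1, 1, 0, 2, 3, 1⟩, 3331),
  (⟨2, 2, 1, 1, 2, 0, -5, 1⟩, 3490),
  (⟨2, 2, 1, 1, 2, 0, -3, -1⟩, 10451),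
  (⟨2, 2, 1, 1, 2, 0, -1, 1⟩, 3162),
  (⟨2, 2, 1, 1, 2, 0, 1, -1⟩, 4184),
  (⟨2, 2, 1, 1, 2, 0, 3, 1⟩, 3665),
  (⟨2, 2, 1, 1, 2, 0, 5, -1⟩, 4150),
  (⟨2, 2, 2, -2, -4, 0, 0, 0⟩, 3712),
  (⟨2, 2, 2, -2, 0, 0, -4, 0⟩, 3884),
  (⟨2, 2, 2, -2, 0, 0, 0, 0⟩, 3778),
  (⟨2, 2, 2, -2, 0, 0, 4, 0⟩, 3751),
  (⟨2, 2, 2, -2, 4, 0, 0, 0⟩, 3840),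
  (⟨2, 2, 2, 0, -5, 1, -1, -1⟩, 3229),
  (⟨2, 2, 2, 0, -5, 1, 1, 1⟩, 3742),
  (⟨2, 2, 2, 0, -3, -1, -3, 1⟩, 4043),
  (⟨2, 2, 2, 0, -3, -1, -1, -1⟩, 3798),
  (⟨2, 2, 2, 0, -3, -1, 1, 1⟩, 3794),
  (⟨2, 2, 2, 0, -3, -1, 3, -1⟩, 4164),
  (⟨2, 2, 2, 0, -1, 1, -5, -1⟩, 3204),
  (⟨2, 2, 2, 0, -1, 1, -3, 1⟩, 4026),
  (⟨2, 2, 2, 0, -1, 1, -1, -1⟩, 3285),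
  (⟨2, 2, 2, 0, -1, 1, 1, 1⟩, 4056),
  (⟨2, 2, 2, 0, -1, 1, 3, -1⟩, 3373),
  (⟨2, 2, 2, 0, -1, 1, 5, 1⟩, 3335),
  (⟨2, 2, 2, 0, 1, -1, -5, -1⟩, 3462),
  (⟨2, 2, 2, 0, 1, -1, -3, 1⟩, 3494),
  (⟨2, 2, 2, 0, 1, -1, -1, -1⟩, 4185),
  (⟨2, 2, 2, 0, 1, -1, 1, 1⟩, 3668),
  (⟨2, 2, 2, 0, 1, -1, 3, -1⟩, 4153),
  (⟨2, 2, 2, 0, 1, -1, 5, 1⟩, 3587),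
  (⟨2, 2, 2, 0, 3, 1, -3, 1⟩, 4035),
  (⟨2, 2, 2, 0, 3, 1, -1, -1⟩, 3921),
  (⟨2, 2, 2, 0, 3, 1, 1, 1⟩, 3923),
  (⟨2, 2, 2, 0, 3, 1, 3, -1⟩, 4170),
  (⟨2, 2, 2, 0, 5, -1, -1, -1⟩, 3873),
  (⟨2, 2, 2, 0, 5, -1, 1, 1⟩, 3610),
  (⟨2, 2, 2, 2, -4, 0, 0, 0⟩, 2948),
  (⟨2, 2, 2, 2, 0, 0, -4, 0⟩, 10633),
  (⟨2, 2, 2, 2, 0, 0, 0, 0⟩, 3031),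
  (⟨2, 2, 2, 2, 0, 0, 4, 0⟩, 10762),
  (⟨2, 2, 2, 2, 4, 0, 0, 0⟩, 3075),
  (⟨2, 2, 3, -1, -2, 0, -3, -1⟩, 3779),
  (⟨2, 2, 3, -1, -2, 0, -1, 1⟩, 3763),
  (⟨2, 2, 3, -1, -2, 0, 1, -1⟩, 3752),
  (⟨2, 2, 3, -1, -2, 0, 3, 1⟩, 3743),
  (⟨2, 2, 3, -1, 0, -2, -1, 1⟩, 3503),
  (⟨2, 2, 3, -1, 0, -2, 1, -1⟩, 4156),
  (⟨2, 2, 3, -1, 0, 2, -1, 1⟩, 4023),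
  (⟨2, 2, 3, -1, 0, 2, 1, -1⟩, 3380),
  (⟨2, 2, 3, -1, 2, 0, -3, -1⟩, 3872),
  (⟨2, 2, 3, -1, 2, 0, -1, 1⟩, 3883),
  (⟨2, 2, 3, -1, 2, 0, 1, -1⟩, 3888),
  (⟨2, 2, 3, -1, 2, 0, 3, 1⟩, 3908),
  (⟨2, 2, 3, 1, -3, 1, -2, 0⟩, 3231),
  (⟨2, 2, 3, 1, -3, 1, 2, 0⟩, 3381),
  (⟨2, 2, 3, 1, -1, -1, -2, 0⟩, 3537),
  (⟨2, 2, 3, 1, -1, -1, 0, -2⟩, 4098),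
  (⟨2, 2, 3, 1, -1, -1, 0, 2⟩, 3975),
  (⟨2, 2, 3, 1, -1, -1, 2, 0⟩, 4179),
  (⟨2, 2, 3, 1, 1, 1, -2, 0⟩, 4054),
  (⟨2, 2, 3, 1, 1, 1, 0, -2⟩, 4102),
  (⟨2, 2, 3, 1, 1, 1, 0, 2⟩, 3969),
  (⟨2, 2, 3, 1, 1, 1, 2, 0⟩, 3410),
  (⟨2, 2, 3, 1, 3, -1, -2, 0⟩, 3502),
  (⟨2, 2, 3, 1, 3, -1, 2, 0⟩, 3616),
  (⟨2, 2, 4, 0, -4, 0, 0, 0⟩, 3744),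
  (⟨2, 2, 4, 0, -2, -2, 0, 0⟩, 10891),
  (⟨2, 2, 4, 0, -2, 2, 0, 0⟩, 3239),
  (⟨2, 2, 4, 0, 0, 0, -4, 0⟩, 4037),
  (⟨2, 2, 4, 0, 0, 0, -2, -2⟩, 4104),
  (⟨2, 2, 4, 0, 0, 0, -2, 2⟩, 3968),
  (⟨2, 2, 4, 0, 0, 0, 0, 0⟩, 4059),
  (⟨2, 2, 4, 0, 0, 0, 2, -2⟩, 4096),
  (⟨2, 2, 4, 0, 0, 0, 2, 2⟩, 3973),
  (⟨2, 2, 4, 0, 0, 0, 4, 0⟩, 4160),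
  (⟨2, 2, 4, 0, 2, -2, 0, 0⟩, 3628),
  (⟨2, 2, 4, 0, 2, 2, 0, 0⟩, 11020),
  (⟨2, 2, 4, 0, 4, 0, 0, 0⟩, 3871),
  (⟨2, 2, 5, -1, -1, -1, -2, 0⟩, 3764),
  (⟨2, 2, 5, -1, -1, -1, 2, 0⟩, 3745),
  (⟨2, 2, 5, -1, 1, 1, -2, 0⟩, 3870),
  (⟨2, 2, 5, -1, 1, 1, 2, 0⟩, 3887),
  (⟨2, 2, 5, 1, -2, 0, -1, 1⟩, 3970),
  (⟨2, 2, 5, 1, -2, 0, 1, -1⟩, 4099),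
  (⟨2, 2, 5, 1, 2, 0, -1, 1⟩, 3972),
  (⟨2, 2, 5, 1, 2, 0, 1, -1⟩, 4097),
  (⟨3, -3, -2, 0, -1, -1, 0, 0⟩, 4240),
  (⟨3, -3, -2, 0, 1, 1, 0, 0⟩, 4367),
  (⟨3, -3, -1, -1, 0, 0, -2, 0⟩, 4503),
  (⟨3, -3, -1, -1, 0, 0, 2, 0⟩, 4632),
  (⟨3, -3, 0, 0, -2, 0, -1, -1⟩, 4754),
  (⟨3, -3, 0, 0, -2, 0, 1, 1⟩, 4881),
  (⟨3, -3, 0, 0, 2, 0, -1, -1⟩, 5012),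
  (⟨3, -3, 0, 0, 2, 0, 1, 1⟩, 5139),
  (⟨3, -3, 1, 1, 0, 0, -2, 0⟩, 5261),
  (⟨3, -3, 1, 1, 0, 0, 2, 0⟩, 5390),
  (⟨3, -3, 2, 0, -1, -1, 0, 0⟩, 5526),
  (⟨3, -3, 2, 0, 1, 1, 0, 0⟩, 5653),
  (⟨3, -1, -6, 0, 0, 0, -3, -1⟩, 5794),
  (⟨3, -1, -6, 0, 0, 0, -1, 1⟩, 5795),
  (⟨3, -1, -6, 0, 0, 0, 1, -1⟩, 5796),
  (⟨3, -1, -6, 0, 0, 0, 3, 1⟩, 5797),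
  (⟨3, -1, -5, -1, -3, 1, -1, -1⟩, 5930),
  (⟨3, -1, -5, -1, -3, 1, 1, 1⟩, 6071),
  (⟨3, -1, -5, -1, -1, -1, -3, 1⟩, 4263),
  (⟨3, -1, -5, -1, -1, -1, -1, -1⟩, 4288),
  (⟨3, -1, -5, -1, -1, -1, 1, 1⟩, 4255),
  (⟨3, -1, -5, -1, -1, -1, 3, -1⟩, 4274),
  (⟨3, -1, -5, -1, 1, 1, -3, 1⟩, 4401),
  (⟨3, -1, -5, -1, 1, 1, -1, -1⟩, 4384),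
  (⟨3, -1, -5, -1, 1, 1, 1, 1⟩, 4421),
  (⟨3, -1, -5, -1, 1, 1, 3, -1⟩, 4396),
  (⟨3, -1, -5, -1, 3, -1, -1, -1⟩, 6204),
  (⟨3, -1, -5, -1, 3, -1, 1, 1⟩, 6313),
  (⟨3, -1, -5, 1, -2, 0, -4, 0⟩, 151),
  (⟨3, -1, -5, 1, -2, 0, 0, 0⟩, 5853),
  (⟨3, -1, -5, 1, -2, 0, 4, 0⟩, 273),
  (⟨3, -1, -5, 1, 0, -2, 0, 0⟩, 4245),
  (⟨3, -1, -5, 1, 0, 2, 0, 0⟩, 4374),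
  (⟨3, -1, -5, 1, 2, 0, -4, 0⟩, 404),
  (⟨3, -1, -5, 1, 2, 0, 0, 0⟩, 5852),
  (⟨3, -1, -5, 1, 2, 0, 4, 0⟩, 536),
  (⟨3, -1, -4, -2, 0, 0, -3, -1⟩, 4483),
  (⟨3, -1, -4, -2, 0, 0, -1, 1⟩, 4533),
  (⟨3, -1, -4, -2, 0, 0, 1, -1⟩, 4654),
  (⟨3, -1, -4, -2, 0, 0, 3, 1⟩, 4612),
  (⟨3, -1, -4, 0, -5, 1, -2, 0⟩, 144),
  (⟨3, -1, -4, 0, -5, 1, 2, 0⟩, 280),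
  (⟨3, -1, -4, 0, -3, -1, -2, 0⟩, 4290),
  (⟨3, -1, -4, 0, -3, -1, 0, -2⟩, 4783),
  (⟨3, -1, -4, 0, -3, -1, 0, 2⟩, 4257),
  (⟨3, -1, -4, 0, -3, -1, 2, 0⟩, 4275),
  (⟨3, -1, -4, 0, -1, 1, -2, 0⟩, 4451),
  (⟨3, -1, -4, 0, -1, 1, 0, -2⟩, 5923),
  (⟨3, -1, -4, 0, -1, 1, 0, 2⟩, 6078),
  (⟨3, -1, -4, 0, -1, 1, 2, 0⟩, 357),
  (⟨3, -1, -4, 0, 1, -1, -2, 0⟩, 4325),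
  (⟨3, -1, -4, 0, 1, -1, 0, -2⟩, 6215),
  (⟨3, -1, -4, 0, 1, -1, 0, 2⟩, 6308),
  (⟨3, -1, -4, 0, 1, -1, 2, 0⟩, 4322),
  (⟨3, -1, -4, 0, 3, 1, -2, 0⟩, 4400),
  (⟨3, -1, -4, 0, 3, 1, 0, -2⟩, 4382),
  (⟨3, -1, -4, 0, 3, 1, 0, 2⟩, 5172),
  (⟨3, -1, -4, 0, 3, 1, 2, 0⟩, 578),
  (⟨3, -1, -4, 0, 5, -1, -2, 0⟩, 407),
  (⟨3, -1, -4, 0, 5, -1, 2, 0⟩, 527),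
  (⟨3, -1, -4, 2, 0, 0, -3, -1⟩, 914),
  (⟨3, -1, -4, 2, 0, 0, -1, 1⟩, 1104),
  (⟨3, -1, -4, 2, 0, 0, 1, -1⟩, 976),
  (⟨3, -1, -4, 2, 0, 0, 3, 1⟩, 1043),
  (⟨3, -1, -3, -1, -6, 0, 0, 0⟩, 165),
  (⟨3, -1, -3, -1, -4, -2, 0, 0⟩, 4225),
  (⟨3, -1, -3, -1, -4, 2, 0, 0⟩, 663),
  (⟨3, -1, -3, -1, -2, 0, -4, 0⟩, 4531),
  (⟨3, -1, -3, -1, -2, 0, -2, -2⟩, 4804),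
  (⟨3, -1, -3, -1, -2, 0, -2, 2⟩, 6472),
  (⟨3, -1, -3, -1, -2, 0, 0, 0⟩, 4330),
  (⟨3, -1, -3, -1, -2, 0, 2, -2⟩, 6591),
  (⟨3, -1, -3, -1, -2, 0, 2, 2⟩, 4910),
  (⟨3, -1, -3, -1, -2, 0, 4, 0⟩, 313),
  (⟨3, -1, -3, -1, 0, -2, -4, 0⟩, 4278),
  (⟨3, -1, -3, -1, 0, -2, 0, 0⟩, 4262),
  (⟨3, -1, -3, -1, 0, -2, 4, 0⟩, 4254),
  (⟨3, -1, -3, -1, 0, 2, -4, 0⟩, 4385),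
  (⟨3, -1, -3, -1, 0, 2, 0, 0⟩, 4397),
  (⟨3, -1, -3, -1, 0, 2, 4, 0⟩, 4413),
  (⟨3, -1, -3, -1, 2, 0, -4, 0⟩, 442),
  (⟨3, -1, -3, -1, 2, 0, -2, -2⟩, 5045),
  (⟨3, -1, -3, -1, 2, 0, -2, 2⟩, 6726),
  (⟨3, -1, -3, -1, 2, 0, 0, 0⟩, 4457),
  (⟨3, -1, -3, -1, 2, 0, 2, -2⟩, 6857),
  (⟨3, -1, -3, -1, 2, 0, 2, 2⟩, 5187),
  (⟨3, -1, -3, -1, 2, 0, 4, 0⟩, 4656),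
  (⟨3, -1, -3, -1, 4, -2, 0, 0⟩, 792),
  (⟨3, -1, -3, -1, 4, 2, 0, 0⟩, 4354),
  (⟨3, -1, -3, -1, 6, 0, 0, 0⟩, 546),
  (⟨3, -1, -3, 1, -5, -1, -1, -1⟩, 172),
  (⟨3, -1, -3, 1, -5, -1, 1, 1⟩, 4276),
  (⟨3, -1, -3, 1, -3, 1, -3, 1⟩, 208),
  (⟨3, -1, -3, 1, -3, 1, -1, -1⟩, 5982),
  (⟨3, -1, -3, 1, -3, 1, 1, 1⟩, 6116),
  (⟨3, -1, -3, 1, -3, 1, 3, -1⟩, 336),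
  (⟨3, -1, -3, 1, -1, -1, -5, -1⟩, 938),
  (⟨3, -1, -3, 1, -1, -1, -3, 1⟩, 7004),
  (⟨3, -1, -3, 1, -1, -1, -1, -1⟩, 992),
  (⟨3, -1, -3, 1, -1, -1, 1, 1⟩, 4323),
  (⟨3, -1, -3, 1, -1, -1, 3, -1⟩, 356),
  (⟨3, -1, -3, 1, -1, -1, 5, 1⟩, 7067),
  (⟨3, -1, -3, 1, 1, 1, -5, -1⟩, 7196),
  (⟨3, -1, -3, 1, 1, 1, -3, 1⟩, 7268),
  (⟨3, -1, -3, 1, 1, 1, -1, -1⟩, 4450),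
  (⟨3, -1, -3, 1, 1, 1, 1, 1⟩, 1119),
  (⟨3, -1, -3, 1, 1, 1, 3, -1⟩, 7389),
  (⟨3, -1, -3, 1, 1, 1, 5, 1⟩, 1065),
  (⟨3, -1, -3, 1, 3, -1, -3, 1⟩, 464),
  (⟨3, -1, -3, 1, 3, -1, -1, -1⟩, 996),
  (⟨3, -1, -3, 1, 3, -1, 1, 1⟩, 6369),
  (⟨3, -1, -3, 1, 3, -1, 3, -1⟩, 592),
  (⟨3, -1, -3, 1, 5, 1, -1, -1⟩, 4399),
  (⟨3, -1, -3, 1, 5, 1, 1, 1⟩, 551),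
  (⟨3, -1, -2, -2, -3, -1, -2, 0⟩, 4512),
  (⟨3, -1, -2, -2, -3, -1, 2, 0⟩, 4675),
  (⟨3, -1, -2, -2, -1, 1, -2, 0⟩, 4523),
  (⟨3, -1, -2, -2, -1, 1, 0, -2⟩, 695),
  (⟨3, -1, -2, -2, -1, 1, 0, 2⟩, 6447),
  (⟨3, -1, -2, -2, -1, 1, 2, 0⟩, 4659),
  (⟨3, -1, -2, -2, 1, -1, -2, 0⟩, 4528),
  (⟨3, -1, -2, -2, 1, -1, 0, -2⟩, 6836),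
  (⟨3, -1, -2, -2, 1, -1, 0, 2⟩, 828),
  (⟨3, -1, -2, -2, 1, -1, 2, 0⟩, 4648),
  (⟨3, -1, -2, -2, 3, 1, -2, 0⟩, 4548),
  (⟨3, -1, -2, -2, 3, 1, 2, 0⟩, 4639),
  (⟨3, -1, -2, 0, -4, 0, -5, 1⟩, 146),
  (⟨3, -1, -2, 0, -4, 0, -3, -1⟩, 186),
  (⟨3, -1, -2, 0, -4, 0, -1, 1⟩, 224),
  (⟨3, -1, -2, 0, -4, 0, 1, -1⟩, 4834),
  (⟨3, -1, -2, 0, -4, 0, 3, 1⟩, 4929),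
  (⟨3, -1, -2, 0, -4, 0, 5, -1⟩, 272),
  (⟨3, -1, -2, 0, -2, -2, -3, -1⟩, 4298),
  (⟨3, -1, -2, 0, -2, -2, -1, 1⟩, 4264),
  (⟨3, -1, -2, 0, -2, -2, 1, -1⟩, 4289),
  (⟨3, -1, -2, 0, -2, -2, 3, 1⟩, 4256),
  (⟨3, -1, -2, 0, -2, 2, -3, -1⟩, 5951),
  (⟨3, -1, -2, 0, -2, 2, -1, 1⟩, 6110),
  (⟨3, -1, -2, 0, -2, 2, 1, -1⟩, 4449),
  (⟨3, -1, -2, 0, -2, 2, 3, 1⟩, 6051),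
  (⟨3, -1, -2, 0, 0, 0, -5, 1⟩, 477),
  (⟨3, -1, -2, 0, 0, 0, -3, -1⟩, 491),
  (⟨3, -1, -2, 0, 0, 0, -1, -3⟩, 957),
  (⟨3, -1, -2, 0, 0, 0, -1, 1⟩, 11246),
  (⟨3, -1, -2, 0, 0, 0, 1, -1⟩, 4462),
  (⟨3, -1, -2, 0, 0, 0, 1, 3⟩, 1078),
  (⟨3, -1, -2, 0, 0, 0, 3, 1⟩, 360),
  (⟨3, -1, -2, 0, 0, 0, 5, -1⟩, 348),
  (⟨3, -1, -2, 0, 2, -2, -3, -1⟩, 6180),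
  (⟨3, -1, -2, 0, 2, -2, -1, 1⟩, 4318),
  (⟨3, -1, -2, 0, 2, -2, 1, -1⟩, 6241),
  (⟨3, -1, -2, 0, 2, -2, 3, 1⟩, 6342),
  (⟨3, -1, -2, 0, 2, 2, -3, -1⟩, 4383),
  (⟨3, -1, -2, 0, 2, 2, -1, 1⟩, 1473),
  (⟨3, -1, -2, 0, 2, 2, 1, -1⟩, 4395),
  (⟨3, -1, -2, 0, 2, 2, 3, 1⟩, 4427),
  (⟨3, -1, -2, 0, 4, 0, -5, 1⟩, 399),
  (⟨3, -1, -2, 0, 4, 0, -3, -1⟩, 449),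
  (⟨3, -1, -2, 0, 4, 0, -1, 1⟩, 5219),
  (⟨3, -1, -2, 0, 4, 0, 1, -1⟩, 607),
  (⟨3, -1, -2, 0, 4, 0, 3, 1⟩, 569),
  (⟨3, -1, -2, 0, 4, 0, 5, -1⟩, 531),
  (⟨3, -1, -2, 2, -3, -1, -2, 0⟩, 6948),
  (⟨3, -1, -2, 2, -3, -1, 2, 0⟩, 7099),
  (⟨3, -1, -2, 2, -1, 1, -2, 0⟩, 7260),
  (⟨3, -1, -2, 2, -1, 1, 0, -2⟩, 916),
  (⟨3, -1, -2, 2, -1, 1, 0, 2⟩, 1038),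
  (⟨3, -1, -2, 2, -1, 1, 2, 0⟩, 1121),
  (⟨3, -1, -2, 2, 1, -1, -2, 0⟩, 990),
  (⟨3, -1, -2, 2, 1, -1, 0, -2⟩, 909),
  (⟨3, -1, -2, 2, 1, -1, 0, 2⟩, 1041),
  (⟨3, -1, -2, 2, 1, -1, 2, 0⟩, 7133),
  (⟨3, -1, -2, 2, 3, 1, -2, 0⟩, 7224),
  (⟨3, -1, -2, 2, 3, 1, 2, 0⟩, 7331),
  (⟨3, -1, -1, -3, -2, 0, 0, 0⟩, 4508),
  (⟨3, -1, -1, -3, 2, 0, 0, 0⟩, 4635),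
  (⟨3, -1, -1, -1, -5, -1, -3, 1⟩, 170),
  (⟨3, -1, -1, -1, -5, -1, -1, -1⟩, 4767),
  (⟨3, -1, -1, -1, -5, -1, 1, 1⟩, 4938),
  (⟨3, -1, -1, -1, -5, -1, 3, -1⟩, 6577),
  (⟨3, -1, -1, -1, -3, 1, -5, -1⟩, 4521),
  (⟨3, -1, -1, -1, -3, 1, -3, 1⟩, 4577),
  (⟨3, -1, -1, -1, -3, 1, -1, -1⟩, 742),
  (⟨3, -1, -1, -1, -3, 1, 1, 1⟩, 4959),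
  (⟨3, -1, -1, -1, -3, 1, 3, -1⟩, 740),
  (⟨3, -1, -1, -1, -3, 1, 5, 1⟩, 4890),
  (⟨3, -1, -1, -1, -1, -1, -5, -1⟩, 4526),
  (⟨3, -1, -1, -1, -1, -1, -3, 1⟩, 4579),
  (⟨3, -1, -1, -1, -1, -1, -1, -1⟩, 4840),
  (⟨3, -1, -1, -1, -1, -1, 1, 1⟩, 4327),
  (⟨3, -1, -1, -1, -1, -1, 3, -1⟩, 4710),
  (⟨3, -1, -1, -1, -1, -1, 5, 1⟩, 4677),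
  (⟨3, -1, -1, -1, 1, 1, -5, -1⟩, 4544),
  (⟨3, -1, -1, -1, 1, 1, -3, 1⟩, 1510),
  (⟨3, -1, -1, -1, 1, 1, -1, -1⟩, 4455),
  (⟨3, -1, -1, -1, 1, 1, 1, 1⟩, 5227),
  (⟨3, -1, -1, -1, 1, 1, 3, -1⟩, 4706),
  (⟨3, -1, -1, -1, 1, 1, 5, 1⟩, 4661),
  (⟨3, -1, -1, -1, 3, -1, -5, -1⟩, 5021),
  (⟨3, -1, -1, -1, 3, -1, -3, 1⟩, 484),
  (⟨3, -1, -1, -1, 3, -1, -1, -1⟩, 5088),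
  (⟨3, -1, -1, -1, 3, -1, 1, 1⟩, 5222),
  (⟨3, -1, -1, -1, 3, -1, 3, -1⟩, 4702),
  (⟨3, -1, -1, -1, 3, -1, 5, 1⟩, 4650),
  (⟨3, -1, -1, -1, 5, 1, -3, 1⟩, 6706),
  (⟨3, -1, -1, -1, 5, 1, -1, -1⟩, 5067),
  (⟨3, -1, -1, -1, 5, 1, 1, 1⟩, 5152),
  (⟨3, -1, -1, -1, 5, 1, 3, -1⟩, 553),
  (⟨3, -1, -1, 1, -6, 0, 0, 0⟩, 7486),
  (⟨3, -1, -1, 1, -4, -2, 0, 0⟩, 4291),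
  (⟨3, -1, -1, 1, -4, 2, 0, 0⟩, 2000),
  (⟨3, -1, -1, 1, -2, 0, -4, 0⟩, 230),
  (⟨3, -1, -1, 1, -2, 0, -2, -2⟩, 941),
  (⟨3, -1, -1, 1, -2, 0, -2, 2⟩, 1249),
  (⟨3, -1, -1, 1, -2, 0, 0, 0⟩, 238),
  (⟨3, -1, -1, 1, -2, 0, 2, -2⟩, 993),
  (⟨3, -1, -1, 1, -2, 0, 2, 2⟩, 1081),
  (⟨3, -1, -1, 1, -2, 0, 4, 0⟩, 352),
  (⟨3, -1, -1, 1, 0, -2, -4, 0⟩, 6968),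
  (⟨3, -1, -1, 1, 0, -2, -2, -2⟩, 924),
  (⟨3, -1, -1, 1, 0, -2, -2, 2⟩, 1174),
  (⟨3, -1, -1, 1, 0, -2, 0, 0⟩, 4326),
  (⟨3, -1, -1, 1, 0, -2, 2, -2⟩, 1298),
  (⟨3, -1, -1, 1, 0, -2, 2, 2⟩, 6333),
  (⟨3, -1, -1, 1, 0, -2, 4, 0⟩, 7076),
  (⟨3, -1, -1, 1, 0, 2, -4, 0⟩, 7203),
  (⟨3, -1, -1, 1, 0, 2, -2, -2⟩, 5942),
  (⟨3, -1, -1, 1, 0, 2, -2, 2⟩, 1427),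
  (⟨3, -1, -1, 1, 0, 2, 0, 0⟩, 2022),
  (⟨3, -1, -1, 1, 0, 2, 2, -2⟩, 1557),
  (⟨3, -1, -1, 1, 0, 2, 2, 2⟩, 1051),
  (⟨3, -1, -1, 1, 0, 2, 4, 0⟩, 7355),
  (⟨3, -1, -1, 1, 2, 0, -4, 0⟩, 479),
  (⟨3, -1, -1, 1, 2, 0, -2, -2⟩, 954),
  (⟨3, -1, -1, 1, 2, 0, -2, 2⟩, 1118),
  (⟨3, -1, -1, 1, 2, 0, 0, 0⟩, 1134),
  (⟨3, -1, -1, 1, 2, 0, 2, -2⟩, 1630),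
  (⟨3, -1, -1, 1, 2, 0, 2, 2⟩, 1062),
  (⟨3, -1, -1, 1, 2, 0, 4, 0⟩, 5478),
  (⟨3, -1, -1, 1, 4, -2, 0, 0⟩, 2128),
  (⟨3, -1, -1, 1, 4, 2, 0, 0⟩, 4420),
  (⟨3, -1, -1, 1, 6, 0, 0, 0⟩, 7879),
  (⟨3, -1, 0, -2, -4, 0, -3, -1⟩, 4506),
  (⟨3, -1, 0, -2, -4, 0, -1, 1⟩, 6462),
  (⟨3, -1, 0, -2, -4, 0, 1, -1⟩, 6601),
  (⟨3, -1, 0, -2, -4, 0, 3, 1⟩, 4898),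
  (⟨3, -1, 0, -2, -2, -2, -1, 1⟩, 829),
  (⟨3, -1, 0, -2, -2, -2, 1, -1⟩, 1340),
  (⟨3, -1, 0, -2, -2, 2, -1, 1⟩, 664),
  (⟨3, -1, 0, -2, -2, 2, 1, -1⟩, 655),
  (⟨3, -1, 0, -2, 0, 0, -5, 1⟩, 4494),
  (⟨3, -1, 0, -2, 0, 0, -3, -1⟩, 4518),
  (⟨3, -1, 0, -2, 0, 0, -1, 1⟩, 4576),
  (⟨3, -1, 0, -2, 0, 0, 1, -1⟩, 4703),
  (⟨3, -1, 0, -2, 0, 0, 3, 1⟩, 4653),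
  (⟨3, -1, 0, -2, 0, 0, 5, -1⟩, 4621),
  (⟨3, -1, 0, -2, 2, -2, -1, 1⟩, 784),
  (⟨3, -1, 0, -2, 2, -2, 1, -1⟩, 791),
  (⟨3, -1, 0, -2, 2, 2, -1, 1⟩, 1463),
  (⟨3, -1, 0, -2, 2, 2, 1, -1⟩, 694),
  (⟨3, -1, 0, -2, 4, 0, -3, -1⟩, 5029),
  (⟨3, -1, 0, -2, 4, 0, -1, 1⟩, 6728),
  (⟨3, -1, 0, -2, 4, 0, 1, -1⟩, 6855),
  (⟨3, -1, 0, -2, 4, 0, 3, 1⟩, 4637),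
  (⟨3, -1, 0, 0, -5, 1, -2, 0⟩, 221),
  (⟨3, -1, 0, 0, -5, 1, 0, -2⟩, 4755),
  (⟨3, -1, 0, 0, -5, 1, 0, 2⟩, 4884),
  (⟨3, -1, 0, 0, -5, 1, 2, 0⟩, 7518),
  (⟨3, -1, 0, 0, -3, -1, -6, 0⟩, 7582),
  (⟨3, -1, 0, 0, -3, -1, -4, -2⟩, 4741),
  (⟨3, -1, 0, 0, -3, -1, -4, 2⟩, 1168),
  (⟨3, -1, 0, 0, -3, -1, -2, 0⟩, 233),
  (⟨3, -1, 0, 0, -3, -1, 0, -2⟩, 4774),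
  (⟨3, -1, 0, 0, -3, -1, 0, 2⟩, 1195),
  (⟨3, -1, 0, 0, -3, -1, 2, 0⟩, 4331),
  (⟨3, -1, 0, 0, -3, -1, 4, -2⟩, 1302),
  (⟨3, -1, 0, 0, -3, -1, 4, 2⟩, 4870),
  (⟨3, -1, 0, 0, -3, -1, 6, 0⟩, 293),
  (⟨3, -1, 0, 0, -1, -3, -2, 0⟩, 4279),
  (⟨3, -1, 0, 0, -1, -3, 2, 0⟩, 1309),
  (⟨3, -1, 0, 0, -1, 1, -6, 0⟩, 7608),
  (⟨3, -1, 0, 0, -1, 1, -4, -2⟩, 4814),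
  (⟨3, -1, 0, 0, -1, 1, -4, 2⟩, 1488),
  (⟨3, -1, 0, 0, -1, 1, -2, 0⟩, 1518),
  (⟨3, -1, 0, 0, -1, 1, 0, -2⟩, 1635),
  (⟨3, -1, 0, 0, -1, 1, 0, 2⟩, 4963),
  (⟨3, -1, 0, 0, -1, 1, 2, 0⟩, 4974),
  (⟨3, -1, 0, 0, -1, 1, 4, -2⟩, 1616),
  (⟨3, -1, 0, 0, -1, 1, 4, 2⟩, 4896),
  (⟨3, -1, 0, 0, -1, 1, 6, 0⟩, 7753),
  (⟨3, -1, 0, 0, 1, -1, -6, 0⟩, 7624),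
  (⟨3, -1, 0, 0, 1, -1, -4, -2⟩, 5023),
  (⟨3, -1, 0, 0, 1, -1, -4, 2⟩, 1232),
  (⟨3, -1, 0, 0, 1, -1, -2, 0⟩, 494),
  (⟨3, -1, 0, 0, 1, -1, 0, -2⟩, 5090),
  (⟨3, -1, 0, 0, 1, -1, 0, 2⟩, 1250),
  (⟨3, -1, 0, 0, 1, -1, 2, 0⟩, 4334),
  (⟨3, -1, 0, 0, 1, -1, 4, -2⟩, 1360),
  (⟨3, -1, 0, 0, 1, -1, 4, 2⟩, 5199),
  (⟨3, -1, 0, 0, 1, -1, 6, 0⟩, 7739),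
  (⟨3, -1, 0, 0, 1, 3, -2, 0⟩, 1434),
  (⟨3, -1, 0, 0, 1, 3, 2, 0⟩, 4412),
  (⟨3, -1, 0, 0, 3, 1, -6, 0⟩, 418),
  (⟨3, -1, 0, 0, 3, 1, -4, -2⟩, 4999),
  (⟨3, -1, 0, 0, 3, 1, -4, 2⟩, 1429),
  (⟨3, -1, 0, 0, 3, 1, -2, 0⟩, 4456),
  (⟨3, -1, 0, 0, 3, 1, 0, -2⟩, 1576),
  (⟨3, -1, 0, 0, 3, 1, 0, 2⟩, 5165),
  (⟨3, -1, 0, 0, 3, 1, 2, 0⟩, 618),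
  (⟨3, -1, 0, 0, 3, 1, 4, -2⟩, 1551),
  (⟨3, -1, 0, 0, 3, 1, 4, 2⟩, 5128),
  (⟨3, -1, 0, 0, 3, 1, 6, 0⟩, 7713),
  (⟨3, -1, 0, 0, 5, -1, -2, 0⟩, 7905),
  (⟨3, -1, 0, 0, 5, -1, 0, -2⟩, 5009),
  (⟨3, -1, 0, 0, 5, -1, 0, 2⟩, 5138),
  (⟨3, -1, 0, 0, 5, -1, 2, 0⟩, 604),
  (⟨3, -1, 0, 2, -4, 0, -3, -1⟩, 929),
  (⟨3, -1, 0, 2, -4, 0, -1, 1⟩, 8504),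
  (⟨3, -1, 0, 2, -4, 0, 1, -1⟩, 8639),
  (⟨3, -1, 0, 2, -4, 0, 3, 1⟩, 1084),
  (⟨3, -1, 0, 2, -2, -2, -1, 1⟩, 6938),
  (⟨3, -1, 0, 2, -2, -2, 1, -1⟩, 1329),
  (⟨3, -1, 0, 2, -2, 2, -1, 1⟩, 1941),
  (⟨3, -1, 0, 2, -2, 2, 1, -1⟩, 1933),
  (⟨3, -1, 0, 2, 0, 0, -5, 1⟩, 5272),
  (⟨3, -1, 0, 2, 0, 0, -3, -1⟩, 936),
  (⟨3, -1, 0, 2, 0, 0, -1, 1⟩, 1120),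
  (⟨3, -1, 0, 2, 0, 0, 1, -1⟩, 991),
  (⟨3, -1, 0, 2, 0, 0, 3, 1⟩, 1067),
  (⟨3, -1, 0, 2, 0, 0, 5, -1⟩, 5399),
  (⟨3, -1, 0, 2, 2, -2, -1, 1⟩, 2062),
  (⟨3, -1, 0, 2, 2, -2, 1, -1⟩, 2070),
  (⟨3, -1, 0, 2, 2, 2, -1, 1⟩, 1458),
  (⟨3, -1, 0, 2, 2, 2, 1, -1⟩, 7325),
  (⟨3, -1, 0, 2, 4, 0, -3, -1⟩, 951),
  (⟨3, -1, 0, 2, 4, 0, -1, 1⟩, 8774),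
  (⟨3, -1, 0, 2, 4, 0, 1, -1⟩, 8891),
  (⟨3, -1, 0, 2, 4, 0, 3, 1⟩, 1054),
  (⟨3, -1, 1, -1, -6, 0, 0, 0⟩, 7487),
  (⟨3, -1, 1, -1, -4, -2, 0, 0⟩, 5568),
  (⟨3, -1, 1, -1, -4, 2, 0, 0⟩, 720),
  (⟨3, -1, 1, -1, -2, 0, -4, 0⟩, 4575),
  (⟨3, -1, 1, -1, -2, 0, -2, -2⟩, 4793),
  (⟨3, -1, 1, -1, -2, 0, -2, 2⟩, 1244),
  (⟨3, -1, 1, -1, -2, 0, 0, 0⟩, 4590),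
  (⟨3, -1, 1, -1, -2, 0, 2, -2⟩, 4828),
  (⟨3, -1, 1, -1, -2, 0, 2, 2⟩, 4904),
  (⟨3, -1, 1, -1, -2, 0, 4, 0⟩, 2405),
  (⟨3, -1, 1, -1, 0, -2, -4, 0⟩, 8013),
  (⟨3, -1, 1, -1, 0, -2, -2, -2⟩, 1713),
  (⟨3, -1, 1, -1, 0, -2, -2, 2⟩, 1169),
  (⟨3, -1, 1, -1, 0, -2, 0, 0⟩, 5605),
  (⟨3, -1, 1, -1, 0, -2, 2, -2⟩, 1296),
  (⟨3, -1, 1, -1, 0, -2, 2, 2⟩, 1199),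
  (⟨3, -1, 1, -1, 0, -2, 4, 0⟩, 8137),
  (⟨3, -1, 1, -1, 0, 2, -4, 0⟩, 8264),
  (⟨3, -1, 1, -1, 0, 2, -2, -2⟩, 1588),
  (⟨3, -1, 1, -1, 0, 2, -2, 2⟩, 1423),
  (⟨3, -1, 1, -1, 0, 2, 0, 0⟩, 741),
  (⟨3, -1, 1, -1, 0, 2, 2, -2⟩, 1556),
  (⟨3, -1, 1, -1, 0, 2, 2, 2⟩, 1842),
  (⟨3, -1, 1, -1, 0, 2, 4, 0⟩, 8396),
  (⟨3, -1, 1, -1, 2, 0, -4, 0⟩, 4581),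
  (⟨3, -1, 1, -1, 2, 0, -2, -2⟩, 5035),
  (⟨3, -1, 1, -1, 2, 0, -2, 2⟩, 5213),
  (⟨3, -1, 1, -1, 2, 0, 0, 0⟩, 5230),
  (⟨3, -1, 1, -1, 2, 0, 2, -2⟩, 1629),
  (⟨3, -1, 1, -1, 2, 0, 2, 2⟩, 5178),
  (⟨3, -1, 1, -1, 2, 0, 4, 0⟩, 4704),
  (⟨3, -1, 1, -1, 4, -2, 0, 0⟩, 848),
  (⟨3, -1, 1, -1, 4, 2, 0, 0⟩, 5701),
  (⟨3, -1, 1, -1, 6, 0, 0, 0⟩, 7878),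
  (⟨3, -1, 1, 1, -5, -1, -3, 1⟩, 1213),
  (⟨3, -1, 1, 1, -5, -1, -1, -1⟩, 4782),
  (⟨3, -1, 1, 1, -5, -1, 1, 1⟩, 4943),
  (⟨3, -1, 1, 1, -5, -1, 3, -1⟩, 8615),
  (⟨3, -1, 1, 1, -3, 1, -5, -1⟩, 5308),
  (⟨3, -1, 1, 1, -3, 1, -3, 1⟩, 8548),
  (⟨3, -1, 1, 1, -3, 1, -1, -1⟩, 2016),
  (⟨3, -1, 1, 1, -3, 1, 1, 1⟩, 2021),
  (⟨3, -1, 1, 1, -3, 1, 3, -1⟩, 2012),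
  (⟨3, -1, 1, 1, -3, 1, 5, 1⟩, 4908),
  (⟨3, -1, 1, 1, -1, -1, -5, -1⟩, 5316),
  (⟨3, -1, 1, 1, -1, -1, -3, 1⟩, 5349),
  (⟨3, -1, 1, 1, -1, -1, -1, -1⟩, 999),
  (⟨3, -1, 1, 1, -1, -1, 1, 1⟩, 2154),
  (⟨3, -1, 1, 1, -1, -1, 3, -1⟩, 1379),
  (⟨3, -1, 1, 1, -1, -1, 5, 1⟩, 5450),
  (⟨3, -1, 1, 1, 1, 1, -5, -1⟩, 5323),
  (⟨3, -1, 1, 1, 1, 1, -3, 1⟩, 1506),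
  (⟨3, -1, 1, 1, 1, 1, -1, -1⟩, 2025),
  (⟨3, -1, 1, 1, 1, 1, 1, 1⟩, 1127),
  (⟨3, -1, 1, 1, 1, 1, 3, -1⟩, 1637),
  (⟨3, -1, 1, 1, 1, 1, 5, 1⟩, 5443),
  (⟨3, -1, 1, 1, 3, -1, -5, -1⟩, 5031),
  (⟨3, -1, 1, 1, 3, -1, -3, 1⟩, 2141),
  (⟨3, -1, 1, 1, 3, -1, -1, -1⟩, 5093),
  (⟨3, -1, 1, 1, 3, -1, 1, 1⟩, 2143),
  (⟨3, -1, 1, 1, 3, -1, 3, -1⟩, 5476),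
  (⟨3, -1, 1, 1, 3, -1, 5, 1⟩, 5431),
  (⟨3, -1, 1, 1, 5, 1, -3, 1⟩, 8748),
  (⟨3, -1, 1, 1, 5, 1, -1, -1⟩, 5070),
  (⟨3, -1, 1, 1, 5, 1, 1, 1⟩, 5173),
  (⟨3, -1, 1, 1, 5, 1, 3, -1⟩, 1590),
  (⟨3, -1, 1, 3, -2, 0, 0, 0⟩, 1967),
  (⟨3, -1, 1, 3, 2, 0, 0, 0⟩, 2100),
  (⟨3, -1, 2, -2, -3, -1, -2, 0⟩, 8008),
  (⟨3, -1, 2, -2, -3, -1, 2, 0⟩, 8141),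
  (⟨3, -1, 2, -2, -1, 1, -2, 0⟩, 4572),
  (⟨3, -1, 2, -2, -1, 1, 0, -2⟩, 1687),
  (⟨3, -1, 2, -2, -1, 1, 0, 2⟩, 1811),
  (⟨3, -1, 2, -2, -1, 1, 2, 0⟩, 4705),
  (⟨3, -1, 2, -2, 1, -1, -2, 0⟩, 4574),
  (⟨3, -1, 2, -2, 1, -1, 0, -2⟩, 1682),
  (⟨3, -1, 2, -2, 1, -1, 0, 2⟩, 1816),
  (⟨3, -1, 2, -2, 1, -1, 2, 0⟩, 4701),
  (⟨3, -1, 2, -2, 3, 1, -2, 0⟩, 8268),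
  (⟨3, -1, 2, -2, 3, 1, 2, 0⟩, 8393),
  (⟨3, -1, 2, 0, -4, 0, -5, 1⟩, 2198),
  (⟨3, -1, 2, 0, -4, 0, -3, -1⟩, 4802),
  (⟨3, -1, 2, 0, -4, 0, -1, 1⟩, 2274),
  (⟨3, -1, 2, 0, -4, 0, 1, -1⟩, 4831),
  (⟨3, -1, 2, 0, -4, 0, 3, 1⟩, 4922),
  (⟨3, -1, 2, 0, -4, 0, 5, -1⟩, 2321),
  (⟨3, -1, 2, 0, -2, -2, -3, -1⟩, 5582),
  (⟨3, -1, 2, 0, -2, -2, -1, 1⟩, 5570),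
  (⟨3, -1, 2, 0, -2, -2, 1, -1⟩, 1325),
  (⟨3, -1, 2, 0, -2, -2, 3, 1⟩, 5550),
  (⟨3, -1, 2, 0, -2, 2, -3, -1⟩, 9036),
  (⟨3, -1, 2, 0, -2, 2, -1, 1⟩, 1500),
  (⟨3, -1, 2, 0, -2, 2, 1, -1⟩, 2013),
  (⟨3, -1, 2, 0, -2, 2, 3, 1⟩, 9150),
  (⟨3, -1, 2, 0, 0, 0, -5, 1⟩, 2529),
  (⟨3, -1, 2, 0, 0, 0, -3, -1⟩, 5098),
  (⟨3, -1, 2, 0, 0, 0, -1, -3⟩, 5042),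
  (⟨3, -1, 2, 0, 0, 0, -1, 1⟩, 1262),
  (⟨3, -1, 2, 0, 0, 0, 1, -1⟩, 110),
  (⟨3, -1, 2, 0, 0, 0, 1, 3⟩, 4913),
  (⟨3, -1, 2, 0, 0, 0, 3, 1⟩, 4969),
  (⟨3, -1, 2, 0, 0, 0, 5, -1⟩, 2398),
  (⟨3, -1, 2, 0, 2, -2, -3, -1⟩, 9287),
  (⟨3, -1, 2, 0, 2, -2, -1, 1⟩, 2140),
  (⟨3, -1, 2, 0, 2, -2, 1, -1⟩, 1373),
  (⟨3, -1, 2, 0, 2, -2, 3, 1⟩, 9421),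
  (⟨3, -1, 2, 0, 2, 2, -3, -1⟩, 5685),
  (⟨3, -1, 2, 0, 2, 2, -1, 1⟩, 1446),
  (⟨3, -1, 2, 0, 2, 2, 1, -1⟩, 1602),
  (⟨3, -1, 2, 0, 2, 2, 3, 1⟩, 5711),
  (⟨3, -1, 2, 0, 4, 0, -5, 1⟩, 2452),
  (⟨3, -1, 2, 0, 4, 0, -3, -1⟩, 5049),
  (⟨3, -1, 2, 0, 4, 0, -1, 1⟩, 5216),
  (⟨3, -1, 2, 0, 4, 0, 1, -1⟩, 2659),
  (⟨3, -1, 2, 0, 4, 0, 3, 1⟩, 2626),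
  (⟨3, -1, 2, 0, 4, 0, 5, -1⟩, 2581),
  (⟨3, -1, 2, 2, -3, -1, -2, 0⟩, 5312),
  (⟨3, -1, 2, 2, -3, -1, 2, 0⟩, 5454),
  (⟨3, -1, 2, 2, -1, 1, -2, 0⟩, 1968),
  (⟨3, -1, 2, 2, -1, 1, 0, -2⟩, 1948),
  (⟨3, -1, 2, 2, -1, 1, 0, 2⟩, 1053),
  (⟨3, -1, 2, 2, -1, 1, 2, 0⟩, 1958),
  (⟨3, -1, 2, 2, 1, -1, -2, 0⟩, 2093),
  (⟨3, -1, 2, 2, 1, -1, 0, -2⟩, 922),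
  (⟨3, -1, 2, 2, 1, -1, 0, 2⟩, 2075),
  (⟨3, -1, 2, 2, 1, -1, 2, 0⟩, 2099),
  (⟨3, -1, 2, 2, 3, 1, -2, 0⟩, 5327),
  (⟨3, -1, 2, 2, 3, 1, 2, 0⟩, 5445),
  (⟨3, -1, 3, -1, -5, -1, -1, -1⟩, 4763),
  (⟨3, -1, 3, -1, -5, -1, 1, 1⟩, 5545),
  (⟨3, -1, 3, -1, -3, 1, -3, 1⟩, 2256),
  (⟨3, -1, 3, -1, -3, 1, -1, -1⟩, 2276),
  (⟨3, -1, 3, -1, -3, 1, 1, 1⟩, 4957),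
  (⟨3, -1, 3, -1, -3, 1, 3, -1⟩, 2384),
  (⟨3, -1, 3, -1, -1, -1, -5, -1⟩, 1716),
  (⟨3, -1, 3, -1, -1, -1, -3, 1⟩, 1252),
  (⟨3, -1, 3, -1, -1, -1, -1, -1⟩, 1763),
  (⟨3, -1, 3, -1, -1, -1, 1, 1⟩, 5599),
  (⟨3, -1, 3, -1, -1, -1, 3, -1⟩, 1377),
  (⟨3, -1, 3, -1, -1, -1, 5, 1⟩, 2343),
  (⟨3, -1, 3, -1, 1, 1, -5, -1⟩, 2476),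
  (⟨3, -1, 3, -1, 1, 1, -3, 1⟩, 1502),
  (⟨3, -1, 3, -1, 1, 1, -1, -1⟩, 5728),
  (⟨3, -1, 3, -1, 1, 1, 1, 1⟩, 1890),
  (⟨3, -1, 3, -1, 1, 1, 3, -1⟩, 5732),
  (⟨3, -1, 3, -1, 1, 1, 5, 1⟩, 1839),
  (⟨3, -1, 3, -1, 3, -1, -3, 1⟩, 2512),
  (⟨3, -1, 3, -1, 3, -1, -1, -1⟩, 5084),
  (⟨3, -1, 3, -1, 3, -1, 1, 1⟩, 5220),
  (⟨3, -1, 3, -1, 3, -1, 3, -1⟩, 2640),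
  (⟨3, -1, 3, -1, 5, 1, -1, -1⟩, 5674),
  (⟨3, -1, 3, -1, 5, 1, 1, 1⟩, 5148),
  (⟨3, -1, 3, 1, -6, 0, 0, 0⟩, 2206),
  (⟨3, -1, 3, 1, -4, -2, 0, 0⟩, 5515),
  (⟨3, -1, 3, 1, -4, 2, 0, 0⟩, 1934),
  (⟨3, -1, 3, 1, -2, 0, -4, 0⟩, 5305),
  (⟨3, -1, 3, 1, -2, 0, -2, -2⟩, 4810),
  (⟨3, -1, 3, 1, -2, 0, -2, 2⟩, 8510),
  (⟨3, -1, 3, 1, -2, 0, 0, 0⟩, 2024),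
  (⟨3, -1, 3, 1, -2, 0, 2, -2⟩, 8635),
  (⟨3, -1, 3, 1, -2, 0, 2, 2⟩, 4933),
  (⟨3, -1, 3, 1, -2, 0, 4, 0⟩, 2352),
  (⟨3, -1, 3, 1, 0, -2, -4, 0⟩, 2085),
  (⟨3, -1, 3, 1, 0, -2, 0, 0⟩, 2091),
  (⟨3, -1, 3, 1, 0, -2, 4, 0⟩, 2098),
  (⟨3, -1, 3, 1, 0, 2, -4, 0⟩, 1969),
  (⟨3, -1, 3, 1, 0, 2, 0, 0⟩, 1960),
  (⟨3, -1, 3, 1, 0, 2, 4, 0⟩, 1954),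
  (⟨3, -1, 3, 1, 2, 0, -4, 0⟩, 2483),
  (⟨3, -1, 3, 1, 2, 0, -2, -2⟩, 5056),
  (⟨3, -1, 3, 1, 2, 0, -2, 2⟩, 8760),
  (⟨3, -1, 3, 1, 2, 0, 0, 0⟩, 2155),
  (⟨3, -1, 3, 1, 2, 0, 2, -2⟩, 8903),
  (⟨3, -1, 3, 1, 2, 0, 2, 2⟩, 5195),
  (⟨3, -1, 3, 1, 2, 0, 4, 0⟩, 5434),
  (⟨3, -1, 3, 1, 4, -2, 0, 0⟩, 2061),
  (⟨3, -1, 3, 1, 4, 2, 0, 0⟩, 5644),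
  (⟨3, -1, 3, 1, 6, 0, 0, 0⟩, 2593),
  (⟨3, -1, 4, -2, 0, 0, -3, -1⟩, 1684),
  (⟨3, -1, 4, -2, 0, 0, -1, 1⟩, 1872),
  (⟨3, -1, 4, -2, 0, 0, 1, -1⟩, 1744),
  (⟨3, -1, 4, -2, 0, 0, 3, 1⟩, 1809),
  (⟨3, -1, 4, 0, -5, 1, -2, 0⟩, 2189),
  (⟨3, -1, 4, 0, -5, 1, 2, 0⟩, 2326),
  (⟨3, -1, 4, 0, -3, -1, -2, 0⟩, 2224),
  (⟨3, -1, 4, 0, -3, -1, 0, -2⟩, 4770),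
  (⟨3, -1, 4, 0, -3, -1, 0, 2⟩, 1180),
  (⟨3, -1, 4, 0, -3, -1, 2, 0⟩, 5569),
  (⟨3, -1, 4, 0, -1, 1, -2, 0⟩, 2278),
  (⟨3, -1, 4, 0, -1, 1, 0, -2⟩, 9023),
  (⟨3, -1, 4, 0, -1, 1, 0, 2⟩, 9164),
  (⟨3, -1, 4, 0, -1, 1, 2, 0⟩, 2403),
  (⟨3, -1, 4, 0, 1, -1, -2, 0⟩, 2530),
  (⟨3, -1, 4, 0, 1, -1, 0, -2⟩, 9293),
  (⟨3, -1, 4, 0, 1, -1, 0, 2⟩, 9414),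
  (⟨3, -1, 4, 0, 1, -1, 2, 0⟩, 5606),
  (⟨3, -1, 4, 0, 3, 1, -2, 0⟩, 2497),
  (⟨3, -1, 4, 0, 3, 1, 0, -2⟩, 1563),
  (⟨3, -1, 4, 0, 3, 1, 0, 2⟩, 5157),
  (⟨3, -1, 4, 0, 3, 1, 2, 0⟩, 2611),
  (⟨3, -1, 4, 0, 5, -1, -2, 0⟩, 2453),
  (⟨3, -1, 4, 0, 5, -1, 2, 0⟩, 2574),
  (⟨3, -1, 4, 2, 0, 0, -3, -1⟩, 5257),
  (⟨3, -1, 4, 2, 0, 0, -1, 1⟩, 5322),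
  (⟨3, -1, 4, 2, 0, 0, 1, -1⟩, 5451),
  (⟨3, -1, 4, 2, 0, 0, 3, 1⟩, 5386),
  (⟨3, -1, 5, -1, -2, 0, -4, 0⟩, 2194),
  (⟨3, -1, 5, -1, -2, 0, 0, 0⟩, 2270),
  (⟨3, -1, 5, -1, -2, 0, 4, 0⟩, 2318),
  (⟨3, -1, 5, -1, 0, -2, 0, 0⟩, 5519),
  (⟨3, -1, 5, -1, 0, 2, 0, 0⟩, 5648),
  (⟨3, -1, 5, -1, 2, 0, -4, 0⟩, 2445),
  (⟨3, -1, 5, -1, 2, 0, 0, 0⟩, 2657),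
  (⟨3, -1, 5, -1, 2, 0, 4, 0⟩, 2579),
  (⟨3, -1, 5, 1, -3, 1, -1, -1⟩, 1949),
  (⟨3, -1, 5, 1, -3, 1, 1, 1⟩, 1959),
  (⟨3, -1, 5, 1, -1, -1, -3, 1⟩, 5302),
  (⟨3, -1, 5, 1, -1, -1, -1, -1⟩, 5583),
  (⟨3, -1, 5, 1, -1, -1, 1, 1⟩, 5571),
  (⟨3, -1, 5, 1, -1, -1, 3, -1⟩, 2346),
  (⟨3, -1, 5, 1, 1, 1, -3, 1⟩, 2473),
  (⟨3, -1, 5, 1, 1, 1, -1, -1⟩, 5700),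
  (⟨3, -1, 5, 1, 1, 1, 1, 1⟩, 5710),
  (⟨3, -1, 5, 1, 1, 1, 3, -1⟩, 5437),
  (⟨3, -1, 5, 1, 3, -1, -1, -1⟩, 2092),
  (⟨3, -1, 5, 1, 3, -1, 1, 1⟩, 2074),
  (⟨3, -1, 6, 0, 0, 0, -3, -1⟩, 2462),
  (⟨3, -1, 6, 0, 0, 0, -1, 1⟩, 9549),
  (⟨3, -1, 6, 0, 0, 0, 1, -1⟩, 9548),
  (⟨3, -1, 6, 0, 0, 0, 3, 1⟩, 2337),
  (⟨3, 1, -6, 0, -3, 1, 0, 0⟩, 5793),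
  (⟨3, 1, -6, 0, -1, -1, 0, 0⟩, 5792),
  (⟨3, 1, -6, 0, 1, 1, 0, 0⟩, 5791),
  (⟨3, 1, -6, 0, 3, -1, 0, 0⟩, 5790),
  (⟨3, 1, -5, -1, -4, 0, -2, 0⟩, 135),
  (⟨3, 1, -5, -1, -4, 0, 2, 0⟩, 267),
  (⟨3, 1, -5, -1, 0, 0, -2, 0⟩, 5841),
  (⟨3, 1, -5, -1, 0, 0, 0, -2⟩, 2826),
  (⟨3, 1, -5, -1, 0, 0, 0, 2⟩, 2697),
  (⟨3, 1, -5, -1, 0, 0, 2, 0⟩, 5842),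
  (⟨3, 1, -5, -1, 4, 0, -2, 0⟩, 396),
  (⟨3, 1, -5, -1, 4, 0, 2, 0⟩, 518),
  (⟨3, 1, -5, 1, -3, -1, -1, 1⟩, 2749),
  (⟨3, 1, -5, 1, -3, -1, 1, -1⟩, 2858),
  (⟨3, 1, -5, 1, -1, 1, -3, -1⟩, 5935),
  (⟨3, 1, -5, 1, -1, 1, -1, 1⟩, 2724),
  (⟨3, 1, -5, 1, -1, 1, 1, -1⟩, 2879),
  (⟨3, 1, -5, 1, -1, 1, 3, 1⟩, 6060),
  (⟨3, 1, -5, 1, 1, -1, -3, -1⟩, 6183),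
  (⟨3, 1, -5, 1, 1, -1, -1, 1⟩, 2758),
  (⟨3, 1, -5, 1, 1, -1, 1, -1⟩, 2851),
  (⟨3, 1, -5, 1, 1, -1, 3, 1⟩, 6324),
  (⟨3, 1, -5, 1, 3, 1, -1, 1⟩, 2729),
  (⟨3, 1, -5, 1, 3, 1, 1, -1⟩, 2870),
  (⟨3, 1, -4, -2, -3, 1, 0, 0⟩, 648),
  (⟨3, 1, -4, -2, -1, -1, 0, 0⟩, 793),
  (⟨3, 1, -4, -2, 1, 1, 0, 0⟩, 665),
  (⟨3, 1, -4, -2, 3, -1, 0, 0⟩, 773),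
  (⟨3, 1, -4, 0, -2, 0, -5, -1⟩, 139),
  (⟨3, 1, -4, 0, -2, 0, -3, 1⟩, 2746),
  (⟨3, 1, -4, 0, -2, 0, -1, -1⟩, 2907),
  (⟨3, 1, -4, 0, -2, 0, 1, 1⟩, 2777),
  (⟨3, 1, -4, 0, -2, 0, 3, -1⟩, 321),
  (⟨3, 1, -4, 0, -2, 0, 5, 1⟩, 259),
  (⟨3, 1, -4, 0, 0, -2, -3, 1⟩, 3516),
  (⟨3, 1, -4, 0, 0, -2, -1, -1⟩, 6175),
  (⟨3, 1, -4, 0, 0, -2, 1, 1⟩, 6339),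
  (⟨3, 1, -4, 0, 0, -2, 3, -1⟩, 2853),
  (⟨3, 1, -4, 0, 0, 2, -3, 1⟩, 2722),
  (⟨3, 1, -4, 0, 0, 2, -1, -1⟩, 5956),
  (⟨3, 1, -4, 0, 0, 2, 1, 1⟩, 6048),
  (⟨3, 1, -4, 0, 0, 2, 3, -1⟩, 3383),
  (⟨3, 1, -4, 0, 2, 0, -5, -1⟩, 388),
  (⟨3, 1, -4, 0, 2, 0, -3, 1⟩, 2753),
  (⟨3, 1, -4, 0, 2, 0, -1, -1⟩, 2904),
  (⟨3, 1, -4, 0, 2, 0, 1, 1⟩, 603),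
  (⟨3, 1, -4, 0, 2, 0, 3, -1⟩, 2873),
  (⟨3, 1, -4, 0, 2, 0, 5, 1⟩, 524),
  (⟨3, 1, -4, 2, -3, 1, 0, 0⟩, 2959),
  (⟨3, 1, -4, 2, -1, -1, 0, 0⟩, 3000),
  (⟨3, 1, -4, 2, 1, 1, 0, 0⟩, 3131),
  (⟨3, 1, -4, 2, 3, -1, 0, 0⟩, 3088),
  (⟨3, 1, -3, -1, -5, 1, -1, 1⟩, 6426),
  (⟨3, 1, -3, -1, -5, 1, 1, -1⟩, 684),
  (⟨3, 1, -3, -1, -3, -1, -3, -1⟩, 153),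
  (⟨3, 1, -3, -1, -3, -1, -1, 1⟩, 6487),
  (⟨3, 1, -3, -1, -3, -1, 1, -1⟩, 6609),
  (⟨3, 1, -3, -1, -3, -1, 3, 1⟩, 281),
  (⟨3, 1, -3, -1, -1, 1, -5, 1⟩, 2743),
  (⟨3, 1, -3, -1, -1, 1, -3, -1⟩, 727),
  (⟨3, 1, -3, -1, -1, 1, -1, 1⟩, 2776),
  (⟨3, 1, -3, -1, -1, 1, 1, -1⟩, 724),
  (⟨3, 1, -3, -1, -1, 1, 3, 1⟩, 6102),
  (⟨3, 1, -3, -1, -1, 1, 5, -1⟩, 297),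
  (⟨3, 1, -3, -1, 1, -1, -5, 1⟩, 426),
  (⟨3, 1, -3, -1, 1, -1, -3, -1⟩, 6227),
  (⟨3, 1, -3, -1, 1, -1, -1, 1⟩, 853),
  (⟨3, 1, -3, -1, 1, -1, 1, -1⟩, 2905),
  (⟨3, 1, -3, -1, 1, -1, 3, 1⟩, 6359),
  (⟨3, 1, -3, -1, 1, -1, 5, -1⟩, 2876),
  (⟨3, 1, -3, -1, 3, 1, -3, -1⟩, 409),
  (⟨3, 1, -3, -1, 3, 1, -1, 1⟩, 6738),
  (⟨3, 1, -3, -1, 3, 1, 1, -1⟩, 599),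
  (⟨3, 1, -3, -1, 3, 1, 3, 1⟩, 537),
  (⟨3, 1, -3, -1, 5, -1, -1, 1⟩, 807),
  (⟨3, 1, -3, -1, 5, -1, 1, -1⟩, 6813),
  (⟨3, 1, -3, 1, -4, 0, -2, 0⟩, 179),
  (⟨3, 1, -3, 1, -4, 0, 0, -2⟩, 2865),
  (⟨3, 1, -3, 1, -4, 0, 0, 2⟩, 2725),
  (⟨3, 1, -3, 1, -4, 0, 2, 0⟩, 3001),
  (⟨3, 1, -3, 1, -2, -2, -2, 0⟩, 6976),
  (⟨3, 1, -3, 1, -2, -2, 2, 0⟩, 7114),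
  (⟨3, 1, -3, 1, -2, 2, -2, 0⟩, 3256),
  (⟨3, 1, -3, 1, -2, 2, 2, 0⟩, 3390),
  (⟨3, 1, -3, 1, 0, 0, -6, 0⟩, 417),
  (⟨3, 1, -3, 1, 0, 0, -4, -2⟩, 908),
  (⟨3, 1, -3, 1, 0, 0, -4, 2⟩, 2701),
  (⟨3, 1, -3, 1, 0, 0, -2, 0⟩, 2795),
  (⟨3, 1, -3, 1, 0, 0, 0, -2⟩, 2856),
  (⟨3, 1, -3, 1, 0, 0, 0, 2⟩, 2731),
  (⟨3, 1, -3, 1, 0, 0, 2, 0⟩, 2920),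
  (⟨3, 1, -3, 1, 0, 0, 4, -2⟩, 2830),
  (⟨3, 1, -3, 1, 0, 0, 4, 2⟩, 1035),
  (⟨3, 1, -3, 1, 0, 0, 6, 0⟩, 286),
  (⟨3, 1, -3, 1, 2, -2, -2, 0⟩, 3527),
  (⟨3, 1, -3, 1, 2, -2, 2, 0⟩, 3643),
  (⟨3, 1, -3, 1, 2, 2, -2, 0⟩, 7243),
  (⟨3, 1, -3, 1, 2, 2, 2, 0⟩, 7365),
  (⟨3, 1, -3, 1, 4, 0, -2, 0⟩, 3130),
  (⟨3, 1, -3, 1, 4, 0, 0, -2⟩, 2850),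
  (⟨3, 1, -3, 1, 4, 0, 0, 2⟩, 2738),
  (⟨3, 1, -3, 1, 4, 0, 2, 0⟩, 560),
  (⟨3, 1, -2, -2, -2, 0, -3, 1⟩, 6446),
  (⟨3, 1, -2, -2, -2, 0, -1, -1⟩, 726),
  (⟨3, 1, -2, -2, -2, 0, 1, 1⟩, 6481),
  (⟨3, 1, -2, -2, -2, 0, 3, -1⟩, 6559),
  (⟨3, 1, -2, -2, 0, -2, -1, -1⟩, 774),
  (⟨3, 1, -2, -2, 0, -2, 1, 1⟩, 770),
  (⟨3, 1, -2, -2, 0, 2, -1, -1⟩, 641),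
  (⟨3, 1, -2, -2, 0, 2, 1, 1⟩, 647),
  (⟨3, 1, -2, -2, 2, 0, -3, 1⟩, 6688),
  (⟨3, 1, -2, -2, 2, 0, -1, -1⟩, 6866),
  (⟨3, 1, -2, -2, 2, 0, 1, 1⟩, 851),
  (⟨3, 1, -2, -2, 2, 0, 3, -1⟩, 6837),
  (⟨3, 1, -2, 0, -5, -1, -4, 0⟩, 132),
  (⟨3, 1, -2, 0, -5, -1, 0, 0⟩, 210),
  (⟨3, 1, -2, 0, -5, -1, 4, 0⟩, 264),
  (⟨3, 1, -2, 0, -3, 1, -4, 0⟩, 194),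
  (⟨3, 1, -2, 0, -3, 1, -2, -2⟩, 5919),
  (⟨3, 1, -2, 0, -3, 1, -2, 2⟩, 2723),
  (⟨3, 1, -2, 0, -3, 1, 0, 0⟩, 234),
  (⟨3, 1, -2, 0, -3, 1, 2, -2⟩, 2889),
  (⟨3, 1, -2, 0, -3, 1, 2, 2⟩, 6085),
  (⟨3, 1, -2, 0, -3, 1, 4, 0⟩, 307),
  (⟨3, 1, -2, 0, -1, -1, -4, 0⟩, 3545),
  (⟨3, 1, -2, 0, -1, -1, -2, -2⟩, 2902),
  (⟨3, 1, -2, 0, -1, -1, -2, 2⟩, 1218),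
  (⟨3, 1, -2, 0, -1, -1, 0, 0⟩, 9709),
  (⟨3, 1, -2, 0, -1, -1, 2, -2⟩, 2861),
  (⟨3, 1, -2, 0, -1, -1, 2, 2⟩, 6358),
  (⟨3, 1, -2, 0, -1, -1, 4, 0⟩, 340),
  (⟨3, 1, -2, 0, -1, 3, 0, 0⟩, 690),
  (⟨3, 1, -2, 0, 1, -3, 0, 0⟩, 817),
  (⟨3, 1, -2, 0, 1, 1, -4, 0⟩, 469),
  (⟨3, 1, -2, 0, 1, 1, -2, -2⟩, 5971),
  (⟨3, 1, -2, 0, 1, 1, -2, 2⟩, 2726),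
  (⟨3, 1, -2, 0, 1, 1, 0, 0⟩, 2797),
  (⟨3, 1, -2, 0, 1, 1, 2, -2⟩, 2882),
  (⟨3, 1, -2, 0, 1, 1, 2, 2⟩, 2771),
  (⟨3, 1, -2, 0, 1, 1, 4, 0⟩, 3416),
  (⟨3, 1, -2, 0, 3, -1, -4, 0⟩, 432),
  (⟨3, 1, -2, 0, 3, -1, -2, -2⟩, 6208),
  (⟨3, 1, -2, 0, 3, -1, -2, 2⟩, 2760),
  (⟨3, 1, -2, 0, 3, -1, 0, 0⟩, 617),
  (⟨3, 1, -2, 0, 3, -1, 2, -2⟩, 2852),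
  (⟨3, 1, -2, 0, 3, -1, 2, 2⟩, 6304),
  (⟨3, 1, -2, 0, 3, -1, 4, 0⟩, 3650),
  (⟨3, 1, -2, 0, 5, 1, -4, 0⟩, 389),
  (⟨3, 1, -2, 0, 5, 1, 0, 0⟩, 593),
  (⟨3, 1, -2, 0, 5, 1, 4, 0⟩, 515),
  (⟨3, 1, -2, 2, -2, 0, -3, 1⟩, 3006),
  (⟨3, 1, -2, 2, -2, 0, -1, -1⟩, 3002),
  (⟨3, 1, -2, 2, -2, 0, 1, 1⟩, 2982),
  (⟨3, 1, -2, 2, -2, 0, 3, -1⟩, 2980),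
  (⟨3, 1, -2, 2, 0, -2, -1, -1⟩, 943),
  (⟨3, 1, -2, 2, 0, -2, 1, 1⟩, 7095),
  (⟨3, 1, -2, 2, 0, 2, -1, -1⟩, 7228),
  (⟨3, 1, -2, 2, 0, 2, 1, 1⟩, 1076),
  (⟨3, 1, -2, 2, 2, 0, -3, 1⟩, 3107),
  (⟨3, 1, -2, 2, 2, 0, -1, -1⟩, 3117),
  (⟨3, 1, -2, 2, 2, 0, 1, 1⟩, 3129),
  (⟨3, 1, -2, 2, 2, 0, 3, -1⟩, 3143),
  (⟨3, 1, -1, -1, -4, 0, -2, 0⟩, 213),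
  (⟨3, 1, -1, -1, -4, 0, 0, -2⟩, 6574),
  (⟨3, 1, -1, -1, -4, 0, 0, 2⟩, 6432),
  (⟨3, 1, -1, -1, -4, 0, 2, 0⟩, 3802),
  (⟨3, 1, -1, -1, -2, -2, -2, 0⟩, 854)]

set_option maxRecDepth 1000000 in
def xPairs7 : List (Z8 × Nat) := [
  (⟨3, 1, -1, -1, -2, -2, 0, -2⟩, 1289),
  (⟨3, 1, -1, -1, -2, -2, 0, 2⟩, 1157),
  (⟨3, 1, -1, -1, -2, -2, 2, 0⟩, 1363),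
  (⟨3, 1, -1, -1, -2, 2, -2, 0⟩, 691),
  (⟨3, 1, -1, -1, -2, 2, 0, -2⟩, 666),
  (⟨3, 1, -1, -1, -2, 2, 0, 2⟩, 6065),
  (⟨3, 1, -1, -1, -2, 2, 2, 0⟩, 683),
  (⟨3, 1, -1, -1, 0, 0, -6, 0⟩, 7620),
  (⟨3, 1, -1, -1, 0, 0, -4, -2⟩, 1689),
  (⟨3, 1, -1, -1, 0, 0, -4, 2⟩, 2750),
  (⟨3, 1, -1, -1, 0, 0, -2, 0⟩, 877),
  (⟨3, 1, -1, -1, 0, 0, 0, -2⟩, 1754),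
  (⟨3, 1, -1, -1, 0, 0, 0, 2⟩, 2778),
  (⟨3, 1, -1, -1, 0, 0, 2, 0⟩, 365),
  (⟨3, 1, -1, -1, 0, 0, 4, -2⟩, 2887),
  (⟨3, 1, -1, -1, 0, 0, 4, 2⟩, 1817),
  (⟨3, 1, -1, -1, 0, 0, 6, 0⟩, 7747),
  (⟨3, 1, -1, -1, 2, -2, -2, 0⟩, 808),
  (⟨3, 1, -1, -1, 2, -2, 0, -2⟩, 6194),
  (⟨3, 1, -1, -1, 2, -2, 0, 2⟩, 797),
  (⟨3, 1, -1, -1, 2, -2, 2, 0⟩, 816),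
  (⟨3, 1, -1, -1, 2, 2, -2, 0⟩, 1494),
  (⟨3, 1, -1, -1, 2, 2, 0, -2⟩, 1544),
  (⟨3, 1, -1, -1, 2, 2, 0, 2⟩, 1418),
  (⟨3, 1, -1, -1, 2, 2, 2, 0⟩, 723),
  (⟨3, 1, -1, -1, 4, 0, -2, 0⟩, 474),
  (⟨3, 1, -1, -1, 4, 0, 0, -2⟩, 6815),
  (⟨3, 1, -1, -1, 4, 0, 0, 2⟩, 6709),
  (⟨3, 1, -1, -1, 4, 0, 2, 0⟩, 596),
  (⟨3, 1, -1, 1, -5, 1, -3, -1⟩, 3228),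
  (⟨3, 1, -1, 1, -5, 1, -1, 1⟩, 3007),
  (⟨3, 1, -1, 1, -5, 1, 1, -1⟩, 3003),
  (⟨3, 1, -1, 1, -5, 1, 3, 1⟩, 2983),
  (⟨3, 1, -1, 1, -3, -1, -5, 1⟩, 6966),
  (⟨3, 1, -1, 1, -3, -1, -3, -1⟩, 215),
  (⟨3, 1, -1, 1, -3, -1, -1, 1⟩, 3034),
  (⟨3, 1, -1, 1, -3, -1, 1, -1⟩, 3033),
  (⟨3, 1, -1, 1, -3, -1, 3, 1⟩, 3027),
  (⟨3, 1, -1, 1, -3, -1, 5, -1⟩, 300),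
  (⟨3, 1, -1, 1, -1, 1, -5, 1⟩, 3272),
  (⟨3, 1, -1, 1, -1, 1, -3, -1⟩, 3284),
  (⟨3, 1, -1, 1, -1, 1, -1, 1⟩, 2791),
  (⟨3, 1, -1, 1, -1, 1, 1, -1⟩, 3433),
  (⟨3, 1, -1, 1, -1, 1, 3, 1⟩, 3418),
  (⟨3, 1, -1, 1, -1, 1, 5, -1⟩, 3363),
  (⟨3, 1, -1, 1, 1, -1, -5, 1⟩, 3492),
  (⟨3, 1, -1, 1, 1, -1, -3, -1⟩, 986),
  (⟨3, 1, -1, 1, 1, -1, -1, 1⟩, 3562),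
  (⟨3, 1, -1, 1, 1, -1, 1, -1⟩, 2919),
  (⟨3, 1, -1, 1, 1, -1, 3, 1⟩, 3669),
  (⟨3, 1, -1, 1, 1, -1, 5, -1⟩, 3657),
  (⟨3, 1, -1, 1, 3, 1, -5, 1⟩, 423),
  (⟨3, 1, -1, 1, 3, 1, -3, -1⟩, 3158),
  (⟨3, 1, -1, 1, 3, 1, -1, 1⟩, 3160),
  (⟨3, 1, -1, 1, 3, 1, 1, -1⟩, 1626),
  (⟨3, 1, -1, 1, 3, 1, 3, 1⟩, 1111),
  (⟨3, 1, -1, 1, 3, 1, 5, -1⟩, 7357),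
  (⟨3, 1, -1, 1, 5, -1, -3, -1⟩, 3116),
  (⟨3, 1, -1, 1, 5, -1, -1, 1⟩, 3128),
  (⟨3, 1, -1, 1, 5, -1, 1, -1⟩, 3142),
  (⟨3, 1, -1, 1, 5, -1, 3, 1⟩, 3611),
  (⟨3, 1, -1, 3, 0, 0, -2, 0⟩, 3101),
  (⟨3, 1, -1, 3, 0, 0, 2, 0⟩, 2970),
  (⟨3, 1, 0, -2, -5, -1, 0, 0⟩, 3724),
  (⟨3, 1, 0, -2, -3, 1, -4, 0⟩, 692),
  (⟨3, 1, 0, -2, -3, 1, 0, 0⟩, 685),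
  (⟨3, 1, 0, -2, -3, 1, 4, 0⟩, 677),
  (⟨3, 1, 0, -2, -1, -1, -4, 0⟩, 8000),
  (⟨3, 1, 0, -2, -1, -1, -2, -2⟩, 1666),
  (⟨3, 1, 0, -2, -1, -1, -2, 2⟩, 1206),
  (⟨3, 1, 0, -2, -1, -1, 0, 0⟩, 852),
  (⟨3, 1, 0, -2, -1, -1, 2, -2⟩, 6555),
  (⟨3, 1, 0, -2, -1, -1, 2, 2⟩, 1802),
  (⟨3, 1, 0, -2, -1, -1, 4, 0⟩, 8110),
  (⟨3, 1, 0, -2, 1, 1, -4, 0⟩, 8245),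
  (⟨3, 1, 0, -2, 1, 1, -2, -2⟩, 1673),
  (⟨3, 1, 0, -2, 1, 1, -2, 2⟩, 6684),
  (⟨3, 1, 0, -2, 1, 1, 0, 0⟩, 725),
  (⟨3, 1, 0, -2, 1, 1, 2, -2⟩, 1597),
  (⟨3, 1, 0, -2, 1, 1, 2, 2⟩, 1793),
  (⟨3, 1, 0, -2, 1, 1, 4, 0⟩, 8389),
  (⟨3, 1, 0, -2, 3, -1, -4, 0⟩, 802),
  (⟨3, 1, 0, -2, 3, -1, 0, 0⟩, 806),
  (⟨3, 1, 0, -2, 3, -1, 4, 0⟩, 815),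
  (⟨3, 1, 0, -2, 5, 1, 0, 0⟩, 3851),
  (⟨3, 1, 0, 0, -6, 0, -3, 1⟩, 161),
  (⟨3, 1, 0, 0, -6, 0, -1, -1⟩, 7498),
  (⟨3, 1, 0, 0, -6, 0, 1, 1⟩, 7470),
  (⟨3, 1, 0, 0, -6, 0, 3, -1⟩, 7458),
  (⟨3, 1, 0, 0, -4, -2, -3, 1⟩, 1162),
  (⟨3, 1, 0, 0, -4, -2, -1, -1⟩, 1305),
  (⟨3, 1, 0, 0, -4, -2, 1, 1⟩, 1177),
  (⟨3, 1, 0, 0, -4, -2, 3, -1⟩, 1283),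
  (⟨3, 1, 0, 0, -4, 2, -3, 1⟩, 3217),
  (⟨3, 1, 0, 0, -4, 2, -1, -1⟩, 3235),
  (⟨3, 1, 0, 0, -4, 2, 1, 1⟩, 3404),
  (⟨3, 1, 0, 0, -4, 2, 3, -1⟩, 3346),
  (⟨3, 1, 0, 0, -2, 0, -5, -1⟩, 7635),
  (⟨3, 1, 0, 0, -2, 0, -3, 1⟩, 2793),
  (⟨3, 1, 0, 0, -2, 0, -1, -1⟩, 237),
  (⟨3, 1, 0, 0, -2, 0, -1, 3⟩, 1179),
  (⟨3, 1, 0, 0, -2, 0, 1, -3⟩, 2868),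
  (⟨3, 1, 0, 0, -2, 0, 1, 1⟩, 1261),
  (⟨3, 1, 0, 0, -2, 0, 3, -1⟩, 363),
  (⟨3, 1, 0, 0, -2, 0, 5, 1⟩, 338),
  (⟨3, 1, 0, 0, 0, -2, -5, -1⟩, 3464),
  (⟨3, 1, 0, 0, 0, -2, -3, 1⟩, 3499),
  (⟨3, 1, 0, 0, 0, -2, -1, -1⟩, 1368),
  (⟨3, 1, 0, 0, 0, -2, 1, 1⟩, 3673),
  (⟨3, 1, 0, 0, 0, -2, 3, -1⟩, 1318),
  (⟨3, 1, 0, 0, 0, -2, 5, 1⟩, 3591),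
  (⟨3, 1, 0, 0, 0, 2, -5, -1⟩, 3206),
  (⟨3, 1, 0, 0, 0, 2, -3, 1⟩, 1453),
  (⟨3, 1, 0, 0, 0, 2, -1, -1⟩, 3288),
  (⟨3, 1, 0, 0, 0, 2, 1, 1⟩, 1497),
  (⟨3, 1, 0, 0, 0, 2, 3, -1⟩, 3368),
  (⟨3, 1, 0, 0, 0, 2, 5, 1⟩, 3333),
  (⟨3, 1, 0, 0, 2, 0, -5, -1⟩, 465),
  (⟨3, 1, 0, 0, 2, 0, -3, 1⟩, 488),
  (⟨3, 1, 0, 0, 2, 0, -1, -1⟩, 2925),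
  (⟨3, 1, 0, 0, 2, 0, -1, 3⟩, 2735),
  (⟨3, 1, 0, 0, 2, 0, 1, -3⟩, 1564),
  (⟨3, 1, 0, 0, 2, 0, 1, 1⟩, 3693),
  (⟨3, 1, 0, 0, 2, 0, 3, -1⟩, 2922),
  (⟨3, 1, 0, 0, 2, 0, 5, 1⟩, 7766),
  (⟨3, 1, 0, 0, 4, -2, -3, 1⟩, 3475),
  (⟨3, 1, 0, 0, 4, -2, -1, -1⟩, 3533),
  (⟨3, 1, 0, 0, 4, -2, 1, 1⟩, 3620),
  (⟨3, 1, 0, 0, 4, -2, 3, -1⟩, 3604),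
  (⟨3, 1, 0, 0, 4, 2, -3, 1⟩, 1412),
  (⟨3, 1, 0, 0, 4, 2, -1, -1⟩, 1561),
  (⟨3, 1, 0, 0, 4, 2, 1, 1⟩, 1433),
  (⟨3, 1, 0, 0, 4, 2, 3, -1⟩, 1545),
  (⟨3, 1, 0, 0, 6, 0, -3, 1⟩, 7845),
  (⟨3, 1, 0, 0, 6, 0, -1, -1⟩, 7861),
  (⟨3, 1, 0, 0, 6, 0, 1, 1⟩, 7883),
  (⟨3, 1, 0, 0, 6, 0, 3, -1⟩, 542),
  (⟨3, 1, 0, 2, -5, -1, 0, 0⟩, 2946),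
  (⟨3, 1, 0, 2, -3, 1, -4, 0⟩, 3230),
  (⟨3, 1, 0, 2, -3, 1, 0, 0⟩, 2984),
  (⟨3, 1, 0, 2, -3, 1, 4, 0⟩, 2971),
  (⟨3, 1, 0, 2, -1, -1, -4, 0⟩, 6986),
  (⟨3, 1, 0, 2, -1, -1, -2, -2⟩, 899),
  (⟨3, 1, 0, 2, -1, -1, -2, 2⟩, 1204),
  (⟨3, 1, 0, 2, -1, -1, 0, 0⟩, 3028),
  (⟨3, 1, 0, 2, -1, -1, 2, -2⟩, 946),
  (⟨3, 1, 0, 2, -1, -1, 2, 2⟩, 1036),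
  (⟨3, 1, 0, 2, -1, -1, 4, 0⟩, 7107),
  (⟨3, 1, 0, 2, 1, 1, -4, 0⟩, 7236),
  (⟨3, 1, 0, 2, 1, 1, -2, -2⟩, 907),
  (⟨3, 1, 0, 2, 1, 1, -2, 2⟩, 1073),
  (⟨3, 1, 0, 2, 1, 1, 0, 0⟩, 3157),
  (⟨3, 1, 0, 2, 1, 1, 2, -2⟩, 1583),
  (⟨3, 1, 0, 2, 1, 1, 2, 2⟩, 1028),
  (⟨3, 1, 0, 2, 1, 1, 4, 0⟩, 7371),
  (⟨3, 1, 0, 2, 3, -1, -4, 0⟩, 3100),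
  (⟨3, 1, 0, 2, 3, -1, 0, 0⟩, 3115),
  (⟨3, 1, 0, 2, 3, -1, 4, 0⟩, 3617),
  (⟨3, 1, 0, 2, 5, 1, 0, 0⟩, 3073),
  (⟨3, 1, 1, -3, 0, 0, -2, 0⟩, 1724),
  (⟨3, 1, 1, -3, 0, 0, 2, 0⟩, 1847),
  (⟨3, 1, 1, -1, -5, 1, -3, -1⟩, 3242),
  (⟨3, 1, 1, -1, -5, 1, -1, 1⟩, 3784),
  (⟨3, 1, 1, -1, -5, 1, 1, -1⟩, 3774),
  (⟨3, 1, 1, -1, -5, 1, 3, 1⟩, 3759),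
  (⟨3, 1, 1, -1, -3, -1, -5, 1⟩, 7977),
  (⟨3, 1, 1, -1, -3, -1, -3, -1⟩, 1746),
  (⟨3, 1, 1, -1, -3, -1, -1, 1⟩, 1240),
  (⟨3, 1, 1, -1, -3, -1, 1, -1⟩, 3803),
  (⟨3, 1, 1, -1, -3, -1, 3, 1⟩, 8151),
  (⟨3, 1, 1, -1, -3, -1, 5, -1⟩, 1330),
  (⟨3, 1, 1, -1, -1, 1, -5, 1⟩, 3276),
  (⟨3, 1, 1, -1, -1, 1, -3, -1⟩, 3291),
  (⟨3, 1, 1, -1, -1, 1, -1, 1⟩, 1899),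
  (⟨3, 1, 1, -1, -1, 1, 1, -1⟩, 743),
  (⟨3, 1, 1, -1, -1, 1, 3, 1⟩, 1876),
  (⟨3, 1, 1, -1, -1, 1, 5, -1⟩, 3387),
  (⟨3, 1, 1, -1, 1, -1, -5, 1⟩, 3512),
  (⟨3, 1, 1, -1, 1, -1, -3, -1⟩, 1749),
  (⟨3, 1, 1, -1, 1, -1, -1, 1⟩, 871),
  (⟨3, 1, 1, -1, 1, -1, 1, -1⟩, 1768),
  (⟨3, 1, 1, -1, 1, -1, 3, 1⟩, 1883),
  (⟨3, 1, 1, -1, 1, -1, 5, -1⟩, 3661),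
  (⟨3, 1, 1, -1, 3, 1, -5, 1⟩, 1457),
  (⟨3, 1, 1, -1, 3, 1, -3, -1⟩, 3927),
  (⟨3, 1, 1, -1, 3, 1, -1, 1⟩, 1499),
  (⟨3, 1, 1, -1, 3, 1, 1, -1⟩, 1625),
  (⟨3, 1, 1, -1, 3, 1, 3, 1⟩, 1873),
  (⟨3, 1, 1, -1, 3, 1, 5, -1⟩, 8362),
  (⟨3, 1, 1, -1, 5, -1, -3, -1⟩, 3892),
  (⟨3, 1, 1, -1, 5, -1, -1, 1⟩, 3911),
  (⟨3, 1, 1, -1, 5, -1, 1, -1⟩, 3913),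
  (⟨3, 1, 1, -1, 5, -1, 3, 1⟩, 3625),
  (⟨3, 1, 1, 1, -4, 0, -2, 0⟩, 3035),
  (⟨3, 1, 1, 1, -4, 0, 0, -2⟩, 8654),
  (⟨3, 1, 1, 1, -4, 0, 0, 2⟩, 8522),
  (⟨3, 1, 1, 1, -4, 0, 2, 0⟩, 3029),
  (⟨3, 1, 1, 1, -2, -2, -2, 0⟩, 3538),
  (⟨3, 1, 1, 1, -2, -2, 0, -2⟩, 1286),
  (⟨3, 1, 1, 1, -2, -2, 0, 2⟩, 1156),
  (⟨3, 1, 1, 1, -2, -2, 2, 0⟩, 1361),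
  (⟨3, 1, 1, 1, -2, 2, -2, 0⟩, 3238),
  (⟨3, 1, 1, 1, -2, 2, 0, -2⟩, 1981),
  (⟨3, 1, 1, 1, -2, 2, 0, 2⟩, 1468),
  (⟨3, 1, 1, 1, -2, 2, 2, 0⟩, 3376),
  (⟨3, 1, 1, 1, 0, 0, -6, 0⟩, 7616),
  (⟨3, 1, 1, 1, 0, 0, -4, -2⟩, 921),
  (⟨3, 1, 1, 1, 0, 0, -4, 2⟩, 4038),
  (⟨3, 1, 1, 1, 0, 0, -2, 0⟩, 3565),
  (⟨3, 1, 1, 1, 0, 0, 0, -2⟩, 4187),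
  (⟨3, 1, 1, 1, 0, 0, 0, 2⟩, 1115),
  (⟨3, 1, 1, 1, 0, 0, 2, 0⟩, 3053),
  (⟨3, 1, 1, 1, 0, 0, 4, -2⟩, 4159),
  (⟨3, 1, 1, 1, 0, 0, 4, 2⟩, 1049),
  (⟨3, 1, 1, 1, 0, 0, 6, 0⟩, 7749),
  (⟨3, 1, 1, 1, 2, -2, -2, 0⟩, 3507),
  (⟨3, 1, 1, 1, 2, -2, 0, -2⟩, 1335),
  (⟨3, 1, 1, 1, 2, -2, 0, 2⟩, 2102),
  (⟨3, 1, 1, 1, 2, -2, 2, 0⟩, 3629),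
  (⟨3, 1, 1, 1, 2, 2, -2, 0⟩, 1490),
  (⟨3, 1, 1, 1, 2, 2, 0, -2⟩, 1539),
  (⟨3, 1, 1, 1, 2, 2, 0, 2⟩, 1415),
  (⟨3, 1, 1, 1, 2, 2, 2, 0⟩, 3409),
  (⟨3, 1, 1, 1, 4, 0, -2, 0⟩, 3156),
  (⟨3, 1, 1, 1, 4, 0, 0, -2⟩, 8907),
  (⟨3, 1, 1, 1, 4, 0, 0, 2⟩, 8783),
  (⟨3, 1, 1, 1, 4, 0, 2, 0⟩, 2651),
  (⟨3, 1, 2, -2, -2, 0, -3, 1⟩, 3789),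
  (⟨3, 1, 2, -2, -2, 0, -1, -1⟩, 1707),
  (⟨3, 1, 2, -2, -2, 0, 1, 1⟩, 1850),
  (⟨3, 1, 2, -2, -2, 0, 3, -1⟩, 3775),
  (⟨3, 1, 2, -2, 0, -2, -1, -1⟩, 1693),
  (⟨3, 1, 2, -2, 0, -2, 1, 1⟩, 796),
  (⟨3, 1, 2, -2, 0, 2, -1, -1⟩, 667),
  (⟨3, 1, 2, -2, 0, 2, 1, 1⟩, 1818),
  (⟨3, 1, 2, -2, 2, 0, -3, 1⟩, 3910),
  (⟨3, 1, 2, -2, 2, 0, -1, -1⟩, 1721),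
  (⟨3, 1, 2, -2, 2, 0, 1, 1⟩, 1832),
  (⟨3, 1, 2, -2, 2, 0, 3, -1⟩, 3916),
  (⟨3, 1, 2, 0, -5, -1, -4, 0⟩, 2183),
  (⟨3, 1, 2, 0, -5, -1, 0, 0⟩, 2259),
  (⟨3, 1, 2, 0, -5, -1, 4, 0⟩, 2313),
  (⟨3, 1, 2, 0, -3, 1, -4, 0⟩, 3248),
  (⟨3, 1, 2, 0, -3, 1, -2, -2⟩, 9028),
  (⟨3, 1, 2, 0, -3, 1, -2, 2⟩, 4024),
  (⟨3, 1, 2, 0, -3, 1, 0, 0⟩, 3304),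
  (⟨3, 1, 2, 0, -3, 1, 2, -2⟩, 4172),
  (⟨3, 1, 2, 0, -3, 1, 2, 2⟩, 9167),
  (⟨3, 1, 2, 0, -3, 1, 4, 0⟩, 2369),
  (⟨3, 1, 2, 0, -1, -1, -4, 0⟩, 3540),
  (⟨3, 1, 2, 0, -1, -1, -2, -2⟩, 1745),
  (⟨3, 1, 2, 0, -1, -1, -2, 2⟩, 1192),
  (⟨3, 1, 2, 0, -1, -1, 0, 0⟩, 1389),
  (⟨3, 1, 2, 0, -1, -1, 2, -2⟩, 1345),
  (⟨3, 1, 2, 0, -1, -1, 2, 2⟩, 1233),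
  (⟨3, 1, 2, 0, -1, -1, 4, 0⟩, 2392),
  (⟨3, 1, 2, 0, -1, 3, 0, 0⟩, 3254),
  (⟨3, 1, 2, 0, 1, -3, 0, 0⟩, 3645),
  (⟨3, 1, 2, 0, 1, 1, -4, 0⟩, 2521),
  (⟨3, 1, 2, 0, 1, 1, -2, -2⟩, 1618),
  (⟨3, 1, 2, 0, 1, 1, -2, 2⟩, 4033),
  (⟨3, 1, 2, 0, 1, 1, 0, 0⟩, 109),
  (⟨3, 1, 2, 0, 1, 1, 2, -2⟩, 1579),
  (⟨3, 1, 2, 0, 1, 1, 2, 2⟩, 1874),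
  (⟨3, 1, 2, 0, 1, 1, 4, 0⟩, 3413),
  (⟨3, 1, 2, 0, 3, -1, -4, 0⟩, 3521),
  (⟨3, 1, 2, 0, 3, -1, -2, -2⟩, 9294),
  (⟨3, 1, 2, 0, 3, -1, -2, 2⟩, 4045),
  (⟨3, 1, 2, 0, 3, -1, 0, 0⟩, 3691),
  (⟨3, 1, 2, 0, 3, -1, 2, -2⟩, 4155),
  (⟨3, 1, 2, 0, 3, -1, 2, 2⟩, 9411),
  (⟨3, 1, 2, 0, 3, -1, 4, 0⟩, 3635),
  (⟨3, 1, 2, 0, 5, 1, -4, 0⟩, 2442),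
  (⟨3, 1, 2, 0, 5, 1, 0, 0⟩, 2646),
  (⟨3, 1, 2, 0, 5, 1, 4, 0⟩, 2566),
  (⟨3, 1, 2, 2, -2, 0, -3, 1⟩, 8527),
  (⟨3, 1, 2, 2, -2, 0, -1, -1⟩, 3030),
  (⟨3, 1, 2, 2, -2, 0, 1, 1⟩, 3025),
  (⟨3, 1, 2, 2, -2, 0, 3, -1⟩, 8650),
  (⟨3, 1, 2, 2, 0, -2, -1, -1⟩, 2060),
  (⟨3, 1, 2, 2, 0, -2, 1, 1⟩, 2053),
  (⟨3, 1, 2, 2, 0, 2, -1, -1⟩, 1928),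
  (⟨3, 1, 2, 2, 0, 2, 1, 1⟩, 1931),
  (⟨3, 1, 2, 2, 2, 0, -3, 1⟩, 8779),
  (⟨3, 1, 2, 2, 2, 0, -1, -1⟩, 3154),
  (⟨3, 1, 2, 2, 2, 0, 1, 1⟩, 3155),
  (⟨3, 1, 2, 2, 2, 0, 3, -1⟩, 8910),
  (⟨3, 1, 3, -1, -4, 0, -2, 0⟩, 2233),
  (⟨3, 1, 3, -1, -4, 0, 0, -2⟩, 1694),
  (⟨3, 1, 3, -1, -4, 0, 0, 2⟩, 1853),
  (⟨3, 1, 3, -1, -4, 0, 2, 0⟩, 3760),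
  (⟨3, 1, 3, -1, -2, -2, -2, 0⟩, 7982),
  (⟨3, 1, 3, -1, -2, -2, 2, 0⟩, 8131),
  (⟨3, 1, 3, -1, -2, 2, -2, 0⟩, 3263),
  (⟨3, 1, 3, -1, -2, 2, 2, 0⟩, 3401),
  (⟨3, 1, 3, -1, 0, 0, -6, 0⟩, 2469),
  (⟨3, 1, 3, -1, 0, 0, -4, -2⟩, 1665),
  (⟨3, 1, 3, -1, 0, 0, -4, 2⟩, 3991),
  (⟨3, 1, 3, -1, 0, 0, -2, 0⟩, 1770),
  (⟨3, 1, 3, -1, 0, 0, 0, -2⟩, 1702),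
  (⟨3, 1, 3, -1, 0, 0, 0, 2⟩, 1837),
  (⟨3, 1, 3, -1, 0, 0, 2, 0⟩, 1897),
  (⟨3, 1, 3, -1, 0, 0, 4, -2⟩, 4120),
  (⟨3, 1, 3, -1, 0, 0, 4, 2⟩, 1794),
  (⟨3, 1, 3, -1, 0, 0, 6, 0⟩, 2338),
  (⟨3, 1, 3, -1, 2, -2, -2, 0⟩, 3528),
  (⟨3, 1, 3, -1, 2, -2, 2, 0⟩, 3654),
  (⟨3, 1, 3, -1, 2, 2, -2, 0⟩, 8260),
  (⟨3, 1, 3, -1, 2, 2, 2, 0⟩, 8373),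
  (⟨3, 1, 3, -1, 4, 0, -2, 0⟩, 3891),
  (⟨3, 1, 3, -1, 4, 0, 0, -2⟩, 1718),
  (⟨3, 1, 3, -1, 4, 0, 0, 2⟩, 1825),
  (⟨3, 1, 3, -1, 4, 0, 2, 0⟩, 2618),
  (⟨3, 1, 3, 1, -5, 1, -1, 1⟩, 2217),
  (⟨3, 1, 3, 1, -5, 1, 1, -1⟩, 1980),
  (⟨3, 1, 3, 1, -3, -1, -3, -1⟩, 2201),
  (⟨3, 1, 3, 1, -3, -1, -1, 1⟩, 1238),
  (⟨3, 1, 3, 1, -3, -1, 1, -1⟩, 1367),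
  (⟨3, 1, 3, 1, -3, -1, 3, 1⟩, 2329),
  (⟨3, 1, 3, 1, -1, 1, -5, 1⟩, 4012),
  (⟨3, 1, 3, 1, -1, 1, -3, -1⟩, 3281),
  (⟨3, 1, 3, 1, -1, 1, -1, 1⟩, 4052),
  (⟨3, 1, 3, 1, -1, 1, 1, -1⟩, 2009),
  (⟨3, 1, 3, 1, -1, 1, 3, 1⟩, 2391),
  (⟨3, 1, 3, 1, -1, 1, 5, -1⟩, 3357),
  (⟨3, 1, 3, 1, 1, -1, -5, 1⟩, 3482),
  (⟨3, 1, 3, 1, 1, -1, -3, -1⟩, 3543),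
  (⟨3, 1, 3, 1, 1, -1, -1, 1⟩, 2136),
  (⟨3, 1, 3, 1, 1, -1, 1, -1⟩, 4181),
  (⟨3, 1, 3, 1, 1, -1, 3, 1⟩, 3666),
  (⟨3, 1, 3, 1, 1, -1, 5, -1⟩, 4135),
  (⟨3, 1, 3, 1, 3, 1, -3, -1⟩, 2457),
  (⟨3, 1, 3, 1, 3, 1, -1, 1⟩, 4055),
  (⟨3, 1, 3, 1, 3, 1, 1, -1⟩, 1619),
  (⟨3, 1, 3, 1, 3, 1, 3, 1⟩, 2585),
  (⟨3, 1, 3, 1, 5, -1, -1, 1⟩, 2103),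
  (⟨3, 1, 3, 1, 5, -1, 1, -1⟩, 2602),
  (⟨3, 1, 4, -2, -3, 1, 0, 0⟩, 3733),
  (⟨3, 1, 4, -2, -1, -1, 0, 0⟩, 3785),
  (⟨3, 1, 4, -2, 1, 1, 0, 0⟩, 3912),
  (⟨3, 1, 4, -2, 3, -1, 0, 0⟩, 3862),
  (⟨3, 1, 4, 0, -2, 0, -5, -1⟩, 2186),
  (⟨3, 1, 4, 0, -2, 0, -3, 1⟩, 2242),
  (⟨3, 1, 4, 0, -2, 0, -1, -1⟩, 2264),
  (⟨3, 1, 4, 0, -2, 0, 1, 1⟩, 4058),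
  (⟨3, 1, 4, 0, -2, 0, 3, -1⟩, 2362),
  (⟨3, 1, 4, 0, -2, 0, 5, 1⟩, 2305),
  (⟨3, 1, 4, 0, 0, -2, -3, 1⟩, 3486),
  (⟨3, 1, 4, 0, 0, -2, -1, -1⟩, 9280),
  (⟨3, 1, 4, 0, 0, -2, 1, 1⟩, 9423),
  (⟨3, 1, 4, 0, 0, -2, 3, -1⟩, 1306),
  (⟨3, 1, 4, 0, 0, 2, -3, 1⟩, 1437),
  (⟨3, 1, 4, 0, 0, 2, -1, -1⟩, 9038),
  (⟨3, 1, 4, 0, 0, 2, 1, 1⟩, 9157),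
  (⟨3, 1, 4, 0, 0, 2, 3, -1⟩, 3361),
  (⟨3, 1, 4, 0, 2, 0, -5, -1⟩, 2434),
  (⟨3, 1, 4, 0, 2, 0, -3, 1⟩, 2489),
  (⟨3, 1, 4, 0, 2, 0, -1, -1⟩, 2522),
  (⟨3, 1, 4, 0, 2, 0, 1, 1⟩, 2649),
  (⟨3, 1, 4, 0, 2, 0, 3, -1⟩, 4162),
  (⟨3, 1, 4, 0, 2, 0, 5, 1⟩, 2569),
  (⟨3, 1, 4, 2, -3, 1, 0, 0⟩, 1927),
  (⟨3, 1, 4, 2, -1, -1, 0, 0⟩, 2073),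
  (⟨3, 1, 4, 2, 1, 1, 0, 0⟩, 1945),
  (⟨3, 1, 4, 2, 3, -1, 0, 0⟩, 2054),
  (⟨3, 1, 5, -1, -3, -1, -1, 1⟩, 2215),
  (⟨3, 1, 5, -1, -3, -1, 1, -1⟩, 3761),
  (⟨3, 1, 5, -1, -1, 1, -3, -1⟩, 1705),
  (⟨3, 1, 5, -1, -1, 1, -1, 1⟩, 4030),
  (⟨3, 1, 5, -1, -1, 1, 1, -1⟩, 4173),
  (⟨3, 1, 5, -1, -1, 1, 3, 1⟩, 1820),
  (⟨3, 1, 5, -1, 1, -1, -3, -1⟩, 1691),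
  (⟨3, 1, 5, -1, 1, -1, -1, 1⟩, 4044),
  (⟨3, 1, 5, -1, 1, -1, 1, -1⟩, 4167),
  (⟨3, 1, 5, -1, 1, -1, 3, 1⟩, 1834),
  (⟨3, 1, 5, -1, 3, 1, -1, 1⟩, 3890),
  (⟨3, 1, 5, -1, 3, 1, 1, -1⟩, 2604),
  (⟨3, 1, 5, 1, -4, 0, -2, 0⟩, 2177),
  (⟨3, 1, 5, 1, -4, 0, 2, 0⟩, 2312),
  (⟨3, 1, 5, 1, 0, 0, -2, 0⟩, 2515),
  (⟨3, 1, 5, 1, 0, 0, 0, -2⟩, 4100),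
  (⟨3, 1, 5, 1, 0, 0, 0, 2⟩, 3971),
  (⟨3, 1, 5, 1, 0, 0, 2, 0⟩, 2390),
  (⟨3, 1, 5, 1, 4, 0, -2, 0⟩, 2437),
  (⟨3, 1, 5, 1, 4, 0, 2, 0⟩, 2562),
  (⟨3, 1, 6, 0, -3, 1, 0, 0⟩, 2210),
  (⟨3, 1, 6, 0, -1, -1, 0, 0⟩, 9550),
  (⟨3, 1, 6, 0, 1, 1, 0, 0⟩, 9551),
  (⟨3, 1, 6, 0, 3, -1, 0, 0⟩, 2597),
  (⟨3, 3, -2, 0, 0, 0, -1, 1⟩, 2692),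
  (⟨3, 3, -2, 0, 0, 0, 1, -1⟩, 2819),
  (⟨3, 3, -1, 1, -2, 0, 0, 0⟩, 2955),
  (⟨3, 3, -1, 1, 2, 0, 0, 0⟩, 3084),
  (⟨3, 3, 0, 0, -1, 1, -2, 0⟩, 3207),
  (⟨3, 3, 0, 0, -1, 1, 2, 0⟩, 3336),
  (⟨3, 3, 0, 0, 1, -1, -2, 0⟩, 3461),
  (⟨3, 3, 0, 0, 1, -1, 2, 0⟩, 3590),
  (⟨3, 3, 1, -1, -2, 0, 0, 0⟩, 3713),
  (⟨3, 3, 1, -1, 2, 0, 0, 0⟩, 3842),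
  (⟨3, 3, 2, 0, 0, 0, -1, 1⟩, 3978),
  (⟨3, 3, 2, 0, 0, 0, 1, -1⟩, 4105),
  (⟨4, -2, -4, 0, -1, -1, -1, 1⟩, 4238),
  (⟨4, -2, -4, 0, -1, -1, 1, -1⟩, 4243),
  (⟨4, -2, -4, 0, 1, 1, -1, 1⟩, 4370),
  (⟨4, -2, -4, 0, 1, 1, 1, -1⟩, 4365),
  (⟨4, -2, -3, -1, 0, 0, -3, 1⟩, 4502),
  (⟨4, -2, -3, -1, 0, 0, -1, -1⟩, 4552),
  (⟨4, -2, -3, -1, 0, 0, 1, 1⟩, 4681),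
  (⟨4, -2, -3, -1, 0, 0, 3, -1⟩, 4629),
  (⟨4, -2, -3, 1, -3, -1, 0, 0⟩, 4244),
  (⟨4, -2, -3, 1, -1, 1, 0, 0⟩, 4432),
  (⟨4, -2, -3, 1, 1, -1, 0, 0⟩, 4304),
  (⟨4, -2, -3, 1, 3, 1, 0, 0⟩, 4369),
  (⟨4, -2, -2, 0, -2, 0, -2, 0⟩, 228),
  (⟨4, -2, -2, 0, -2, 0, 0, -2⟩, 4753),
  (⟨4, -2, -2, 0, -2, 0, 0, 2⟩, 4885),
  (⟨4, -2, -2, 0, -2, 0, 2, 0⟩, 4321),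
  (⟨4, -2, -2, 0, 0, -2, -2, 0⟩, 4239),
  (⟨4, -2, -2, 0, 0, -2, 2, 0⟩, 4237),
  (⟨4, -2, -2, 0, 0, 2, -2, 0⟩, 4366),
  (⟨4, -2, -2, 0, 0, 2, 2, 0⟩, 4368),
  (⟨4, -2, -2, 0, 2, 0, -2, 0⟩, 4446),
  (⟨4, -2, -2, 0, 2, 0, 0, -2⟩, 5014),
  (⟨4, -2, -2, 0, 2, 0, 0, 2⟩, 5140),
  (⟨4, -2, -2, 0, 2, 0, 2, 0⟩, 4452),
  (⟨4, -2, -1, -1, -3, -1, 0, 0⟩, 4260),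
  (⟨4, -2, -1, -1, -1, 1, -4, 0⟩, 4499),
  (⟨4, -2, -1, -1, -1, 1, 0, 0⟩, 4445),
  (⟨4, -2, -1, -1, -1, 1, 4, 0⟩, 4630),
  (⟨4, -2, -1, -1, 1, -1, -4, 0⟩, 4501),
  (⟨4, -2, -1, -1, 1, -1, 0, 0⟩, 4316),
  (⟨4, -2, -1, -1, 1, -1, 4, 0⟩, 4626),
  (⟨4, -2, -1, -1, 3, 1, 0, 0⟩, 4387),
  (⟨4, -2, -1, 1, -4, 0, -1, -1⟩, 4757),
  (⟨4, -2, -1, 1, -4, 0, 1, 1⟩, 4887),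
  (⟨4, -2, -1, 1, 0, 0, -3, 1⟩, 5328),
  (⟨4, -2, -1, 1, 0, 0, -1, -1⟩, 989),
  (⟨4, -2, -1, 1, 0, 0, 1, 1⟩, 1116),
  (⟨4, -2, -1, 1, 0, 0, 3, -1⟩, 5456),
  (⟨4, -2, -1, 1, 4, 0, -1, -1⟩, 5016),
  (⟨4, -2, -1, 1, 4, 0, 1, 1⟩, 5142),
  (⟨4, -2, 0, -2, -2, 0, -2, 0⟩, 4493),
  (⟨4, -2, 0, -2, -2, 0, 2, 0⟩, 4628),
  (⟨4, -2, 0, -2, 2, 0, -2, 0⟩, 4497),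
  (⟨4, -2, 0, -2, 2, 0, 2, 0⟩, 4622),
  (⟨4, -2, 0, 0, -3, 1, -3, -1⟩, 4760),
  (⟨4, -2, 0, 0, -3, 1, -1, 1⟩, 4944),
  (⟨4, -2, 0, 0, -3, 1, 1, -1⟩, 4816),
  (⟨4, -2, 0, 0, -3, 1, 3, 1⟩, 4877),
  (⟨4, -2, 0, 0, -1, -1, -3, -1⟩, 4799),
  (⟨4, -2, 0, 0, -1, -1, -1, 1⟩, 4317),
  (⟨4, -2, 0, 0, -1, -1, 1, -1⟩, 4830),
  (⟨4, -2, 0, 0, -1, -1, 3, 1⟩, 4926),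
  (⟨4, -2, 0, 0, 1, 1, -3, -1⟩, 5063),
  (⟨4, -2, 0, 0, 1, 1, -1, 1⟩, 5217),
  (⟨4, -2, 0, 0, 1, 1, 1, -1⟩, 4444),
  (⟨4, -2, 0, 0, 1, 1, 3, 1⟩, 5190),
  (⟨4, -2, 0, 0, 3, -1, -3, -1⟩, 5006),
  (⟨4, -2, 0, 0, 3, -1, -1, 1⟩, 5200),
  (⟨4, -2, 0, 0, 3, -1, 1, -1⟩, 5072),
  (⟨4, -2, 0, 0, 3, -1, 3, 1⟩, 5143),
  (⟨4, -2, 0, 2, -2, 0, -2, 0⟩, 5267),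
  (⟨4, -2, 0, 2, -2, 0, 2, 0⟩, 5400),
  (⟨4, -2, 0, 2, 2, 0, -2, 0⟩, 5271),
  (⟨4, -2, 0, 2, 2, 0, 2, 0⟩, 5394),
  (⟨4, -2, 1, -1, -4, 0, -1, -1⟩, 4750),
  (⟨4, -2, 1, -1, -4, 0, 1, 1⟩, 4879),
  (⟨4, -2, 1, -1, 0, 0, -3, 1⟩, 4560),
  (⟨4, -2, 1, -1, 0, 0, -1, -1⟩, 5089),
  (⟨4, -2, 1, -1, 0, 0, 1, 1⟩, 4958),
  (⟨4, -2, 1, -1, 0, 0, 3, -1⟩, 4688),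
  (⟨4, -2, 1, -1, 4, 0, -1, -1⟩, 5008),
  (⟨4, -2, 1, -1, 4, 0, 1, 1⟩, 5133),
  (⟨4, -2, 1, 1, -3, -1, 0, 0⟩, 5581),
  (⟨4, -2, 1, 1, -1, 1, -4, 0⟩, 5264),
  (⟨4, -2, 1, 1, -1, 1, 0, 0⟩, 2014),
  (⟨4, -2, 1, 1, -1, 1, 4, 0⟩, 5396),
  (⟨4, -2, 1, 1, 1, -1, -4, 0⟩, 5265),
  (⟨4, -2, 1, 1, 1, -1, 0, 0⟩, 2145),
  (⟨4, -2, 1, 1, 1, -1, 4, 0⟩, 5391),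
  (⟨4, -2, 1, 1, 3, 1, 0, 0⟩, 5708),
  (⟨4, -2, 2, 0, -2, 0, -2, 0⟩, 5340),
  (⟨4, -2, 2, 0, -2, 0, 0, -2⟩, 4751),
  (⟨4, -2, 2, 0, -2, 0, 0, 2⟩, 4882),
  (⟨4, -2, 2, 0, -2, 0, 2, 0⟩, 4964),
  (⟨4, -2, 2, 0, 0, -2, -2, 0⟩, 5528),
  (⟨4, -2, 2, 0, 0, -2, 2, 0⟩, 5525),
  (⟨4, -2, 2, 0, 0, 2, -2, 0⟩, 5654),
  (⟨4, -2, 2, 0, 0, 2, 2, 0⟩, 5655),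
  (⟨4, -2, 2, 0, 2, 0, -2, 0⟩, 5348),
  (⟨4, -2, 2, 0, 2, 0, 0, -2⟩, 5011),
  (⟨4, -2, 2, 0, 2, 0, 0, 2⟩, 5136),
  (⟨4, -2, 2, 0, 2, 0, 2, 0⟩, 5469),
  (⟨4, -2, 3, -1, -3, -1, 0, 0⟩, 5523),
  (⟨4, -2, 3, -1, -1, 1, 0, 0⟩, 5712),
  (⟨4, -2, 3, -1, 1, -1, 0, 0⟩, 5584),
  (⟨4, -2, 3, -1, 3, 1, 0, 0⟩, 5650),
  (⟨4, -2, 3, 1, 0, 0, -3, 1⟩, 5263),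
  (⟨4, -2, 3, 1, 0, 0, -1, -1⟩, 5304),
  (⟨4, -2, 3, 1, 0, 0, 1, 1⟩, 5435),
  (⟨4, -2, 3, 1, 0, 0, 3, -1⟩, 5392),
  (⟨4, -2, 4, 0, -1, -1, -1, 1⟩, 5524),
  (⟨4, -2, 4, 0, -1, -1, 1, -1⟩, 5527),
  (⟨4, -2, 4, 0, 1, 1, -1, 1⟩, 5656),
  (⟨4, -2, 4, 0, 1, 1, 1, -1⟩, 5649),
  (⟨4, 0, -6, 0, -1, 1, -1, -1⟩, 5787),
  (⟨4, 0, -6, 0, -1, 1, 1, 1⟩, 5789),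
  (⟨4, 0, -6, 0, 1, -1, -1, -1⟩, 5786),
  (⟨4, 0, -6, 0, 1, -1, 1, 1⟩, 5788),
  (⟨4, 0, -5, -1, -2, 0, -3, -1⟩, 137),
  (⟨4, 0, -5, -1, -2, 0, -1, 1⟩, 196),
  (⟨4, 0, -5, -1, -2, 0, 1, -1⟩, 330),
  (⟨4, 0, -5, -1, -2, 0, 3, 1⟩, 261),
  (⟨4, 0, -5, -1, 2, 0, -3, -1⟩, 392),
  (⟨4, 0, -5, -1, 2, 0, -1, 1⟩, 459),
  (⟨4, 0, -5, -1, 2, 0, 1, -1⟩, 579),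
  (⟨4, 0, -5, -1, 2, 0, 3, 1⟩, 522),
  (⟨4, 0, -5, 1, -3, 1, -2, 0⟩, 147),
  (⟨4, 0, -5, 1, -3, 1, 2, 0⟩, 277),
  (⟨4, 0, -5, 1, -1, -1, -2, 0⟩, 200),
  (⟨4, 0, -5, 1, -1, -1, 2, 0⟩, 318),
  (⟨4, 0, -5, 1, 1, 1, -2, 0⟩, 455),
  (⟨4, 0, -5, 1, 1, 1, 2, 0⟩, 585),
  (⟨4, 0, -5, 1, 3, -1, -2, 0⟩, 406),
  (⟨4, 0, -5, 1, 3, -1, 2, 0⟩, 530),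
  (⟨4, 0, -4, -2, -1, 1, -1, -1⟩, 646),
  (⟨4, 0, -4, -2, -1, 1, 1, 1⟩, 652),
  (⟨4, 0, -4, -2, 1, -1, -1, -1⟩, 779),
  (⟨4, 0, -4, -2, 1, -1, 1, 1⟩, 775),
  (⟨4, 0, -4, 0, -4, 0, -4, 0⟩, 128),
  (⟨4, 0, -4, 0, -4, 0, 0, 0⟩, 171),
  (⟨4, 0, -4, 0, -4, 0, 4, 0⟩, 256),
  (⟨4, 0, -4, 0, -2, -2, 0, 0⟩, 4270),
  (⟨4, 0, -4, 0, -2, 2, 0, 0⟩, 712),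
  (⟨4, 0, -4, 0, 0, 0, -4, 0⟩, 429),
  (⟨4, 0, -4, 0, 0, 0, -2, -2⟩, 971),
  (⟨4, 0, -4, 0, 0, 0, -2, 2⟩, 2744),
  (⟨4, 0, -4, 0, 0, 0, 0, 0⟩, 5863),
  (⟨4, 0, -4, 0, 0, 0, 2, -2⟩, 2875),
  (⟨4, 0, -4, 0, 0, 0, 2, 2⟩, 1098),
  (⟨4, 0, -4, 0, 0, 0, 4, 0⟩, 294),
  (⟨4, 0, -4, 0, 2, -2, 0, 0⟩, 841),
  (⟨4, 0, -4, 0, 2, 2, 0, 0⟩, 4405),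
  (⟨4, 0, -4, 0, 4, 0, -4, 0⟩, 384),
  (⟨4, 0, -4, 0, 4, 0, 0, 0⟩, 552),
  (⟨4, 0, -4, 0, 4, 0, 4, 0⟩, 512),
  (⟨4, 0, -4, 2, -1, 1, -1, -1⟩, 920),
  (⟨4, 0, -4, 2, -1, 1, 1, 1⟩, 1044),
  (⟨4, 0, -4, 2, 1, -1, -1, -1⟩, 913),
  (⟨4, 0, -4, 2, 1, -1, 1, 1⟩, 1047),
  (⟨4, 0, -3, -1, -5, -1, -2, 0⟩, 130),
  (⟨4, 0, -3, -1, -5, -1, 2, 0⟩, 266),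
  (⟨4, 0, -3, -1, -3, 1, -2, 0⟩, 185),
  (⟨4, 0, -3, -1, -3, 1, 0, -2⟩, 5917),
  (⟨4, 0, -3, -1, -3, 1, 0, 2⟩, 6430),
  (⟨4, 0, -3, -1, -3, 1, 2, 0⟩, 322),
  (⟨4, 0, -3, -1, -1, -1, -2, 0⟩, 218),
  (⟨4, 0, -3, -1, -1, -1, 0, -2⟩, 1358),
  (⟨4, 0, -3, -1, -1, -1, 0, 2⟩, 1216),
  (⟨4, 0, -3, -1, -1, -1, 2, 0⟩, 344),
  (⟨4, 0, -3, -1, 1, 1, -2, 0⟩, 473),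
  (⟨4, 0, -3, -1, 1, 1, 0, -2⟩, 1605),
  (⟨4, 0, -3, -1, 1, 1, 0, 2⟩, 1487),
  (⟨4, 0, -3, -1, 1, 1, 2, 0⟩, 730),
  (⟨4, 0, -3, -1, 3, -1, -2, 0⟩, 834),
  (⟨4, 0, -3, -1, 3, -1, 0, -2⟩, 6817),
  (⟨4, 0, -3, -1, 3, -1, 0, 2⟩, 6298),
  (⟨4, 0, -3, -1, 3, -1, 2, 0⟩, 570),
  (⟨4, 0, -3, -1, 5, 1, -2, 0⟩, 393),
  (⟨4, 0, -3, -1, 5, 1, 2, 0⟩, 513),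
  (⟨4, 0, -3, 1, -2, 0, -5, 1⟩, 149),
  (⟨4, 0, -3, 1, -2, 0, -3, -1⟩, 193),
  (⟨4, 0, -3, 1, -2, 0, -1, 1⟩, 226),
  (⟨4, 0, -3, 1, -2, 0, 1, -1⟩, 358),
  (⟨4, 0, -3, 1, -2, 0, 3, 1⟩, 304),
  (⟨4, 0, -3, 1, -2, 0, 5, -1⟩, 269),
  (⟨4, 0, -3, 1, 0, -2, -3, -1⟩, 6171),
  (⟨4, 0, -3, 1, 0, -2, -1, 1⟩, 1229),
  (⟨4, 0, -3, 1, 0, -2, 1, -1⟩, 1343),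
  (⟨4, 0, -3, 1, 0, -2, 3, 1⟩, 7074),
  (⟨4, 0, -3, 1, 0, 2, -3, -1⟩, 7205),
  (⟨4, 0, -3, 1, 0, 2, -1, 1⟩, 1478),
  (⟨4, 0, -3, 1, 0, 2, 1, -1⟩, 1612),
  (⟨4, 0, -3, 1, 0, 2, 3, 1⟩, 6044),
  (⟨4, 0, -3, 1, 2, 0, -5, 1⟩, 398),
  (⟨4, 0, -3, 1, 2, 0, -3, -1⟩, 435),
  (⟨4, 0, -3, 1, 2, 0, -1, 1⟩, 1126),
  (⟨4, 0, -3, 1, 2, 0, 1, -1⟩, 611),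
  (⟨4, 0, -3, 1, 2, 0, 3, 1⟩, 1089),
  (⟨4, 0, -3, 1, 2, 0, 5, -1⟩, 534),
  (⟨4, 0, -2, -2, -4, 0, 0, 0⟩, 709),
  (⟨4, 0, -2, -2, -2, -2, 0, 0⟩, 776),
  (⟨4, 0, -2, -2, -2, 2, 0, 0⟩, 640),
  (⟨4, 0, -2, -2, 0, 0, -4, 0⟩, 4511),
  (⟨4, 0, -2, -2, 0, 0, -2, -2⟩, 1676),
  (⟨4, 0, -2, -2, 0, 0, -2, 2⟩, 6700),
  (⟨4, 0, -2, -2, 0, 0, 0, 0⟩, 731),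
  (⟨4, 0, -2, -2, 0, 0, 2, -2⟩, 6567),
  (⟨4, 0, -2, -2, 0, 0, 2, 2⟩, 1803),
  (⟨4, 0, -2, -2, 0, 0, 4, 0⟩, 4640),
  (⟨4, 0, -2, -2, 2, -2, 0, 0⟩, 768),
  (⟨4, 0, -2, -2, 2, 2, 0, 0⟩, 645),
  (⟨4, 0, -2, -2, 4, 0, 0, 0⟩, 832),
  (⟨4, 0, -2, 0, -5, 1, -3, 1⟩, 142),
  (⟨4, 0, -2, 0, -5, 1, -1, -1⟩, 164),
  (⟨4, 0, -2, 0, -5, 1, 1, 1⟩, 329),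
  (⟨4, 0, -2, 0, -5, 1, 3, -1⟩, 276),
  (⟨4, 0, -2, 0, -3, -1, -5, -1⟩, 134),
  (⟨4, 0, -2, 0, -3, -1, -3, 1⟩, 176),
  (⟨4, 0, -2, 0, -3, -1, -1, -1⟩, 212),
  (⟨4, 0, -2, 0, -3, -1, 1, 1⟩, 347),
  (⟨4, 0, -2, 0, -3, -1, 3, -1⟩, 314),
  (⟨4, 0, -2, 0, -3, -1, 5, 1⟩, 258),
  (⟨4, 0, -2, 0, -1, 1, -5, -1⟩, 202),
  (⟨4, 0, -2, 0, -1, 1, -3, 1⟩, 229),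
  (⟨4, 0, -2, 0, -1, 1, -1, -1⟩, 5992),
  (⟨4, 0, -2, 0, -1, 1, 1, 1⟩, 6121),
  (⟨4, 0, -2, 0, -1, 1, 3, -1⟩, 351),
  (⟨4, 0, -2, 0, -1, 1, 5, 1⟩, 287),
  (⟨4, 0, -2, 0, 1, -1, -5, -1⟩, 416),
  (⟨4, 0, -2, 0, 1, -1, -3, 1⟩, 480),
  (⟨4, 0, -2, 0, 1, -1, -1, -1⟩, 6250),
  (⟨4, 0, -2, 0, 1, -1, 1, 1⟩, 6379),
  (⟨4, 0, -2, 0, 1, -1, 3, -1⟩, 1381),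
  (⟨4, 0, -2, 0, 1, -1, 5, 1⟩, 587),
  (⟨4, 0, -2, 0, 3, 1, -5, -1⟩, 385),
  (⟨4, 0, -2, 0, 3, 1, -3, 1⟩, 441),
  (⟨4, 0, -2, 0, 3, 1, -1, -1⟩, 1627),
  (⟨4, 0, -2, 0, 3, 1, 1, 1⟩, 597),
  (⟨4, 0, -2, 0, 3, 1, 3, -1⟩, 563),
  (⟨4, 0, -2, 0, 3, 1, 5, 1⟩, 519),
  (⟨4, 0, -2, 0, 5, -1, -3, 1⟩, 401),
  (⟨4, 0, -2, 0, 5, -1, -1, -1⟩, 456),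
  (⟨4, 0, -2, 0, 5, -1, 1, 1⟩, 547),
  (⟨4, 0, -2, 0, 5, -1, 3, -1⟩, 525),
  (⟨4, 0, -2, 2, -4, 0, 0, 0⟩, 2979),
  (⟨4, 0, -2, 2, -2, -2, 0, 0⟩, 6953),
  (⟨4, 0, -2, 2, -2, 2, 0, 0⟩, 1943),
  (⟨4, 0, -2, 2, 0, 0, -4, 0⟩, 959),
  (⟨4, 0, -2, 2, 0, 0, -2, -2⟩, 896),
  (⟨4, 0, -2, 2, 0, 0, -2, 2⟩, 1042),
  (⟨4, 0, -2, 2, 0, 0, 0, 0⟩, 997),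
  (⟨4, 0, -2, 2, 0, 0, 2, -2⟩, 915),
  (⟨4, 0, -2, 2, 0, 0, 2, 2⟩, 1024),
  (⟨4, 0, -2, 2, 0, 0, 4, 0⟩, 1094),
  (⟨4, 0, -2, 2, 2, -2, 0, 0⟩, 2072),
  (⟨4, 0, -2, 2, 2, 2, 0, 0⟩, 7338),
  (⟨4, 0, -2, 2, 4, 0, 0, 0⟩, 3108),
  (⟨4, 0, -1, -1, -6, 0, -1, 1⟩, 157),
  (⟨4, 0, -1, -1, -6, 0, 1, -1⟩, 7478),
  (⟨4, 0, -1, -1, -4, -2, -1, 1⟩, 1161),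
  (⟨4, 0, -1, -1, -4, -2, 1, -1⟩, 1287),
  (⟨4, 0, -1, -1, -4, 2, -1, 1⟩, 662),
  (⟨4, 0, -1, -1, -4, 2, 1, -1⟩, 653),
  (⟨4, 0, -1, -1, -2, 0, -5, 1⟩, 191),
  (⟨4, 0, -1, -1, -2, 0, -3, -1⟩, 216),
  (⟨4, 0, -1, -1, -2, 0, -1, 1⟩, 232),
  (⟨4, 0, -1, -1, -2, 0, 1, -1⟩, 745),
  (⟨4, 0, -1, -1, -2, 0, 3, 1⟩, 341),
  (⟨4, 0, -1, -1, -2, 0, 5, -1⟩, 292),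
  (⟨4, 0, -1, -1, 0, -2, -3, -1⟩, 835),
  (⟨4, 0, -1, -1, 0, -2, -1, 1⟩, 813),
  (⟨4, 0, -1, -1, 0, -2, 1, -1⟩, 1337),
  (⟨4, 0, -1, -1, 0, -2, 3, 1⟩, 821),
  (⟨4, 0, -1, -1, 0, 2, -3, -1⟩, 686),
  (⟨4, 0, -1, -1, 0, 2, -1, 1⟩, 1466),
  (⟨4, 0, -1, -1, 0, 2, 1, -1⟩, 678),
  (⟨4, 0, -1, -1, 0, 2, 3, 1⟩, 708),
  (⟨4, 0, -1, -1, 2, 0, -5, 1⟩, 419),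
  (⟨4, 0, -1, -1, 2, 0, -3, -1⟩, 468),
  (⟨4, 0, -1, -1, 2, 0, -1, 1⟩, 874),
  (⟨4, 0, -1, -1, 2, 0, 1, -1⟩, 619),
  (⟨4, 0, -1, -1, 2, 0, 3, 1⟩, 601),
  (⟨4, 0, -1, -1, 2, 0, 5, -1⟩, 582),
  (⟨4, 0, -1, -1, 4, -2, -1, 1⟩, 782),
  (⟨4, 0, -1, -1, 4, -2, 1, -1⟩, 789),
  (⟨4, 0, -1, -1, 4, 2, -1, 1⟩, 1414),
  (⟨4, 0, -1, -1, 4, 2, 1, -1⟩, 1546),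
  (⟨4, 0, -1, -1, 6, 0, -1, 1⟩, 7869),
  (⟨4, 0, -1, -1, 6, 0, 1, -1⟩, 538),
  (⟨4, 0, -1, 1, -5, -1, -2, 0⟩, 160),
  (⟨4, 0, -1, 1, -5, -1, 2, 0⟩, 325),
  (⟨4, 0, -1, 1, -3, 1, -2, 0⟩, 223),
  (⟨4, 0, -1, 1, -3, 1, 0, -2⟩, 967),
  (⟨4, 0, -1, 1, -3, 1, 0, 2⟩, 1083),
  (⟨4, 0, -1, 1, -3, 1, 2, 0⟩, 355),
  (⟨4, 0, -1, 1, -1, -1, -6, 0⟩, 7602),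
  (⟨4, 0, -1, 1, -1, -1, -4, -2⟩, 898),
  (⟨4, 0, -1, 1, -1, -1, -4, 2⟩, 1172),
  (⟨4, 0, -1, 1, -1, -1, -2, 0⟩, 1000),
  (⟨4, 0, -1, 1, -1, -1, 0, -2⟩, 939),
  (⟨4, 0, -1, 1, -1, -1, 0, 2⟩, 1203),
  (⟨4, 0, -1, 1, -1, -1, 2, 0⟩, 361),
  (⟨4, 0, -1, 1, -1, -1, 4, -2⟩, 1301),
  (⟨4, 0, -1, 1, -1, -1, 4, 2⟩, 1033),
  (⟨4, 0, -1, 1, -1, -1, 6, 0⟩, 284),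
  (⟨4, 0, -1, 1, 1, 1, -6, 0⟩, 411),
  (⟨4, 0, -1, 1, 1, 1, -4, -2⟩, 906),
  (⟨4, 0, -1, 1, 1, 1, -4, 2⟩, 1430),
  (⟨4, 0, -1, 1, 1, 1, -2, 0⟩, 490),
  (⟨4, 0, -1, 1, 1, 1, 0, -2⟩, 1584),
  (⟨4, 0, -1, 1, 1, 1, 0, 2⟩, 1064),
  (⟨4, 0, -1, 1, 1, 1, 2, 0⟩, 1131),
  (⟨4, 0, -1, 1, 1, 1, 4, -2⟩, 1553),
  (⟨4, 0, -1, 1, 1, 1, 4, 2⟩, 1025),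
  (⟨4, 0, -1, 1, 1, 1, 6, 0⟩, 7729),
  (⟨4, 0, -1, 1, 3, -1, -2, 0⟩, 482),
  (⟨4, 0, -1, 1, 3, -1, 0, -2⟩, 952),
  (⟨4, 0, -1, 1, 3, -1, 0, 2⟩, 1086),
  (⟨4, 0, -1, 1, 3, -1, 2, 0⟩, 608),
  (⟨4, 0, -1, 1, 5, 1, -2, 0⟩, 448),
  (⟨4, 0, -1, 1, 5, 1, 2, 0⟩, 543),
  (⟨4, 0, 0, -2, -3, -1, -3, 1⟩, 7986),
  (⟨4, 0, 0, -2, -3, -1, -1, -1⟩, 1717),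
  (⟨4, 0, 0, -2, -3, -1, 1, 1⟩, 1871),
  (⟨4, 0, 0, -2, -3, -1, 3, -1⟩, 6561),
  (⟨4, 0, 0, -2, -1, 1, -3, 1⟩, 713),
  (⟨4, 0, 0, -2, -1, 1, -1, -1⟩, 680),
  (⟨4, 0, 0, -2, -1, 1, 1, 1⟩, 1857),
  (⟨4, 0, 0, -2, -1, 1, 3, -1⟩, 675),
  (⟨4, 0, 0, -2, 1, -1, -3, 1⟩, 804),
  (⟨4, 0, 0, -2, 1, -1, -1, -1⟩, 833),
  (⟨4, 0, 0, -2, 1, -1, 1, 1⟩, 811),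
  (⟨4, 0, 0, -2, 1, -1, 3, -1⟩, 840),
  (⟨4, 0, 0, -2, 3, 1, -3, 1⟩, 6686),
  (⟨4, 0, 0, -2, 3, 1, -1, -1⟩, 1742),
  (⟨4, 0, 0, -2, 3, 1, 1, 1⟩, 1838),
  (⟨4, 0, 0, -2, 3, 1, 3, -1⟩, 8369),
  (⟨4, 0, 0, 0, -4, 0, -4, 0⟩, 168),
  (⟨4, 0, 0, 0, -4, 0, -2, -2⟩, 4800),
  (⟨4, 0, 0, 0, -4, 0, -2, 2⟩, 1188),
  (⟨4, 0, 0, 0, -4, 0, 0, 0⟩, 231),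
  (⟨4, 0, 0, 0, -4, 0, 2, -2⟩, 1357),
  (⟨4, 0, 0, 0, -4, 0, 2, 2⟩, 4931),
  (⟨4, 0, 0, 0, -4, 0, 4, 0⟩, 301),
  (⟨4, 0, 0, 0, -2, -2, -4, 0⟩, 1231),
  (⟨4, 0, 0, 0, -2, -2, -2, -2⟩, 1290),
  (⟨4, 0, 0, 0, -2, -2, -2, 2⟩, 1152),
  (⟨4, 0, 0, 0, -2, -2, 0, 0⟩, 1365),
  (⟨4, 0, 0, 0, -2, -2, 2, -2⟩, 1280),
  (⟨4, 0, 0, 0, -2, -2, 2, 2⟩, 1155),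
  (⟨4, 0, 0, 0, -2, -2, 4, 0⟩, 1311),
  (⟨4, 0, 0, 0, -2, 2, -4, 0⟩, 3262),
  (⟨4, 0, 0, 0, -2, 2, -2, -2⟩, 5927),
  (⟨4, 0, 0, 0, -2, 2, -2, 2⟩, 1424),
  (⟨4, 0, 0, 0, -2, 2, 0, 0⟩, 738),
  (⟨4, 0, 0, 0, -2, 2, 2, -2⟩, 1558),
  (⟨4, 0, 0, 0, -2, 2, 2, 2⟩, 6058),
  (⟨4, 0, 0, 0, -2, 2, 4, 0⟩, 3391),
  (⟨4, 0, 0, 0, 0, 0, -4, 0⟩, 487),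
  (⟨4, 0, 0, 0, 0, 0, -2, -2⟩, 985),
  (⟨4, 0, 0, 0, 0, 0, -2, 2⟩, 1247),
  (⟨4, 0, 0, 0, 0, 0, 0, 0⟩, 108),
  (⟨4, 0, 0, 0, 0, 0, 2, -2⟩, 1632),
  (⟨4, 0, 0, 0, 0, 0, 2, 2⟩, 1112),
  (⟨4, 0, 0, 0, 0, 0, 4, 0⟩, 359),
  (⟨4, 0, 0, 0, 2, -2, -4, 0⟩, 3526),
  (⟨4, 0, 0, 0, 2, -2, -2, -2⟩, 6185),
  (⟨4, 0, 0, 0, 2, -2, -2, 2⟩, 1173),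
  (⟨4, 0, 0, 0, 2, -2, 0, 0⟩, 867),
  (⟨4, 0, 0, 0, 2, -2, 2, -2⟩, 1295),
  (⟨4, 0, 0, 0, 2, -2, 2, 2⟩, 6316),
  (⟨4, 0, 0, 0, 2, -2, 4, 0⟩, 3655),
  (⟨4, 0, 0, 0, 2, 2, -4, 0⟩, 1440),
  (⟨4, 0, 0, 0, 2, 2, -2, -2⟩, 1540),
  (⟨4, 0, 0, 0, 2, 2, -2, 2⟩, 1408),
  (⟨4, 0, 0, 0, 2, 2, 0, 0⟩, 1492),
  (⟨4, 0, 0, 0, 2, 2, 2, -2⟩, 1536),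
  (⟨4, 0, 0, 0, 2, 2, 2, 2⟩, 1417),
  (⟨4, 0, 0, 0, 2, 2, 4, 0⟩, 1614),
  (⟨4, 0, 0, 0, 4, 0, -4, 0⟩, 422),
  (⟨4, 0, 0, 0, 4, 0, -2, -2⟩, 5060),
  (⟨4, 0, 0, 0, 4, 0, -2, 2⟩, 1484),
  (⟨4, 0, 0, 0, 4, 0, 0, 0⟩, 615),
  (⟨4, 0, 0, 0, 4, 0, 2, -2⟩, 1571),
  (⟨4, 0, 0, 0, 4, 0, 2, 2⟩, 5189),
  (⟨4, 0, 0, 0, 4, 0, 4, 0⟩, 555),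
  (⟨4, 0, 0, 2, -3, -1, -3, 1⟩, 6946),
  (⟨4, 0, 0, 2, -3, -1, -1, -1⟩, 927),
  (⟨4, 0, 0, 2, -3, -1, 1, 1⟩, 1099),
  (⟨4, 0, 0, 2, -3, -1, 3, -1⟩, 8630),
  (⟨4, 0, 0, 2, -1, 1, -3, 1⟩, 1996),
  (⟨4, 0, 0, 2, -1, 1, -1, -1⟩, 962),
  (⟨4, 0, 0, 2, -1, 1, 1, 1⟩, 1069),
  (⟨4, 0, 0, 2, -1, 1, 3, -1⟩, 1976),
  (⟨4, 0, 0, 2, 1, -1, -3, 1⟩, 2107),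
  (⟨4, 0, 0, 2, 1, -1, -1, -1⟩, 934),
  (⟨4, 0, 0, 2, 1, -1, 1, 1⟩, 2114),
  (⟨4, 0, 0, 2, 1, -1, 3, -1⟩, 2125),
  (⟨4, 0, 0, 2, 3, 1, -3, 1⟩, 8765),
  (⟨4, 0, 0, 2, 3, 1, -1, -1⟩, 970),
  (⟨4, 0, 0, 2, 3, 1, 1, 1⟩, 1056),
  (⟨4, 0, 0, 2, 3, 1, 3, -1⟩, 7333),
  (⟨4, 0, 1, -1, -5, -1, -2, 0⟩, 2244),
  (⟨4, 0, 1, -1, -5, -1, 2, 0⟩, 2382),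
  (⟨4, 0, 1, -1, -3, 1, -2, 0⟩, 739),
  (⟨4, 0, 1, -1, -3, 1, 0, -2⟩, 1736),
  (⟨4, 0, 1, -1, -3, 1, 0, 2⟩, 1862),
  (⟨4, 0, 1, -1, -3, 1, 2, 0⟩, 736),
  (⟨4, 0, 1, -1, -1, -1, -6, 0⟩, 7599),
  (⟨4, 0, 1, -1, -1, -1, -4, -2⟩, 1668),
  (⟨4, 0, 1, -1, -1, -1, -4, 2⟩, 1167),
  (⟨4, 0, 1, -1, -1, -1, -2, 0⟩, 875),
  (⟨4, 0, 1, -1, -1, -1, 0, -2⟩, 1712),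
  (⟨4, 0, 1, -1, -1, -1, 0, 2⟩, 1190),
  (⟨4, 0, 1, -1, -1, -1, 2, 0⟩, 1386),
  (⟨4, 0, 1, -1, -1, -1, 4, -2⟩, 1299),
  (⟨4, 0, 1, -1, -1, -1, 4, 2⟩, 1804),
  (⟨4, 0, 1, -1, -1, -1, 6, 0⟩, 2358),
  (⟨4, 0, 1, -1, 1, 1, -6, 0⟩, 2493),
  (⟨4, 0, 1, -1, 1, 1, -4, -2⟩, 1675),
  (⟨4, 0, 1, -1, 1, 1, -4, 2⟩, 1426),
  (⟨4, 0, 1, -1, 1, 1, -2, 0⟩, 1513),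
  (⟨4, 0, 1, -1, 1, 1, 0, -2⟩, 1581),
  (⟨4, 0, 1, -1, 1, 1, 0, 2⟩, 1843),
  (⟨4, 0, 1, -1, 1, 1, 2, 0⟩, 744),
  (⟨4, 0, 1, -1, 1, 1, 4, -2⟩, 1552),
  (⟨4, 0, 1, -1, 1, 1, 4, 2⟩, 1795),
  (⟨4, 0, 1, -1, 1, 1, 6, 0⟩, 7732),
  (⟨4, 0, 1, -1, 3, -1, -2, 0⟩, 863),
  (⟨4, 0, 1, -1, 3, -1, 0, -2⟩, 1727),
  (⟨4, 0, 1, -1, 3, -1, 0, 2⟩, 1865),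
  (⟨4, 0, 1, -1, 3, -1, 2, 0⟩, 866),
  (⟨4, 0, 1, -1, 5, 1, -2, 0⟩, 2511),
  (⟨4, 0, 1, -1, 5, 1, 2, 0⟩, 2627),
  (⟨4, 0, 1, 1, -6, 0, -1, 1⟩, 2226),
  (⟨4, 0, 1, 1, -6, 0, 1, -1⟩, 7479),
  (⟨4, 0, 1, 1, -4, -2, -1, 1⟩, 1160),
  (⟨4, 0, 1, 1, -4, -2, 1, -1⟩, 1284),
  (⟨4, 0, 1, 1, -4, 2, -1, 1⟩, 1944),
  (⟨4, 0, 1, 1, -4, 2, 1, -1⟩, 1936),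
  (⟨4, 0, 1, 1, -2, 0, -5, 1⟩, 2253),
  (⟨4, 0, 1, 1, -2, 0, -3, -1⟩, 981),
  (⟨4, 0, 1, 1, -2, 0, -1, 1⟩, 1259),
  (⟨4, 0, 1, 1, -2, 0, 1, -1⟩, 1002),
  (⟨4, 0, 1, 1, -2, 0, 3, 1⟩, 1113),
  (⟨4, 0, 1, 1, -2, 0, 5, -1⟩, 2366),
  (⟨4, 0, 1, 1, 0, -2, -3, -1⟩, 2123),
  (⟨4, 0, 1, 1, 0, -2, -1, 1⟩, 2105),
  (⟨4, 0, 1, 1, 0, -2, 1, -1⟩, 1320),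
  (⟨4, 0, 1, 1, 0, -2, 3, 1⟩, 2112),
  (⟨4, 0, 1, 1, 0, 2, -3, -1⟩, 1989),
  (⟨4, 0, 1, 1, 0, 2, -1, 1⟩, 1451),
  (⟨4, 0, 1, 1, 0, 2, 1, -1⟩, 1978),
  (⟨4, 0, 1, 1, 0, 2, 3, 1⟩, 1994),
  (⟨4, 0, 1, 1, 2, 0, -5, 1⟩, 2503),
  (⟨4, 0, 1, 1, 2, 0, -3, -1⟩, 984),
  (⟨4, 0, 1, 1, 2, 0, -1, 1⟩, 1129),
  (⟨4, 0, 1, 1, 2, 0, 1, -1⟩, 1640),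
  (⟨4, 0, 1, 1, 2, 0, 3, 1⟩, 1108),
  (⟨4, 0, 1, 1, 2, 0, 5, -1⟩, 2636),
  (⟨4, 0, 1, 1, 4, -2, -1, 1⟩, 2063),
  (⟨4, 0, 1, 1, 4, -2, 1, -1⟩, 2071),
  (⟨4, 0, 1, 1, 4, 2, -1, 1⟩, 1411),
  (⟨4, 0, 1, 1, 4, 2, 1, -1⟩, 1541),
  (⟨4, 0, 1, 1, 6, 0, -1, 1⟩, 7868),
  (⟨4, 0, 1, 1, 6, 0, 1, -1⟩, 2609),
  (⟨4, 0, 2, -2, -4, 0, 0, 0⟩, 3788),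
  (⟨4, 0, 2, -2, -2, -2, 0, 0⟩, 812),
  (⟨4, 0, 2, -2, -2, 2, 0, 0⟩, 654),
  (⟨4, 0, 2, -2, 0, 0, -4, 0⟩, 1735),
  (⟨4, 0, 2, -2, 0, 0, -2, -2⟩, 1664),
  (⟨4, 0, 2, -2, 0, 0, -2, 2⟩, 1812),
  (⟨4, 0, 2, -2, 0, 0, 0, 0⟩, 1894),
  (⟨4, 0, 2, -2, 0, 0, 2, -2⟩, 1681),
  (⟨4, 0, 2, -2, 0, 0, 2, 2⟩, 1792),
  (⟨4, 0, 2, -2, 0, 0, 4, 0⟩, 1854),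
  (⟨4, 0, 2, -2, 2, -2, 0, 0⟩, 781),
  (⟨4, 0, 2, -2, 2, 2, 0, 0⟩, 679),
  (⟨4, 0, 2, -2, 4, 0, 0, 0⟩, 3917),
  (⟨4, 0, 2, 0, -5, 1, -3, 1⟩, 2195),
  (⟨4, 0, 2, 0, -5, 1, -1, -1⟩, 2232),
  (⟨4, 0, 2, 0, -5, 1, 1, 1⟩, 2381),
  (⟨4, 0, 2, 0, -5, 1, 3, -1⟩, 2327),
  (⟨4, 0, 2, 0, -3, -1, -5, -1⟩, 2188),
  (⟨4, 0, 2, 0, -3, -1, -3, 1⟩, 1210),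
  (⟨4, 0, 2, 0, -3, -1, -1, -1⟩, 2266),
  (⟨4, 0, 2, 0, -3, -1, 1, 1⟩, 1236),
  (⟨4, 0, 2, 0, -3, -1, 3, -1⟩, 1331),
  (⟨4, 0, 2, 0, -3, -1, 5, 1⟩, 2309),
  (⟨4, 0, 2, 0, -1, 1, -5, -1⟩, 2255),
  (⟨4, 0, 2, 0, -1, 1, -3, 1⟩, 1504),
  (⟨4, 0, 2, 0, -1, 1, -1, -1⟩, 107),
  (⟨4, 0, 2, 0, -1, 1, 1, 1⟩, 106),
  (⟨4, 0, 2, 0, -1, 1, 3, -1⟩, 2406),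
  (⟨4, 0, 2, 0, -1, 1, 5, 1⟩, 2350),
  (⟨4, 0, 2, 0, 1, -1, -5, -1⟩, 2485),
  (⟨4, 0, 2, 0, 1, -1, -3, 1⟩, 1254),
  (⟨4, 0, 2, 0, 1, -1, -1, -1⟩, 105),
  (⟨4, 0, 2, 0, 1, -1, 1, 1⟩, 104),
  (⟨4, 0, 2, 0, 1, -1, 3, -1⟩, 1375),
  (⟨4, 0, 2, 0, 1, -1, 5, 1⟩, 2638),
  (⟨4, 0, 2, 0, 3, 1, -5, -1⟩, 2440),
  (⟨4, 0, 2, 0, 3, 1, -3, 1⟩, 1456),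
  (⟨4, 0, 2, 0, 3, 1, -1, -1⟩, 1621),
  (⟨4, 0, 2, 0, 3, 1, 1, 1⟩, 1498),
  (⟨4, 0, 2, 0, 3, 1, 3, -1⟩, 1593),
  (⟨4, 0, 2, 0, 3, 1, 5, 1⟩, 2571),
  (⟨4, 0, 2, 0, 5, -1, -3, 1⟩, 2456),
  (⟨4, 0, 2, 0, 5, -1, -1, -1⟩, 2508),
  (⟨4, 0, 2, 0, 5, -1, 1, 1⟩, 2619),
  (⟨4, 0, 2, 0, 5, -1, 3, -1⟩, 2578),
  (⟨4, 0, 2, 2, -4, 0, 0, 0⟩, 1988),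
  (⟨4, 0, 2, 2, -2, -2, 0, 0⟩, 2055),
  (⟨4, 0, 2, 2, -2, 2, 0, 0⟩, 1920),
  (⟨4, 0, 2, 2, 0, 0, -4, 0⟩, 5326),
  (⟨4, 0, 2, 2, 0, 0, -2, -2⟩, 897),
  (⟨4, 0, 2, 2, 0, 0, -2, 2⟩, 1066),
  (⟨4, 0, 2, 2, 0, 0, 0, 0⟩, 2010),
  (⟨4, 0, 2, 2, 0, 0, 2, -2⟩, 937),
  (⟨4, 0, 2, 2, 0, 0, 2, 2⟩, 1026),
  (⟨4, 0, 2, 2, 0, 0, 4, 0⟩, 5455),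
  (⟨4, 0, 2, 2, 2, -2, 0, 0⟩, 2048),
  (⟨4, 0, 2, 2, 2, 2, 0, 0⟩, 1926),
  (⟨4, 0, 2, 2, 4, 0, 0, 0⟩, 2115),
  (⟨4, 0, 3, -1, -2, 0, -5, 1⟩, 2200),
  (⟨4, 0, 3, -1, -2, 0, -3, -1⟩, 1715),
  (⟨4, 0, 3, -1, -2, 0, -1, 1⟩, 2277),
  (⟨4, 0, 3, -1, -2, 0, 1, -1⟩, 1762),
  (⟨4, 0, 3, -1, -2, 0, 3, 1⟩, 2370),
  (⟨4, 0, 3, -1, -2, 0, 5, -1⟩, 2319),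
  (⟨4, 0, 3, -1, 0, -2, -3, -1⟩, 1697),
  (⟨4, 0, 3, -1, 0, -2, -1, 1⟩, 1214),
  (⟨4, 0, 3, -1, 0, -2, 1, -1⟩, 1316),
  (⟨4, 0, 3, -1, 0, -2, 3, 1⟩, 8116),
  (⟨4, 0, 3, -1, 0, 2, -3, -1⟩, 8239),
  (⟨4, 0, 3, -1, 0, 2, -1, 1⟩, 1443),
  (⟨4, 0, 3, -1, 0, 2, 1, -1⟩, 1607),
  (⟨4, 0, 3, -1, 0, 2, 3, 1⟩, 1822),
  (⟨4, 0, 3, -1, 2, 0, -5, 1⟩, 2448),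
  (⟨4, 0, 3, -1, 2, 0, -3, -1⟩, 1730),
  (⟨4, 0, 3, -1, 2, 0, -1, 1⟩, 1891),
  (⟨4, 0, 3, -1, 2, 0, 1, -1⟩, 1765),
  (⟨4, 0, 3, -1, 2, 0, 3, 1⟩, 1840),
  (⟨4, 0, 3, -1, 2, 0, 5, -1⟩, 2583),
  (⟨4, 0, 3, 1, -5, -1, -2, 0⟩, 2179),
  (⟨4, 0, 3, 1, -5, -1, 2, 0⟩, 2316),
  (⟨4, 0, 3, 1, -3, 1, -2, 0⟩, 2241),
  (⟨4, 0, 3, 1, -3, 1, 0, -2⟩, 1957),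
  (⟨4, 0, 3, 1, -3, 1, 0, 2⟩, 8503),
  (⟨4, 0, 3, 1, -3, 1, 2, 0⟩, 1977),
  (⟨4, 0, 3, 1, -1, -1, -2, 0⟩, 2137),
  (⟨4, 0, 3, 1, -1, -1, 0, -2⟩, 1347),
  (⟨4, 0, 3, 1, -1, -1, 0, 2⟩, 1184),
  (⟨4, 0, 3, 1, -1, -1, 2, 0⟩, 2395),
  (⟨4, 0, 3, 1, 1, 1, -2, 0⟩, 2011),
  (⟨4, 0, 3, 1, 1, 1, 0, -2⟩, 1567),
  (⟨4, 0, 3, 1, 1, 1, 0, 2⟩, 1476),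
  (⟨4, 0, 3, 1, 1, 1, 2, 0⟩, 2008),
  (⟨4, 0, 3, 1, 3, -1, -2, 0⟩, 2106),
  (⟨4, 0, 3, 1, 3, -1, 0, -2⟩, 8892),
  (⟨4, 0, 3, 1, 3, -1, 0, 2⟩, 2082),
  (⟨4, 0, 3, 1, 3, -1, 2, 0⟩, 2113),
  (⟨4, 0, 3, 1, 5, 1, -2, 0⟩, 2443),
  (⟨4, 0, 3, 1, 5, 1, 2, 0⟩, 2564),
  (⟨4, 0, 4, -2, -1, 1, -1, -1⟩, 1683),
  (⟨4, 0, 4, -2, -1, 1, 1, 1⟩, 1805),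
  (⟨4, 0, 4, -2, 1, -1, -1, -1⟩, 1678),
  (⟨4, 0, 4, -2, 1, -1, 1, 1⟩, 1810),
  (⟨4, 0, 4, 0, -4, 0, -4, 0⟩, 2176),
  (⟨4, 0, 4, 0, -4, 0, 0, 0⟩, 2214),
  (⟨4, 0, 4, 0, -4, 0, 4, 0⟩, 2304),
  (⟨4, 0, 4, 0, -2, -2, 0, 0⟩, 5578),
  (⟨4, 0, 4, 0, -2, 2, 0, 0⟩, 1979),
  (⟨4, 0, 4, 0, 0, 0, -4, 0⟩, 2475),
  (⟨4, 0, 4, 0, 0, 0, -2, -2⟩, 1710),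
  (⟨4, 0, 4, 0, 0, 0, -2, 2⟩, 4040),
  (⟨4, 0, 4, 0, 0, 0, 0, 0⟩, 103),
  (⟨4, 0, 4, 0, 0, 0, 2, -2⟩, 4169),
  (⟨4, 0, 4, 0, 0, 0, 2, 2⟩, 1845),
  (⟨4, 0, 4, 0, 0, 0, 4, 0⟩, 2344),
  (⟨4, 0, 4, 0, 2, -2, 0, 0⟩, 2104),
  (⟨4, 0, 4, 0, 2, 2, 0, 0⟩, 5707),
  (⟨4, 0, 4, 0, 4, 0, -4, 0⟩, 2432),
  (⟨4, 0, 4, 0, 4, 0, 0, 0⟩, 2605),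
  (⟨4, 0, 4, 0, 4, 0, 4, 0⟩, 2560),
  (⟨4, 0, 4, 2, -1, 1, -1, -1⟩, 1922),
  (⟨4, 0, 4, 2, -1, 1, 1, 1⟩, 1925),
  (⟨4, 0, 4, 2, 1, -1, -1, -1⟩, 2056),
  (⟨4, 0, 4, 2, 1, -1, 1, 1⟩, 2049),
  (⟨4, 0, 5, -1, -3, 1, -2, 0⟩, 2191),
  (⟨4, 0, 5, -1, -3, 1, 2, 0⟩, 2324),
  (⟨4, 0, 5, -1, -1, -1, -2, 0⟩, 2239),
  (⟨4, 0, 5, -1, -1, -1, 2, 0⟩, 2363),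
  (⟨4, 0, 5, -1, 1, 1, -2, 0⟩, 2488),
  (⟨4, 0, 5, -1, 1, 1, 2, 0⟩, 2630),
  (⟨4, 0, 5, -1, 3, -1, -2, 0⟩, 2449),
  (⟨4, 0, 5, -1, 3, -1, 2, 0⟩, 2576),
  (⟨4, 0, 5, 1, -2, 0, -3, -1⟩, 2182),
  (⟨4, 0, 5, 1, -2, 0, -1, 1⟩, 2222),
  (⟨4, 0, 5, 1, -2, 0, 1, -1⟩, 2373),
  (⟨4, 0, 5, 1, -2, 0, 3, 1⟩, 2308),
  (⟨4, 0, 5, 1, 2, 0, -3, -1⟩, 2435),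
  (⟨4, 0, 5, 1, 2, 0, -1, 1⟩, 2496),
  (⟨4, 0, 5, 1, 2, 0, 1, -1⟩, 2613),
  (⟨4, 0, 5, 1, 2, 0, 3, 1⟩, 2567),
  (⟨4, 0, 6, 0, -1, 1, -1, -1⟩, 2231),
  (⟨4, 0, 6, 0, -1, 1, 1, 1⟩, 2356),
  (⟨4, 0, 6, 0, 1, -1, -1, -1⟩, 2479),
  (⟨4, 0, 6, 0, 1, -1, 1, 1⟩, 2620),
  (⟨4, 2, -4, 0, -1, -1, -1, 1⟩, 2696),
  (⟨4, 2, -4, 0, -1, -1, 1, -1⟩, 2818),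
  (⟨4, 2, -4, 0, 1, 1, -1, 1⟩, 2689),
  (⟨4, 2, -4, 0, 1, 1, 1, -1⟩, 2821),
  (⟨4, 2, -3, -1, 0, 0, -3, 1⟩, 2694),
  (⟨4, 2, -3, -1, 0, 0, -1, -1⟩, 2841),
  (⟨4, 2, -3, -1, 0, 0, 1, 1⟩, 2713),
  (⟨4, 2, -3, -1, 0, 0, 3, -1⟩, 2823),
  (⟨4, 2, -3, 1, -3, -1, 0, 0⟩, 2953),
  (⟨4, 2, -3, 1, -1, 1, 0, 0⟩, 3018),
  (⟨4, 2, -3, 1, 1, -1, 0, 0⟩, 3147),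
  (⟨4, 2, -3, 1, 3, 1, 0, 0⟩, 3082),
  (⟨4, 2, -2, 0, -2, 0, -2, 0⟩, 2774),
  (⟨4, 2, -2, 0, -2, 0, 0, -2⟩, 2820),
  (⟨4, 2, -2, 0, -2, 0, 0, 2⟩, 2690),
  (⟨4, 2, -2, 0, -2, 0, 2, 0⟩, 343),
  (⟨4, 2, -2, 0, 0, -2, -2, 0⟩, 3463),
  (⟨4, 2, -2, 0, 0, -2, 2, 0⟩, 3594),
  (⟨4, 2, -2, 0, 0, 2, -2, 0⟩, 3209),
  (⟨4, 2, -2, 0, 0, 2, 2, 0⟩, 3334),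
  (⟨4, 2, -2, 0, 2, 0, -2, 0⟩, 2775),
  (⟨4, 2, -2, 0, 2, 0, 0, -2⟩, 2817),
  (⟨4, 2, -2, 0, 2, 0, 0, 2⟩, 2691),
  (⟨4, 2, -2, 0, 2, 0, 2, 0⟩, 2899),
  (⟨4, 2, -1, -1, -3, -1, 0, 0⟩, 3737),
  (⟨4, 2, -1, -1, -1, 1, -4, 0⟩, 3212),
  (⟨4, 2, -1, -1, -1, 1, 0, 0⟩, 722),
  (⟨4, 2, -1, -1, -1, 1, 4, 0⟩, 3338),
  (⟨4, 2, -1, -1, 1, -1, -4, 0⟩, 3465),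
  (⟨4, 2, -1, -1, 1, -1, 0, 0⟩, 849),
  (⟨4, 2, -1, -1, 1, -1, 4, 0⟩, 3595),
  (⟨4, 2, -1, -1, 3, 1, 0, 0⟩, 3865),
  (⟨4, 2, -1, 1, -4, 0, -1, -1⟩, 2954),
  (⟨4, 2, -1, 1, -4, 0, 1, 1⟩, 2949),
  (⟨4, 2, -1, 1, 0, 0, -3, 1⟩, 2720),
  (⟨4, 2, -1, 1, 0, 0, -1, -1⟩, 2897),
  (⟨4, 2, -1, 1, 0, 0, 1, 1⟩, 2770),
  (⟨4, 2, -1, 1, 0, 0, 3, -1⟩, 2847),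
  (⟨4, 2, -1, 1, 4, 0, -1, -1⟩, 3080),
  (⟨4, 2, -1, 1, 4, 0, 1, 1⟩, 3081),
  (⟨4, 2, 0, -2, -2, 0, -2, 0⟩, 3723),
  (⟨4, 2, 0, -2, -2, 0, 2, 0⟩, 3717),
  (⟨4, 2, 0, -2, 2, 0, -2, 0⟩, 3848),
  (⟨4, 2, 0, -2, 2, 0, 2, 0⟩, 3852),
  (⟨4, 2, 0, 0, -3, 1, -3, -1⟩, 3202),
  (⟨4, 2, 0, 0, -3, 1, -1, 1⟩, 3268),
  (⟨4, 2, 0, 0, -3, 1, 1, -1⟩, 3397),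
  (⟨4, 2, 0, 0, -3, 1, 3, 1⟩, 3340),
  (⟨4, 2, 0, 0, -1, -1, -3, -1⟩, 3481),
  (⟨4, 2, 0, 0, -1, -1, -1, 1⟩, 3539),
  (⟨4, 2, 0, 0, -1, -1, 1, -1⟩, 2898),
  (⟨4, 2, 0, 0, -1, -1, 3, 1⟩, 3609),
  (⟨4, 2, 0, 0, 1, 1, -3, -1⟩, 3225),
  (⟨4, 2, 0, 0, 1, 1, -1, 1⟩, 2769),
  (⟨4, 2, 0, 0, 1, 1, 1, -1⟩, 3414),
  (⟨4, 2, 0, 0, 1, 1, 3, 1⟩, 3353),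
  (⟨4, 2, 0, 0, 3, -1, -3, -1⟩, 3467),
  (⟨4, 2, 0, 0, 3, -1, -1, 1⟩, 3520),
  (⟨4, 2, 0, 0, 3, -1, 1, -1⟩, 3651),
  (⟨4, 2, 0, 0, 3, -1, 3, 1⟩, 3585),
  (⟨4, 2, 0, 2, -2, 0, -2, 0⟩, 2950),
  (⟨4, 2, 0, 2, -2, 0, 2, 0⟩, 2945),
  (⟨4, 2, 0, 2, 2, 0, -2, 0⟩, 3074),
  (⟨4, 2, 0, 2, 2, 0, 2, 0⟩, 3079),
  (⟨4, 2, 1, -1, -4, 0, -1, -1⟩, 3718),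
  (⟨4, 2, 1, -1, -4, 0, 1, 1⟩, 3715),
  (⟨4, 2, 1, -1, 0, 0, -3, 1⟩, 4047),
  (⟨4, 2, 1, -1, 0, 0, -1, -1⟩, 1747),
  (⟨4, 2, 1, -1, 0, 0, 1, 1⟩, 1878),
  (⟨4, 2, 1, -1, 0, 0, 3, -1⟩, 4174),
  (⟨4, 2, 1, -1, 4, 0, -1, -1⟩, 3844),
  (⟨4, 2, 1, -1, 4, 0, 1, 1⟩, 3847),
  (⟨4, 2, 1, 1, -3, -1, 0, 0⟩, 2969),
  (⟨4, 2, 1, 1, -1, 1, -4, 0⟩, 3203),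
  (⟨4, 2, 1, 1, -1, 1, 0, 0⟩, 3283),
  (⟨4, 2, 1, 1, -1, 1, 4, 0⟩, 3330),
  (⟨4, 2, 1, 1, 1, -1, -4, 0⟩, 3457),
  (⟨4, 2, 1, 1, 1, -1, 0, 0⟩, 3670),
  (⟨4, 2, 1, 1, 1, -1, 4, 0⟩, 3588),
  (⟨4, 2, 1, 1, 3, 1, 0, 0⟩, 3097),
  (⟨4, 2, 2, 0, -2, 0, -2, 0⟩, 3799),
  (⟨4, 2, 2, 0, -2, 0, 0, -2⟩, 4108),
  (⟨4, 2, 2, 0, -2, 0, 0, 2⟩, 3977),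
  (⟨4, 2, 2, 0, -2, 0, 2, 0⟩, 3793),
  (⟨4, 2, 2, 0, 0, -2, -2, 0⟩, 3459),
  (⟨4, 2, 2, 0, 0, -2, 2, 0⟩, 3592),
  (⟨4, 2, 2, 0, 0, 2, -2, 0⟩, 3205),
  (⟨4, 2, 2, 0, 0, 2, 2, 0⟩, 3332),
  (⟨4, 2, 2, 0, 2, 0, -2, 0⟩, 3922),
  (⟨4, 2, 2, 0, 2, 0, 0, -2⟩, 4106),
  (⟨4, 2, 2, 0, 2, 0, 0, 2⟩, 3979),
  (⟨4, 2, 2, 0, 2, 0, 2, 0⟩, 3671),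
  (⟨4, 2, 3, -1, -3, -1, 0, 0⟩, 3716),
  (⟨4, 2, 3, -1, -1, 1, 0, 0⟩, 3758),
  (⟨4, 2, 3, -1, 1, -1, 0, 0⟩, 3893),
  (⟨4, 2, 3, -1, 3, 1, 0, 0⟩, 3843),
  (⟨4, 2, 3, 1, 0, 0, -3, 1⟩, 3976),
  (⟨4, 2, 3, 1, 0, 0, -1, -1⟩, 4121),
  (⟨4, 2, 3, 1, 0, 0, 1, 1⟩, 3993),
  (⟨4, 2, 3, 1, 0, 0, 3, -1⟩, 4101),
  (⟨4, 2, 4, 0, -1, -1, -1, 1⟩, 3980),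
  (⟨4, 2, 4, 0, -1, -1, 1, -1⟩, 4103),
  (⟨4, 2, 4, 0, 1, 1, -1, 1⟩, 3974),
  (⟨4, 2, 4, 0, 1, 1, 1, -1⟩, 4107),
  (⟨5, -1, -5, -1, 0, 0, -2, 0⟩, 445),
  (⟨5, -1, -5, -1, 0, 0, 2, 0⟩, 310),
  (⟨5, -1, -4, 0, -2, 0, -3, 1⟩, 145),
  (⟨5, -1, -4, 0, -2, 0, -1, -1⟩, 184),
  (⟨5, -1, -4, 0, -2, 0, 1, 1⟩, 319),
  (⟨5, -1, -4, 0, -2, 0, 3, -1⟩, 271),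
  (⟨5, -1, -4, 0, 2, 0, -3, 1⟩, 400),
  (⟨5, -1, -4, 0, 2, 0, -1, -1⟩, 454),
  (⟨5, -1, -4, 0, 2, 0, 1, 1⟩, 571),
  (⟨5, -1, -4, 0, 2, 0, 3, -1⟩, 532),
  (⟨5, -1, -3, -1, -3, -1, -1, 1⟩, 4251),
  (⟨5, -1, -3, -1, -3, -1, 1, -1⟩, 4265),
  (⟨5, -1, -3, -1, -1, 1, -3, -1⟩, 4530),
  (⟨5, -1, -3, -1, -1, 1, -1, 1⟩, 716),
  (⟨5, -1, -3, -1, -1, 1, 1, -1⟩, 702),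
  (⟨5, -1, -3, -1, -1, 1, 3, 1⟩, 295),
  (⟨5, -1, -3, -1, 1, -1, -3, -1⟩, 428),
  (⟨5, -1, -3, -1, 1, -1, -1, 1⟩, 839),
  (⟨5, -1, -3, -1, 1, -1, 1, -1⟩, 845),
  (⟨5, -1, -3, -1, 1, -1, 3, 1⟩, 4657),
  (⟨5, -1, -3, -1, 3, 1, -1, 1⟩, 4394),
  (⟨5, -1, -3, -1, 3, 1, 1, -1⟩, 4380),
  (⟨5, -1, -3, 1, -4, 0, -2, 0⟩, 141),
  (⟨5, -1, -3, 1, -4, 0, 2, 0⟩, 274),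
  (⟨5, -1, -3, 1, 0, 0, -2, 0⟩, 481),
  (⟨5, -1, -3, 1, 0, 0, 0, -2⟩, 912),
  (⟨5, -1, -3, 1, 0, 0, 0, 2⟩, 1039),
  (⟨5, -1, -3, 1, 0, 0, 2, 0⟩, 350),
  (⟨5, -1, -3, 1, 4, 0, -2, 0⟩, 403),
  (⟨5, -1, -3, 1, 4, 0, 2, 0⟩, 526),
  (⟨5, -1, -2, -2, -2, 0, -1, -1⟩, 4510),
  (⟨5, -1, -2, -2, -2, 0, 1, 1⟩, 4660),
  (⟨5, -1, -2, -2, 2, 0, -1, -1⟩, 4527),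
  (⟨5, -1, -2, -2, 2, 0, 1, 1⟩, 4641),
  (⟨5, -1, -2, 0, -5, -1, 0, 0⟩, 156),
  (⟨5, -1, -2, 0, -3, 1, -4, 0⟩, 143),
  (⟨5, -1, -2, 0, -3, 1, 0, 0⟩, 220),
  (⟨5, -1, -2, 0, -3, 1, 4, 0⟩, 270),
  (⟨5, -1, -2, 0, -1, -1, -4, 0⟩, 190),
  (⟨5, -1, -2, 0, -1, -1, -2, -2⟩, 933),
  (⟨5, -1, -2, 0, -1, -1, -2, 2⟩, 1171),
  (⟨5, -1, -2, 0, -1, -1, 0, 0⟩, 4319),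
  (⟨5, -1, -2, 0, -1, -1, 2, -2⟩, 1304),
  (⟨5, -1, -2, 0, -1, -1, 2, 2⟩, 1202),
  (⟨5, -1, -2, 0, -1, -1, 4, 0⟩, 291),
  (⟨5, -1, -2, 0, 1, 1, -4, 0⟩, 420),
  (⟨5, -1, -2, 0, 1, 1, -2, -2⟩, 1585),
  (⟨5, -1, -2, 0, 1, 1, -2, 2⟩, 1431),
  (⟨5, -1, -2, 0, 1, 1, 0, 0⟩, 4448),
  (⟨5, -1, -2, 0, 1, 1, 2, -2⟩, 1554),
  (⟨5, -1, -2, 0, 1, 1, 2, 2⟩, 1058),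
  (⟨5, -1, -2, 0, 1, 1, 4, 0⟩, 583),
  (⟨5, -1, -2, 0, 3, -1, -4, 0⟩, 397),
  (⟨5, -1, -2, 0, 3, -1, 0, 0⟩, 605),
  (⟨5, -1, -2, 0, 3, -1, 4, 0⟩, 528),
  (⟨5, -1, -2, 0, 5, 1, 0, 0⟩, 539),
  (⟨5, -1, -2, 2, -2, 0, -1, -1⟩, 910),
  (⟨5, -1, -2, 2, -2, 0, 1, 1⟩, 1040),
  (⟨5, -1, -2, 2, 2, 0, -1, -1⟩, 911),
  (⟨5, -1, -2, 2, 2, 0, 1, 1⟩, 1037),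
  (⟨5, -1, -1, -1, -4, 0, -2, 0⟩, 163),
  (⟨5, -1, -1, -1, -4, 0, 2, 0⟩, 315),
  (⟨5, -1, -1, -1, -2, -2, -2, 0⟩, 4258),
  (⟨5, -1, -1, -1, -2, -2, 2, 0⟩, 4250),
  (⟨5, -1, -1, -1, -2, 2, -2, 0⟩, 661),
  (⟨5, -1, -1, -1, -2, 2, 2, 0⟩, 657),
  (⟨5, -1, -1, -1, 0, 0, -2, 0⟩, 4578),
  (⟨5, -1, -1, -1, 0, 0, 0, -2⟩, 1740),
  (⟨5, -1, -1, -1, 0, 0, 0, 2⟩, 1869),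
  (⟨5, -1, -1, -1, 0, 0, 2, 0⟩, 4707),
  (⟨5, -1, -1, -1, 2, -2, -2, 0⟩, 788),
  (⟨5, -1, -1, -1, 2, -2, 2, 0⟩, 790),
  (⟨5, -1, -1, -1, 2, 2, -2, 0⟩, 4381),
  (⟨5, -1, -1, -1, 2, 2, 2, 0⟩, 4389),
  (⟨5, -1, -1, -1, 4, 0, -2, 0⟩, 440),
  (⟨5, -1, -1, -1, 4, 0, 2, 0⟩, 548),
  (⟨5, -1, -1, 1, -3, -1, -3, -1⟩, 925),
  (⟨5, -1, -1, 1, -3, -1, -1, 1⟩, 1222),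
  (⟨5, -1, -1, 1, -3, -1, 1, -1⟩, 1353),
  (⟨5, -1, -1, 1, -3, -1, 3, 1⟩, 298),
  (⟨5, -1, -1, 1, -1, 1, -3, -1⟩, 955),
  (⟨5, -1, -1, 1, -1, 1, -1, 1⟩, 1117),
  (⟨5, -1, -1, 1, -1, 1, 1, -1⟩, 2020),
  (⟨5, -1, -1, 1, -1, 1, 3, 1⟩, 1060),
  (⟨5, -1, -1, 1, 1, -1, -3, -1⟩, 931),
  (⟨5, -1, -1, 1, 1, -1, -1, 1⟩, 1124),
  (⟨5, -1, -1, 1, 1, -1, 1, -1⟩, 988),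
  (⟨5, -1, -1, 1, 1, -1, 3, 1⟩, 1080),
  (⟨5, -1, -1, 1, 3, 1, -3, -1⟩, 425),
  (⟨5, -1, -1, 1, 3, 1, -1, 1⟩, 1480),
  (⟨5, -1, -1, 1, 3, 1, 1, -1⟩, 1599),
  (⟨5, -1, -1, 1, 3, 1, 3, 1⟩, 1050),
  (⟨5, -1, 0, -2, -3, 1, 0, 0⟩, 658),
  (⟨5, -1, 0, -2, -1, -1, 0, 0⟩, 838),
  (⟨5, -1, 0, -2, 1, 1, 0, 0⟩, 703),
  (⟨5, -1, 0, -2, 3, -1, 0, 0⟩, 787),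
  (⟨5, -1, 0, 0, -2, 0, -5, -1⟩, 183),
  (⟨5, -1, 0, 0, -2, 0, -3, 1⟩, 222),
  (⟨5, -1, 0, 0, -2, 0, -1, -1⟩, 4837),
  (⟨5, -1, 0, 0, -2, 0, 1, 1⟩, 4966),
  (⟨5, -1, 0, 0, -2, 0, 3, -1⟩, 349),
  (⟨5, -1, 0, 0, -2, 0, 5, 1⟩, 285),
  (⟨5, -1, 0, 0, 0, -2, -3, 1⟩, 1175),
  (⟨5, -1, 0, 0, 0, -2, -1, -1⟩, 1339),
  (⟨5, -1, 0, 0, 0, -2, 1, 1⟩, 1224),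
  (⟨5, -1, 0, 0, 0, -2, 3, -1⟩, 1294),
  (⟨5, -1, 0, 0, 0, 2, -3, 1⟩, 1421),
  (⟨5, -1, 0, 0, 0, 2, -1, -1⟩, 1609),
  (⟨5, -1, 0, 0, 0, 2, 1, 1⟩, 1464),
  (⟨5, -1, 0, 0, 0, 2, 3, -1⟩, 1560),
  (⟨5, -1, 0, 0, 2, 0, -5, -1⟩, 410),
  (⟨5, -1, 0, 0, 2, 0, -3, 1⟩, 476),
  (⟨5, -1, 0, 0, 2, 0, -1, -1⟩, 102),
  (⟨5, -1, 0, 0, 2, 0, 1, 1⟩, 101),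
  (⟨5, -1, 0, 0, 2, 0, 3, -1⟩, 609),
  (⟨5, -1, 0, 0, 2, 0, 5, 1⟩, 572),
  (⟨5, -1, 0, 2, -3, 1, 0, 0⟩, 1937),
  (⟨5, -1, 0, 2, -1, -1, 0, 0⟩, 2119),
  (⟨5, -1, 0, 2, 1, 1, 0, 0⟩, 1982),
  (⟨5, -1, 0, 2, 3, -1, 0, 0⟩, 2068),
  (⟨5, -1, 1, -1, -3, -1, -3, -1⟩, 4775),
  (⟨5, -1, 1, -1, -3, -1, -1, 1⟩, 1208),
  (⟨5, -1, 1, -1, -3, -1, 1, -1⟩, 1351),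
  (⟨5, -1, 1, -1, -3, -1, 3, 1⟩, 4919),
  (⟨5, -1, 1, -1, -1, 1, -3, -1⟩, 1741),
  (⟨5, -1, 1, -1, -1, 1, -1, 1⟩, 1508),
  (⟨5, -1, 1, -1, -1, 1, 1, -1⟩, 734),
  (⟨5, -1, 1, -1, -1, 1, 3, 1⟩, 1864),
  (⟨5, -1, 1, -1, 1, -1, -3, -1⟩, 1737),
  (⟨5, -1, 1, -1, 1, -1, -1, 1⟩, 865),
  (⟨5, -1, 1, -1, 1, -1, 1, -1⟩, 100),
  (⟨5, -1, 1, -1, 1, -1, 3, 1⟩, 1868),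
  (⟨5, -1, 1, -1, 3, 1, -3, -1⟩, 5052),
  (⟨5, -1, 1, -1, 3, 1, -1, 1⟩, 1470),
  (⟨5, -1, 1, -1, 3, 1, 1, -1⟩, 1595),
  (⟨5, -1, 1, -1, 3, 1, 3, 1⟩, 5164),
  (⟨5, -1, 1, 1, -4, 0, -2, 0⟩, 2248),
  (⟨5, -1, 1, 1, -4, 0, 2, 0⟩, 2380),
  (⟨5, -1, 1, 1, -2, -2, -2, 0⟩, 2108),
  (⟨5, -1, 1, 1, -2, -2, 2, 0⟩, 1313),
  (⟨5, -1, 1, 1, -2, 2, -2, 0⟩, 1938),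
  (⟨5, -1, 1, 1, -2, 2, 2, 0⟩, 1935),
  (⟨5, -1, 1, 1, 0, 0, -2, 0⟩, 99),
  (⟨5, -1, 1, 1, 0, 0, 0, -2⟩, 932),
  (⟨5, -1, 1, 1, 0, 0, 0, 2⟩, 1059),
  (⟨5, -1, 1, 1, 0, 0, 2, 0⟩, 98),
  (⟨5, -1, 1, 1, 2, -2, -2, 0⟩, 2064),
  (⟨5, -1, 1, 1, 2, -2, 2, 0⟩, 2067),
  (⟨5, -1, 1, 1, 2, 2, -2, 0⟩, 1438),
  (⟨5, -1, 1, 1, 2, 2, 2, 0⟩, 1975),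
  (⟨5, -1, 1, 1, 4, 0, -2, 0⟩, 2509),
  (⟨5, -1, 1, 1, 4, 0, 2, 0⟩, 2633),
  (⟨5, -1, 2, -2, -2, 0, -1, -1⟩, 1686),
  (⟨5, -1, 2, -2, -2, 0, 1, 1⟩, 1815),
  (⟨5, -1, 2, -2, 2, 0, -1, -1⟩, 1688),
  (⟨5, -1, 2, -2, 2, 0, 1, 1⟩, 1813),
  (⟨5, -1, 2, 0, -5, -1, 0, 0⟩, 2223),
  (⟨5, -1, 2, 0, -3, 1, -4, 0⟩, 2199),
  (⟨5, -1, 2, 0, -3, 1, 0, 0⟩, 97),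
  (⟨5, -1, 2, 0, -3, 1, 4, 0⟩, 2325),
  (⟨5, -1, 2, 0, -1, -1, -4, 0⟩, 2252),
  (⟨5, -1, 2, 0, -1, -1, -2, -2⟩, 4790),
  (⟨5, -1, 2, 0, -1, -1, -2, 2⟩, 1165),
  (⟨5, -1, 2, 0, -1, -1, 0, 0⟩, 96),
  (⟨5, -1, 2, 0, -1, -1, 2, -2⟩, 1300),
  (⟨5, -1, 2, 0, -1, -1, 2, 2⟩, 1182),
  (⟨5, -1, 2, 0, -1, -1, 4, 0⟩, 2367),
  (⟨5, -1, 2, 0, 1, 1, -4, 0⟩, 2502),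
  (⟨5, -1, 2, 0, 1, 1, -2, -2⟩, 1569),
  (⟨5, -1, 2, 0, 1, 1, -2, 2⟩, 1425),
  (⟨5, -1, 2, 0, 1, 1, 0, 0⟩, 95),
  (⟨5, -1, 2, 0, 1, 1, 2, -2⟩, 1550),
  (⟨5, -1, 2, 0, 1, 1, 2, 2⟩, 5181),
  (⟨5, -1, 2, 0, 1, 1, 4, 0⟩, 2637),
  (⟨5, -1, 2, 0, 3, -1, -4, 0⟩, 2454),
  (⟨5, -1, 2, 0, 3, -1, 0, 0⟩, 94),
  (⟨5, -1, 2, 0, 3, -1, 4, 0⟩, 2584),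
  (⟨5, -1, 2, 0, 5, 1, 0, 0⟩, 2612),
  (⟨5, -1, 2, 2, -2, 0, -1, -1⟩, 923),
  (⟨5, -1, 2, 2, -2, 0, 1, 1⟩, 1061),
  (⟨5, -1, 2, 2, 2, 0, -1, -1⟩, 930),
  (⟨5, -1, 2, 2, 2, 0, 1, 1⟩, 1052),
  (⟨5, -1, 3, -1, -4, 0, -2, 0⟩, 2193),
  (⟨5, -1, 3, -1, -4, 0, 2, 0⟩, 2328),
  (⟨5, -1, 3, -1, 0, 0, -2, 0⟩, 93),
  (⟨5, -1, 3, -1, 0, 0, 0, -2⟩, 1685),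
  (⟨5, -1, 3, -1, 0, 0, 0, 2⟩, 1814),
  (⟨5, -1, 3, -1, 0, 0, 2, 0⟩, 92),
  (⟨5, -1, 3, -1, 4, 0, -2, 0⟩, 2455),
  (⟨5, -1, 3, -1, 4, 0, 2, 0⟩, 2580),
  (⟨5, -1, 3, 1, -3, -1, -1, 1⟩, 1196),
  (⟨5, -1, 3, 1, -3, -1, 1, -1⟩, 1332),
  (⟨5, -1, 3, 1, -1, 1, -3, -1⟩, 1962),
  (⟨5, -1, 3, 1, -1, 1, -1, 1⟩, 1983),
  (⟨5, -1, 3, 1, -1, 1, 1, -1⟩, 1955),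
  (⟨5, -1, 3, 1, -1, 1, 3, 1⟩, 1974),
  (⟨5, -1, 3, 1, 1, -1, -3, -1⟩, 2109),
  (⟨5, -1, 3, 1, 1, -1, -1, 1⟩, 2084),
  (⟨5, -1, 3, 1, 1, -1, 1, -1⟩, 2118),
  (⟨5, -1, 3, 1, 1, -1, 3, 1⟩, 2089),
  (⟨5, -1, 3, 1, 3, 1, -1, 1⟩, 1455),
  (⟨5, -1, 3, 1, 3, 1, 1, -1⟩, 1575),
  (⟨5, -1, 4, 0, -2, 0, -3, 1⟩, 2197),
  (⟨5, -1, 4, 0, -2, 0, -1, -1⟩, 2238),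
  (⟨5, -1, 4, 0, -2, 0, 1, 1⟩, 2377),
  (⟨5, -1, 4, 0, -2, 0, 3, -1⟩, 2322),
  (⟨5, -1, 4, 0, 2, 0, -3, 1⟩, 2451),
  (⟨5, -1, 4, 0, 2, 0, -1, -1⟩, 2504),
  (⟨5, -1, 4, 0, 2, 0, 1, 1⟩, 2631),
  (⟨5, -1, 4, 0, 2, 0, 3, -1⟩, 2582),
  (⟨5, -1, 5, 1, 0, 0, -2, 0⟩, 2482),
  (⟨5, -1, 5, 1, 0, 0, 2, 0⟩, 2353),
  (⟨5, 1, -5, 1, -2, 0, 0, 0⟩, 178),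
  (⟨5, 1, -5, 1, 2, 0, 0, 0⟩, 561),
  (⟨5, 1, -4, 0, -3, -1, -2, 0⟩, 131),
  (⟨5, 1, -4, 0, -3, -1, 2, 0⟩, 262),
  (⟨5, 1, -4, 0, -1, 1, -2, 0⟩, 192),
  (⟨5, 1, -4, 0, -1, 1, 2, 0⟩, 302),
  (⟨5, 1, -4, 0, 1, -1, -2, 0⟩, 437),
  (⟨5, 1, -4, 0, 1, -1, 2, 0⟩, 581),
  (⟨5, 1, -4, 0, 3, 1, -2, 0⟩, 391),
  (⟨5, 1, -4, 0, 3, 1, 2, 0⟩, 516),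
  (⟨5, 1, -3, -1, -2, 0, -4, 0⟩, 133),
  (⟨5, 1, -3, -1, -2, 0, 0, 0⟩, 211),
  (⟨5, 1, -3, -1, -2, 0, 4, 0⟩, 257),
  (⟨5, 1, -3, -1, 0, -2, 0, 0⟩, 772),
  (⟨5, 1, -3, -1, 0, 2, 0, 0⟩, 643),
  (⟨5, 1, -3, -1, 2, 0, -4, 0⟩, 386),
  (⟨5, 1, -3, -1, 2, 0, 0, 0⟩, 598),
  (⟨5, 1, -3, -1, 2, 0, 4, 0⟩, 520),
  (⟨5, 1, -3, 1, -3, 1, -1, -1⟩, 169),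
  (⟨5, 1, -3, 1, -3, 1, 1, 1⟩, 2998),
  (⟨5, 1, -3, 1, -1, -1, -3, 1⟩, 2732),
  (⟨5, 1, -3, 1, -1, -1, -1, -1⟩, 964),
  (⟨5, 1, -3, 1, -1, -1, 1, 1⟩, 1103),
  (⟨5, 1, -3, 1, -1, -1, 3, -1⟩, 2845),
  (⟨5, 1, -3, 1, 1, 1, -3, 1⟩, 2714),
  (⟨5, 1, -3, 1, 1, 1, -1, -1⟩, 974),
  (⟨5, 1, -3, 1, 1, 1, 1, 1⟩, 1091),
  (⟨5, 1, -3, 1, 1, 1, 3, -1⟩, 2855),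
  (⟨5, 1, -3, 1, 3, -1, -1, -1⟩, 3133),
  (⟨5, 1, -3, 1, 3, -1, 1, 1⟩, 554),
  (⟨5, 1, -2, -2, -1, 1, -2, 0⟩, 644),
  (⟨5, 1, -2, -2, -1, 1, 2, 0⟩, 642),
  (⟨5, 1, -2, -2, 1, -1, -2, 0⟩, 769),
  (⟨5, 1, -2, -2, 1, -1, 2, 0⟩, 771),
  (⟨5, 1, -2, 0, -4, 0, -3, -1⟩, 129),
  (⟨5, 1, -2, 0, -4, 0, -1, 1⟩, 159),
  (⟨5, 1, -2, 0, -4, 0, 1, -1⟩, 323),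
  (⟨5, 1, -2, 0, -4, 0, 3, 1⟩, 260),
  (⟨5, 1, -2, 0, -2, -2, -1, 1⟩, 1163),
  (⟨5, 1, -2, 0, -2, -2, 1, -1⟩, 1285),
  (⟨5, 1, -2, 0, -2, 2, -1, 1⟩, 1469),
  (⟨5, 1, -2, 0, -2, 2, 1, -1⟩, 670),
  (⟨5, 1, -2, 0, 0, 0, -5, 1⟩, 413),
  (⟨5, 1, -2, 0, 0, 0, -3, -1⟩, 466),
  (⟨5, 1, -2, 0, 0, 0, -1, 1⟩, 2772),
  (⟨5, 1, -2, 0, 0, 0, 1, -1⟩, 2901),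
  (⟨5, 1, -2, 0, 0, 0, 3, 1⟩, 337),
  (⟨5, 1, -2, 0, 0, 0, 5, -1⟩, 282),
  (⟨5, 1, -2, 0, 2, -2, -1, 1⟩, 801),
  (⟨5, 1, -2, 0, 2, -2, 1, -1⟩, 1334),
  (⟨5, 1, -2, 0, 2, 2, -1, 1⟩, 1416),
  (⟨5, 1, -2, 0, 2, 2, 1, -1⟩, 1548),
  (⟨5, 1, -2, 0, 4, 0, -3, -1⟩, 387),
  (⟨5, 1, -2, 0, 4, 0, -1, 1⟩, 452),
  (⟨5, 1, -2, 0, 4, 0, 1, -1⟩, 544),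
  (⟨5, 1, -2, 0, 4, 0, 3, 1⟩, 514),
  (⟨5, 1, -2, 2, -1, 1, -2, 0⟩, 2999),
  (⟨5, 1, -2, 2, -1, 1, 2, 0⟩, 2978),
  (⟨5, 1, -2, 2, 1, -1, -2, 0⟩, 3109),
  (⟨5, 1, -2, 2, 1, -1, 2, 0⟩, 3132),
  (⟨5, 1, -1, -1, -3, 1, -3, 1⟩, 167),
  (⟨5, 1, -1, -1, -3, 1, -1, -1⟩, 672),
  (⟨5, 1, -1, -1, -3, 1, 1, 1⟩, 693),
  (⟨5, 1, -1, -1, -3, 1, 3, -1⟩, 668),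
  (⟨5, 1, -1, -1, -1, -1, -3, 1⟩, 1226),
  (⟨5, 1, -1, -1, -1, -1, -1, -1⟩, 855),
  (⟨5, 1, -1, -1, -1, -1, 1, 1⟩, 850),
  (⟨5, 1, -1, -1, -1, -1, 3, -1⟩, 1344),
  (⟨5, 1, -1, -1, 1, 1, -3, 1⟩, 1477),
  (⟨5, 1, -1, -1, 1, 1, -1, -1⟩, 721),
  (⟨5, 1, -1, -1, 1, 1, 1, 1⟩, 1879),
  (⟨5, 1, -1, -1, 1, 1, 3, -1⟩, 1611),
  (⟨5, 1, -1, -1, 3, -1, -3, 1⟩, 795),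
  (⟨5, 1, -1, -1, 3, -1, -1, -1⟩, 814),
  (⟨5, 1, -1, -1, 3, -1, 1, 1⟩, 799),
  (⟨5, 1, -1, -1, 3, -1, 3, -1⟩, 556),
  (⟨5, 1, -1, 1, -2, 0, -4, 0⟩, 174),
  (⟨5, 1, -1, 1, -2, 0, -2, -2⟩, 903),
  (⟨5, 1, -1, 1, -2, 0, -2, 2⟩, 2716),
  (⟨5, 1, -1, 1, -2, 0, 0, 0⟩, 3032),
  (⟨5, 1, -1, 1, -2, 0, 2, -2⟩, 2849),
  (⟨5, 1, -1, 1, -2, 0, 2, 2⟩, 1034),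
  (⟨5, 1, -1, 1, -2, 0, 4, 0⟩, 288),
  (⟨5, 1, -1, 1, 0, -2, 0, 0⟩, 2126),
  (⟨5, 1, -1, 1, 0, 2, 0, 0⟩, 1999),
  (⟨5, 1, -1, 1, 2, 0, -4, 0⟩, 415),
  (⟨5, 1, -1, 1, 2, 0, -2, -2⟩, 905),
  (⟨5, 1, -1, 1, 2, 0, -2, 2⟩, 2718),
  (⟨5, 1, -1, 1, 2, 0, 0, 0⟩, 3161),
  (⟨5, 1, -1, 1, 2, 0, 2, -2⟩, 2843),
  (⟨5, 1, -1, 1, 2, 0, 2, 2⟩, 1030),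
  (⟨5, 1, -1, 1, 2, 0, 4, 0⟩, 565),
  (⟨5, 1, 0, -2, 0, 0, -3, -1⟩, 1671),
  (⟨5, 1, 0, -2, 0, 0, -1, 1⟩, 1859),
  (⟨5, 1, 0, -2, 0, 0, 1, -1⟩, 1732),
  (⟨5, 1, 0, -2, 0, 0, 3, 1⟩, 1798),
  (⟨5, 1, 0, 0, -5, 1, -2, 0⟩, 155),
  (⟨5, 1, 0, 0, -5, 1, 2, 0⟩, 308),
  (⟨5, 1, 0, 0, -3, -1, -2, 0⟩, 209),
  (⟨5, 1, 0, 0, -3, -1, 0, -2⟩, 1291),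
  (⟨5, 1, 0, 0, -3, -1, 0, 2⟩, 1153),
  (⟨5, 1, 0, 0, -3, -1, 2, 0⟩, 342),
  (⟨5, 1, 0, 0, -1, 1, -2, 0⟩, 3290),
  (⟨5, 1, 0, 0, -1, 1, 0, -2⟩, 1589),
  (⟨5, 1, 0, 0, -1, 1, 0, 2⟩, 1483),
  (⟨5, 1, 0, 0, -1, 1, 2, 0⟩, 3419),
  (⟨5, 1, 0, 0, 1, -1, -2, 0⟩, 91),
  (⟨5, 1, 0, 0, 1, -1, 0, -2⟩, 1354),
  (⟨5, 1, 0, 0, 1, -1, 0, 2⟩, 1198),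
  (⟨5, 1, 0, 0, 1, -1, 2, 0⟩, 90),
  (⟨5, 1, 0, 0, 3, 1, -2, 0⟩, 467),
  (⟨5, 1, 0, 0, 3, 1, 0, -2⟩, 1538),
  (⟨5, 1, 0, 0, 3, 1, 0, 2⟩, 1420),
  (⟨5, 1, 0, 0, 3, 1, 2, 0⟩, 594),
  (⟨5, 1, 0, 0, 5, -1, -2, 0⟩, 431),
  (⟨5, 1, 0, 0, 5, -1, 2, 0⟩, 540),
  (⟨5, 1, 0, 2, 0, 0, -3, -1⟩, 901),
  (⟨5, 1, 0, 2, 0, 0, -1, 1⟩, 1093),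
  (⟨5, 1, 0, 2, 0, 0, 1, -1⟩, 960),
  (⟨5, 1, 0, 2, 0, 0, 3, 1⟩, 1032),
  (⟨5, 1, 1, -1, -2, 0, -4, 0⟩, 2254),
  (⟨5, 1, 1, -1, -2, 0, -2, -2⟩, 1667),
  (⟨5, 1, 1, -1, -2, 0, -2, 2⟩, 1186),
  (⟨5, 1, 1, -1, -2, 0, 0, 0⟩, 89),
  (⟨5, 1, 1, -1, -2, 0, 2, -2⟩, 1711),
  (⟨5, 1, 1, -1, -2, 0, 2, 2⟩, 1800),
  (⟨5, 1, 1, -1, -2, 0, 4, 0⟩, 2378),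
  (⟨5, 1, 1, -1, 0, -2, 0, 0⟩, 800),
  (⟨5, 1, 1, -1, 0, 2, 0, 0⟩, 671),
  (⟨5, 1, 1, -1, 2, 0, -4, 0⟩, 2507),
  (⟨5, 1, 1, -1, 2, 0, -2, -2⟩, 1669),
  (⟨5, 1, 1, -1, 2, 0, -2, 2⟩, 1844),
  (⟨5, 1, 1, -1, 2, 0, 0, 0⟩, 88),
  (⟨5, 1, 1, -1, 2, 0, 2, -2⟩, 1573),
  (⟨5, 1, 1, -1, 2, 0, 2, 2⟩, 1796),
  (⟨5, 1, 1, -1, 2, 0, 4, 0⟩, 2639),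
  (⟨5, 1, 1, 1, -3, 1, -3, 1⟩, 3247),
  (⟨5, 1, 1, 1, -3, 1, -1, -1⟩, 1995),
  (⟨5, 1, 1, 1, -3, 1, 1, 1⟩, 1998),
  (⟨5, 1, 1, 1, -3, 1, 3, -1⟩, 3370),
  (⟨5, 1, 1, 1, -1, -1, -3, 1⟩, 1219),
  (⟨5, 1, 1, 1, -1, -1, -1, -1⟩, 979),
  (⟨5, 1, 1, 1, -1, -1, 1, 1⟩, 1239),
  (⟨5, 1, 1, 1, -1, -1, 3, -1⟩, 1326),
  (⟨5, 1, 1, 1, 1, 1, -3, 1⟩, 1461),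
  (⟨5, 1, 1, 1, 1, 1, -1, -1⟩, 87),
  (⟨5, 1, 1, 1, 1, 1, 1, 1⟩, 1110),
  (⟨5, 1, 1, 1, 1, 1, 3, -1⟩, 1604),
  (⟨5, 1, 1, 1, 3, -1, -3, 1⟩, 3497),
  (⟨5, 1, 1, 1, 3, -1, -1, -1⟩, 2127),
  (⟨5, 1, 1, 1, 3, -1, 1, 1⟩, 2122),
  (⟨5, 1, 1, 1, 3, -1, 3, -1⟩, 3636),
  (⟨5, 1, 2, -2, -1, 1, -2, 0⟩, 673),
  (⟨5, 1, 2, -2, -1, 1, 2, 0⟩, 669),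
  (⟨5, 1, 2, -2, 1, -1, -2, 0⟩, 794),
  (⟨5, 1, 2, -2, 1, -1, 2, 0⟩, 798),
  (⟨5, 1, 2, 0, -4, 0, -3, -1⟩, 2185),
  (⟨5, 1, 2, 0, -4, 0, -1, 1⟩, 2240),
  (⟨5, 1, 2, 0, -4, 0, 1, -1⟩, 2383),
  (⟨5, 1, 2, 0, -4, 0, 3, 1⟩, 2315),
  (⟨5, 1, 2, 0, -2, -2, -1, 1⟩, 1158),
  (⟨5, 1, 2, 0, -2, -2, 1, -1⟩, 1281),
  (⟨5, 1, 2, 0, -2, 2, -1, 1⟩, 1445),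
  (⟨5, 1, 2, 0, -2, 2, 1, -1⟩, 3377),
  (⟨5, 1, 2, 0, 0, 0, -5, 1⟩, 2492),
  (⟨5, 1, 2, 0, 0, 0, -3, -1⟩, 86),
  (⟨5, 1, 2, 0, 0, 0, -1, 1⟩, 85),
  (⟨5, 1, 2, 0, 0, 0, 1, -1⟩, 84),
  (⟨5, 1, 2, 0, 0, 0, 3, 1⟩, 83),
  (⟨5, 1, 2, 0, 0, 0, 5, -1⟩, 2359),
  (⟨5, 1, 2, 0, 2, -2, -1, 1⟩, 3506),
  (⟨5, 1, 2, 0, 2, -2, 1, -1⟩, 1314),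
  (⟨5, 1, 2, 0, 2, 2, -1, 1⟩, 1410),
  (⟨5, 1, 2, 0, 2, 2, 1, -1⟩, 1543),
  (⟨5, 1, 2, 0, 4, 0, -3, -1⟩, 2444),
  (⟨5, 1, 2, 0, 4, 0, -1, 1⟩, 2510),
  (⟨5, 1, 2, 0, 4, 0, 1, -1⟩, 2629),
  (⟨5, 1, 2, 0, 4, 0, 3, 1⟩, 2570),
  (⟨5, 1, 2, 2, -1, 1, -2, 0⟩, 1932),
  (⟨5, 1, 2, 2, -1, 1, 2, 0⟩, 1929),
  (⟨5, 1, 2, 2, 1, -1, -2, 0⟩, 2058),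
  (⟨5, 1, 2, 2, 1, -1, 2, 0⟩, 2059),
  (⟨5, 1, 3, -1, -3, 1, -1, -1⟩, 1714),
  (⟨5, 1, 3, -1, -3, 1, 1, 1⟩, 1836),
  (⟨5, 1, 3, -1, -1, -1, -3, 1⟩, 1207),
  (⟨5, 1, 3, -1, -1, -1, -1, -1⟩, 1695),
  (⟨5, 1, 3, -1, -1, -1, 1, 1⟩, 1861),
  (⟨5, 1, 3, -1, -1, -1, 3, -1⟩, 1321),
  (⟨5, 1, 3, -1, 1, 1, -3, 1⟩, 1450),
  (⟨5, 1, 3, -1, 1, 1, -1, -1⟩, 1728),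
  (⟨5, 1, 3, -1, 1, 1, 1, 1⟩, 1824),
  (⟨5, 1, 3, -1, 1, 1, 3, -1⟩, 1596),
  (⟨5, 1, 3, -1, 3, -1, -1, -1⟩, 1703),
  (⟨5, 1, 3, -1, 3, -1, 1, 1⟩, 1841),
  (⟨5, 1, 3, 1, -2, 0, -4, 0⟩, 2187),
  (⟨5, 1, 3, 1, -2, 0, 0, 0⟩, 82),
  (⟨5, 1, 3, 1, -2, 0, 4, 0⟩, 2310),
  (⟨5, 1, 3, 1, 0, -2, 0, 0⟩, 2057),
  (⟨5, 1, 3, 1, 0, 2, 0, 0⟩, 1930),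
  (⟨5, 1, 3, 1, 2, 0, -4, 0⟩, 2439),
  (⟨5, 1, 3, 1, 2, 0, 0, 0⟩, 81),
  (⟨5, 1, 3, 1, 2, 0, 4, 0⟩, 2572),
  (⟨5, 1, 4, 0, -3, -1, -2, 0⟩, 2181),
  (⟨5, 1, 4, 0, -3, -1, 2, 0⟩, 2314),
  (⟨5, 1, 4, 0, -1, 1, -2, 0⟩, 2250),
  (⟨5, 1, 4, 0, -1, 1, 2, 0⟩, 2371),
  (⟨5, 1, 4, 0, 1, -1, -2, 0⟩, 2500),
  (⟨5, 1, 4, 0, 1, -1, 2, 0⟩, 2635),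
  (⟨5, 1, 4, 0, 3, 1, -2, 0⟩, 2441),
  (⟨5, 1, 4, 0, 3, 1, 2, 0⟩, 2568),
  (⟨5, 1, 5, -1, -2, 0, 0, 0⟩, 2230),
  (⟨5, 1, 5, -1, 2, 0, 0, 0⟩, 2621),
  (⟨6, -2, 0, 0, 0, 0, 0, 0⟩, 80),
  (⟨6, 0, -4, 0, -1, -1, -1, 1⟩, 175),
  (⟨6, 0, -4, 0, -1, -1, 1, -1⟩, 311),
  (⟨6, 0, -4, 0, 1, 1, -1, 1⟩, 444),
  (⟨6, 0, -4, 0, 1, 1, 1, -1⟩, 564),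
  (⟨6, 0, -3, -1, 0, 0, -3, 1⟩, 421),
  (⟨6, 0, -3, -1, 0, 0, -1, -1⟩, 79),
  (⟨6, 0, -3, -1, 0, 0, 1, 1⟩, 78),
  (⟨6, 0, -3, -1, 0, 0, 3, -1⟩, 290),
  (⟨6, 0, -3, 1, -3, -1, 0, 0⟩, 158),
  (⟨6, 0, -3, 1, -1, 1, 0, 0⟩, 77),
  (⟨6, 0, -3, 1, 1, -1, 0, 0⟩, 76),
  (⟨6, 0, -3, 1, 3, 1, 0, 0⟩, 545),
  (⟨6, 0, -2, 0, -2, 0, -2, 0⟩, 166),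
  (⟨6, 0, -2, 0, -2, 0, 0, -2⟩, 956),
  (⟨6, 0, -2, 0, -2, 0, 0, 2⟩, 1193),
  (⟨6, 0, -2, 0, -2, 0, 2, 0⟩, 296),
  (⟨6, 0, -2, 0, 0, -2, -2, 0⟩, 820),
  (⟨6, 0, -2, 0, 0, -2, 2, 0⟩, 1319),
  (⟨6, 0, -2, 0, 0, 2, -2, 0⟩, 1452),
  (⟨6, 0, -2, 0, 0, 2, 2, 0⟩, 687),
  (⟨6, 0, -2, 0, 2, 0, -2, 0⟩, 427),
  (⟨6, 0, -2, 0, 2, 0, 0, -2⟩, 1578),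
  (⟨6, 0, -2, 0, 2, 0, 0, 2⟩, 1079),
  (⟨6, 0, -2, 0, 2, 0, 2, 0⟩, 557),
  (⟨6, 0, -1, -1, -3, -1, 0, 0⟩, 75),
  (⟨6, 0, -1, -1, -1, 1, -4, 0⟩, 182),
  (⟨6, 0, -1, -1, -1, 1, 0, 0⟩, 688),
  (⟨6, 0, -1, -1, -1, 1, 4, 0⟩, 283),
  (⟨6, 0, -1, -1, 1, -1, -4, 0⟩, 412),
  (⟨6, 0, -1, -1, 1, -1, 0, 0⟩, 819),
  (⟨6, 0, -1, -1, 1, -1, 4, 0⟩, 573),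
  (⟨6, 0, -1, -1, 3, 1, 0, 0⟩, 74),
  (⟨6, 0, -1, 1, -4, 0, -1, -1⟩, 154),
  (⟨6, 0, -1, 1, -4, 0, 1, 1⟩, 305),
  (⟨6, 0, -1, 1, 0, 0, -3, 1⟩, 73),
  (⟨6, 0, -1, 1, 0, 0, -1, -1⟩, 953),
  (⟨6, 0, -1, 1, 0, 0, 1, 1⟩, 1082),
  (⟨6, 0, -1, 1, 0, 0, 3, -1⟩, 72),
  (⟨6, 0, -1, 1, 4, 0, -1, -1⟩, 434),
  (⟨6, 0, -1, 1, 4, 0, 1, 1⟩, 541),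
  (⟨6, 0, 0, -2, -2, 0, -2, 0⟩, 689),
  (⟨6, 0, 0, -2, -2, 0, 2, 0⟩, 682),
  (⟨6, 0, 0, -2, 2, 0, -2, 0⟩, 809),
  (⟨6, 0, 0, -2, 2, 0, 2, 0⟩, 818),
  (⟨6, 0, 0, 0, -3, 1, -3, -1⟩, 162),
  (⟨6, 0, 0, 0, -3, 1, -1, 1⟩, 71),
  (⟨6, 0, 0, 0, -3, 1, 1, -1⟩, 70),
  (⟨6, 0, 0, 0, -3, 1, 3, 1⟩, 289),
  (⟨6, 0, 0, 0, -1, -1, -3, -1⟩, 69),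
  (⟨6, 0, 0, 0, -1, -1, -1, 1⟩, 1217),
  (⟨6, 0, 0, 0, -1, -1, 1, -1⟩, 1346),
  (⟨6, 0, 0, 0, -1, -1, 3, 1⟩, 68),
  (⟨6, 0, 0, 0, 1, 1, -3, -1⟩, 67),
  (⟨6, 0, 0, 0, 1, 1, -1, 1⟩, 66),
  (⟨6, 0, 0, 0, 1, 1, 1, -1⟩, 65),
  (⟨6, 0, 0, 0, 1, 1, 3, 1⟩, 64),
  (⟨6, 0, 0, 0, 3, -1, -3, -1⟩, 414),
  (⟨6, 0, 0, 0, 3, -1, -1, 1⟩, 63),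
  (⟨6, 0, 0, 0, 3, -1, 1, -1⟩, 62),
  (⟨6, 0, 0, 0, 3, -1, 3, 1⟩, 549),
  (⟨6, 0, 0, 2, -2, 0, -2, 0⟩, 935),
  (⟨6, 0, 0, 2, -2, 0, 2, 0⟩, 1085),
  (⟨6, 0, 0, 2, 2, 0, -2, 0⟩, 950),
  (⟨6, 0, 0, 2, 2, 0, 2, 0⟩, 1068),
  (⟨6, 0, 1, -1, -4, 0, -1, -1⟩, 61),
  (⟨6, 0, 1, -1, -4, 0, 1, 1⟩, 60),
  (⟨6, 0, 1, -1, 0, 0, -3, 1⟩, 59),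
  (⟨6, 0, 1, -1, 0, 0, -1, -1⟩, 58),
  (⟨6, 0, 1, -1, 0, 0, 1, 1⟩, 57),
  (⟨6, 0, 1, -1, 0, 0, 3, -1⟩, 56),
  (⟨6, 0, 1, -1, 4, 0, -1, -1⟩, 55),
  (⟨6, 0, 1, -1, 4, 0, 1, 1⟩, 54),
  (⟨6, 0, 1, 1, -3, -1, 0, 0⟩, 53),
  (⟨6, 0, 1, 1, -1, 1, -4, 0⟩, 52),
  (⟨6, 0, 1, 1, -1, 1, 0, 0⟩, 51),
  (⟨6, 0, 1, 1, -1, 1, 4, 0⟩, 50),
  (⟨6, 0, 1, 1, 1, -1, -4, 0⟩, 49),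
  (⟨6, 0, 1, 1, 1, -1, 0, 0⟩, 48),
  (⟨6, 0, 1, 1, 1, -1, 4, 0⟩, 47),
  (⟨6, 0, 1, 1, 3, 1, 0, 0⟩, 46),
  (⟨6, 0, 2, 0, -2, 0, -2, 0⟩, 45),
  (⟨6, 0, 2, 0, -2, 0, 0, -2⟩, 44),
  (⟨6, 0, 2, 0, -2, 0, 0, 2⟩, 1178),
  (⟨6, 0, 2, 0, -2, 0, 2, 0⟩, 43),
  (⟨6, 0, 2, 0, 0, -2, -2, 0⟩, 42),
  (⟨6, 0, 2, 0, 0, -2, 2, 0⟩, 1307),
  (⟨6, 0, 2, 0, 0, 2, -2, 0⟩, 1436),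
  (⟨6, 0, 2, 0, 0, 2, 2, 0⟩, 41),
  (⟨6, 0, 2, 0, 2, 0, -2, 0⟩, 40),
  (⟨6, 0, 2, 0, 2, 0, 0, -2⟩, 1565),
  (⟨6, 0, 2, 0, 2, 0, 0, 2⟩, 39),
  (⟨6, 0, 2, 0, 2, 0, 2, 0⟩, 38),
  (⟨6, 0, 3, -1, -3, -1, 0, 0⟩, 37),
  (⟨6, 0, 3, -1, -1, 1, 0, 0⟩, 36),
  (⟨6, 0, 3, -1, 1, -1, 0, 0⟩, 35),
  (⟨6, 0, 3, -1, 3, 1, 0, 0⟩, 34),
  (⟨6, 0, 3, 1, 0, 0, -3, 1⟩, 33),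
  (⟨6, 0, 3, 1, 0, 0, -1, -1⟩, 32),
  (⟨6, 0, 3, 1, 0, 0, 1, 1⟩, 31),
  (⟨6, 0, 3, 1, 0, 0, 3, -1⟩, 30),
  (⟨6, 0, 4, 0, -1, -1, -1, 1⟩, 29),
  (⟨6, 0, 4, 0, -1, -1, 1, -1⟩, 28),
  (⟨6, 0, 4, 0, 1, 1, -1, 1⟩, 27),
  (⟨6, 0, 4, 0, 1, 1, 1, -1⟩, 26),
  (⟨6, 2, 0, 0, 0, 0, 0, 0⟩, 25),
  (⟨7, -1, -2, 0, 0, 0, -1, 1⟩, 24),
  (⟨7, -1, -2, 0, 0, 0, 1, -1⟩, 23),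
  (⟨7, -1, -1, 1, -2, 0, 0, 0⟩, 22),
  (⟨7, -1, -1, 1, 2, 0, 0, 0⟩, 21),
  (⟨7, -1, 0, 0, -1, 1, -2, 0⟩, 20),
  (⟨7, -1, 0, 0, -1, 1, 2, 0⟩, 19),
  (⟨7, -1, 0, 0, 1, -1, -2, 0⟩, 18),
  (⟨7, -1, 0, 0, 1, -1, 2, 0⟩, 17),
  (⟨7, -1, 1, -1, -2, 0, 0, 0⟩, 16),
  (⟨7, -1, 1, -1, 2, 0, 0, 0⟩, 15),
  (⟨7, -1, 2, 0, 0, 0, -1, 1⟩, 14),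
  (⟨7, -1, 2, 0, 0, 0, 1, -1⟩, 13),
  (⟨7, 1, -2, 0, -1, -1, 0, 0⟩, 12),
  (⟨7, 1, -2, 0, 1, 1, 0, 0⟩, 11),
  (⟨7, 1, -1, -1, 0, 0, -2, 0⟩, 10),
  (⟨7, 1, -1, -1, 0, 0, 2, 0⟩, 9),
  (⟨7, 1, 0, 0, -2, 0, -1, -1⟩, 8),
  (⟨7, 1, 0, 0, -2, 0, 1, 1⟩, 7),
  (⟨7, 1, 0, 0, 2, 0, -1, -1⟩, 6),
  (⟨7, 1, 0, 0, 2, 0, 1, 1⟩, 5),
  (⟨7, 1, 1, 1, 0, 0, -2, 0⟩, 4),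
  (⟨7, 1, 1, 1, 0, 0, 2, 0⟩, 3),
  (⟨7, 1, 2, 0, -1, -1, 0, 0⟩, 2),
  (⟨7, 1, 2, 0, 1, 1, 0, 0⟩, 1),
  (⟨8, 0, 0, 0, 0, 0, 0, 0⟩, 0)]

set_option maxRecDepth 1000000 in
/-- the icosians of small norm, each with the number of a unit and of a representative. -/
def xPairs : List (Z8 × Nat) :=
  xPairs0 ++ xPairs1 ++ xPairs2 ++ xPairs3 ++ xPairs4 ++ xPairs5 ++ xPairs6 ++ xPairs7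

end Cfsg.Agent.Helper9.J2B
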