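import Mathlib

set_option autoImplicit false

/-! A search for the short vectors of a lattice given by congruences, coordinate by coordinate. -/

namespace Cfsg.Agent.Helper9.J2B

/-- a level of the search: the weight of the square of the coordinate, and the congruences that
end at this coordinate, each with the coefficient of this coordinate and those of the earlier
ones, latest first. -/
structure Lvl where
  w : Nat
  tests : List (Nat × List Nat)

def dotN : List Nat → List Nat → Nat
  | [], _ => 0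
  | _ :: _, [] => 0
  | a :: as, b :: bs => a * b + dotN as bs

/-- the square of `c - 8`. -/
def sqc (c : Nat) : Nat := c * c + 64 - 16 * c

def okTests (bases : List (Nat × Nat)) (c : Nat) : Bool :=
  bases.all fun p => (p.1 * c + p.2) % 8 == 0

/-- the loop over the values `n - 1, …, 0` of a coordinate. -/
def loopC {α : Type} (w bud : Nat) (bases : List (Nat × Nat))
    (k : Nat → Nat → List α → List α) : Nat → List α → List α
  | 0, acc => acc
  | n + 1, acc =>
    loopC w bud bases k n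
      (cond (Nat.ble (w * sqc n) bud && okTests bases n) (k n (bud - w * sqc n) acc) acc)

/-- the search; `pre` holds the coordinates chosen so far, latest first. -/
def srch {α : Type} (leaf : List Nat → Nat → List α → List α) :
    List Lvl → List Nat → Nat → List α → List α
  | [], pre, bud, acc => leaf pre bud acc
  | l :: ls, pre, bud, acc =>
    loopC l.w bud (l.tests.map fun t => (t.1, dotN t.2 pre))
      (fun c bud' acc' => srch leaf ls (c :: pre) bud' acc') 17 acc

section theory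

variable {α : Type}

theorem loopC_mono (w bud : Nat) (bases : List (Nat × Nat)) (k : Nat → Nat → List α → List α)
    (hk : ∀ c b a x, x ∈ a → x ∈ k c b a) :
    ∀ (n : Nat) (acc : List α) (x : α), x ∈ acc → x ∈ loopC w bud bases k n acc := by
  intro n
  induction n with
  | zero => intro acc x hx; exact hx
  | succ n ih =>
    intro acc x hx
    rw [loopC]
    apply ih
    cases (Nat.ble (w * sqc n) bud && okTests bases n)
    · exact hx
    · exact hk _ _ _ _ hx

theorem loopC_hit (w bud : Nat) (bases : List (Nat × Nat)) (k : Nat → Nat → List α → List α)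
    (hk : ∀ c b a x, x ∈ a → x ∈ k c b a) (e : α) (c : Nat) (hb : w * sqc c ≤ bud)
    (ht : okTests bases c = true) (he : ∀ a, e ∈ k c (bud - w * sqc c) a) :
    ∀ (n : Nat) (acc : List α), c < n → e ∈ loopC w bud bases k n acc := by
  intro n
  induction n with
  | zero => intro acc h; omega
  | succ n ih =>
    intro acc h
    rw [loopC]
    by_cases hc : c = n
    · subst hc
      apply loopC_mono _ _ _ _ hk
      have : Nat.ble (w * sqc c) bud = true := Nat.ble_eq_true_of_le hb
      rw [this, ht]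
      exact he _
    · exact ih _ (by omega)

theorem srch_mono (leaf : List Nat → Nat → List α → List α)
    (hl : ∀ pre bud acc x, x ∈ acc → x ∈ leaf pre bud acc) :
    ∀ (ls : List Lvl) (pre : List Nat) (bud : Nat) (acc : List α) (x : α),
      x ∈ acc → x ∈ srch leaf ls pre bud acc := by
  intro ls
  induction ls with
  | nil => intro pre bud acc x hx; exact hl _ _ _ _ hx
  | cons l ls ih =>
    intro pre bud acc x hx
    rw [srch]
    exact loopC_mono _ _ _ _ (fun c b a y hy => ih _ _ _ _ hy) _ _ _ hx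

/-- the conditions on the coordinates `suf` that come after `pre`. -/
def Valid : List Lvl → List Nat → List Nat → Prop
  | [], _, [] => True
  | [], _, _ :: _ => False
  | _ :: _, _, [] => False
  | l :: ls, pre, c :: suf =>
    c < 17 ∧ (∀ t ∈ l.tests, (t.1 * c + dotN t.2 pre) % 8 = 0) ∧ Valid ls (c :: pre) suf

instance Valid.dec : ∀ (ls : List Lvl) (pre suf : List Nat), Decidable (Valid ls pre suf)
  | [], _, [] => isTrue trivial
  | [], _, _ :: _ => isFalse (fun h => h)
  | _ :: _, _, [] => isFalse (fun h => h)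
  | l :: ls, pre, c :: suf =>
    have := Valid.dec ls (c :: pre) suf
    inferInstanceAs (Decidable (c < 17 ∧ (∀ t ∈ l.tests, (t.1 * c + dotN t.2 pre) % 8 = 0) ∧
      Valid ls (c :: pre) suf))

/-- the cost of the coordinates `suf`. -/
def cost : List Lvl → List Nat → Nat
  | [], _ => 0
  | _ :: _, [] => 0
  | l :: ls, c :: suf => l.w * sqc c + cost ls suf

theorem srch_complete (leaf : List Nat → Nat → List α → List α)
    (hl : ∀ pre bud acc x, x ∈ acc → x ∈ leaf pre bud acc) (e : α) :
    ∀ (ls : List Lvl) (pre suf : List Nat) (bud : Nat), Valid ls pre suf → cost ls suf ≤ bud →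
      (∀ acc, e ∈ leaf (suf.reverse ++ pre) (bud - cost ls suf) acc) →
      ∀ acc, e ∈ srch leaf ls pre bud acc := by
  intro ls
  induction ls with
  | nil =>
    intro pre suf bud hv hc he acc
    cases suf with
    | nil => simpa [srch, cost] using he acc
    | cons c suf => exact absurd hv (by simp [Valid])
  | cons l ls ih =>
    intro pre suf bud hv hc he acc
    cases suf with
    | nil => exact absurd hv (by simp [Valid])
    | cons c suf =>
      obtain ⟨h1, h2, h3⟩ := hv
      rw [cost] at hc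
      rw [srch]
      apply loopC_hit _ _ _ _ (fun c b a y hy => srch_mono leaf hl _ _ _ _ _ hy) e c (by omega)
      · unfold okTests
        rw [List.all_eq_true]
        intro p hp
        rw [List.mem_map] at hp
        obtain ⟨t, ht, rfl⟩ := hp
        simpa using h2 t ht
      · intro a
        apply ih (c :: pre) suf _ h3 (by omega)
        intro acc'
        have := he acc'
        rw [List.reverse_cons, List.append_assoc, List.singleton_append, cost] at this
        rw [Nat.sub_sub]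
        exact this
      · exact h1

theorem Valid_append : ∀ (l1 l2 : List Lvl) (pre s1 s2 : List Nat), s1.length = l1.length →
    Valid (l1 ++ l2) pre (s1 ++ s2) → Valid l1 pre s1 ∧ Valid l2 (s1.reverse ++ pre) s2 := by
  intro l1
  induction l1 with
  | nil =>
    intro l2 pre s1 s2 hlen h
    cases s1 with
    | nil => exact ⟨trivial, by simpa using h⟩
    | cons c s => simp at hlen
  | cons l l1 ih =>
    intro l2 pre s1 s2 hlen h
    cases s1 with
    | nil => simp at hlen
    | cons c s =>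
      simp only [List.cons_append] at h
      obtain ⟨h1, h2, h3⟩ := h
      obtain ⟨h4, h5⟩ := ih l2 (c :: pre) s s2 (by simpa using hlen) h3
      refine ⟨⟨h1, h2, h4⟩, ?_⟩
      rw [List.reverse_cons, List.append_assoc, List.singleton_append]
      exact h5

theorem cost_append : ∀ (l1 l2 : List Lvl) (s1 s2 : List Nat), s1.length = l1.length →
    cost (l1 ++ l2) (s1 ++ s2) = cost l1 s1 + cost l2 s2 := by
  intro l1
  induction l1 with
  | nil =>
    intro l2 s1 s2 hlen
    cases s1 with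
    | nil => simp [cost]
    | cons c s => simp at hlen
  | cons l l1 ih =>
    intro l2 s1 s2 hlen
    cases s1 with
    | nil => simp at hlen
    | cons c s =>
      simp only [List.cons_append, cost]
      rw [ih l2 s s2 (by simpa using hlen)]
      omega

theorem Valid_append' : ∀ (l1 l2 : List Lvl) (pre s1 s2 : List Nat),
    Valid l1 pre s1 → Valid l2 (s1.reverse ++ pre) s2 → Valid (l1 ++ l2) pre (s1 ++ s2) := by
  intro l1
  induction l1 with
  | nil =>
    intro l2 pre s1 s2 h1 h2
    cases s1 with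
    | nil => simpa using h2
    | cons c s => exact absurd h1 (by simp [Valid])
  | cons l l1 ih =>
    intro l2 pre s1 s2 h1 h2
    cases s1 with
    | nil => exact absurd h1 (by simp [Valid])
    | cons c s =>
      obtain ⟨h3, h4, h5⟩ := h1
      simp only [List.cons_append]
      refine ⟨h3, h4, ih l2 (c :: pre) s s2 h5 ?_⟩
      rw [List.reverse_cons, List.append_assoc, List.singleton_append] at h2
      exact h2

/-- the searches from a list of starting points, one after the other. -/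
def runAll (leaf : List Nat → Nat → List α → List α) (ls : List Lvl) :
    List (List Nat × Nat) → List α
  | [] => []
  | p :: ps => srch leaf ls p.1 p.2 (runAll leaf ls ps)

theorem mem_runAll (leaf : List Nat → Nat → List α → List α)
    (hl : ∀ pre bud acc x, x ∈ acc → x ∈ leaf pre bud acc) (ls : List Lvl) (e : α) :
    ∀ (ps : List (List Nat × Nat)) (p : List Nat × Nat), p ∈ ps →
      (∀ acc, e ∈ srch leaf ls p.1 p.2 acc) → e ∈ runAll leaf ls ps := by
  intro ps
  induction ps with
  | nil => intro p hp; simp at hp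
  | cons q ps ih =>
    intro p hp he
    rw [runAll]
    rcases List.mem_cons.1 hp with rfl | hp
    · exact he _
    · exact srch_mono leaf hl _ _ _ _ _ (ih p hp he)

end theory

/-- the levels of the first quaternion. -/
def lvlsX : List Lvl := [
  ⟨1, []⟩,
  ⟨5, [(4, [4])]⟩,
  ⟨1, []⟩,
  ⟨5, [(4, [4])]⟩,
  ⟨1, [(4, [6, 2, 6, 6])]⟩,
  ⟨5, [(2, [6, 6, 6, 0, 4])]⟩,
  ⟨1, [(4, [0, 0, 6, 6, 6, 2])]⟩,
  ⟨5, [(2, [6, 0, 0, 0, 4, 6, 6])]⟩]

/-- the levels of the second quaternion. -/
def lvlsY : List Lvl := [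
  ⟨1, []⟩,
  ⟨5, [(4, [4, 0, 0, 0, 0, 0, 0, 4, 4])]⟩,
  ⟨1, [(4, [0, 4, 0, 0, 0, 0, 0, 4, 0, 4])]⟩,
  ⟨5, [(6, [2, 2, 6, 0, 0, 0, 0, 2, 6, 6, 2])]⟩,
  ⟨1, [(4, [0, 0, 0, 4, 0, 0, 0, 4, 0, 0, 0, 4])]⟩,
  ⟨5, [(6, [2, 0, 0, 2, 6, 0, 0, 2, 6, 0, 0, 6, 2])]⟩,
  ⟨1, [(6, [0, 2, 0, 2, 2, 0, 0, 2, 0, 6, 0, 6, 6])]⟩,
  ⟨5, [(7, [1, 1, 7, 1, 7, 7, 5, 1, 7, 7, 1, 7, 1, 1, 3])]⟩]

/-- the levels of the third quaternion. -/
def lvlsZ : List Lvl := [
  ⟨1, []⟩,
  ⟨5, [(4, [4, 0, 0, 0, 0, 0, 0, 4, 4]), (4, [4, 0, 0, 0, 0, 0, 0, 4, 4, 0, 0, 0, 0, 0, 0, 4, 4])]⟩,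
  ⟨1, [(4, [0, 4, 0, 0, 0, 0, 0, 4, 0, 4])]⟩,
  ⟨5, [(6, [2, 2, 6, 0, 0, 0, 0, 2, 6, 6, 2]), (4, [4, 0, 0, 0, 0, 0, 0, 4, 4, 0, 0, 0, 0, 0, 0, 4, 4])]⟩,
  ⟨1, [(4, [0, 0, 0, 4, 0, 0, 0, 4, 0, 0, 0, 4]), (2, [7, 1, 5, 5, 0, 0, 0, 2, 7, 1, 5, 5, 0, 0, 0, 2, 7, 1, 5, 5])]⟩,
  ⟨5, [(6, [2, 0, 0, 2, 6, 0, 0, 2, 6, 0, 0, 6, 2]), (1, [7, 5, 5, 0, 6, 0, 0, 1, 7, 5, 5, 0, 6, 0, 0, 1, 7, 5, 5, 0, 6])]⟩,
  ⟨1, [(6, [0, 2, 0, 2, 2, 0, 0, 2, 0, 6, 0, 6, 6]), (2, [0, 0, 5, 5, 5, 3, 0, 2, 0, 0, 5, 5, 5, 3, 0, 2, 0, 0, 5, 5, 5, 3])]⟩,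
  ⟨5, [(7, [1, 1, 7, 1, 7, 7, 5, 1, 7, 7, 1, 7, 1, 1, 3]), (1, [7, 0, 0, 0, 6, 7, 7, 1, 7, 0, 0, 0, 6, 7, 7, 1, 7, 0, 0, 0, 6, 7, 7])]⟩]

end Cfsg.Agent.Helper9.J2B
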