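import Cfsg.Agent.Helper9.J2B.Lam
import Cfsg.Agent.Helper9.J2B.Srch

set_option autoImplicit false

/-! The vectors of the lattice with small norm satisfy the conditions of the search. -/

namespace Cfsg.Agent.Helper9.J2B

/-- the coordinates of a quaternion, each shifted by eight. -/
def codes8 (a : Z8) : List Nat :=
  [(a.a0 + 8).toNat, (a.a1 + 8).toNat, (a.a2 + 8).toNat, (a.a3 + 8).toNat, (a.a4 + 8).toNat,
    (a.a5 + 8).toNat, (a.a6 + 8).toNat, (a.a7 + 8).toNat]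

/-- the coordinates of a vector, each shifted by eight. -/
def codes (V : Z24) : List Nat := codes8 V.x ++ (codes8 V.y ++ codes8 V.z)

/-- all coordinates lie between `-8` and `8`. -/
def bd8 (a : Z8) : Prop :=
  (-8 ≤ a.a0 ∧ a.a0 ≤ 8) ∧ (-8 ≤ a.a1 ∧ a.a1 ≤ 8) ∧ (-8 ≤ a.a2 ∧ a.a2 ≤ 8) ∧
  (-8 ≤ a.a3 ∧ a.a3 ≤ 8) ∧ (-8 ≤ a.a4 ∧ a.a4 ≤ 8) ∧ (-8 ≤ a.a5 ∧ a.a5 ≤ 8) ∧
  (-8 ≤ a.a6 ∧ a.a6 ≤ 8) ∧ (-8 ≤ a.a7 ∧ a.a7 ≤ 8)

theorem bd_of_sq (v : ℤ) (h : v * v ≤ 64) : -8 ≤ v ∧ v ≤ 8 := by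
  constructor <;> nlinarith

theorem bd8_of_nrm (a : Z8) (h : nrm8 a ≤ 64) : bd8 a := by
  unfold nrm8 at h
  have h0 := mul_self_nonneg a.a0
  have h1 := mul_self_nonneg a.a1
  have h2 := mul_self_nonneg a.a2
  have h3 := mul_self_nonneg a.a3
  have h4 := mul_self_nonneg a.a4
  have h5 := mul_self_nonneg a.a5
  have h6 := mul_self_nonneg a.a6
  have h7 := mul_self_nonneg a.a7
  refine ⟨bd_of_sq _ (by linarith), bd_of_sq _ (by linarith), bd_of_sq _ (by linarith),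
    bd_of_sq _ (by linarith), bd_of_sq _ (by linarith), bd_of_sq _ (by linarith),
    bd_of_sq _ (by linarith), bd_of_sq _ (by linarith)⟩

theorem nrm8_nonneg (a : Z8) : 0 ≤ nrm8 a := by
  unfold nrm8
  have h0 := mul_self_nonneg a.a0
  have h1 := mul_self_nonneg a.a1
  have h2 := mul_self_nonneg a.a2
  have h3 := mul_self_nonneg a.a3
  have h4 := mul_self_nonneg a.a4
  have h5 := mul_self_nonneg a.a5
  have h6 := mul_self_nonneg a.a6
  have h7 := mul_self_nonneg a.a7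
  linarith

theorem sqc_cast (v : ℤ) (h : -8 ≤ v) : ((sqc (v + 8).toNat : ℕ) : ℤ) = v * v := by
  obtain ⟨n, hn⟩ : ∃ n : ℕ, v + 8 = n := ⟨(v + 8).toNat, by omega⟩
  have hv : v = n - 8 := by omega
  subst hv
  have : ((n : ℤ) - 8 + 8).toNat = n := by omega
  rw [this]
  unfold sqc
  have h1 : 16 * n ≤ n * n + 64 := by nlinarith [sq_nonneg ((n : ℤ) - 8)]
  rw [Nat.cast_sub h1]
  push_cast
  ring

theorem codes8_eq (a : Z8) (h : bd8 a) : ∃ n0 n1 n2 n3 n4 n5 n6 n7 : ℕ,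
    codes8 a = [n0, n1, n2, n3, n4, n5, n6, n7] ∧ (n0 : ℤ) = a.a0 + 8 ∧ (n1 : ℤ) = a.a1 + 8 ∧
    (n2 : ℤ) = a.a2 + 8 ∧ (n3 : ℤ) = a.a3 + 8 ∧ (n4 : ℤ) = a.a4 + 8 ∧ (n5 : ℤ) = a.a5 + 8 ∧
    (n6 : ℤ) = a.a6 + 8 ∧ (n7 : ℤ) = a.a7 + 8 ∧ n0 < 17 ∧ n1 < 17 ∧ n2 < 17 ∧ n3 < 17 ∧ n4 < 17 ∧
    n5 < 17 ∧ n6 < 17 ∧ n7 < 17 := by
  unfold bd8 at h
  refine ⟨_, _, _, _, _, _, _, _, rfl, Int.toNat_of_nonneg (by omega), Int.toNat_of_nonneg (by omega),
    Int.toNat_of_nonneg (by omega), Int.toNat_of_nonneg (by omega), Int.toNat_of_nonneg (by omega),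
    Int.toNat_of_nonneg (by omega), Int.toNat_of_nonneg (by omega), Int.toNat_of_nonneg (by omega),
    ?_, ?_, ?_, ?_, ?_, ?_, ?_, ?_⟩ <;> omega

set_option maxHeartbeats 4000000 in
theorem validX (X : Z8) (h : inL X) (hx : bd8 X) : Valid lvlsX [] (codes8 X) := by
  obtain ⟨x0, x1, x2, x3, x4, x5, x6, x7, ex, ex0, ex1, ex2, ex3, ex4, ex5, ex6, ex7,
    bx0, bx1, bx2, bx3, bx4, bx5, bx6, bx7⟩ := codes8_eq X hx
  rw [ex]
  clear hx ex
  unfold inL at h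
  obtain ⟨a0, a1, a2, a3, a4, a5, a6, a7⟩ := X
  simp only at h ex0 ex1 ex2 ex3 ex4 ex5 ex6 ex7
  simp only [lvlsX, Valid, dotN,
    List.forall_mem_cons, List.not_mem_nil, false_imp_iff, imp_true_iff, and_true]
  refine ⟨?_, ?_, ?_, ?_, ?_, ?_, ?_, ?_, ?_, ?_, ?_, ?_, ?_, ?_, ?_, ?_⟩
  · exact bx0
  · exact trivial
  · exact bx1
  · omega
  · exact bx2
  · exact trivial
  · exact bx3
  · omega
  · exact bx4
  · omega
  · exact bx5
  · omega
  · exact bx6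
  · omega
  · exact bx7
  · omega

set_option maxHeartbeats 4000000 in
theorem validY (X Y : Z8) (h : inLh (Z8.sub X Y)) (hx : bd8 X) (hy : bd8 Y) :
    Valid lvlsY (codes8 X).reverse (codes8 Y) := by
  obtain ⟨x0, x1, x2, x3, x4, x5, x6, x7, ex, ex0, ex1, ex2, ex3, ex4, ex5, ex6, ex7,
    bx0, bx1, bx2, bx3, bx4, bx5, bx6, bx7⟩ := codes8_eq X hx
  obtain ⟨y0, y1, y2, y3, y4, y5, y6, y7, ey, ey0, ey1, ey2, ey3, ey4, ey5, ey6, ey7,
    by0, by1, by2, by3, by4, by5, by6, by7⟩ := codes8_eq Y hy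
  rw [ex, ey]
  clear hx hy ex ey
  unfold inLh at h
  obtain ⟨a0, a1, a2, a3, a4, a5, a6, a7⟩ := X
  obtain ⟨b0, b1, b2, b3, b4, b5, b6, b7⟩ := Y
  simp only [Z8.sub] at h ex0 ex1 ex2 ex3 ex4 ex5 ex6 ex7 ey0 ey1 ey2 ey3 ey4 ey5 ey6 ey7
  simp only [List.reverse_cons, List.reverse_nil, List.cons_append, List.nil_append, lvlsY, Valid, dotN,
    List.forall_mem_cons, List.not_mem_nil, false_imp_iff, imp_true_iff, and_true]
  refine ⟨?_, ?_, ?_, ?_, ?_, ?_, ?_, ?_, ?_, ?_, ?_, ?_, ?_, ?_, ?_, ?_⟩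
  · exact by0
  · exact trivial
  · exact by1
  · omega
  · exact by2
  · omega
  · exact by3
  · omega
  · exact by4
  · omega
  · exact by5
  · omega
  · exact by6
  · omega
  · exact by7
  · omega

set_option maxHeartbeats 4000000 in
theorem validZ (X Y Z : Z8) (h2 : inLh (Z8.sub Y Z)) (h3 : inLhc (Z8.add (Z8.add X Y) Z))
    (hx : bd8 X) (hy : bd8 Y) (hz : bd8 Z) :
    Valid lvlsZ (codes8 X ++ codes8 Y).reverse (codes8 Z) := by
  obtain ⟨x0, x1, x2, x3, x4, x5, x6, x7, ex, ex0, ex1, ex2, ex3, ex4, ex5, ex6, ex7,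
    bx0, bx1, bx2, bx3, bx4, bx5, bx6, bx7⟩ := codes8_eq X hx
  obtain ⟨y0, y1, y2, y3, y4, y5, y6, y7, ey, ey0, ey1, ey2, ey3, ey4, ey5, ey6, ey7,
    by0, by1, by2, by3, by4, by5, by6, by7⟩ := codes8_eq Y hy
  obtain ⟨z0, z1, z2, z3, z4, z5, z6, z7, ez, ez0, ez1, ez2, ez3, ez4, ez5, ez6, ez7,
    bz0, bz1, bz2, bz3, bz4, bz5, bz6, bz7⟩ := codes8_eq Z hz
  rw [ex, ey, ez]
  clear hx hy hz ex ey ez
  unfold inLh at h2
  unfold inLhc at h3
  obtain ⟨a0, a1, a2, a3, a4, a5, a6, a7⟩ := X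
  obtain ⟨b0, b1, b2, b3, b4, b5, b6, b7⟩ := Y
  obtain ⟨c0, c1, c2, c3, c4, c5, c6, c7⟩ := Z
  simp only [Z8.sub, Z8.add] at h2 h3 ex0 ex1 ex2 ex3 ex4 ex5 ex6 ex7 ey0 ey1 ey2 ey3 ey4 ey5 ey6 ey7 ez0 ez1 ez2 ez3 ez4 ez5 ez6 ez7
  simp only [List.reverse_cons, List.reverse_nil, List.cons_append, List.nil_append, lvlsZ, Valid, dotN,
    List.forall_mem_cons, List.not_mem_nil, false_imp_iff, imp_true_iff, and_true]
  refine ⟨?_, ?_, ?_, ?_, ?_, ?_, ?_, ?_, ?_, ?_, ?_, ?_, ?_, ?_, ?_, ?_⟩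
  · exact bz0
  · exact trivial
  · exact bz1
  · refine ⟨?_, ?_⟩
    · clear h3; omega
    · clear h2; omega
  · exact bz2
  · clear h3; omega
  · exact bz3
  · refine ⟨?_, ?_⟩
    · clear h3; omega
    · clear h2; omega
  · exact bz4
  · refine ⟨?_, ?_⟩
    · clear h3; omega
    · clear h2; omega
  · exact bz5
  · refine ⟨?_, ?_⟩
    · clear h3; omega
    · clear h2; omega
  · exact bz6
  · refine ⟨?_, ?_⟩
    · clear h3; omega
    · clear h2; omega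
  · exact bz7
  · refine ⟨?_, ?_⟩
    · clear h3; omega
    · clear h2; omega

theorem sqc_cast' (n : ℕ) (v : ℤ) (h : (n : ℤ) = v + 8) : ((sqc n : ℕ) : ℤ) = v * v := by
  have h1 : -8 ≤ v := by omega
  have h2 : (v + 8).toNat = n := by omega
  rw [← h2]
  exact sqc_cast v h1

theorem costX (X : Z8) (hx : bd8 X) : ((cost lvlsX (codes8 X) : ℕ) : ℤ) = nrm8 X := by
  obtain ⟨x0, x1, x2, x3, x4, x5, x6, x7, ex, ex0, ex1, ex2, ex3, ex4, ex5, ex6, ex7,
    bx0, bx1, bx2, bx3, bx4, bx5, bx6, bx7⟩ := codes8_eq X hx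
  rw [ex]
  simp only [lvlsX, cost]
  push_cast
  rw [sqc_cast' x0 _ ex0, sqc_cast' x1 _ ex1, sqc_cast' x2 _ ex2, sqc_cast' x3 _ ex3,
    sqc_cast' x4 _ ex4, sqc_cast' x5 _ ex5, sqc_cast' x6 _ ex6, sqc_cast' x7 _ ex7]
  unfold nrm8
  ring

theorem costY (X : Z8) (hx : bd8 X) : ((cost lvlsY (codes8 X) : ℕ) : ℤ) = nrm8 X := by
  obtain ⟨x0, x1, x2, x3, x4, x5, x6, x7, ex, ex0, ex1, ex2, ex3, ex4, ex5, ex6, ex7,
    bx0, bx1, bx2, bx3, bx4, bx5, bx6, bx7⟩ := codes8_eq X hx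
  rw [ex]
  simp only [lvlsY, cost]
  push_cast
  rw [sqc_cast' x0 _ ex0, sqc_cast' x1 _ ex1, sqc_cast' x2 _ ex2, sqc_cast' x3 _ ex3,
    sqc_cast' x4 _ ex4, sqc_cast' x5 _ ex5, sqc_cast' x6 _ ex6, sqc_cast' x7 _ ex7]
  unfold nrm8
  ring

theorem costZ (X : Z8) (hx : bd8 X) : ((cost lvlsZ (codes8 X) : ℕ) : ℤ) = nrm8 X := by
  obtain ⟨x0, x1, x2, x3, x4, x5, x6, x7, ex, ex0, ex1, ex2, ex3, ex4, ex5, ex6, ex7,
    bx0, bx1, bx2, bx3, bx4, bx5, bx6, bx7⟩ := codes8_eq X hx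
  rw [ex]
  simp only [lvlsZ, cost]
  push_cast
  rw [sqc_cast' x0 _ ex0, sqc_cast' x1 _ ex1, sqc_cast' x2 _ ex2, sqc_cast' x3 _ ex3,
    sqc_cast' x4 _ ex4, sqc_cast' x5 _ ex5, sqc_cast' x6 _ ex6, sqc_cast' x7 _ ex7]
  unfold nrm8
  ring

/-- the quaternion with the given shifted coordinates, latest first. -/
def toZ8 : List Nat → Z8
  | [c7, c6, c5, c4, c3, c2, c1, c0] =>
    ⟨(c0 : ℤ) - 8, (c1 : ℤ) - 8, (c2 : ℤ) - 8, (c3 : ℤ) - 8, (c4 : ℤ) - 8, (c5 : ℤ) - 8,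
      (c6 : ℤ) - 8, (c7 : ℤ) - 8⟩
  | _ => Z8.zero

theorem toZ8_codes (X : Z8) (hx : bd8 X) : toZ8 (codes8 X).reverse = X := by
  obtain ⟨x0, x1, x2, x3, x4, x5, x6, x7, ex, ex0, ex1, ex2, ex3, ex4, ex5, ex6, ex7,
    bx0, bx1, bx2, bx3, bx4, bx5, bx6, bx7⟩ := codes8_eq X hx
  rw [ex]
  simp only [List.reverse_cons, List.reverse_nil, List.nil_append, List.cons_append, toZ8]
  ext <;> simp only <;> omega

/-- the vector with the given shifted coordinates, latest first. -/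
def toZ24 : List Nat → Z24
  | [z7, z6, z5, z4, z3, z2, z1, z0, y7, y6, y5, y4, y3, y2, y1, y0, x7, x6, x5, x4, x3, x2, x1, x0] =>
    ⟨toZ8 [x7, x6, x5, x4, x3, x2, x1, x0], toZ8 [y7, y6, y5, y4, y3, y2, y1, y0],
      toZ8 [z7, z6, z5, z4, z3, z2, z1, z0]⟩
  | _ => ⟨Z8.zero, Z8.zero, Z8.zero⟩

theorem codes8_length (X : Z8) : (codes8 X).length = 8 := rfl

theorem toZ24_codes (V : Z24) (hx : bd8 V.x) (hy : bd8 V.y) (hz : bd8 V.z) :
    toZ24 ((codes8 V.z).reverse ++ ((codes8 V.y).reverse ++ (codes8 V.x).reverse)) = V := by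
  have e1 := toZ8_codes V.x hx
  have e2 := toZ8_codes V.y hy
  have e3 := toZ8_codes V.z hz
  simp only [codes8, List.reverse_cons, List.reverse_nil, List.nil_append, List.cons_append,
    toZ24] at e1 e2 e3 ⊢
  rw [e1, e2, e3]

/-- the leaf of the search for the first quaternion. -/
def leafX (pre : List Nat) (_ : Nat) (acc : List Z8) : List Z8 := toZ8 pre :: acc

/-- the leaf of the search for the vectors. -/
def leafV (pre : List Nat) (bud : Nat) (acc : List Z24) : List Z24 :=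
  cond (Nat.beq bud 0 &&
    decide (pq8 (toZ24 pre).x + pq8 (toZ24 pre).y + pq8 (toZ24 pre).z = 0)) (toZ24 pre :: acc) acc

theorem leafX_mono (pre : List Nat) (bud : Nat) (acc : List Z8) (x : Z8) (h : x ∈ acc) :
    x ∈ leafX pre bud acc := List.mem_cons_of_mem _ h

theorem leafV_mono (pre : List Nat) (bud : Nat) (acc : List Z24) (x : Z24) (h : x ∈ acc) :
    x ∈ leafV pre bud acc := by
  unfold leafV
  cases (Nat.beq bud 0 &&
    decide (pq8 (toZ24 pre).x + pq8 (toZ24 pre).y + pq8 (toZ24 pre).z = 0))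
  · exact h
  · exact List.mem_cons_of_mem _ h

/-- the quaternions of the icosian ring with small norm. -/
def xList : List Z8 := srch leafX lvlsX [] 64 []

theorem mem_xList (X : Z8) (h : inL X) (hn : nrm8 X ≤ 64) : X ∈ xList := by
  have hx := bd8_of_nrm X hn
  have hc := costX X hx
  apply srch_complete leafX leafX_mono X lvlsX [] (codes8 X) 64 (validX X h hx) (by omega)
  intro acc
  rw [List.append_nil, leafX, toZ8_codes X hx]
  exact List.mem_cons_self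

/-- the start of the search for the other two quaternions. -/
def startA (X : Z8) : List Nat × Nat := ((codes8 X).reverse, 64 - cost lvlsX (codes8 X))

/-- the start of the search for the last quaternion, the first one being zero. -/
def startB (Y : Z8) : List Nat × Nat :=
  ((codes8 Z8.zero ++ codes8 Y).reverse, 64 - cost lvlsY (codes8 Y))

theorem mem_srchA (V : Z24) (h : inLam V) (hn : nrm8 V.x + nrm8 V.y + nrm8 V.z = 64)
    (hp : pq8 V.x + pq8 V.y + pq8 V.z = 0) (acc : List Z24) :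
    V ∈ srch leafV (lvlsY ++ lvlsZ) (startA V.x).1 (startA V.x).2 acc := by
  obtain ⟨hX, hY, hZ, h1, h2, h3⟩ := h
  have n1 := nrm8_nonneg V.x
  have n2 := nrm8_nonneg V.y
  have n3 := nrm8_nonneg V.z
  have hx := bd8_of_nrm V.x (by omega)
  have hy := bd8_of_nrm V.y (by omega)
  have hz := bd8_of_nrm V.z (by omega)
  have c1 := costX V.x hx
  have c2 := costY V.y hy
  have c3 := costZ V.z hz
  have hv : Valid (lvlsY ++ lvlsZ) (codes8 V.x).reverse (codes8 V.y ++ codes8 V.z) := by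
    apply Valid_append' _ _ _ _ _ (validY V.x V.y h1 hx hy)
    rw [← List.reverse_append]
    exact validZ V.x V.y V.z h2 h3 hx hy hz
  have hcost : cost (lvlsY ++ lvlsZ) (codes8 V.y ++ codes8 V.z) =
      cost lvlsY (codes8 V.y) + cost lvlsZ (codes8 V.z) := cost_append _ _ _ _ rfl
  apply srch_complete leafV leafV_mono V _ _ _ _ hv
  · rw [hcost]; unfold startA; dsimp only; omega
  · intro acc
    have hb : (startA V.x).2 - cost (lvlsY ++ lvlsZ) (codes8 V.y ++ codes8 V.z) = 0 := by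
      rw [hcost]; unfold startA; dsimp only; omega
    rw [hb]
    have hr : (codes8 V.y ++ codes8 V.z).reverse ++ (codes8 V.x).reverse =
        (codes8 V.z).reverse ++ ((codes8 V.y).reverse ++ (codes8 V.x).reverse) := by
      rw [List.reverse_append, List.append_assoc]
    show V ∈ leafV ((codes8 V.y ++ codes8 V.z).reverse ++ (codes8 V.x).reverse) 0 acc
    rw [hr]
    unfold leafV
    rw [toZ24_codes V hx hy hz]
    have : decide (pq8 V.x + pq8 V.y + pq8 V.z = 0) = true := decide_eq_true hp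
    rw [this]
    exact List.mem_cons_self

theorem nrm8_zero : nrm8 Z8.zero = 0 := by decide

theorem mem_srchB (V : Z24) (h : inLam V) (hn : nrm8 V.x + nrm8 V.y + nrm8 V.z = 64)
    (hp : pq8 V.x + pq8 V.y + pq8 V.z = 0) (h0 : V.x = Z8.zero) (acc : List Z24) :
    Valid lvlsY (codes8 Z8.zero).reverse (codes8 V.y) ∧
      V ∈ srch leafV lvlsZ (startB V.y).1 (startB V.y).2 acc := by
  obtain ⟨hX, hY, hZ, h1, h2, h3⟩ := h
  have n1 := nrm8_nonneg V.x
  have n2 := nrm8_nonneg V.y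
  have n3 := nrm8_nonneg V.z
  have hx := bd8_of_nrm V.x (by omega)
  have hy := bd8_of_nrm V.y (by omega)
  have hz := bd8_of_nrm V.z (by omega)
  have c2 := costY V.y hy
  have c3 := costZ V.z hz
  have hn0 : nrm8 V.x = 0 := by rw [h0]; exact nrm8_zero
  refine ⟨?_, ?_⟩
  · rw [← h0]; exact validY V.x V.y h1 hx hy
  · have hv := validZ V.x V.y V.z h2 h3 hx hy hz
    apply srch_complete leafV leafV_mono V _ _ _ _ (by unfold startB; dsimp only; rw [← h0]; exact hv)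
    · unfold startB; dsimp only; omega
    · intro acc
      have hb : (startB V.y).2 - cost lvlsZ (codes8 V.z) = 0 := by
        unfold startB; dsimp only; omega
      rw [hb]
      have hr : (codes8 V.z).reverse ++ (codes8 Z8.zero ++ codes8 V.y).reverse =
          (codes8 V.z).reverse ++ ((codes8 V.y).reverse ++ (codes8 V.x).reverse) := by
        rw [List.reverse_append, h0]
      show V ∈ leafV ((codes8 V.z).reverse ++ (codes8 Z8.zero ++ codes8 V.y).reverse) 0 acc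
      rw [hr]
      unfold leafV
      rw [toZ24_codes V hx hy hz]
      have : decide (pq8 V.x + pq8 V.y + pq8 V.z = 0) = true := decide_eq_true hp
      rw [this]
      exact List.mem_cons_self

end Cfsg.Agent.Helper9.J2B
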