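import Mathlib

set_option autoImplicit false

/-!
Data for the suborbits of a group of permutations of 315 points, and its four generators as
products of elements of order seven.
-/

namespace Cfsg.Agent.Helper9.J2B

def so1L : List (List ℕ) := [[], [], [1, 0, 3, 0, 2, 1, 2, 3, 1, 2, 1, 0, 2, 3, 0, 3, 2, 3, 1, 2, 1, 0, 1, 0, 3, 0, 2, 1, 2], [2, 3, 0, 3, 2, 3, 1, 2, 1, 0, 3, 1, 2, 1, 0, 2, 3, 0, 3, 2, 3, 1, 2, 1, 0], [1, 0, 3, 0, 2, 1, 2, 3, 1, 2, 1, 0, 3, 1, 2, 1, 0, 1, 0, 3, 0, 2, 1, 2, 2, 3, 0, 3, 2], [1, 0, 3, 0, 2, 1, 2, 2, 3, 0, 3, 2, 3, 1, 2, 1, 0, 3, 1, 2, 1, 0, 1, 0, 3, 0, 2, 1, 2, 2, 3, 0, 3, 2], [3, 1, 2, 1, 0, 3, 1, 2, 1, 0, 1, 0, 3, 0, 2, 1, 2, 1, 0, 3, 0, 2, 1, 2, 3,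 1, 2, 1, 0], [1, 0, 3, 0, 2, 1, 2, 1, 0, 3, 0, 2, 1, 2, 1, 0, 3, 0, 2, 1, 2, 3, 1, 2, 1, 0, 1, 0, 3, 0, 2, 1, 2, 2, 3, 0, 3, 2], [1, 0, 3, 0, 2, 1, 2, 1, 0, 3, 0, 2, 1, 2], [2, 3, 0, 3, 2], [1, 0, 3, 0, 2, 1, 2, 2, 3, 0, 3, 2, 3, 1, 2, 1, 0, 1, 0, 3, 0, 2, 1, 2, 2, 3, 0, 3, 2], [3, 1, 2, 1, 0, 3, 1, 2, 1, 0, 2, 3, 0, 3, 2, 3, 1, 2, 1, 0], [3, 1, 2, 1, 0, 1, 0, 3, 0, 2, 1, 2, 3, 1, 2, 1, 0, 3, 1, 2, 1, 0, 2, 3, 0, 3, 2], [2, 3, 0, 3, 2, 3, 1, 2, 1, 0, 1, 0, 3, 0, 2, 1, 2, 3, 1, 2, 1, 0, 3, 1, 2, 1, 0, 2, 3, 0, 3, 2], [3, 1, 2, 1, 0, 3, 1, 2, 1, 0, 2, 3, 0, 3, 2, 3, 1, 2, 1, 0, 2, 3, 0, 3, 2], [1, 0, 3, 0, 2, 1, 2, 3, 1, 2, 1, 0, 1, 0, 3, 0, 2, 1, 2, 2, 3, 0, 3, 2], [1, 0, 3, 0, 2,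 1, 2, 1, 0, 3, 0, 2, 1, 2, 2, 3, 0, 3, 2], [1, 0, 3, 0, 2, 1, 2, 3, 1, 2, 1, 0, 2, 3, 0, 3, 2], [1, 0, 3, 0, 2, 1, 2, 3, 1, 2, 1, 0, 1, 0, 3, 0, 2, 1, 2, 3, 1, 2, 1, 0, 1, 0, 3, 0, 2, 1, 2, 2, 3, 0, 3, 2], [2, 3, 0, 3, 2, 3, 1, 2, 1, 0, 1, 0, 3, 0, 2, 1, 2, 2, 3, 0, 3, 2, 3, 1, 2, 1, 0, 2, 3, 0, 3, 2], [1, 0, 3, 0, 2, 1, 2, 3, 1, 2, 1, 0], [3, 1, 2, 1, 0, 1, 0, 3, 0, 2, 1, 2, 1, 0, 3, 0, 2, 1, 2, 1, 0, 3, 0, 2, 1, 2, 3, 1, 2, 1, 0], [3, 1, 2, 1, 0, 1, 0, 3, 0, 2, 1, 2, 3, 1, 2, 1, 0], [1, 0, 3, 0, 2, 1, 2, 1, 0, 3, 0, 2, 1, 2, 1, 0, 3, 0, 2, 1, 2, 3, 1, 2, 1, 0], [3, 1, 2, 1, 0, 1, 0, 3, 0, 2, 1, 2, 2, 3, 0, 3, 2, 3, 1, 2, 1, 0, 2, 3, 0, 3, 2], [3, 1, 2, 1, 0, 3, 1, 2, 1, 0, 1, 0,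 3, 0, 2, 1, 2, 3, 1, 2, 1, 0], [1, 0, 3, 0, 2, 1, 2, 2, 3, 0, 3, 2, 3, 1, 2, 1, 0], [1, 0, 3, 0, 2, 1, 2, 2, 3, 0, 3, 2, 3, 1, 2, 1, 0, 2, 3, 0, 3, 2], [3, 1, 2, 1, 0, 1, 0, 3, 0, 2, 1, 2, 2, 3, 0, 3, 2, 3, 1, 2, 1, 0], [1, 0, 3, 0, 2, 1, 2, 3, 1, 2, 1, 0, 1, 0, 3, 0, 2, 1, 2, 1, 0, 3, 0, 2, 1, 2, 2, 3, 0, 3, 2], [2, 3, 0, 3, 2, 3, 1, 2, 1, 0, 3, 1, 2, 1, 0, 1, 0, 3, 0, 2, 1, 2, 3, 1, 2, 1, 0], [2, 3, 0, 3, 2, 3, 1, 2, 1, 0, 1, 0, 3, 0, 2, 1, 2, 2, 3, 0, 3, 2, 3, 1, 2, 1, 0], [2, 3, 0, 3, 2, 3, 1, 2, 1, 0, 1, 0, 3, 0, 2, 1, 2, 3, 1, 2, 1, 0], [3, 1, 2, 1, 0, 3, 1, 2, 1, 0, 2, 3, 0, 3, 2], [2, 3, 0, 3, 2, 3, 1, 2, 1, 0, 2, 3, 0, 3, 2, 3, 1, 2, 1, 0, 2, 3, 0, 3, 2], [3, 1, 2, 1, 0,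 1, 0, 3, 0, 2, 1, 2, 1, 0, 3, 0, 2, 1, 2, 3, 1, 2, 1, 0], [3, 1, 2, 1, 0, 3, 1, 2, 1, 0], [3, 1, 2, 1, 0, 1, 0, 3, 0, 2, 1, 2, 2, 3, 0, 3, 2, 3, 1, 2, 1, 0, 1, 0, 3, 0, 2, 1, 2, 2, 3, 0, 3, 2, 3, 1, 2, 1, 0, 2, 3, 0, 3, 2], [1, 0, 3, 0, 2, 1, 2, 3, 1, 2, 1, 0, 2, 3, 0, 3, 2, 3, 1, 2, 1, 0], [3, 1, 2, 1, 0, 3, 1, 2, 1, 0, 1, 0, 3, 0, 2, 1, 2, 3, 1, 2, 1, 0, 1, 0, 3, 0, 2, 1, 2, 2, 3, 0, 3, 2], [1, 0, 3, 0, 2, 1, 2, 3, 1, 2, 1, 0, 3, 1, 2, 1, 0, 1, 0, 3, 0, 2, 1, 2, 1, 0, 3, 0, 2, 1, 2], [1, 0, 3, 0, 2, 1, 2, 3, 1, 2, 1, 0, 3, 1, 2, 1, 0, 2, 3, 0, 3, 2], [2, 3, 0, 3, 2, 3, 1, 2, 1, 0, 3, 1, 2, 1, 0, 1, 0, 3, 0, 2, 1, 2, 3, 1, 2, 1, 0, 1, 0, 3, 0, 2, 1, 2, 2, 3, 0, 3, 2], [1, 0, 3,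 0, 2, 1, 2, 3, 1, 2, 1, 0, 1, 0, 3, 0, 2, 1, 2, 1, 0, 3, 0, 2, 1, 2, 3, 1, 2, 1, 0], [3, 1, 2, 1, 0, 3, 1, 2, 1, 0, 1, 0, 3, 0, 2, 1, 2, 3, 1, 2, 1, 0, 3, 1, 2, 1, 0, 1, 0, 3, 0, 2, 1, 2, 2, 3, 0, 3, 2], [2, 3, 0, 3, 2, 3, 1, 2, 1, 0, 3, 1, 2, 1, 0], [3, 1, 2, 1, 0, 2, 3, 0, 3, 2, 3, 1, 2, 1, 0], [3, 1, 2, 1, 0, 2, 3, 0, 3, 2, 3, 1, 2, 1, 0, 2, 3, 0, 3, 2], [3, 1, 2, 1, 0, 3, 1, 2, 1, 0, 1, 0, 3, 0, 2, 1, 2, 1, 0, 3, 0, 2, 1, 2], [1, 0, 3, 0, 2, 1, 2], [3, 1, 2, 1, 0, 1, 0, 3, 0, 2, 1, 2, 2, 3, 0, 3, 2], [2, 3, 0, 3, 2, 3, 1, 2, 1, 0, 2, 3, 0, 3, 2, 3, 1, 2, 1, 0, 1, 0, 3, 0, 2, 1, 2, 2, 3, 0, 3, 2], [2, 3, 0, 3, 2, 3, 1, 2, 1, 0, 3, 1, 2, 1, 0, 1, 0, 3, 0, 2, 1, 2, 2, 3, 0, 3, 2],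 [3, 1, 2, 1, 0, 3, 1, 2, 1, 0, 2, 3, 0, 3, 2, 3, 1, 2, 1, 0, 1, 0, 3, 0, 2, 1, 2], [3, 1, 2, 1, 0, 2, 3, 0, 3, 2, 3, 1, 2, 1, 0, 1, 0, 3, 0, 2, 1, 2, 2, 3, 0, 3, 2], [1, 0, 3, 0, 2, 1, 2, 1, 0, 3, 0, 2, 1, 2, 3, 1, 2, 1, 0, 1, 0, 3, 0, 2, 1, 2, 2, 3, 0, 3, 2], [1, 0, 3, 0, 2, 1, 2, 2, 3, 0, 3, 2], [2, 3, 0, 3, 2, 3, 1, 2, 1, 0, 1, 0, 3, 0, 2, 1, 2], [2, 3, 0, 3, 2, 3, 1, 2, 1, 0, 1, 0, 3, 0, 2, 1, 2, 2, 3, 0, 3, 2], [3, 1, 2, 1, 0, 1, 0, 3, 0, 2, 1, 2, 1, 0, 3, 0, 2, 1, 2, 3, 1, 2, 1, 0, 1, 0, 3, 0, 2, 1, 2, 2, 3, 0, 3, 2], [3, 1, 2, 1, 0, 3, 1, 2, 1, 0, 1, 0, 3, 0, 2, 1, 2, 2, 3, 0, 3, 2], [1, 0, 3, 0, 2, 1, 2, 1, 0, 3, 0, 2, 1, 2, 3, 1, 2, 1, 0, 3, 1, 2, 1, 0, 1, 0, 3, 0, 2, 1,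 2, 2, 3, 0, 3, 2], [1, 0, 3, 0, 2, 1, 2, 3, 1, 2, 1, 0, 3, 1, 2, 1, 0, 2, 3, 0, 3, 2, 3, 1, 2, 1, 0], [3, 1, 2, 1, 0, 2, 3, 0, 3, 2, 3, 1, 2, 1, 0, 1, 0, 3, 0, 2, 1, 2], [3, 1, 2, 1, 0, 1, 0, 3, 0, 2, 1, 2], [3, 1, 2, 1, 0, 1, 0, 3, 0, 2, 1, 2, 3, 1, 2, 1, 0, 3, 1, 2, 1, 0, 1, 0, 3, 0, 2, 1, 2, 2, 3, 0, 3, 2], [3, 1, 2, 1, 0, 3, 1, 2, 1, 0, 1, 0, 3, 0, 2, 1, 2, 3, 1, 2, 1, 0, 3, 1, 2, 1, 0, 2, 3, 0, 3, 2], [3, 1, 2, 1, 0, 1, 0, 3, 0, 2, 1, 2, 3, 1, 2, 1, 0, 1, 0, 3, 0, 2, 1, 2, 2, 3, 0, 3, 2], [1, 0, 3, 0, 2, 1, 2, 3, 1, 2, 1, 0, 3, 1, 2, 1, 0, 1, 0, 3, 0, 2, 1, 2, 3, 1, 2, 1, 0], [1, 0, 3, 0, 2, 1, 2, 1, 0, 3, 0, 2, 1, 2, 3, 1, 2, 1, 0], [1, 0, 3, 0, 2, 1, 2, 1, 0, 3, 0, 2, 1, 2,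 3, 1, 2, 1, 0, 2, 3, 0, 3, 2], [3, 1, 2, 1, 0, 1, 0, 3, 0, 2, 1, 2, 1, 0, 3, 0, 2, 1, 2], [3, 1, 2, 1, 0], [3, 1, 2, 1, 0, 1, 0, 3, 0, 2, 1, 2, 1, 0, 3, 0, 2, 1, 2, 2, 3, 0, 3, 2], [3, 1, 2, 1, 0, 2, 3, 0, 3, 2], [2, 3, 0, 3, 2, 3, 1, 2, 1, 0, 2, 3, 0, 3, 2], [2, 3, 0, 3, 2, 3, 1, 2, 1, 0], [1, 0, 3, 0, 2, 1, 2, 3, 1, 2, 1, 0, 1, 0, 3, 0, 2, 1, 2, 2, 3, 0, 3, 2, 3, 1, 2, 1, 0, 2, 3, 0, 3, 2], [1, 0, 3, 0, 2, 1, 2, 3, 1, 2, 1, 0, 1, 0, 3, 0, 2, 1, 2, 1, 0, 3, 0, 2, 1, 2, 1, 0, 3, 0, 2, 1, 2, 3, 1, 2, 1, 0], [2, 3, 0, 3, 2, 3, 1, 2, 1, 0, 1, 0, 3, 0, 2, 1, 2, 3, 1, 2, 1, 0, 1, 0, 3, 0, 2, 1, 2, 2, 3, 0, 3, 2], [1, 0, 3, 0, 2, 1, 2, 2, 3, 0, 3, 2, 3, 1, 2, 1, 0, 1, 0, 3, 0, 2, 1, 2,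 2, 3, 0, 3, 2, 3, 1, 2, 1, 0, 2, 3, 0, 3, 2], [], [], [], [], [], [], [], [], [], [], [], [], [], [], [], [], [], [], [], [], [], [], [], [], [], [], [], [], [], [], [], [], [], [], [], [], [], [], [], [], [], [], [], [], [], [], [], [], [], [], [], [], [], [], [], [], [], [], [], [], [], [], [], [], [], [], [], [], [], [], [], [], [], [], [], [], [], [], [], [], [], [], [], [], [], [], [], [], [], [], [], [], [], [], [], [], [], [], [], [], [], [], [], [], [], [], [], [], [], [], [], [], [], [], [], [], [], [], [], [], [], [], [], [], [], [], [], [], [], [], [], [], [], [], [], [], [], [], [], [], [], [], [], [], [], [], [], [], [], [], [], [], [], [], [], [], [], [], [], [], [],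 [], [], [], [], [], [], [], [], [], [], [], [], [], [], [], [], [], [], [], [], [], [], [], [], [], [], [], [], [], [], [], [], [], [], [], [], [], [], [], [], [], [], [], [], [], [], [], [], [], [], [], [], [], [], [], [], [], [], [], [], [], [], [], [], [], [], [], [], [], [], [], [], []]

def so1O : List ℕ := [1, 2, 3, 4, 5, 6, 7, 8, 9, 10, 11, 12, 13, 14, 15, 16, 17, 18, 19, 20, 21, 22, 23, 24, 25, 26, 27, 28, 29, 30, 31, 32, 33, 34, 35, 36, 37, 38, 39, 40, 41, 42, 43, 44, 45, 46, 47, 48, 49, 50, 51, 52, 53, 54, 55, 56, 57, 58, 59, 60, 61, 62, 63, 64, 65, 66, 67, 68, 69, 70, 71, 72, 73, 74, 75, 76, 77, 78, 79, 80]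

def so2L : List (List ℕ) := [[], [], [], [], [], [], [], [], [], [], [], [], [], [], [], [], [], [], [], [], [], [], [], [], [], [], [], [], [], [], [], [], [], [], [], [], [], [], [], [], [], [], [], [], [], [], [], [], [], [], [], [], [], [], [], [], [], [], [], [], [], [], [], [], [], [], [], [], [], [], [], [], [], [], [], [], [], [], [], [], [], [], [3, 1, 2, 1, 0, 1, 0, 3, 0, 2, 1, 2, 2, 3, 0, 3, 2, 3, 1, 2, 1, 0, 1, 0, 3, 0, 2, 1, 2, 2, 3, 0, 3, 2, 3, 1, 2, 1, 0], [3, 1, 2, 1, 0, 2, 3, 0, 3, 2, 3, 1, 2, 1, 0, 1, 0, 3, 0, 2, 1, 2, 2, 3, 0, 3, 2, 3, 1, 2, 1, 0], [1, 0, 3, 0, 2, 1, 2, 3, 1, 2, 1, 0, 2, 3, 0, 3, 2, 3, 1, 2, 1, 0, 2, 3, 0, 3, 2], [3, 1, 2, 1, 0, 1, 0, 3, 0, 2,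 1, 2, 3, 1, 2, 1, 0, 3, 1, 2, 1, 0, 1, 0, 3, 0, 2, 1, 2, 1, 0, 3, 0, 2, 1, 2, 2, 3, 0, 3, 2], [1, 0, 3, 0, 2, 1, 2, 2, 3, 0, 3, 2, 3, 1, 2, 1, 0, 1, 0, 3, 0, 2, 1, 2], [1, 0, 3, 0, 2, 1, 2, 3, 1, 2, 1, 0, 1, 0, 3, 0, 2, 1, 2, 3, 1, 2, 1, 0, 1, 0, 3, 0, 2, 1, 2, 1, 0, 3, 0, 2, 1, 2, 3, 1, 2, 1, 0], [3, 1, 2, 1, 0, 2, 3, 0, 3, 2, 3, 1, 2, 1, 0, 3, 1, 2, 1, 0], [3, 1, 2, 1, 0, 3, 1, 2, 1, 0, 1, 0, 3, 0, 2, 1, 2, 3, 1, 2, 1, 0], [1, 0, 3, 0, 2, 1, 2, 2, 3, 0, 3, 2, 3, 1, 2, 1, 0], [3, 1, 2, 1, 0, 1, 0, 3, 0, 2, 1, 2, 3, 1, 2, 1, 0, 3, 1, 2, 1, 0, 1, 0, 3, 0, 2, 1, 2, 3, 1, 2, 1, 0, 2, 3, 0, 3, 2], [1, 0, 3, 0, 2, 1, 2, 2, 3, 0, 3, 2, 3, 1, 2, 1, 0, 1, 0, 3, 0, 2, 1, 2, 3, 1, 2, 1, 0,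 3, 1, 2, 1, 0], [1, 0, 3, 0, 2, 1, 2, 3, 1, 2, 1, 0, 3, 1, 2, 1, 0, 2, 3, 0, 3, 2], [3, 1, 2, 1, 0, 1, 0, 3, 0, 2, 1, 2, 3, 1, 2, 1, 0, 2, 3, 0, 3, 2, 3, 1, 2, 1, 0], [1, 0, 3, 0, 2, 1, 2, 3, 1, 2, 1, 0, 2, 3, 0, 3, 2, 3, 1, 2, 1, 0, 3, 1, 2, 1, 0], [3, 1, 2, 1, 0, 1, 0, 3, 0, 2, 1, 2, 3, 1, 2, 1, 0, 2, 3, 0, 3, 2, 3, 1, 2, 1, 0, 1, 0, 3, 0, 2, 1, 2, 3, 1, 2, 1, 0, 3, 1, 2, 1, 0], [3, 1, 2, 1, 0, 1, 0, 3, 0, 2, 1, 2, 3, 1, 2, 1, 0, 1, 0, 3, 0, 2, 1, 2, 3, 1, 2, 1, 0, 2, 3, 0, 3, 2, 3, 1, 2, 1, 0, 2, 3, 0, 3, 2], [1, 0, 3, 0, 2, 1, 2, 3, 1, 2, 1, 0, 3, 1, 2, 1, 0, 2, 3, 0, 3, 2, 3, 1, 2, 1, 0], [3, 1, 2, 1, 0, 1, 0, 3, 0, 2, 1, 2, 1, 0, 3, 0, 2, 1, 2, 1, 0, 3, 0, 2, 1, 2, 3, 1, 2,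 1, 0], [3, 1, 2, 1, 0, 1, 0, 3, 0, 2, 1, 2, 3, 1, 2, 1, 0], [3, 1, 2, 1, 0, 3, 1, 2, 1, 0], [3, 1, 2, 1, 0, 1, 0, 3, 0, 2, 1, 2, 1, 0, 3, 0, 2, 1, 2, 3, 1, 2, 1, 0], [2, 3, 0, 3, 2, 3, 1, 2, 1, 0, 1, 0, 3, 0, 2, 1, 2, 3, 1, 2, 1, 0, 2, 3, 0, 3, 2, 3, 1, 2, 1, 0, 2, 3, 0, 3, 2], [1, 0, 3, 0, 2, 1, 2, 1, 0, 3, 0, 2, 1, 2, 1, 0, 3, 0, 2, 1, 2, 3, 1, 2, 1, 0, 3, 1, 2, 1, 0], [3, 1, 2, 1, 0, 3, 1, 2, 1, 0, 1, 0, 3, 0, 2, 1, 2, 3, 1, 2, 1, 0, 3, 1, 2, 1, 0], [2, 3, 0, 3, 2, 3, 1, 2, 1, 0, 1, 0, 3, 0, 2, 1, 2, 3, 1, 2, 1, 0, 3, 1, 2, 1, 0], [3, 1, 2, 1, 0, 3, 1, 2, 1, 0, 2, 3, 0, 3, 2, 3, 1, 2, 1, 0], [1, 0, 3, 0, 2, 1, 2, 1, 0, 3, 0, 2, 1, 2, 1, 0, 3, 0, 2, 1, 2], [2, 3, 0, 3, 2, 3, 1,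 2, 1, 0, 3, 1, 2, 1, 0, 1, 0, 3, 0, 2, 1, 2, 3, 1, 2, 1, 0, 2, 3, 0, 3, 2], [1, 0, 3, 0, 2, 1, 2, 3, 1, 2, 1, 0, 1, 0, 3, 0, 2, 1, 2, 1, 0, 3, 0, 2, 1, 2], [2, 3, 0, 3, 2, 3, 1, 2, 1, 0, 2, 3, 0, 3, 2, 3, 1, 2, 1, 0, 2, 3, 0, 3, 2], [2, 3, 0, 3, 2, 3, 1, 2, 1, 0, 3, 1, 2, 1, 0, 2, 3, 0, 3, 2], [3, 1, 2, 1, 0, 1, 0, 3, 0, 2, 1, 2, 1, 0, 3, 0, 2, 1, 2, 1, 0, 3, 0, 2, 1, 2, 2, 3, 0, 3, 2], [3, 1, 2, 1, 0, 1, 0, 3, 0, 2, 1, 2, 2, 3, 0, 3, 2], [1, 0, 3, 0, 2, 1, 2, 2, 3, 0, 3, 2, 3, 1, 2, 1, 0, 1, 0, 3, 0, 2, 1, 2, 3, 1, 2, 1, 0, 1, 0, 3, 0, 2, 1, 2, 2, 3, 0, 3, 2], [1, 0, 3, 0, 2, 1, 2, 2, 3, 0, 3, 2, 3, 1, 2, 1, 0, 3, 1, 2, 1, 0, 1, 0, 3, 0, 2, 1, 2, 3, 1, 2, 1, 0], [1, 0, 3, 0, 2,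 1, 2, 3, 1, 2, 1, 0, 1, 0, 3, 0, 2, 1, 2, 2, 3, 0, 3, 2, 3, 1, 2, 1, 0], [1, 0, 3, 0, 2, 1, 2, 3, 1, 2, 1, 0, 1, 0, 3, 0, 2, 1, 2, 1, 0, 3, 0, 2, 1, 2, 1, 0, 3, 0, 2, 1, 2, 3, 1, 2, 1, 0, 2, 3, 0, 3, 2], [3, 1, 2, 1, 0, 1, 0, 3, 0, 2, 1, 2, 1, 0, 3, 0, 2, 1, 2, 2, 3, 0, 3, 2], [3, 1, 2, 1, 0, 2, 3, 0, 3, 2], [1, 0, 3, 0, 2, 1, 2, 3, 1, 2, 1, 0, 2, 3, 0, 3, 2, 3, 1, 2, 1, 0, 1, 0, 3, 0, 2, 1, 2, 2, 3, 0, 3, 2, 3, 1, 2, 1, 0], [3, 1, 2, 1, 0, 1, 0, 3, 0, 2, 1, 2, 2, 3, 0, 3, 2, 3, 1, 2, 1, 0, 2, 3, 0, 3, 2, 3, 1, 2, 1, 0, 3, 1, 2, 1, 0], [1, 0, 3, 0, 2, 1, 2, 3, 1, 2, 1, 0, 1, 0, 3, 0, 2, 1, 2, 3, 1, 2, 1, 0, 1, 0, 3, 0, 2, 1, 2], [1, 0, 3, 0, 2, 1, 2, 3, 1, 2, 1, 0, 1, 0, 3, 0, 2,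 1, 2, 3, 1, 2, 1, 0, 1, 0, 3, 0, 2, 1, 2, 2, 3, 0, 3, 2], [1, 0, 3, 0, 2, 1, 2, 1, 0, 3, 0, 2, 1, 2, 3, 1, 2, 1, 0], [1, 0, 3, 0, 2, 1, 2, 1, 0, 3, 0, 2, 1, 2, 3, 1, 2, 1, 0, 2, 3, 0, 3, 2], [2, 3, 0, 3, 2, 3, 1, 2, 1, 0, 1, 0, 3, 0, 2, 1, 2, 2, 3, 0, 3, 2], [2, 3, 0, 3, 2, 3, 1, 2, 1, 0, 1, 0, 3, 0, 2, 1, 2], [1, 0, 3, 0, 2, 1, 2, 3, 1, 2, 1, 0, 1, 0, 3, 0, 2, 1, 2, 1, 0, 3, 0, 2, 1, 2, 3, 1, 2, 1, 0], [3, 1, 2, 1, 0, 1, 0, 3, 0, 2, 1, 2, 3, 1, 2, 1, 0, 3, 1, 2, 1, 0, 2, 3, 0, 3, 2], [1, 0, 3, 0, 2, 1, 2, 3, 1, 2, 1, 0, 1, 0, 3, 0, 2, 1, 2, 3, 1, 2, 1, 0, 2, 3, 0, 3, 2, 3, 1, 2, 1, 0, 2, 3, 0, 3, 2], [1, 0, 3, 0, 2, 1, 2, 3, 1, 2, 1, 0, 1, 0, 3, 0, 2, 1, 2, 3, 1, 2, 1, 0, 3, 1,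 2, 1, 0, 2, 3, 0, 3, 2], [2, 3, 0, 3, 2, 3, 1, 2, 1, 0, 1, 0, 3, 0, 2, 1, 2, 3, 1, 2, 1, 0, 2, 3, 0, 3, 2], [2, 3, 0, 3, 2, 3, 1, 2, 1, 0, 1, 0, 3, 0, 2, 1, 2, 2, 3, 0, 3, 2, 3, 1, 2, 1, 0, 2, 3, 0, 3, 2], [2, 3, 0, 3, 2, 3, 1, 2, 1, 0, 2, 3, 0, 3, 2, 3, 1, 2, 1, 0, 3, 1, 2, 1, 0], [1, 0, 3, 0, 2, 1, 2, 1, 0, 3, 0, 2, 1, 2], [3, 1, 2, 1, 0, 1, 0, 3, 0, 2, 1, 2, 2, 3, 0, 3, 2, 3, 1, 2, 1, 0, 2, 3, 0, 3, 2], [2, 3, 0, 3, 2, 3, 1, 2, 1, 0, 1, 0, 3, 0, 2, 1, 2, 3, 1, 2, 1, 0, 2, 3, 0, 3, 2, 3, 1, 2, 1, 0], [3, 1, 2, 1, 0, 1, 0, 3, 0, 2, 1, 2, 3, 1, 2, 1, 0, 1, 0, 3, 0, 2, 1, 2, 3, 1, 2, 1, 0, 1, 0, 3, 0, 2, 1, 2, 1, 0, 3, 0, 2, 1, 2, 3, 1, 2, 1, 0], [2, 3, 0, 3, 2, 3, 1, 2, 1, 0, 3,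 1, 2, 1, 0, 1, 0, 3, 0, 2, 1, 2], [3, 1, 2, 1, 0, 3, 1, 2, 1, 0, 2, 3, 0, 3, 2], [1, 0, 3, 0, 2, 1, 2, 2, 3, 0, 3, 2, 3, 1, 2, 1, 0, 3, 1, 2, 1, 0, 2, 3, 0, 3, 2, 3, 1, 2, 1, 0], [1, 0, 3, 0, 2, 1, 2, 1, 0, 3, 0, 2, 1, 2, 1, 0, 3, 0, 2, 1, 2, 3, 1, 2, 1, 0, 3, 1, 2, 1, 0, 2, 3, 0, 3, 2], [1, 0, 3, 0, 2, 1, 2, 3, 1, 2, 1, 0, 1, 0, 3, 0, 2, 1, 2, 2, 3, 0, 3, 2], [1, 0, 3, 0, 2, 1, 2, 3, 1, 2, 1, 0, 3, 1, 2, 1, 0], [2, 3, 0, 3, 2, 3, 1, 2, 1, 0, 3, 1, 2, 1, 0, 2, 3, 0, 3, 2, 3, 1, 2, 1, 0], [3, 1, 2, 1, 0, 1, 0, 3, 0, 2, 1, 2, 3, 1, 2, 1, 0, 1, 0, 3, 0, 2, 1, 2, 3, 1, 2, 1, 0, 1, 0, 3, 0, 2, 1, 2], [1, 0, 3, 0, 2, 1, 2, 3, 1, 2, 1, 0, 1, 0, 3, 0, 2, 1, 2, 1, 0, 3, 0, 2, 1, 2, 2, 3,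 0, 3, 2], [2, 3, 0, 3, 2, 3, 1, 2, 1, 0, 3, 1, 2, 1, 0, 1, 0, 3, 0, 2, 1, 2, 3, 1, 2, 1, 0], [3, 1, 2, 1, 0, 1, 0, 3, 0, 2, 1, 2, 2, 3, 0, 3, 2, 3, 1, 2, 1, 0, 3, 1, 2, 1, 0, 1, 0, 3, 0, 2, 1, 2, 3, 1, 2, 1, 0], [1, 0, 3, 0, 2, 1, 2], [3, 1, 2, 1, 0, 1, 0, 3, 0, 2, 1, 2, 3, 1, 2, 1, 0, 2, 3, 0, 3, 2, 3, 1, 2, 1, 0, 2, 3, 0, 3, 2], [3, 1, 2, 1, 0, 3, 1, 2, 1, 0, 1, 0, 3, 0, 2, 1, 2, 2, 3, 0, 3, 2], [3, 1, 2, 1, 0, 1, 0, 3, 0, 2, 1, 2, 3, 1, 2, 1, 0, 1, 0, 3, 0, 2, 1, 2, 2, 3, 0, 3, 2], [1, 0, 3, 0, 2, 1, 2, 2, 3, 0, 3, 2, 3, 1, 2, 1, 0, 2, 3, 0, 3, 2, 3, 1, 2, 1, 0], [1, 0, 3, 0, 2, 1, 2, 3, 1, 2, 1, 0, 1, 0, 3, 0, 2, 1, 2, 3, 1, 2, 1, 0, 1, 0, 3, 0, 2, 1, 2, 3, 1, 2, 1, 0, 2, 3,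 0, 3, 2, 3, 1, 2, 1, 0], [1, 0, 3, 0, 2, 1, 2, 3, 1, 2, 1, 0, 2, 3, 0, 3, 2, 3, 1, 2, 1, 0, 3, 1, 2, 1, 0, 2, 3, 0, 3, 2], [2, 3, 0, 3, 2, 3, 1, 2, 1, 0, 1, 0, 3, 0, 2, 1, 2, 3, 1, 2, 1, 0, 3, 1, 2, 1, 0, 2, 3, 0, 3, 2], [1, 0, 3, 0, 2, 1, 2, 1, 0, 3, 0, 2, 1, 2, 1, 0, 3, 0, 2, 1, 2, 3, 1, 2, 1, 0, 2, 3, 0, 3, 2], [1, 0, 3, 0, 2, 1, 2, 1, 0, 3, 0, 2, 1, 2, 3, 1, 2, 1, 0, 3, 1, 2, 1, 0], [2, 3, 0, 3, 2, 3, 1, 2, 1, 0, 3, 1, 2, 1, 0], [1, 0, 3, 0, 2, 1, 2, 2, 3, 0, 3, 2, 3, 1, 2, 1, 0, 2, 3, 0, 3, 2], [3, 1, 2, 1, 0, 2, 3, 0, 3, 2, 3, 1, 2, 1, 0, 1, 0, 3, 0, 2, 1, 2, 3, 1, 2, 1, 0, 3, 1, 2, 1, 0, 2, 3, 0, 3, 2], [1, 0, 3, 0, 2, 1, 2, 2, 3, 0, 3, 2, 3, 1, 2, 1, 0, 2, 3, 0, 3, 2, 3,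 1, 2, 1, 0, 3, 1, 2, 1, 0], [3, 1, 2, 1, 0, 1, 0, 3, 0, 2, 1, 2, 2, 3, 0, 3, 2, 3, 1, 2, 1, 0, 1, 0, 3, 0, 2, 1, 2, 3, 1, 2, 1, 0, 3, 1, 2, 1, 0, 2, 3, 0, 3, 2], [1, 0, 3, 0, 2, 1, 2, 3, 1, 2, 1, 0, 3, 1, 2, 1, 0, 1, 0, 3, 0, 2, 1, 2, 2, 3, 0, 3, 2], [3, 1, 2, 1, 0, 3, 1, 2, 1, 0, 1, 0, 3, 0, 2, 1, 2, 3, 1, 2, 1, 0, 2, 3, 0, 3, 2], [2, 3, 0, 3, 2, 3, 1, 2, 1, 0, 2, 3, 0, 3, 2, 3, 1, 2, 1, 0], [3, 1, 2, 1, 0, 1, 0, 3, 0, 2, 1, 2, 2, 3, 0, 3, 2, 3, 1, 2, 1, 0, 3, 1, 2, 1, 0, 1, 0, 3, 0, 2, 1, 2], [1, 0, 3, 0, 2, 1, 2, 1, 0, 3, 0, 2, 1, 2, 1, 0, 3, 0, 2, 1, 2, 2, 3, 0, 3, 2], [1, 0, 3, 0, 2, 1, 2, 2, 3, 0, 3, 2, 3, 1, 2, 1, 0, 1, 0, 3, 0, 2, 1, 2, 3, 1, 2, 1, 0, 3, 1, 2, 1, 0, 2, 3,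 0, 3, 2], [2, 3, 0, 3, 2, 3, 1, 2, 1, 0, 1, 0, 3, 0, 2, 1, 2, 3, 1, 2, 1, 0, 1, 0, 3, 0, 2, 1, 2], [1, 0, 3, 0, 2, 1, 2, 3, 1, 2, 1, 0], [3, 1, 2, 1, 0, 1, 0, 3, 0, 2, 1, 2, 3, 1, 2, 1, 0, 3, 1, 2, 1, 0, 1, 0, 3, 0, 2, 1, 2, 3, 1, 2, 1, 0], [3, 1, 2, 1, 0, 3, 1, 2, 1, 0, 2, 3, 0, 3, 2, 3, 1, 2, 1, 0, 2, 3, 0, 3, 2], [1, 0, 3, 0, 2, 1, 2, 3, 1, 2, 1, 0, 3, 1, 2, 1, 0, 1, 0, 3, 0, 2, 1, 2, 1, 0, 3, 0, 2, 1, 2, 2, 3, 0, 3, 2], [3, 1, 2, 1, 0, 1, 0, 3, 0, 2, 1, 2, 3, 1, 2, 1, 0, 2, 3, 0, 3, 2], [1, 0, 3, 0, 2, 1, 2, 2, 3, 0, 3, 2, 3, 1, 2, 1, 0, 3, 1, 2, 1, 0, 2, 3, 0, 3, 2], [1, 0, 3, 0, 2, 1, 2, 3, 1, 2, 1, 0, 3, 1, 2, 1, 0, 2, 3, 0, 3, 2, 3, 1, 2, 1, 0, 2, 3, 0, 3, 2], [3, 1, 2, 1,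 0, 3, 1, 2, 1, 0, 1, 0, 3, 0, 2, 1, 2, 1, 0, 3, 0, 2, 1, 2], [3, 1, 2, 1, 0, 2, 3, 0, 3, 2, 3, 1, 2, 1, 0, 2, 3, 0, 3, 2], [3, 1, 2, 1, 0, 1, 0, 3, 0, 2, 1, 2, 3, 1, 2, 1, 0, 1, 0, 3, 0, 2, 1, 2, 3, 1, 2, 1, 0, 2, 3, 0, 3, 2, 3, 1, 2, 1, 0], [3, 1, 2, 1, 0, 2, 3, 0, 3, 2, 3, 1, 2, 1, 0, 1, 0, 3, 0, 2, 1, 2, 3, 1, 2, 1, 0, 2, 3, 0, 3, 2, 3, 1, 2, 1, 0], [3, 1, 2, 1, 0, 1, 0, 3, 0, 2, 1, 2, 1, 0, 3, 0, 2, 1, 2, 1, 0, 3, 0, 2, 1, 2, 3, 1, 2, 1, 0, 2, 3, 0, 3, 2], [2, 3, 0, 3, 2], [3, 1, 2, 1, 0, 2, 3, 0, 3, 2, 3, 1, 2, 1, 0, 3, 1, 2, 1, 0, 2, 3, 0, 3, 2], [3, 1, 2, 1, 0, 2, 3, 0, 3, 2, 3, 1, 2, 1, 0, 1, 0, 3, 0, 2, 1, 2, 2, 3, 0, 3, 2, 3, 1, 2, 1, 0, 2, 3, 0, 3, 2], [1, 0, 3, 0, 2,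 1, 2, 2, 3, 0, 3, 2, 3, 1, 2, 1, 0, 1, 0, 3, 0, 2, 1, 2, 2, 3, 0, 3, 2], [1, 0, 3, 0, 2, 1, 2, 3, 1, 2, 1, 0, 1, 0, 3, 0, 2, 1, 2, 3, 1, 2, 1, 0, 3, 1, 2, 1, 0, 1, 0, 3, 0, 2, 1, 2, 1, 0, 3, 0, 2, 1, 2], [2, 3, 0, 3, 2, 3, 1, 2, 1, 0, 1, 0, 3, 0, 2, 1, 2, 3, 1, 2, 1, 0, 3, 1, 2, 1, 0, 1, 0, 3, 0, 2, 1, 2, 3, 1, 2, 1, 0], [3, 1, 2, 1, 0, 1, 0, 3, 0, 2, 1, 2, 3, 1, 2, 1, 0, 3, 1, 2, 1, 0, 1, 0, 3, 0, 2, 1, 2, 1, 0, 3, 0, 2, 1, 2], [1, 0, 3, 0, 2, 1, 2, 3, 1, 2, 1, 0, 2, 3, 0, 3, 2, 3, 1, 2, 1, 0], [1, 0, 3, 0, 2, 1, 2, 1, 0, 3, 0, 2, 1, 2, 3, 1, 2, 1, 0, 1, 0, 3, 0, 2, 1, 2], [1, 0, 3, 0, 2, 1, 2, 1, 0, 3, 0, 2, 1, 2, 3, 1, 2, 1, 0, 1, 0, 3, 0, 2, 1, 2, 2, 3, 0, 3, 2], [2, 3, 0, 3,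 2, 3, 1, 2, 1, 0, 2, 3, 0, 3, 2], [2, 3, 0, 3, 2, 3, 1, 2, 1, 0], [1, 0, 3, 0, 2, 1, 2, 3, 1, 2, 1, 0, 3, 1, 2, 1, 0, 1, 0, 3, 0, 2, 1, 2, 3, 1, 2, 1, 0, 2, 3, 0, 3, 2], [1, 0, 3, 0, 2, 1, 2, 3, 1, 2, 1, 0, 3, 1, 2, 1, 0, 1, 0, 3, 0, 2, 1, 2, 3, 1, 2, 1, 0], [1, 0, 3, 0, 2, 1, 2, 2, 3, 0, 3, 2, 3, 1, 2, 1, 0, 1, 0, 3, 0, 2, 1, 2, 2, 3, 0, 3, 2, 3, 1, 2, 1, 0, 2, 3, 0, 3, 2], [1, 0, 3, 0, 2, 1, 2, 2, 3, 0, 3, 2, 3, 1, 2, 1, 0, 1, 0, 3, 0, 2, 1, 2, 2, 3, 0, 3, 2, 3, 1, 2, 1, 0], [3, 1, 2, 1, 0, 1, 0, 3, 0, 2, 1, 2, 1, 0, 3, 0, 2, 1, 2], [3, 1, 2, 1, 0], [1, 0, 3, 0, 2, 1, 2, 3, 1, 2, 1, 0, 1, 0, 3, 0, 2, 1, 2, 2, 3, 0, 3, 2, 3, 1, 2, 1, 0, 2, 3, 0, 3, 2], [1, 0, 3, 0, 2, 1, 2, 3, 1,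 2, 1, 0, 1, 0, 3, 0, 2, 1, 2, 1, 0, 3, 0, 2, 1, 2, 1, 0, 3, 0, 2, 1, 2, 3, 1, 2, 1, 0], [1, 0, 3, 0, 2, 1, 2, 2, 3, 0, 3, 2, 3, 1, 2, 1, 0, 1, 0, 3, 0, 2, 1, 2, 3, 1, 2, 1, 0, 1, 0, 3, 0, 2, 1, 2], [1, 0, 3, 0, 2, 1, 2, 2, 3, 0, 3, 2, 3, 1, 2, 1, 0, 3, 1, 2, 1, 0, 1, 0, 3, 0, 2, 1, 2, 3, 1, 2, 1, 0, 2, 3, 0, 3, 2], [3, 1, 2, 1, 0, 1, 0, 3, 0, 2, 1, 2, 1, 0, 3, 0, 2, 1, 2, 1, 0, 3, 0, 2, 1, 2], [3, 1, 2, 1, 0, 1, 0, 3, 0, 2, 1, 2], [1, 0, 3, 0, 2, 1, 2, 1, 0, 3, 0, 2, 1, 2, 3, 1, 2, 1, 0, 3, 1, 2, 1, 0, 2, 3, 0, 3, 2], [3, 1, 2, 1, 0, 3, 1, 2, 1, 0, 1, 0, 3, 0, 2, 1, 2], [1, 0, 3, 0, 2, 1, 2, 3, 1, 2, 1, 0, 2, 3, 0, 3, 2], [2, 3, 0, 3, 2, 3, 1, 2, 1, 0, 1, 0, 3, 0, 2, 1, 2, 3, 1,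 2, 1, 0, 1, 0, 3, 0, 2, 1, 2, 2, 3, 0, 3, 2], [1, 0, 3, 0, 2, 1, 2, 2, 3, 0, 3, 2], [3, 1, 2, 1, 0, 3, 1, 2, 1, 0, 1, 0, 3, 0, 2, 1, 2, 1, 0, 3, 0, 2, 1, 2, 3, 1, 2, 1, 0], [3, 1, 2, 1, 0, 2, 3, 0, 3, 2, 3, 1, 2, 1, 0, 1, 0, 3, 0, 2, 1, 2, 3, 1, 2, 1, 0, 3, 1, 2, 1, 0], [1, 0, 3, 0, 2, 1, 2, 3, 1, 2, 1, 0, 3, 1, 2, 1, 0, 1, 0, 3, 0, 2, 1, 2], [1, 0, 3, 0, 2, 1, 2, 2, 3, 0, 3, 2, 3, 1, 2, 1, 0, 3, 1, 2, 1, 0], [2, 3, 0, 3, 2, 3, 1, 2, 1, 0, 1, 0, 3, 0, 2, 1, 2, 2, 3, 0, 3, 2, 3, 1, 2, 1, 0, 3, 1, 2, 1, 0, 1, 0, 3, 0, 2, 1, 2], [3, 1, 2, 1, 0, 2, 3, 0, 3, 2, 3, 1, 2, 1, 0], [3, 1, 2, 1, 0, 3, 1, 2, 1, 0, 1, 0, 3, 0, 2, 1, 2, 1, 0, 3, 0, 2, 1, 2, 2, 3, 0, 3, 2], [1, 0, 3, 0, 2, 1, 2,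 3, 1, 2, 1, 0, 1, 0, 3, 0, 2, 1, 2], [3, 1, 2, 1, 0, 1, 0, 3, 0, 2, 1, 2, 2, 3, 0, 3, 2, 3, 1, 2, 1, 0], [1, 0, 3, 0, 2, 1, 2, 3, 1, 2, 1, 0, 3, 1, 2, 1, 0, 1, 0, 3, 0, 2, 1, 2, 1, 0, 3, 0, 2, 1, 2, 3, 1, 2, 1, 0], [3, 1, 2, 1, 0, 2, 3, 0, 3, 2, 3, 1, 2, 1, 0, 1, 0, 3, 0, 2, 1, 2, 3, 1, 2, 1, 0, 3, 1, 2, 1, 0, 1, 0, 3, 0, 2, 1, 2, 3, 1, 2, 1, 0], [3, 1, 2, 1, 0, 1, 0, 3, 0, 2, 1, 2, 2, 3, 0, 3, 2, 3, 1, 2, 1, 0, 1, 0, 3, 0, 2, 1, 2, 3, 1, 2, 1, 0, 3, 1, 2, 1, 0], [1, 0, 3, 0, 2, 1, 2, 3, 1, 2, 1, 0, 1, 0, 3, 0, 2, 1, 2, 1, 0, 3, 0, 2, 1, 2, 3, 1, 2, 1, 0, 3, 1, 2, 1, 0], [3, 1, 2, 1, 0, 1, 0, 3, 0, 2, 1, 2, 3, 1, 2, 1, 0, 1, 0, 3, 0, 2, 1, 2, 1, 0, 3, 0, 2, 1, 2, 3, 1, 2, 1, 0],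 [1, 0, 3, 0, 2, 1, 2, 3, 1, 2, 1, 0, 3, 1, 2, 1, 0, 1, 0, 3, 0, 2, 1, 2, 1, 0, 3, 0, 2, 1, 2], [1, 0, 3, 0, 2, 1, 2, 3, 1, 2, 1, 0, 2, 3, 0, 3, 2, 3, 1, 2, 1, 0, 1, 0, 3, 0, 2, 1, 2, 3, 1, 2, 1, 0, 3, 1, 2, 1, 0], [3, 1, 2, 1, 0, 1, 0, 3, 0, 2, 1, 2, 3, 1, 2, 1, 0, 1, 0, 3, 0, 2, 1, 2, 3, 1, 2, 1, 0, 1, 0, 3, 0, 2, 1, 2, 2, 3, 0, 3, 2], [1, 0, 3, 0, 2, 1, 2, 1, 0, 3, 0, 2, 1, 2, 1, 0, 3, 0, 2, 1, 2, 3, 1, 2, 1, 0], [3, 1, 2, 1, 0, 1, 0, 3, 0, 2, 1, 2, 3, 1, 2, 1, 0, 1, 0, 3, 0, 2, 1, 2], [3, 1, 2, 1, 0, 1, 0, 3, 0, 2, 1, 2, 1, 0, 3, 0, 2, 1, 2, 3, 1, 2, 1, 0, 3, 1, 2, 1, 0], [1, 0, 3, 0, 2, 1, 2, 3, 1, 2, 1, 0, 1, 0, 3, 0, 2, 1, 2, 3, 1, 2, 1, 0, 2, 3, 0, 3, 2, 3, 1, 2, 1, 0], [2,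 3, 0, 3, 2, 3, 1, 2, 1, 0, 1, 0, 3, 0, 2, 1, 2, 3, 1, 2, 1, 0], [3, 1, 2, 1, 0, 1, 0, 3, 0, 2, 1, 2, 3, 1, 2, 1, 0, 3, 1, 2, 1, 0], [1, 0, 3, 0, 2, 1, 2, 2, 3, 0, 3, 2, 3, 1, 2, 1, 0, 3, 1, 2, 1, 0, 1, 0, 3, 0, 2, 1, 2], [2, 3, 0, 3, 2, 3, 1, 2, 1, 0, 1, 0, 3, 0, 2, 1, 2, 2, 3, 0, 3, 2, 3, 1, 2, 1, 0], [1, 0, 3, 0, 2, 1, 2, 3, 1, 2, 1, 0, 1, 0, 3, 0, 2, 1, 2, 3, 1, 2, 1, 0, 3, 1, 2, 1, 0], [1, 0, 3, 0, 2, 1, 2, 1, 0, 3, 0, 2, 1, 2, 2, 3, 0, 3, 2], [], [], [], [], [], [], [], [], [], [], [], [], [], [], [], [], [], [], [], [], [], [], [], [], [], [], [], [], [], [], [], [], [], [], [], [], [], [], [], [], [], [], [], [], [], [], [], [], [], [], [], [], [], [], [], [], [], [], [],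 [], [], [], [], [], [], [], [], [], [], [], [], [], [], []]

def so2O : List ℕ := [81, 82, 83, 84, 85, 86, 87, 88, 89, 90, 91, 92, 93, 94, 95, 96, 97, 98, 99, 100, 101, 102, 103, 104, 105, 106, 107, 108, 109, 110, 111, 112, 113, 114, 115, 116, 117, 118, 119, 120, 121, 122, 123, 124, 125, 126, 127, 128, 129, 130, 131, 132, 133, 134, 135, 136, 137, 138, 139, 140, 141, 142, 143, 144, 145, 146, 147, 148, 149, 150, 151, 152, 153, 154, 155, 156, 157, 158, 159, 160, 161, 162, 163, 164, 165, 166, 167, 168, 169, 170, 171, 172, 173, 174, 175, 176, 177, 178, 179, 180, 181, 182, 183, 184, 185, 186, 187, 188, 189, 190, 191, 192, 193, 194, 195, 196, 197, 198, 199, 200, 201, 202, 203, 204, 205,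 206, 207, 208, 209, 210, 211, 212, 213, 214, 215, 216, 217, 218, 219, 220, 221, 222, 223, 224, 225, 226, 227, 228, 229, 230, 231, 232, 233, 234, 235, 236, 237, 238, 239, 240]

def so3L : List (List ℕ) := [[], [], [], [], [], [], [], [], [], [], [], [], [], [], [], [], [], [], [], [], [], [], [], [], [], [], [], [], [], [], [], [], [], [], [], [], [], [], [], [], [], [], [], [], [], [], [], [], [], [], [], [], [], [], [], [], [], [], [], [], [], [], [], [], [], [], [], [], [], [], [], [], [], [], [], [], [], [], [], [], [], [], [], [], [], [], [], [], [], [], [], [], [], [], [], [], [], [], [], [], [], [], [], [], [], [], [], [], [], [], [], [], [], [], [], [], [], [], [], [], [],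 [], [], [], [], [], [], [], [], [], [], [], [], [], [], [], [], [], [], [], [], [], [], [], [], [], [], [], [], [], [], [], [], [], [], [], [], [], [], [], [], [], [], [], [], [], [], [], [], [], [], [], [], [], [], [], [], [], [], [], [], [], [], [], [], [], [], [], [], [], [], [], [], [], [], [], [], [], [], [], [], [], [], [], [], [], [], [], [], [], [], [], [], [], [], [], [], [], [], [], [], [], [], [], [], [], [], [], [], [], [], [], [], [], [], [], [], [], [], [], [], [], [3, 1, 2, 1, 0, 2, 3, 0, 3, 2], [2, 3, 0, 3, 2, 3, 1, 2, 1, 0, 1, 0, 3, 0, 2, 1, 2, 2, 3, 0, 3, 2, 3, 1, 2, 1, 0, 2, 3, 0, 3, 2], [2, 3, 0, 3, 2, 3, 1, 2, 1, 0, 1, 0, 3, 0, 2, 1, 2, 3, 1, 2, 1, 0, 2, 3, 0,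 3, 2], [3, 1, 2, 1, 0, 3, 1, 2, 1, 0, 2, 3, 0, 3, 2, 3, 1, 2, 1, 0], [1, 0, 3, 0, 2, 1, 2, 2, 3, 0, 3, 2], [3, 1, 2, 1, 0, 1, 0, 3, 0, 2, 1, 2, 3, 1, 2, 1, 0, 1, 0, 3, 0, 2, 1, 2, 2, 3, 0, 3, 2], [1, 0, 3, 0, 2, 1, 2, 3, 1, 2, 1, 0, 3, 1, 2, 1, 0, 2, 3, 0, 3, 2], [3, 1, 2, 1, 0, 1, 0, 3, 0, 2, 1, 2, 3, 1, 2, 1, 0, 2, 3, 0, 3, 2], [3, 1, 2, 1, 0, 2, 3, 0, 3, 2, 3, 1, 2, 1, 0, 1, 0, 3, 0, 2, 1, 2, 3, 1, 2, 1, 0, 2, 3, 0, 3, 2], [3, 1, 2, 1, 0, 1, 0, 3, 0, 2, 1, 2, 2, 3, 0, 3, 2, 3, 1, 2, 1, 0], [1, 0, 3, 0, 2, 1, 2, 3, 1, 2, 1, 0], [1, 0, 3, 0, 2, 1, 2, 3, 1, 2, 1, 0, 1, 0, 3, 0, 2, 1, 2, 2, 3, 0, 3, 2, 3, 1, 2, 1, 0, 2, 3, 0, 3, 2], [1, 0, 3, 0, 2, 1, 2, 3, 1, 2, 1, 0, 1, 0, 3, 0,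 2, 1, 2, 2, 3, 0, 3, 2], [1, 0, 3, 0, 2, 1, 2, 1, 0, 3, 0, 2, 1, 2, 3, 1, 2, 1, 0, 2, 3, 0, 3, 2], [2, 3, 0, 3, 2], [2, 3, 0, 3, 2, 3, 1, 2, 1, 0], [2, 3, 0, 3, 2, 3, 1, 2, 1, 0, 2, 3, 0, 3, 2], [1, 0, 3, 0, 2, 1, 2, 3, 1, 2, 1, 0, 1, 0, 3, 0, 2, 1, 2, 2, 3, 0, 3, 2, 3, 1, 2, 1, 0], [3, 1, 2, 1, 0, 3, 1, 2, 1, 0, 1, 0, 3, 0, 2, 1, 2, 2, 3, 0, 3, 2, 3, 1, 2, 1, 0, 2, 3, 0, 3, 2], [1, 0, 3, 0, 2, 1, 2], [3, 1, 2, 1, 0, 1, 0, 3, 0, 2, 1, 2, 2, 3, 0, 3, 2], [3, 1, 2, 1, 0, 1, 0, 3, 0, 2, 1, 2, 2, 3, 0, 3, 2, 3, 1, 2, 1, 0, 2, 3, 0, 3, 2], [1, 0, 3, 0, 2, 1, 2, 3, 1, 2, 1, 0, 2, 3, 0, 3, 2], [3, 1, 2, 1, 0, 1, 0, 3, 0, 2, 1, 2, 3, 1, 2, 1, 0, 3, 1, 2, 1, 0, 2, 3, 0, 3, 2], [3, 1, 2, 1,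 0, 1, 0, 3, 0, 2, 1, 2, 3, 1, 2, 1, 0, 1, 0, 3, 0, 2, 1, 2, 2, 3, 0, 3, 2, 3, 1, 2, 1, 0], [1, 0, 3, 0, 2, 1, 2, 2, 3, 0, 3, 2, 3, 1, 2, 1, 0], [3, 1, 2, 1, 0, 3, 1, 2, 1, 0, 2, 3, 0, 3, 2], [1, 0, 3, 0, 2, 1, 2, 2, 3, 0, 3, 2, 3, 1, 2, 1, 0, 2, 3, 0, 3, 2], [3, 1, 2, 1, 0, 3, 1, 2, 1, 0, 1, 0, 3, 0, 2, 1, 2, 3, 1, 2, 1, 0, 1, 0, 3, 0, 2, 1, 2, 2, 3, 0, 3, 2], [3, 1, 2, 1, 0, 2, 3, 0, 3, 2, 3, 1, 2, 1, 0], [3, 1, 2, 1, 0], [], [], [], [], [], [], [], [], [], [], [], [], [], [], [], [], [], [], [], [], [], [], [], [], [], [], [], [], [], [], [], [], [], [], [], [], [], [], [], [], [], []]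

def so3O : List ℕ := [241, 242, 243, 244, 245, 246, 247, 248, 249, 250, 251, 252, 253, 254, 255, 256, 257, 258, 259, 260, 261, 262, 263, 264, 265, 266, 267, 268, 269, 270, 271, 272]

def so4L : List (List ℕ) := [[], [], [], [], [], [], [], [], [], [], [], [], [], [], [], [], [], [], [], [], [], [], [], [], [], [], [], [], [], [], [], [], [], [], [], [], [], [], [], [], [], [], [], [], [], [], [], [], [], [], [], [], [], [], [], [], [], [], [], [], [], [], [], [], [], [], [], [], [], [], [], [], [], [], [], [], [], [], [], [], [], [], [], [], [], [], [], [], [], [], [], [], [], [], [], [], [], [], [], [], [], [], [], [], [], [], [], [], [], [], [], [], [], [], [], [], [], [], [],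 [], [], [], [], [], [], [], [], [], [], [], [], [], [], [], [], [], [], [], [], [], [], [], [], [], [], [], [], [], [], [], [], [], [], [], [], [], [], [], [], [], [], [], [], [], [], [], [], [], [], [], [], [], [], [], [], [], [], [], [], [], [], [], [], [], [], [], [], [], [], [], [], [], [], [], [], [], [], [], [], [], [], [], [], [], [], [], [], [], [], [], [], [], [], [], [], [], [], [], [], [], [], [], [], [], [], [], [], [], [], [], [], [], [], [], [], [], [], [], [], [], [], [], [], [], [], [], [], [], [], [], [], [], [], [], [], [], [], [], [], [], [], [], [], [], [], [], [], [], [], [], [], [], [], [], [2, 3, 0, 3, 2, 3, 1, 2, 1, 0, 1, 0, 3, 0, 2, 1, 2, 2, 3, 0, 3, 2],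 [1, 0, 3, 0, 2, 1, 2], [3, 1, 2, 1, 0, 2, 3, 0, 3, 2, 3, 1, 2, 1, 0, 2, 3, 0, 3, 2], [2, 3, 0, 3, 2], [3, 1, 2, 1, 0, 3, 1, 2, 1, 0], [1, 0, 3, 0, 2, 1, 2, 3, 1, 2, 1, 0, 2, 3, 0, 3, 2], [2, 3, 0, 3, 2, 3, 1, 2, 1, 0, 1, 0, 3, 0, 2, 1, 2, 3, 1, 2, 1, 0, 1, 0, 3, 0, 2, 1, 2, 2, 3, 0, 3, 2], [1, 0, 3, 0, 2, 1, 2, 3, 1, 2, 1, 0, 3, 1, 2, 1, 0], [1, 0, 3, 0, 2, 1, 2, 3, 1, 2, 1, 0, 1, 0, 3, 0, 2, 1, 2, 3, 1, 2, 1, 0, 3, 1, 2, 1, 0], [3, 1, 2, 1, 0, 1, 0, 3, 0, 2, 1, 2, 1, 0, 3, 0, 2, 1, 2], [3, 1, 2, 1, 0], [3, 1, 2, 1, 0, 1, 0, 3, 0, 2, 1, 2, 3, 1, 2, 1, 0, 1, 0, 3, 0, 2, 1, 2, 2, 3, 0, 3, 2], [1, 0, 3, 0, 2, 1, 2, 3, 1, 2, 1, 0, 2, 3, 0, 3, 2, 3, 1, 2, 1, 0, 2, 3, 0, 3, 2], [1, 0,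 3, 0, 2, 1, 2, 2, 3, 0, 3, 2, 3, 1, 2, 1, 0, 1, 0, 3, 0, 2, 1, 2, 2, 3, 0, 3, 2], [1, 0, 3, 0, 2, 1, 2, 2, 3, 0, 3, 2, 3, 1, 2, 1, 0, 1, 0, 3, 0, 2, 1, 2, 3, 1, 2, 1, 0, 3, 1, 2, 1, 0], [2, 3, 0, 3, 2, 3, 1, 2, 1, 0, 1, 0, 3, 0, 2, 1, 2, 2, 3, 0, 3, 2, 3, 1, 2, 1, 0, 2, 3, 0, 3, 2], [1, 0, 3, 0, 2, 1, 2, 2, 3, 0, 3, 2, 3, 1, 2, 1, 0, 3, 1, 2, 1, 0], [1, 0, 3, 0, 2, 1, 2, 2, 3, 0, 3, 2, 3, 1, 2, 1, 0, 2, 3, 0, 3, 2], [3, 1, 2, 1, 0, 1, 0, 3, 0, 2, 1, 2, 3, 1, 2, 1, 0, 3, 1, 2, 1, 0], [1, 0, 3, 0, 2, 1, 2, 2, 3, 0, 3, 2], [3, 1, 2, 1, 0, 2, 3, 0, 3, 2], [3, 1, 2, 1, 0, 1, 0, 3, 0, 2, 1, 2, 2, 3, 0, 3, 2, 3, 1, 2, 1, 0, 2, 3, 0, 3, 2], [1, 0, 3, 0, 2, 1, 2, 3, 1, 2, 1, 0, 1, 0, 3, 0,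 2, 1, 2, 2, 3, 0, 3, 2], [2, 3, 0, 3, 2, 3, 1, 2, 1, 0, 1, 0, 3, 0, 2, 1, 2, 3, 1, 2, 1, 0, 3, 1, 2, 1, 0], [1, 0, 3, 0, 2, 1, 2, 3, 1, 2, 1, 0, 1, 0, 3, 0, 2, 1, 2, 1, 0, 3, 0, 2, 1, 2], [3, 1, 2, 1, 0, 1, 0, 3, 0, 2, 1, 2, 2, 3, 0, 3, 2], [1, 0, 3, 0, 2, 1, 2, 1, 0, 3, 0, 2, 1, 2], [2, 3, 0, 3, 2, 3, 1, 2, 1, 0, 2, 3, 0, 3, 2], [2, 3, 0, 3, 2, 3, 1, 2, 1, 0], [2, 3, 0, 3, 2, 3, 1, 2, 1, 0, 3, 1, 2, 1, 0], [1, 0, 3, 0, 2, 1, 2, 1, 0, 3, 0, 2, 1, 2, 2, 3, 0, 3, 2], [], [], [], [], [], [], [], [], [], []]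

def so4O : List ℕ := [273, 274, 275, 276, 277, 278, 279, 280, 281, 282, 283, 284, 285, 286, 287, 288, 289, 290, 291, 292, 293, 294, 295, 296, 297, 298, 299, 300, 301, 302, 303, 304]

def so5L : List (List ℕ) := [[], [], [], [], [], [], [], [], [], [], [], [], [], [], [], [], [], [], [], [], [], [], [], [], [], [], [], [], [], [], [], [], [], [], [], [], [], [], [], [], [], [], [], [], [], [], [], [], [], [], [], [], [], [], [], [], [], [], [], [], [], [], [], [], [], [], [], [], [], [], [], [], [], [], [], [], [], [], [], [], [], [], [], [], [], [], [], [], [], [], [], [], [], [], [], [], [], [], [], [], [], [], [], [], [], [], [], [], [], [], [], [], [], [], [], [], [], [], [],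 [], [], [], [], [], [], [], [], [], [], [], [], [], [], [], [], [], [], [], [], [], [], [], [], [], [], [], [], [], [], [], [], [], [], [], [], [], [], [], [], [], [], [], [], [], [], [], [], [], [], [], [], [], [], [], [], [], [], [], [], [], [], [], [], [], [], [], [], [], [], [], [], [], [], [], [], [], [], [], [], [], [], [], [], [], [], [], [], [], [], [], [], [], [], [], [], [], [], [], [], [], [], [], [], [], [], [], [], [], [], [], [], [], [], [], [], [], [], [], [], [], [], [], [], [], [], [], [], [], [], [], [], [], [], [], [], [], [], [], [], [], [], [], [], [], [], [], [], [], [], [], [], [], [], [], [], [], [], [], [], [], [], [], [], [], [], [], [], [], [], [], [],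 [], [], [], [], [], [], [], [], [], [], [], [], [], [], [], [1, 0, 3, 0, 2, 1, 2, 3, 1, 2, 1, 0, 2, 3, 0, 3, 2], [3, 1, 2, 1, 0, 2, 3, 0, 3, 2], [1, 0, 3, 0, 2, 1, 2, 2, 3, 0, 3, 2], [3, 1, 2, 1, 0, 3, 1, 2, 1, 0], [3, 1, 2, 1, 0, 3, 1, 2, 1, 0, 2, 3, 0, 3, 2], [1, 0, 3, 0, 2, 1, 2], [3, 1, 2, 1, 0], [1, 0, 3, 0, 2, 1, 2, 3, 1, 2, 1, 0], [2, 3, 0, 3, 2]]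

def so5O : List ℕ := [305, 306, 307, 308, 309, 310, 311, 312, 313, 314]

def gen7L : List (List (List ℕ)) := [[[1, 0, 2], [0, 1, 0, 2, 1], [0, 1, 2]], [[0, 1, 2, 0, 1], [0, 2, 1], [0, 1, 2]], [[2, 1, 0, 2, 1, 0], [0, 1, 2, 0, 1]], [[3, 0, 1, 2, 1, 2], [2, 0, 1, 2, 0, 1], [0, 2, 1]]]

end Cfsg.Agent.Helper9.J2B
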