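import Mathlib
import Cfsg.Agent.Helper9.J2.PChain
import Cfsg.Agent.Helper9.J2B.GData

set_option autoImplicit false

/-!
A group of permutations of 315 points generated by four involutions, of order at least `604800`.
-/

namespace Cfsg.Agent.Helper9.J2B

open Cfsg.Agent.Helper9.PChain

/-- the tables of the letters. -/
def gtab (l x : ℕ) : ℕ := if l < 4 then (gtabL.getD l []).getD x 0 else x

set_option maxRecDepth 1000000 in
set_option maxHeartbeats 0 in
theorem gtab_ok : ∀ l : Fin 4, ∀ x : Fin 315,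
    gtab l.val x.val < 315 ∧ gtab l.val (gtab l.val x.val) = x.val := by decide +kernel

theorem gtab_lt (l x : ℕ) (hx : x < 315) : gtab l x < 315 := by
  by_cases hl : l < 4
  · exact (gtab_ok ⟨l, hl⟩ ⟨x, hx⟩).1
  · unfold gtab
    rw [if_neg hl]
    exact hx

theorem gtab_inv (l x : ℕ) (hl : l < 4) (hx : x < 315) : gtab l (gtab l x) = x :=
  (gtab_ok ⟨l, hl⟩ ⟨x, hx⟩).2

/-- the letters as permutations. -/
def gP (l : ℕ) : Equiv.Perm (Fin 315) :=
  if hl : l < 4 then
    mkPerm (gtab l) (gtab l) (fun x hx => gtab_lt l x hx) (fun x hx => gtab_lt _ x hx)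
      (fun x hx => gtab_inv l x hl hx) (fun x hx => gtab_inv l x hl hx)
  else 1

theorem gP_apply (l : ℕ) (x : Fin 315) : (gP l x).val = gtab l x.val := by
  unfold gP
  by_cases hl : l < 4
  · rw [dif_pos hl]
    rfl
  · rw [dif_neg hl]
    unfold gtab
    rw [if_neg hl]
    rfl

theorem gP_mul_self (l : ℕ) : gP l * gP l = 1 := by
  ext x
  rw [Equiv.Perm.mul_apply, gP_apply, gP_apply, Equiv.Perm.one_apply]
  by_cases hl : l < 4
  · exact gtab_inv l x.val hl x.isLt
  · unfold gtab
    rw [if_neg hl, if_neg hl]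

/-- the group generated by the letters. -/
def G315 : Subgroup (Equiv.Perm (Fin 315)) :=
  Subgroup.closure (Set.range fun l : Fin 4 => gP l.val)

theorem gP_mem (l : ℕ) : gP l ∈ G315 := by
  by_cases hl : l < 4
  · exact Subgroup.subset_closure ⟨⟨l, hl⟩, rfl⟩
  · unfold gP
    rw [dif_neg hl]
    exact G315.one_mem

/-- the permutation of a word. -/
def gpermW (w : List ℕ) : Equiv.Perm (Fin 315) := (w.map gP).prod

theorem gpermW_mem (w : List ℕ) : gpermW w ∈ G315 := by
  apply Subgroup.list_prod_mem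
  intro x hx
  obtain ⟨l, -, rfl⟩ := List.mem_map.1 hx
  exact gP_mem l

theorem gpermW_apply (w : List ℕ) (x : Fin 315) : (gpermW w x).val = evalW gtab w x.val :=
  prod_apply gtab gP gP_apply w x

/-! ### The lower bound -/

/-- the check of the witnesses of one level. -/
def gcheckLevel (l : List ℕ) (b : ℕ) (O : List ℕ) (W : List (List ℕ)) : Bool :=
  O.all (fun y => evalW gtab (W.getD y []) b == y &&
    l.all (fun x => evalW gtab (W.getD y []) x == x))

/-- the points of a list. -/
def gptsOf (O : List ℕ) : Finset (Fin 315) := Finset.univ.filter (fun y => y.val ∈ O)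

theorem glevel_wit (l : List (Fin 315)) (b : Fin 315) (O : List ℕ) (W : List (List ℕ))
    (hchk : gcheckLevel (l.map Fin.val) b.val O W = true) :
    ∀ y ∈ gptsOf O, ∃ σ ∈ G315 ⊓ fixing l, σ b = y := by
  intro y hy
  unfold gptsOf at hy
  rw [Finset.mem_filter] at hy
  unfold gcheckLevel at hchk
  rw [List.all_eq_true] at hchk
  have h1 := hchk y.val hy.2
  rw [Bool.and_eq_true, beq_iff_eq, List.all_eq_true] at h1
  refine ⟨gpermW (W.getD y.val []), Subgroup.mem_inf.2 ⟨gpermW_mem _, ?_⟩, ?_⟩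
  · intro x hx
    apply Fin.ext
    rw [gpermW_apply]
    have := h1.2 x.val (List.mem_map.2 ⟨x, hx, rfl⟩)
    rwa [beq_iff_eq] at this
  · apply Fin.ext
    rw [gpermW_apply]
    exact h1.1

set_option maxRecDepth 1000000 in
set_option maxHeartbeats 0 in
theorem gchk1 : gcheckLevel [] 0 q1O q1L = true := by decide +kernel

set_option maxRecDepth 1000000 in
set_option maxHeartbeats 0 in
theorem gchk2 : gcheckLevel [0] 81 q2O q2L = true := by decide +kernel

set_option maxRecDepth 1000000 in
set_option maxHeartbeats 0 in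
theorem gchk3 : gcheckLevel [0, 81] 2 q3O q3L = true := by decide +kernel

set_option maxRecDepth 1000000 in
set_option maxHeartbeats 0 in
theorem gcard_pts : (gptsOf q1O).card = 315 ∧ (gptsOf q2O).card = 160 ∧
    (gptsOf q3O).card = 12 := by decide +kernel

theorem card_G315_ge : 604800 ≤ Nat.card G315 := by
  have h4 : 1 ≤ Nat.card ↥(G315 ⊓ fixing ([0, 81, 2] : List (Fin 315))) := Nat.card_pos
  have h3 := card_ge_step G315 [0, 81] 2 (gptsOf q3O) (glevel_wit [0, 81] 2 q3O q3L gchk3) 1 h4
  rw [gcard_pts.2.2] at h3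
  have h2 := card_ge_step G315 [0] 81 (gptsOf q2O) (glevel_wit [0] 81 q2O q2L gchk2) _ h3
  rw [gcard_pts.2.1] at h2
  have h1 := card_ge_step G315 [] 0 (gptsOf q1O) (glevel_wit [] 0 q1O q1L gchk1) _ h2
  rw [gcard_pts.1] at h1
  have e : G315 ⊓ fixing ([] : List (Fin 315)) = G315 := by
    rw [fixing_nil, inf_top_eq]
  rw [e] at h1
  exact h1

/-- the group is transitive on the 315 points. -/
theorem G315_trans (y : Fin 315) : ∃ σ ∈ G315, σ 0 = y := by
  have hy : y ∈ gptsOf q1O := by
    have h : gptsOf q1O = Finset.univ := by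
      apply Finset.eq_univ_of_card
      rw [gcard_pts.1, Fintype.card_fin]
    rw [h]
    exact Finset.mem_univ _
  obtain ⟨σ, hσ, h⟩ := glevel_wit [] 0 q1O q1L gchk1 y hy
  exact ⟨σ, (Subgroup.mem_inf.1 hσ).1, h⟩

end Cfsg.Agent.Helper9.J2B
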