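import Cfsg.Agent.Helper9.J2B.Rho
import Cfsg.Agent.Helper9.J2B.Grp

set_option autoImplicit false

/-! The action of four reflections on the indices of the 315 reflections, by a check in integer
coordinates; so the image of the reflection group contains the group generated by the four
tables. -/

namespace Cfsg.Agent.Helper9.J2B

open Quaternion Cfsg.Spor

/-- the image of a vector under the reflection in a root, in integer coordinates. -/
def reflZ (R X : Z24) : Z24 :=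
  ⟨Z8.sub X.x (Z8.dv (Z8.mul (qipZ X R) R.x) 32), Z8.sub X.y (Z8.dv (Z8.mul (qipZ X R) R.y) 32),
    Z8.sub X.z (Z8.dv (Z8.mul (qipZ X R) R.z) 32)⟩

/-- the divisibility that the integer formula for the reflection needs. -/
def reflOK (R X : Z24) : Prop :=
  Z8.dvd 32 (Z8.mul (qipZ X R) R.x) ∧ Z8.dvd 32 (Z8.mul (qipZ X R) R.y) ∧
    Z8.dvd 32 (Z8.mul (qipZ X R) R.z)

instance (R X : Z24) : Decidable (reflOK R X) := by unfold reflOK; infer_instance

theorem corr_eq (q r : Z8) (h : Z8.dvd 32 (Z8.mul q r)) :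
    ((1 / 2 : ℝ) • ((1 / 4 : ℝ) • phi q)) * phi r = phi (Z8.dv (Z8.mul q r) 32) := by
  rw [phi_dv _ 32 (by norm_num) h, smul_smul, smul_mul_assoc, phi_mul, smul_smul]
  norm_num

theorem qrefl_phi3 (R X : Z24) (h : reflOK R X) : qrefl (phi3 R) (phi3 X) = phi3 (reflZ R X) := by
  obtain ⟨h0, h1, h2⟩ := h
  funext t
  unfold qrefl
  rw [qip_phi3]
  fin_cases t
  · show phi X.x - ((1 / 2 : ℝ) • ((1 / 4 : ℝ) • phi (qipZ X R))) * phi R.x = phi (reflZ R X).x
    rw [corr_eq _ _ h0, ← phi_sub]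
    rfl
  · show phi X.y - ((1 / 2 : ℝ) • ((1 / 4 : ℝ) • phi (qipZ X R))) * phi R.y = phi (reflZ R X).y
    rw [corr_eq _ _ h1, ← phi_sub]
    rfl
  · show phi X.z - ((1 / 2 : ℝ) • ((1 / 4 : ℝ) • phi (qipZ X R))) * phi R.z = phi (reflZ R X).z
    rw [corr_eq _ _ h2, ← phi_sub]
    rfl

/-- a reflection in a vector that a unit takes to a representative. -/
theorem reflPerm_eq_sR (r : Fin 3 → ℍ[ℝ]) (hr : r ∈ icoLeech) (h4 : qip r r = 4) (U : Z8)
    (hU : isUnitZ U) (k : Fin 315) (e : lmul (phi U) r = phi3 (rep k)) :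
    reflPerm r hr h4 = sR k := by
  rw [sR_eq]
  apply reflPerm_congr
  intro x
  rw [← e, qrefl_lmul_root _ (unit_star_mul U hU)]

/-- the indices of the four roots. -/
def gIdx (a : ℕ) : ℕ := [83, 123, 89, 106].getD a 0

/-- the numbers of the units that take the images of the representatives to representatives. -/
def uTabL : List (List ℕ) := [[119, 10, 45, 102, 101, 109, 46, 102, 105, 78, 79, 119, 108, 100, 99, 119, 119, 109, 10, 26, 99, 92, 105, 70, 46, 119, 45, 103, 81, 110, 96, 119, 108, 50, 106, 112, 7, 47, 92, 109, 80, 101, 100, 80, 119, 119, 89, 103, 113, 81, 88, 111, 75, 93, 103, 111, 69, 99, 102, 114, 110, 110, 105, 81, 119, 49, 108, 106, 102, 90, 107, 73, 119, 0, 119, 102, 104, 97, 104, 49, 119, 74, 59, 0, 61, 58, 119, 60, 45, 73, 46, 65, 113, 93, 85, 70, 108, 90, 84, 36, 83, 64, 104, 112, 51, 53, 105, 109, 46, 11, 108, 87, 80, 86, 69, 116, 75, 47, 118, 62, 110, 72, 92, 44, 50, 101, 114, 57, 91,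 86, 108, 85, 79, 101, 78, 78, 79, 109, 30, 70, 86, 95, 73, 113, 74, 68, 57, 76, 69, 112, 118, 81, 110, 112, 116, 98, 60, 97, 80, 104, 55, 117, 113, 39, 81, 97, 119, 93, 54, 66, 92, 103, 105, 95, 98, 115, 111, 109, 77, 119, 84, 87, 49, 106, 108, 96, 117, 90, 116, 118, 88, 91, 119, 82, 111, 103, 116, 118, 75, 83, 119, 97, 113, 89, 72, 92, 101, 107, 94, 110, 32, 109, 119, 73, 108, 112, 115, 114, 105, 113, 108, 96, 119, 96, 111, 109, 119, 109, 116, 104, 114, 119, 46, 74, 117, 0, 118, 115, 119, 116, 119, 38, 88, 87, 62, 93, 46, 33, 108, 95, 114, 90, 119, 98, 104, 83, 94, 99, 88, 89, 107, 4, 115, 103, 105, 89, 119, 93, 100, 106, 108, 107, 119, 77, 23, 82, 37, 78, 107, 109, 27, 21, 80, 73, 99, 80, 114, 86, 112, 83, 107, 50, 101, 82, 81, 59, 119, 109, 75, 76, 115, 119, 95, 112, 106, 0, 11, 0, 40, 41, 14, 17, 73, 10, 11], [119, 88, 105, 110, 104, 75, 112, 106, 76, 119, 103, 105, 109, 113, 87, 103, 119, 93, 101, 99, 109,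 105, 110, 46, 91, 81, 119, 115, 103, 51, 110, 116, 119, 118, 40, 116, 103, 100, 57, 47, 91, 80, 119, 107, 109, 106, 109, 119, 103, 108, 105, 97, 91, 48, 94, 110, 108, 101, 54, 81, 119, 102, 119, 104, 117, 108, 102, 81, 119, 49, 94, 104, 118, 107, 106, 80, 119, 14, 106, 107, 52, 48, 102, 119, 55, 110, 69, 105, 113, 72, 96, 89, 46, 118, 98, 100, 113, 84, 119, 114, 101, 63, 98, 67, 92, 108, 110, 54, 87, 108, 118, 68, 93, 119, 99, 117, 119, 115, 41, 119, 116, 100, 67, 0, 90, 94, 81, 99, 102, 111, 70, 115, 97, 85, 111, 115, 86, 116, 92, 65, 51, 44, 91, 70, 34, 111, 85, 116, 78, 72, 81, 110, 118, 84, 79, 76, 100, 86, 113, 113, 119, 73, 62, 52, 94, 117, 98, 118, 96, 99, 66, 97, 47, 117, 56, 109, 68, 85, 119, 82, 75, 114, 114, 83, 101, 94, 53, 57, 88, 22, 102, 49, 90, 62, 65, 80, 91, 78, 119, 101, 68, 101, 35, 119, 102, 9, 100, 118, 11, 116, 111, 50, 91, 32, 112, 97, 64, 81, 112, 119, 109, 116, 65, 71, 95, 104, 117,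 80, 99, 73, 118, 79, 119, 77, 112, 107, 80, 117, 86, 115, 71, 105, 89, 43, 94, 105, 119, 119, 108, 94, 88, 108, 69, 51, 116, 104, 93, 100, 89, 101, 114, 99, 91, 107, 99, 87, 33, 56, 95, 79, 119, 111, 112, 106, 99, 75, 101, 116, 81, 31, 96, 119, 83, 54, 82, 119, 76, 50, 113, 104, 114, 107, 21, 115, 112, 112, 14, 80, 119, 107, 101, 80, 109, 82, 77, 7, 10, 36, 42, 12, 37, 88, 7, 92, 63], [119, 46, 108, 78, 102, 45, 119, 100, 102, 99, 101, 73, 119, 79, 105, 109, 119, 45, 46, 81, 105, 26, 110, 109, 119, 73, 108, 99, 96, 103, 92, 119, 70, 89, 28, 50, 103, 100, 80, 47, 80, 92, 119, 101, 109, 106, 113, 119, 112, 103, 110, 99, 111, 88, 119, 110, 111, 105, 75, 81, 81, 102, 69, 93, 114, 108, 119, 102, 104, 102, 90, 0, 73, 119, 119, 104, 107, 106, 97, 49, 49, 46, 88, 46, 51, 105, 73, 79, 108, 0, 74, 103, 76, 98, 39, 119, 70, 60, 81, 105, 69, 87, 95, 58, 115, 111, 110, 45, 119, 108, 74, 55, 54, 101, 103, 83, 72, 75, 50, 91,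 111, 92, 116, 47, 89, 94, 69, 110, 113, 77, 30, 59, 117, 104, 93, 115, 81, 49, 91, 109, 64, 113, 70, 86, 109, 53, 78, 104, 96, 9, 65, 96, 112, 80, 78, 116, 111, 84, 85, 116, 32, 87, 101, 109, 96, 90, 93, 90, 110, 105, 79, 114, 119, 83, 113, 117, 115, 108, 119, 119, 104, 108, 108, 108, 119, 92, 57, 116, 113, 60, 116, 106, 113, 62, 97, 107, 86, 118, 72, 101, 75, 57, 82, 118, 44, 119, 92, 114, 116, 112, 117, 109, 109, 74, 74, 66, 68, 61, 118, 84, 86, 95, 112, 97, 97, 49, 73, 80, 119, 98, 118, 119, 119, 109, 118, 119, 112, 114, 73, 85, 73, 46, 100, 33, 89, 88, 119, 108, 62, 89, 98, 88, 94, 103, 95, 90, 18, 119, 115, 105, 114, 99, 83, 107, 104, 106, 87, 38, 107, 108, 119, 93, 93, 99, 81, 78, 76, 95, 16, 21, 59, 75, 27, 23, 106, 83, 86, 50, 80, 101, 114, 107, 112, 77, 112, 109, 109, 80, 119, 119, 82, 107, 115, 73, 82, 46, 46, 46, 5, 12, 25, 3, 0, 70, 45], [119, 107, 47, 90, 76, 100, 102, 119, 12, 119, 45, 99, 101,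 92, 103, 119, 110, 113, 86, 100, 70, 91, 91, 79, 111, 113, 109, 110, 76, 101, 64, 88, 103, 119, 107, 106, 82, 40, 109, 71, 119, 47, 45, 100, 79, 91, 103, 110, 12, 45, 72, 108, 104, 77, 101, 48, 48, 110, 119, 108, 105, 105, 101, 119, 119, 94, 49, 55, 106, 107, 99, 119, 114, 78, 57, 94, 102, 104, 112, 119, 84, 80, 71, 112, 107, 110, 66, 107, 97, 115, 114, 74, 74, 107, 107, 63, 62, 41, 89, 115, 58, 82, 82, 112, 118, 59, 0, 29, 86, 106, 87, 71, 119, 67, 85, 108, 97, 118, 82, 78, 49, 52, 93, 85, 117, 106, 99, 95, 70, 84, 114, 85, 108, 84, 100, 116, 60, 98, 119, 114, 107, 72, 111, 72, 81, 46, 114, 90, 68, 105, 83, 56, 83, 113, 94, 118, 118, 98, 90, 44, 96, 79, 75, 78, 119, 79, 99, 86, 77, 95, 116, 92, 112, 111, 111, 103, 119, 92, 47, 57, 47, 110, 103, 12, 76, 117, 59, 97, 96, 91, 61, 103, 64, 119, 84, 118, 53, 55, 88, 116, 113, 70, 117, 88, 99, 81, 64, 109, 112, 72, 48, 32, 117, 119, 94, 119, 119, 79, 105, 116, 91,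 118, 61, 118, 104, 113, 109, 74, 110, 119, 45, 51, 53, 110, 110, 110, 119, 110, 105, 119, 110, 95, 97, 107, 119, 58, 33, 94, 55, 119, 93, 87, 56, 48, 93, 89, 114, 36, 104, 100, 91, 116, 108, 67, 34, 111, 99, 119, 94, 37, 88, 108, 105, 80, 63, 66, 83, 49, 21, 85, 119, 71, 106, 107, 109, 119, 107, 82, 117, 75, 99, 76, 82, 75, 24, 77, 77, 26, 52, 119, 79, 112, 104, 109, 101, 9, 43, 73, 74, 9, 107, 9, 62, 27, 60]]

def repN (j : ℕ) : Z24 := repList.getD j ⟨Z8.zero, Z8.zero, Z8.zero⟩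

theorem rep_eq_repN (k : Fin 315) : rep k = repN k.val := rfl

/-- the check of one entry of the tables. -/
def genChk (a j : ℕ) : Bool :=
  let R := repN (gIdx a)
  let X := repN j
  let Y := reflZ R X
  let U := unitList.getD ((uTabL.getD a []).getD j 0) Z8.zero
  let R' := repN (gtab a j)
  decide (reflOK R X) && decide (isUnitZ U) && decide (Z8.mul U Y.x = Z8.sm 4 R'.x) &&
    decide (Z8.mul U Y.y = Z8.sm 4 R'.y) && decide (Z8.mul U Y.z = Z8.sm 4 R'.z)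

set_option maxRecDepth 1000000 in
set_option maxHeartbeats 0 in
theorem genChk_all : ∀ a : Fin 4, ∀ j : Fin 315, genChk a.val j.val = true := by decide +kernel

theorem gIdx_lt (a : Fin 4) : gIdx a.val < 315 := by
  fin_cases a <;> decide

/-- the four reflections. -/
noncomputable def gRefl (a : Fin 4) : ↥twoJ2 := ⟨sR ⟨gIdx a.val, gIdx_lt a⟩, sR_mem _⟩

theorem gRefl_conj (a : Fin 4) (j : Fin 315) :
    (gRefl a).1 * sR j * (gRefl a).1⁻¹ = sR ⟨gtab a.val j.val, gtab_lt _ _ j.isLt⟩ := by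
  have hc := genChk_all a j
  unfold genChk at hc
  simp only [Bool.and_eq_true, decide_eq_true_eq] at hc
  obtain ⟨⟨⟨⟨c1, c2⟩, c3⟩, c4⟩, c5⟩ := hc
  have hg : (gRefl a).1 ∈ isoSub := twoJ2_le_isoSub (gRefl a).2
  rw [sR_eq j, conj_reflPerm _ hg]
  apply reflPerm_eq_sR _ _ _ _ c2
  have e1 : (((gRefl a).1 ⟨phi3 (rep j), (rep_mem _ (rep_memL j)).1⟩ : icoLeech) :
      Fin 3 → ℍ[ℝ]) = phi3 (reflZ (repN (gIdx a.val)) (repN j.val)) := by
    show ((sR ⟨gIdx a.val, gIdx_lt a⟩ ⟨phi3 (rep j), (rep_mem _ (rep_memL j)).1⟩ : icoLeech) :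
      Fin 3 → ℍ[ℝ]) = _
    rw [sR_eq, reflPerm_apply]
    exact qrefl_phi3 _ _ c1
  rw [e1]
  funext t
  fin_cases t
  · exact phi_mul_of _ _ _ c3
  · exact phi_mul_of _ _ _ c4
  · exact phi_mul_of _ _ _ c5

/-- the four reflections act as the four tables. -/
theorem rhoT_gRefl (a : Fin 4) : rhoT (gRefl a) = gP a.val := by
  ext j : 1
  apply Fin.ext
  rw [gP_apply, rhoT_eq (gRefl a) j _ (gRefl_conj a j)]

/-- the image of the reflection group contains the group of the tables. -/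
theorem G315_le_range : G315 ≤ rhoT.range := by
  unfold G315
  rw [Subgroup.closure_le]
  rintro _ ⟨a, rfl⟩
  exact ⟨gRefl a, rhoT_gRefl a⟩

end Cfsg.Agent.Helper9.J2B
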