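import Cfsg.Agent.Helper9.J2B.Lat

set_option autoImplicit false

/-! The icosians and the two left ideals are the quaternions with integer coordinates passing
the membership tests. -/

namespace Cfsg.Agent.Helper9.J2B

open Quaternion Cfsg.Spor

/-- the quaternions `y` such that right multiplication by `y` keeps the tested lattice. -/
def rightStab : Subring ℍ[ℝ] where
  carrier := {y | ∀ X : Z8, inL X → ∃ Z : Z8, inL Z ∧ phi X * y = phi Z}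
  mul_mem' := by
    intro y1 y2 h1 h2 X hX
    obtain ⟨Z1, hZ1, e1⟩ := h1 X hX
    obtain ⟨Z2, hZ2, e2⟩ := h2 Z1 hZ1
    exact ⟨Z2, hZ2, by rw [← mul_assoc, e1, e2]⟩
  one_mem' := fun X hX => ⟨X, hX, mul_one _⟩
  add_mem' := by
    intro y1 y2 h1 h2 X hX
    obtain ⟨Z1, hZ1, e1⟩ := h1 X hX
    obtain ⟨Z2, hZ2, e2⟩ := h2 X hX
    exact ⟨Z8.add Z1 Z2, inL_add _ _ hZ1 hZ2, by rw [mul_add, e1, e2, phi_add]⟩
  zero_mem' := fun X _ => ⟨Z8.zero, by decide, by rw [mul_zero, phi_zero]⟩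
  neg_mem' := by
    intro y h X hX
    obtain ⟨Z, hZ, e⟩ := h X hX
    exact ⟨Z8.neg Z, inL_neg _ hZ, by rw [mul_neg, e, phi_neg]⟩

theorem phi_mul_dv4 (X Y : Z8) (h : Z8.dvd 4 (Z8.mul X Y)) :
    phi X * phi Y = phi (Z8.dv (Z8.mul X Y) 4) := by
  rw [phi_mul, phi_dv _ 4 (by norm_num) h]
  norm_num

theorem icosians_le_rightStab : icosians ≤ rightStab := by
  unfold icosians
  rw [Subring.closure_le]
  intro y hy
  rcases hy with rfl | hy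
  · intro X hX
    obtain ⟨h1, h2⟩ := inL_mul_QI X hX
    exact ⟨_, h2, by rw [← phi_QIz, phi_mul_dv4 _ _ h1]⟩
  · have hy' := Set.eq_of_mem_singleton hy
    subst hy'
    intro X hX
    obtain ⟨h1, h2⟩ := inL_mul_G X hX
    exact ⟨_, h2, by rw [← phi_Gz, phi_mul_dv4 _ _ h1]⟩

theorem qI_mem : qI ∈ icosians := Subring.subset_closure (Set.mem_insert _ _)

theorem gen_mem : (⟨1 / 2, sig / 2, 0, tau / 2⟩ : ℍ[ℝ]) ∈ icosians :=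
  Subring.subset_closure (Set.mem_insert_of_mem _ (Set.mem_singleton _))

theorem phi_U1_mem : phi U1 ∈ icosians := by
  have h : phi U0 * phi QIz = phi U1 := phi_mul_of _ _ _ (by decide)
  rw [← h, phi_U0, one_mul, phi_QIz]; exact qI_mem

theorem phi_U3_mem : phi U3 ∈ icosians := by
  have h : phi U0 * phi Gz = phi U3 := phi_mul_of _ _ _ (by decide)
  rw [← h, phi_U0, one_mul, phi_Gz]; exact gen_mem

theorem phi_U2_mem : phi U2 ∈ icosians := by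
  have h : phi U1 * phi Gz = phi U2 := phi_mul_of _ _ _ (by decide)
  rw [← h, phi_Gz]; exact Subring.mul_mem _ phi_U1_mem gen_mem

theorem phi_U4_mem : phi U4 ∈ icosians := by
  have h : phi U3 * phi QIz = phi U4 := phi_mul_of _ _ _ (by decide)
  rw [← h, phi_QIz]; exact Subring.mul_mem _ phi_U3_mem qI_mem

theorem phi_U5_mem : phi U5 ∈ icosians := by
  have h : phi U2 * phi QIz = phi U5 := phi_mul_of _ _ _ (by decide)
  rw [← h, phi_QIz]; exact Subring.mul_mem _ phi_U2_mem qI_mem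

theorem phi_U6_mem : phi U6 ∈ icosians := by
  have h : phi U4 * phi Gz = phi U6 := phi_mul_of _ _ _ (by decide)
  rw [← h, phi_Gz]; exact Subring.mul_mem _ phi_U4_mem gen_mem

theorem phi_U7_mem : phi U7 ∈ icosians := by
  have h : phi U5 * phi Gz = phi U7 := phi_mul_of _ _ _ (by decide)
  rw [← h, phi_Gz]; exact Subring.mul_mem _ phi_U5_mem gen_mem

theorem smul_mem_icosians (c : ℤ) (q : ℍ[ℝ]) (h : q ∈ icosians) : (c : ℝ) • q ∈ icosians := by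
  rw [Int.cast_smul_eq_zsmul]
  exact Subring.zsmul_mem _ h c

/-- the icosians are the quaternions with integer coordinates passing the test. -/
theorem mem_icosians_iff (x : ℍ[ℝ]) : x ∈ icosians ↔ ∃ X : Z8, inL X ∧ x = phi X := by
  constructor
  · intro hx
    obtain ⟨Z, hZ, e⟩ := icosians_le_rightStab hx U0 (by decide)
    rw [phi_U0, one_mul] at e
    exact ⟨Z, hZ, e⟩
  · rintro ⟨X, hX, rfl⟩
    obtain ⟨c0, c1, c2, c3, c4, c5, c6, c7, rfl⟩ := inL_lin X hX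
    rw [phi_linU]
    have h0 : phi U0 ∈ icosians := by rw [phi_U0]; exact Subring.one_mem _
    exact Subring.add_mem _ (Subring.add_mem _ (Subring.add_mem _ (Subring.add_mem _
      (Subring.add_mem _ (Subring.add_mem _ (Subring.add_mem _
      (smul_mem_icosians _ _ h0) (smul_mem_icosians _ _ phi_U1_mem))
      (smul_mem_icosians _ _ phi_U2_mem)) (smul_mem_icosians _ _ phi_U3_mem))
      (smul_mem_icosians _ _ phi_U4_mem)) (smul_mem_icosians _ _ phi_U5_mem))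
      (smul_mem_icosians _ _ phi_U6_mem)) (smul_mem_icosians _ _ phi_U7_mem)

theorem phi_mem_icosians (X : Z8) (h : inL X) : phi X ∈ icosians :=
  (mem_icosians_iff _).2 ⟨X, h, rfl⟩

/-! ### the left ideals -/

theorem inL_mul_H (x : Z8) (h : inL x) :
    Z8.dvd 4 (Z8.mul x Hz) ∧ inLh (Z8.dv (Z8.mul x Hz) 4) := by
  unfold inL at h
  unfold inLh Z8.dvd Z8.dv Z8.mul Hz
  dsimp only
  refine ⟨⟨?_, ?_, ?_, ?_, ?_, ?_, ?_, ?_⟩, ?_, ?_, ?_, ?_, ?_, ?_, ?_⟩ <;> omega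

theorem inL_mul_Hc (x : Z8) (h : inL x) :
    Z8.dvd 4 (Z8.mul x Hcz) ∧ inLhc (Z8.dv (Z8.mul x Hcz) 4) := by
  unfold inL at h
  unfold inLhc Z8.dvd Z8.dv Z8.mul Hcz
  dsimp only
  refine ⟨⟨?_, ?_, ?_, ?_, ?_, ?_, ?_, ?_⟩, ?_, ?_, ?_, ?_, ?_, ?_⟩ <;> omega

/-- the combinations of a basis of the left ideal of `h`. -/
def linH (c0 c1 c2 c3 c4 c5 c6 c7 : ℤ) : Z8 :=
  ⟨c0, c0 + 2 * c1, c0 + 2 * c2, c0 + 2 * c1 + 2 * c2 + 4 * c3, c0 + 2 * c4, c0 + 2 * c1 + 2 * c4 + 4 * c5, 3 * c0 + 2 * c1 + 2 * c2 + 2 * c4 + 4 * c6, 7 * c0 + 4 * c1 + 2 * c2 + 4 * c3 + 2 * c4 + 4 * c5 + 4 * c6 + 8 * c7⟩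

/-- the combinations of a basis of the left ideal of the conjugate of `h`. -/
def linHc (c0 c1 c2 c3 c4 c5 c6 c7 : ℤ) : Z8 :=
  ⟨c0, c0 + 2 * c1, c2, c2 + 2 * c3, 3 * c0 + 3 * c1 + c3 + 4 * c4, 5 * c0 + 3 * c1 + 6 * c2 + 7 * c3 + 4 * c4 + 8 * c5, 3 * c1 + 3 * c2 + 3 * c3 + 4 * c6, 2 * c0 + 5 * c1 + 5 * c2 + 3 * c3 + 4 * c6 + 8 * c7⟩

theorem inLh_lin (x : Z8) (h : inLh x) : ∃ c0 c1 c2 c3 c4 c5 c6 c7 : ℤ,
    x = linH c0 c1 c2 c3 c4 c5 c6 c7 := by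
  obtain ⟨h1, h2, h3, h4, h5, h6, h7⟩ := h
  refine ⟨x.a0, (-x.a0 + x.a1) / 2, (-x.a0 + x.a2) / 2, (x.a0 - x.a1 - x.a2 + x.a3) / 4, (-x.a0 + x.a4) / 2, (x.a0 - x.a1 - x.a4 + x.a5) / 4, (-x.a1 - x.a2 - x.a4 + x.a6) / 4, (-5 * x.a0 + x.a1 + x.a2 - x.a3 + x.a4 - x.a5 - x.a6 + x.a7) / 8, ?_⟩
  ext <;> simp only [linH] <;> omega

theorem inLhc_lin (x : Z8) (h : inLhc x) : ∃ c0 c1 c2 c3 c4 c5 c6 c7 : ℤ,
    x = linHc c0 c1 c2 c3 c4 c5 c6 c7 := by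
  obtain ⟨h1, h2, h3, h4, h5, h6⟩ := h
  refine ⟨x.a0, (-x.a0 + x.a1) / 2, x.a2, (-x.a2 + x.a3) / 2, (-3 * x.a0 - 3 * x.a1 + x.a2 - x.a3 + 2 * x.a4) / 8, (-2 * x.a0 - 3 * x.a2 - 3 * x.a3 - x.a4 + x.a5) / 8, (3 * x.a0 - 3 * x.a1 - 3 * x.a2 - 3 * x.a3 + 2 * x.a6) / 8, (-x.a0 - x.a1 - 2 * x.a2 - x.a6 + x.a7) / 8, ?_⟩
  ext <;> simp only [linHc] <;> omega

theorem inLh_back (x : Z8) (h : inLh x) :
    Z8.dvd 8 (Z8.mul x Hcz) ∧ inL (Z8.dv (Z8.mul x Hcz) 8) ∧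
      Z8.mul (Z8.dv (Z8.mul x Hcz) 8) Hz = Z8.sm 4 x := by
  obtain ⟨c0, c1, c2, c3, c4, c5, c6, c7, rfl⟩ := inLh_lin x h
  unfold inL Z8.dvd Z8.dv Z8.mul Hcz Hz Z8.sm linH
  dsimp only
  refine ⟨⟨?_, ?_, ?_, ?_, ?_, ?_, ?_, ?_⟩, ⟨?_, ?_, ?_, ?_, ?_, ?_⟩, ?_⟩
  all_goals first | omega | (ext <;> dsimp only <;> omega)

theorem inLhc_back (x : Z8) (h : inLhc x) :
    Z8.dvd 8 (Z8.mul x Hz) ∧ inL (Z8.dv (Z8.mul x Hz) 8) ∧
      Z8.mul (Z8.dv (Z8.mul x Hz) 8) Hcz = Z8.sm 4 x := by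
  obtain ⟨c0, c1, c2, c3, c4, c5, c6, c7, rfl⟩ := inLhc_lin x h
  unfold inL Z8.dvd Z8.dv Z8.mul Hcz Hz Z8.sm linHc
  dsimp only
  refine ⟨⟨?_, ?_, ?_, ?_, ?_, ?_, ?_, ?_⟩, ⟨?_, ?_, ?_, ?_, ?_, ?_⟩, ?_⟩
  all_goals first | omega | (ext <;> dsimp only <;> omega)

theorem mem_leftIdeal_h_iff (x : ℍ[ℝ]) :
    x ∈ leftIdeal icoH ↔ ∃ X : Z8, inLh X ∧ x = phi X := by
  constructor
  · rintro ⟨a, ha, rfl⟩
    obtain ⟨A, hA, rfl⟩ := (mem_icosians_iff a).1 ha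
    obtain ⟨h1, h2⟩ := inL_mul_H A hA
    exact ⟨_, h2, by rw [← phi_Hz, phi_mul_dv4 _ _ h1]⟩
  · rintro ⟨X, hX, rfl⟩
    obtain ⟨_, h2, h3⟩ := inLh_back X hX
    exact ⟨_, phi_mem_icosians _ h2, by rw [← phi_Hz, phi_mul_of _ _ _ h3]⟩

theorem mem_leftIdeal_hc_iff (x : ℍ[ℝ]) :
    x ∈ leftIdeal (star icoH) ↔ ∃ X : Z8, inLhc X ∧ x = phi X := by
  constructor
  · rintro ⟨a, ha, rfl⟩
    obtain ⟨A, hA, rfl⟩ := (mem_icosians_iff a).1 ha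
    obtain ⟨h1, h2⟩ := inL_mul_Hc A hA
    exact ⟨_, h2, by rw [← phi_Hcz, phi_mul_dv4 _ _ h1]⟩
  · rintro ⟨X, hX, rfl⟩
    obtain ⟨_, h2, h3⟩ := inLhc_back X hX
    exact ⟨_, phi_mem_icosians _ h2, by rw [← phi_Hcz, phi_mul_of _ _ _ h3]⟩

end Cfsg.Agent.Helper9.J2B
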