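import Cfsg.Agent.Helper9.J2B.Ico

set_option autoImplicit false

/-! The icosian Leech lattice in integer coordinates. -/

namespace Cfsg.Agent.Helper9.J2B

open Quaternion Cfsg.Spor

/-- three quaternions in integer coordinates. -/
@[ext] structure Z24 where
  x : Z8
  y : Z8
  z : Z8
  deriving DecidableEq

/-- the triple of real quaternions. -/
noncomputable def phi3 (V : Z24) : Fin 3 → ℍ[ℝ] := ![phi V.x, phi V.y, phi V.z]

@[simp] theorem phi3_zero (V : Z24) : phi3 V 0 = phi V.x := rfl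
@[simp] theorem phi3_one (V : Z24) : phi3 V 1 = phi V.y := rfl
@[simp] theorem phi3_two (V : Z24) : phi3 V 2 = phi V.z := rfl

theorem phi3_injective : Function.Injective phi3 := by
  intro V W h
  have h0 := congrFun h 0
  have h1 := congrFun h 1
  have h2 := congrFun h 2
  simp only [phi3_zero, phi3_one, phi3_two] at h0 h1 h2
  exact Z24.ext (phi_injective h0) (phi_injective h1) (phi_injective h2)

/-- membership test of the lattice. -/
def inLam (V : Z24) : Prop :=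
  inL V.x ∧ inL V.y ∧ inL V.z ∧ inLh (Z8.sub V.x V.y) ∧ inLh (Z8.sub V.y V.z) ∧
    inLhc (Z8.add (Z8.add V.x V.y) V.z)

instance (V : Z24) : Decidable (inLam V) := by unfold inLam; infer_instance

theorem mem_icoLeech_iff (v : Fin 3 → ℍ[ℝ]) :
    v ∈ icoLeech ↔ ∃ V : Z24, inLam V ∧ v = phi3 V := by
  constructor
  · rintro ⟨h1, h2, h3, h4⟩
    obtain ⟨X, hX, eX⟩ := (mem_icosians_iff _).1 (h1 0)
    obtain ⟨Y, hY, eY⟩ := (mem_icosians_iff _).1 (h1 1)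
    obtain ⟨Z, hZ, eZ⟩ := (mem_icosians_iff _).1 (h1 2)
    obtain ⟨D1, hD1, e1⟩ := (mem_leftIdeal_h_iff _).1 h2
    obtain ⟨D2, hD2, e2⟩ := (mem_leftIdeal_h_iff _).1 h3
    obtain ⟨D3, hD3, e3⟩ := (mem_leftIdeal_hc_iff _).1 h4
    rw [eX, eY, ← phi_sub] at e1
    rw [eY, eZ, ← phi_sub] at e2
    rw [eX, eY, eZ, ← phi_add, ← phi_add] at e3
    have d1 := phi_injective e1
    have d2 := phi_injective e2
    have d3 := phi_injective e3
    refine ⟨⟨X, Y, Z⟩, ⟨hX, hY, hZ, ?_, ?_, ?_⟩, ?_⟩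
    · rw [d1]; exact hD1
    · rw [d2]; exact hD2
    · rw [d3]; exact hD3
    · funext t
      fin_cases t
      · exact eX
      · exact eY
      · exact eZ
  · rintro ⟨V, ⟨hX, hY, hZ, h1, h2, h3⟩, rfl⟩
    refine ⟨?_, ?_, ?_, ?_⟩
    · intro t
      fin_cases t
      · exact phi_mem_icosians _ hX
      · exact phi_mem_icosians _ hY
      · exact phi_mem_icosians _ hZ
    · exact (mem_leftIdeal_h_iff _).2 ⟨_, h1, by rw [phi_sub]; rfl⟩
    · exact (mem_leftIdeal_h_iff _).2 ⟨_, h2, by rw [phi_sub]; rfl⟩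
    · exact (mem_leftIdeal_hc_iff _).2 ⟨_, h3, by rw [phi_add, phi_add]; rfl⟩

/-- the Hermitian product in integer coordinates, sixteen times too large. -/
def qipZ (X R : Z24) : Z8 :=
  Z8.add (Z8.add (Z8.mul X.x (Z8.conj R.x)) (Z8.mul X.y (Z8.conj R.y))) (Z8.mul X.z (Z8.conj R.z))

theorem qip_phi3 (X R : Z24) : qip (phi3 X) (phi3 R) = (1 / 4 : ℝ) • phi (qipZ X R) := by
  unfold qip qipZ
  rw [Fin.sum_univ_three, phi_add, phi_add, smul_add, smul_add, ← phi_mul, ← phi_mul, ← phi_mul,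
    phi_conj, phi_conj, phi_conj]
  rfl

/-- the sum of the squares, with the weights of the trace form. -/
def nrm8 (a : Z8) : ℤ :=
  a.a0 * a.a0 + 5 * (a.a1 * a.a1) + a.a2 * a.a2 + 5 * (a.a3 * a.a3) + a.a4 * a.a4 +
    5 * (a.a5 * a.a5) + a.a6 * a.a6 + 5 * (a.a7 * a.a7)

/-- the mixed part of the norm. -/
def pq8 (a : Z8) : ℤ := a.a0 * a.a1 + a.a2 * a.a3 + a.a4 * a.a5 + a.a6 * a.a7

theorem mul_conj_self (a : Z8) :
    Z8.mul a (Z8.conj a) = ⟨nrm8 a, 2 * pq8 a, 0, 0, 0, 0, 0, 0⟩ := by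
  ext <;> simp only [Z8.mul, Z8.conj, nrm8, pq8] <;> ring

theorem qipZ_self (R : Z24) : qipZ R R =
    ⟨nrm8 R.x + nrm8 R.y + nrm8 R.z, 2 * pq8 R.x + 2 * pq8 R.y + 2 * pq8 R.z, 0, 0, 0, 0, 0, 0⟩ := by
  unfold qipZ
  rw [mul_conj_self, mul_conj_self, mul_conj_self]
  ext <;> simp [Z8.add]

theorem phi_const : phi ⟨64, 0, 0, 0, 0, 0, 0, 0⟩ = 16 := by
  have h : (16 : ℍ[ℝ]) = ((16 : ℝ) : ℍ[ℝ]) := rfl
  rw [h]
  ext <;> simp <;> norm_num

theorem four_smul_four : (1 / 4 : ℝ) • (16 : ℍ[ℝ]) = 4 := by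
  have h : (16 : ℍ[ℝ]) = ((16 : ℝ) : ℍ[ℝ]) := rfl
  have h' : (4 : ℍ[ℝ]) = ((4 : ℝ) : ℍ[ℝ]) := rfl
  rw [h, h']
  ext <;> simp <;> norm_num

/-- the vectors of norm four, in integer coordinates. -/
theorem norm4_iff (R : Z24) : qip (phi3 R) (phi3 R) = 4 ↔
    nrm8 R.x + nrm8 R.y + nrm8 R.z = 64 ∧ pq8 R.x + pq8 R.y + pq8 R.z = 0 := by
  rw [qip_phi3, qipZ_self]
  constructor
  · intro h
    have h1 : phi ⟨nrm8 R.x + nrm8 R.y + nrm8 R.z, 2 * pq8 R.x + 2 * pq8 R.y + 2 * pq8 R.z,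
        0, 0, 0, 0, 0, 0⟩ = phi ⟨64, 0, 0, 0, 0, 0, 0, 0⟩ := by
      rw [phi_const]
      have h3 := congrArg (fun q : ℍ[ℝ] => (4 : ℝ) • q) h
      simp only [smul_smul] at h3
      rw [← four_smul_four, smul_smul] at h3
      norm_num at h3
      exact h3
    have h2 := phi_injective h1
    have e0 := congrArg Z8.a0 h2
    have e1 := congrArg Z8.a1 h2
    simp only at e0 e1
    exact ⟨e0, by omega⟩
  · rintro ⟨h1, h2⟩
    have : 2 * pq8 R.x + 2 * pq8 R.y + 2 * pq8 R.z = 0 := by omega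
    rw [h1, this, phi_const, four_smul_four]

end Cfsg.Agent.Helper9.J2B
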