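import Mathlib
import Cfsg.Prelude.Def_Spor_J2

set_option autoImplicit false

/-! The Hermitian product and the reflections of the space of triples of quaternions. -/

namespace Cfsg.Agent.Helper9.J2B

open Quaternion Cfsg.Spor

/-- the multiple of a vector by a quaternion on the left. -/
noncomputable def lmul (a : ℍ[ℝ]) (x : Fin 3 → ℍ[ℝ]) : Fin 3 → ℍ[ℝ] := fun t => a * x t

theorem qip_def (x r : Fin 3 → ℍ[ℝ]) :
    qip x r = x 0 * star (r 0) + x 1 * star (r 1) + x 2 * star (r 2) :=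
  Fin.sum_univ_three _

theorem lmul_apply (a : ℍ[ℝ]) (x : Fin 3 → ℍ[ℝ]) (t : Fin 3) : lmul a x t = a * x t := rfl

theorem lmul_lmul (a b : ℍ[ℝ]) (x : Fin 3 → ℍ[ℝ]) : lmul a (lmul b x) = lmul (a * b) x := by
  funext t; simp only [lmul_apply, mul_assoc]

theorem lmul_one (x : Fin 3 → ℍ[ℝ]) : lmul 1 x = x := by
  funext t; simp only [lmul_apply, one_mul]

theorem lmul_add (a : ℍ[ℝ]) (x y : Fin 3 → ℍ[ℝ]) : lmul a (x + y) = lmul a x + lmul a y := by
  funext t; simp only [lmul_apply, Pi.add_apply, mul_add]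

theorem lmul_sub (a : ℍ[ℝ]) (x y : Fin 3 → ℍ[ℝ]) : lmul a (x - y) = lmul a x - lmul a y := by
  funext t; simp only [lmul_apply, Pi.sub_apply, mul_sub]

theorem add_lmul (a b : ℍ[ℝ]) (x : Fin 3 → ℍ[ℝ]) : lmul (a + b) x = lmul a x + lmul b x := by
  funext t; simp only [lmul_apply, Pi.add_apply, add_mul]

theorem qip_lmul_left (a : ℍ[ℝ]) (x r : Fin 3 → ℍ[ℝ]) : qip (lmul a x) r = a * qip x r := by
  simp only [qip_def, lmul_apply, mul_add, mul_assoc]

theorem qip_lmul_right (b : ℍ[ℝ]) (x r : Fin 3 → ℍ[ℝ]) :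
    qip x (lmul b r) = qip x r * star b := by
  simp only [qip_def, lmul_apply, add_mul, mul_assoc, star_mul]

theorem qip_add_left (x y r : Fin 3 → ℍ[ℝ]) : qip (x + y) r = qip x r + qip y r := by
  simp only [qip_def, Pi.add_apply, add_mul]; abel

theorem qip_sub_left (x y r : Fin 3 → ℍ[ℝ]) : qip (x - y) r = qip x r - qip y r := by
  simp only [qip_def, Pi.sub_apply, sub_mul]; abel

theorem qip_add_right (x r s : Fin 3 → ℍ[ℝ]) : qip x (r + s) = qip x r + qip x s := by
  simp only [qip_def, Pi.add_apply, star_add, mul_add]; abel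

theorem qip_sub_right (x r s : Fin 3 → ℍ[ℝ]) : qip x (r - s) = qip x r - qip x s := by
  simp only [qip_def, Pi.sub_apply, star_sub, mul_sub]; abel

theorem star_qip (x r : Fin 3 → ℍ[ℝ]) : star (qip x r) = qip r x := by
  simp only [qip_def, star_add, star_mul, star_star]

theorem qrefl_eq (r x : Fin 3 → ℍ[ℝ]) : qrefl r x = x - lmul ((1 / 2 : ℝ) • qip x r) r := rfl

theorem four_eq : (4 : ℍ[ℝ]) = ((4 : ℝ) : ℍ[ℝ]) := rfl

/-- the product of a reflected vector with the root. -/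
theorem qip_qrefl_root (r x : Fin 3 → ℍ[ℝ]) (hr : qip r r = 4) : qip (qrefl r x) r = -qip x r := by
  rw [qrefl_eq, qip_sub_left, qip_lmul_left, hr, four_eq, Quaternion.mul_coe_eq_smul, smul_smul]
  norm_num
  module

/-- a reflection is an involution. -/
theorem qrefl_qrefl (r x : Fin 3 → ℍ[ℝ]) (hr : qip r r = 4) : qrefl r (qrefl r x) = x := by
  rw [qrefl_eq r (qrefl r x), qip_qrefl_root r x hr, qrefl_eq]
  funext t
  simp only [Pi.sub_apply, lmul_apply, smul_neg, neg_mul, sub_neg_eq_add, sub_add_cancel]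

/-- a reflection keeps the Hermitian product. -/
theorem qip_qrefl (r x y : Fin 3 → ℍ[ℝ]) (hr : qip r r = 4) :
    qip (qrefl r x) (qrefl r y) = qip x y := by
  rw [qrefl_eq r y, qip_sub_right, qip_lmul_right, qip_qrefl_root r x hr, qrefl_eq, qip_sub_left,
    qip_lmul_left, Quaternion.star_smul, star_qip]
  simp only [smul_mul_assoc, mul_smul_comm, neg_mul]
  module

/-- the reflection in a multiple of the root by a quaternion of norm one. -/
theorem qrefl_lmul_root (u : ℍ[ℝ]) (hu : star u * u = 1) (r x : Fin 3 → ℍ[ℝ]) :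
    qrefl (lmul u r) x = qrefl r x := by
  rw [qrefl_eq, qrefl_eq, qip_lmul_right, lmul_lmul, smul_mul_assoc, mul_assoc, hu, mul_one]

/-- a reflection commutes with the multiplication by quaternions on the left. -/
theorem qrefl_lmul (a : ℍ[ℝ]) (r x : Fin 3 → ℍ[ℝ]) : qrefl r (lmul a x) = lmul a (qrefl r x) := by
  rw [qrefl_eq, qrefl_eq, qip_lmul_left, lmul_sub, lmul_lmul, mul_smul_comm]

theorem qrefl_add (r x y : Fin 3 → ℍ[ℝ]) : qrefl r (x + y) = qrefl r x + qrefl r y := by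
  rw [qrefl_eq, qrefl_eq, qrefl_eq, qip_add_left, smul_add, add_lmul]
  abel

theorem qrefl_root (r : Fin 3 → ℍ[ℝ]) (hr : qip r r = 4) : qrefl r r = -r := by
  rw [qrefl_eq, hr, four_eq]
  funext t
  simp only [Pi.sub_apply, lmul_apply, Pi.neg_apply]
  rw [← Quaternion.coe_smul, Quaternion.coe_mul_eq_smul]
  norm_num
  module

end Cfsg.Agent.Helper9.J2B
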