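import Cfsg.Agent.Helper9.J2B.Lam
import Cfsg.Agent.Helper9.J2B.Refl

set_option autoImplicit false

/-! The icosian Leech lattice is a module over the icosians on the left, the Hermitian products
of its vectors are twice icosians, and the reflections keep it. -/

namespace Cfsg.Agent.Helper9.J2B

open Quaternion Cfsg.Spor

theorem inL_conj (x : Z8) (h : inL x) : inL (Z8.conj x) := by
  unfold inL at *
  unfold Z8.conj
  dsimp only
  refine ⟨?_, ?_, ?_, ?_, ?_, ?_⟩ <;> omega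

theorem star_mem_icosians (x : ℍ[ℝ]) (h : x ∈ icosians) : star x ∈ icosians := by
  obtain ⟨X, hX, rfl⟩ := (mem_icosians_iff x).1 h
  rw [← phi_conj]
  exact phi_mem_icosians _ (inL_conj X hX)

theorem leftIdeal_add (q x y : ℍ[ℝ]) (hx : x ∈ leftIdeal q) (hy : y ∈ leftIdeal q) :
    x + y ∈ leftIdeal q := by
  obtain ⟨a, ha, rfl⟩ := hx
  obtain ⟨b, hb, rfl⟩ := hy
  exact ⟨a + b, Subring.add_mem _ ha hb, (add_mul _ _ _).symm⟩

theorem leftIdeal_sub (q x y : ℍ[ℝ]) (hx : x ∈ leftIdeal q) (hy : y ∈ leftIdeal q) :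
    x - y ∈ leftIdeal q := by
  obtain ⟨a, ha, rfl⟩ := hx
  obtain ⟨b, hb, rfl⟩ := hy
  exact ⟨a - b, Subring.sub_mem _ ha hb, (sub_mul _ _ _).symm⟩

theorem leftIdeal_mul (q a x : ℍ[ℝ]) (ha : a ∈ icosians) (hx : x ∈ leftIdeal q) :
    a * x ∈ leftIdeal q := by
  obtain ⟨b, hb, rfl⟩ := hx
  exact ⟨a * b, Subring.mul_mem _ ha hb, (mul_assoc _ _ _).symm⟩

theorem icoLeech_sub (v w : Fin 3 → ℍ[ℝ]) (hv : v ∈ icoLeech) (hw : w ∈ icoLeech) :
    v - w ∈ icoLeech := by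
  obtain ⟨h1, h2, h3, h4⟩ := hv
  obtain ⟨k1, k2, k3, k4⟩ := hw
  refine ⟨fun t => Subring.sub_mem _ (h1 t) (k1 t), ?_, ?_, ?_⟩
  · have : (v - w) 0 - (v - w) 1 = (v 0 - v 1) - (w 0 - w 1) := by
      simp only [Pi.sub_apply]; abel
    rw [this]; exact leftIdeal_sub _ _ _ h2 k2
  · have : (v - w) 1 - (v - w) 2 = (v 1 - v 2) - (w 1 - w 2) := by
      simp only [Pi.sub_apply]; abel
    rw [this]; exact leftIdeal_sub _ _ _ h3 k3
  · have : (v - w) 0 + (v - w) 1 + (v - w) 2 = (v 0 + v 1 + v 2) - (w 0 + w 1 + w 2) := by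
      simp only [Pi.sub_apply]; abel
    rw [this]; exact leftIdeal_sub _ _ _ h4 k4

theorem icoLeech_lmul (a : ℍ[ℝ]) (ha : a ∈ icosians) (v : Fin 3 → ℍ[ℝ]) (hv : v ∈ icoLeech) :
    lmul a v ∈ icoLeech := by
  obtain ⟨h1, h2, h3, h4⟩ := hv
  refine ⟨fun t => Subring.mul_mem _ ha (h1 t), ?_, ?_, ?_⟩
  · simp only [lmul_apply, ← mul_sub]; exact leftIdeal_mul _ _ _ ha h2
  · simp only [lmul_apply, ← mul_sub]; exact leftIdeal_mul _ _ _ ha h3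
  · simp only [lmul_apply, ← mul_add]; exact leftIdeal_mul _ _ _ ha h4

/-! ### three generators of the lattice as a module -/

def G1 : Z24 := ⟨⟨8, 0, 0, 0, 0, 0, 0, 0⟩, Z8.zero, Z8.zero⟩
def G2 : Z24 := ⟨⟨-2, 0, -2, 0, 0, -2, 2, 0⟩, Hz, Z8.zero⟩
def G3 : Z24 := ⟨⟨-1, -1, -1, -1, -1, -1, 1, 1⟩, ⟨-1, 1, -1, 1, 1, -1, 1, -1⟩, U0⟩

theorem phi3_mem (V : Z24) (h : inLam V) : phi3 V ∈ icoLeech :=
  (mem_icoLeech_iff _).2 ⟨V, h, rfl⟩

theorem G1_mem : phi3 G1 ∈ icoLeech := phi3_mem _ (by decide)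
theorem G2_mem : phi3 G2 ∈ icoLeech := phi3_mem _ (by decide)
theorem G3_mem : phi3 G3 ∈ icoLeech := phi3_mem _ (by decide)

theorem inLh_inLhc_two (x : Z8) (h1 : inLh x) (h2 : inLhc x) :
    Z8.mul (Z8.dv x 2) ⟨8, 0, 0, 0, 0, 0, 0, 0⟩ = Z8.sm 4 x ∧ inL (Z8.dv x 2) := by
  obtain ⟨c0, c1, c2, c3, c4, c5, c6, c7, rfl⟩ := inLhc_lin x h2
  clear h2
  unfold inLh linHc at h1
  dsimp only at h1
  obtain ⟨k1, k2, k3, k4, k5, k6, k7⟩ := h1
  have d2 : (2 : ℤ) ∣ c2 := by omega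
  have d0 : (2 : ℤ) ∣ c0 := by omega
  have d1 : (2 : ℤ) ∣ c1 := by omega
  have d3 : (2 : ℤ) ∣ c3 := by omega
  clear k1 k2 k3 k4 k5 k6 k7
  obtain ⟨w0, rfl⟩ := d0
  obtain ⟨w1, rfl⟩ := d1
  obtain ⟨w2, rfl⟩ := d2
  obtain ⟨w3, rfl⟩ := d3
  unfold inL Z8.mul Z8.sm Z8.dv linHc
  dsimp only
  refine ⟨?_, ?_, ?_, ?_, ?_, ?_, ?_⟩
  · ext <;> dsimp only <;> omega
  all_goals omega

/-- every vector of the lattice is a combination of the three generators with icosians. -/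
theorem decomp (v : Fin 3 → ℍ[ℝ]) (hv : v ∈ icoLeech) : ∃ a1 a2 a3 : ℍ[ℝ],
    a1 ∈ icosians ∧ a2 ∈ icosians ∧ a3 ∈ icosians ∧
      v = lmul a1 (phi3 G1) + lmul a2 (phi3 G2) + lmul a3 (phi3 G3) := by
  have ha3 : v 2 ∈ icosians := hv.1 2
  set v' := v - lmul (v 2) (phi3 G3) with hv'
  have hv'm : v' ∈ icoLeech := icoLeech_sub _ _ hv (icoLeech_lmul _ ha3 _ G3_mem)
  have e2 : v' 2 = 0 := by
    simp only [hv', Pi.sub_apply, lmul_apply, phi3_two, G3, phi_U0, mul_one, sub_self]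
  obtain ⟨a2, ha2, e1⟩ : ∃ a2 ∈ icosians, v' 1 = a2 * icoH := by
    have := hv'm.2.2.1
    rw [e2, sub_zero] at this
    exact this
  set v'' := v' - lmul a2 (phi3 G2) with hv''
  have hv''m : v'' ∈ icoLeech := icoLeech_sub _ _ hv'm (icoLeech_lmul _ ha2 _ G2_mem)
  have f2 : v'' 2 = 0 := by
    simp only [hv'', Pi.sub_apply, lmul_apply, phi3_two, G2, phi_zero, mul_zero, sub_zero, e2]
  have f1 : v'' 1 = 0 := by
    simp only [hv'', Pi.sub_apply, lmul_apply, phi3_one, G2, phi_Hz, e1, sub_self]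
  obtain ⟨X, hX1, eX⟩ := (mem_leftIdeal_h_iff _).1 hv''m.2.1
  obtain ⟨X', hX2, eX'⟩ := (mem_leftIdeal_hc_iff _).1 hv''m.2.2.2
  rw [f1, sub_zero] at eX
  rw [f1, f2, add_zero, add_zero, eX] at eX'
  have := phi_injective eX'
  subst this
  obtain ⟨g1, g2⟩ := inLh_inLhc_two X hX1 hX2
  refine ⟨phi (Z8.dv X 2), a2, v 2, phi_mem_icosians _ g2, ha2, ha3, ?_⟩
  have e0 : v'' 0 = phi (Z8.dv X 2) * phi3 G1 0 := by
    rw [eX, phi3_zero]
    exact (phi_mul_of _ _ _ g1).symm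
  have hfin : v'' = lmul (phi (Z8.dv X 2)) (phi3 G1) := by
    funext t
    fin_cases t
    · exact e0
    · show v'' 1 = lmul (phi (Z8.dv X 2)) (phi3 G1) 1
      rw [f1, lmul_apply, phi3_one]
      simp only [G1, phi_zero, mul_zero]
    · show v'' 2 = lmul (phi (Z8.dv X 2)) (phi3 G1) 2
      rw [f2, lmul_apply, phi3_two]
      simp only [G1, phi_zero, mul_zero]
  rw [← hfin, hv'', hv']
  abel

/-! ### the Hermitian products are twice icosians -/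

/-- half of the quaternion is an icosian. -/
def inTwoI (q : ℍ[ℝ]) : Prop := (1 / 2 : ℝ) • q ∈ icosians

theorem inTwoI_add (p q : ℍ[ℝ]) (hp : inTwoI p) (hq : inTwoI q) : inTwoI (p + q) := by
  unfold inTwoI at *
  rw [smul_add]
  exact Subring.add_mem _ hp hq

theorem inTwoI_mul (a b q : ℍ[ℝ]) (ha : a ∈ icosians) (hb : b ∈ icosians) (hq : inTwoI q) :
    inTwoI (a * q * star b) := by
  unfold inTwoI at *
  rw [← smul_mul_assoc, ← mul_smul_comm]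
  exact Subring.mul_mem _ (Subring.mul_mem _ ha hq) (star_mem_icosians _ hb)

theorem inTwoI_qipZ (A B : Z24) (W : Z8) (h : qipZ A B = Z8.sm 8 W) (hW : inL W) :
    inTwoI (qip (phi3 A) (phi3 B)) := by
  unfold inTwoI
  rw [qip_phi3, h, phi_sm, smul_smul, smul_smul]
  norm_num
  exact phi_mem_icosians _ hW

theorem gen_twoI (A B : Z24) (hA : A = G1 ∨ A = G2 ∨ A = G3) (hB : B = G1 ∨ B = G2 ∨ B = G3) :
    inTwoI (qip (phi3 A) (phi3 B)) := by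
  have key : ∀ A ∈ [G1, G2, G3], ∀ B ∈ [G1, G2, G3],
      Z8.dvd 8 (qipZ A B) ∧ inL (Z8.dv (qipZ A B) 8) := by decide
  have hA' : A ∈ [G1, G2, G3] := by simpa using hA
  have hB' : B ∈ [G1, G2, G3] := by simpa using hB
  obtain ⟨k1, k2⟩ := key A hA' B hB'
  apply inTwoI_qipZ A B _ _ k2
  obtain ⟨⟨c0, h0⟩, ⟨c1, h1⟩, ⟨c2, h2⟩, ⟨c3, h3⟩, ⟨c4, h4⟩, ⟨c5, h5⟩, ⟨c6, h6⟩, ⟨c7, h7⟩⟩ := k1
  ext <;> simp only [Z8.sm, Z8.dv] <;> omega

/-- the Hermitian product of two vectors of the lattice is twice an icosian. -/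
theorem qip_twoI (v r : Fin 3 → ℍ[ℝ]) (hv : v ∈ icoLeech) (hr : r ∈ icoLeech) :
    inTwoI (qip v r) := by
  obtain ⟨a1, a2, a3, ha1, ha2, ha3, rfl⟩ := decomp v hv
  obtain ⟨b1, b2, b3, hb1, hb2, hb3, rfl⟩ := decomp r hr
  simp only [qip_add_left, qip_add_right, qip_lmul_left, qip_lmul_right, add_mul]
  have g := gen_twoI
  repeat' apply inTwoI_add
  all_goals exact inTwoI_mul _ _ _ ‹_› ‹_› (g _ _ (by simp) (by simp))

end Cfsg.Agent.Helper9.J2B
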