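import Cfsg.Agent.Helper9.J2B.Alg

set_option autoImplicit false

/-! The icosian ring and the two left ideals of norm two, in integer coordinates. -/

namespace Cfsg.Agent.Helper9.J2B

open Quaternion Cfsg.Spor

/-- membership test of the icosians. -/
def inL (x : Z8) : Prop :=
    (2 : ℤ) ∣ -x.a0 + x.a1 ∧
    (2 : ℤ) ∣ -x.a2 + x.a3 ∧
    (4 : ℤ) ∣ -x.a0 - x.a1 + x.a2 - x.a3 + 2 * x.a4 ∧
    (4 : ℤ) ∣ -2 * x.a0 - x.a2 - x.a3 - x.a4 + x.a5 ∧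
    (4 : ℤ) ∣ x.a0 - x.a1 - x.a2 - x.a3 + 2 * x.a6 ∧
    (4 : ℤ) ∣ -x.a0 - x.a1 - 2 * x.a2 - x.a6 + x.a7

instance (x : Z8) : Decidable (inL x) := by unfold inL; infer_instance

/-- membership test of the left ideal of `h`. -/
def inLh (x : Z8) : Prop :=
    (2 : ℤ) ∣ -x.a0 + x.a1 ∧
    (2 : ℤ) ∣ -x.a0 + x.a2 ∧
    (4 : ℤ) ∣ x.a0 - x.a1 - x.a2 + x.a3 ∧
    (2 : ℤ) ∣ -x.a0 + x.a4 ∧
    (4 : ℤ) ∣ x.a0 - x.a1 - x.a4 + x.a5 ∧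
    (4 : ℤ) ∣ -x.a1 - x.a2 - x.a4 + x.a6 ∧
    (8 : ℤ) ∣ -5 * x.a0 + x.a1 + x.a2 - x.a3 + x.a4 - x.a5 - x.a6 + x.a7

instance (x : Z8) : Decidable (inLh x) := by unfold inLh; infer_instance

/-- membership test of the left ideal of the conjugate of `h`. -/
def inLhc (x : Z8) : Prop :=
    (2 : ℤ) ∣ -x.a0 + x.a1 ∧
    (2 : ℤ) ∣ -x.a2 + x.a3 ∧
    (8 : ℤ) ∣ -3 * x.a0 - 3 * x.a1 + x.a2 - x.a3 + 2 * x.a4 ∧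
    (8 : ℤ) ∣ -2 * x.a0 - 3 * x.a2 - 3 * x.a3 - x.a4 + x.a5 ∧
    (8 : ℤ) ∣ 3 * x.a0 - 3 * x.a1 - 3 * x.a2 - 3 * x.a3 + 2 * x.a6 ∧
    (8 : ℤ) ∣ -x.a0 - x.a1 - 2 * x.a2 - x.a6 + x.a7

instance (x : Z8) : Decidable (inLhc x) := by unfold inLhc; infer_instance

def U0 : Z8 := ⟨4, 0, 0, 0, 0, 0, 0, 0⟩
def U1 : Z8 := ⟨0, 0, 4, 0, 0, 0, 0, 0⟩
def U2 : Z8 := ⟨-1, 1, 2, 0, -1, -1, 0, 0⟩
def U3 : Z8 := ⟨2, 0, 1, -1, 0, 0, 1, 1⟩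
def U4 : Z8 := ⟨-1, 1, 2, 0, 1, 1, 0, 0⟩
def U5 : Z8 := ⟨-2, 0, -1, 1, 0, 0, 1, 1⟩
def U6 : Z8 := ⟨-1, 1, 1, 1, 0, 0, 2, 0⟩
def U7 : Z8 := ⟨-1, -1, -1, 1, -2, 0, 0, 0⟩

/-- the quaternion `i`. -/
def QIz : Z8 := ⟨0, 0, 4, 0, 0, 0, 0, 0⟩
/-- the second generator. -/
def Gz : Z8 := ⟨2, 0, 1, -1, 0, 0, 1, 1⟩
/-- the icosian `h`. -/
def Hz : Z8 := ⟨0, -2, 2, 0, 2, 0, 2, 0⟩
/-- the conjugate of `h`. -/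
def Hcz : Z8 := ⟨0, -2, -2, 0, -2, 0, -2, 0⟩

theorem phi_U0 : phi U0 = 1 := by
  ext <;> simp [U0]

theorem phi_QIz : phi QIz = qI := by
  have h : qI = ⟨0, 1, 0, 0⟩ := rfl
  rw [h]
  ext <;> simp [QIz]

theorem phi_Gz : phi Gz = ⟨1 / 2, sig / 2, 0, tau / 2⟩ := by
  have h1 : sig = (1 - s5) / 2 := rfl
  have h2 : tau = (1 + s5) / 2 := rfl
  rw [h1, h2]
  ext <;> simp [Gz] <;> ring

theorem phi_Hz : phi Hz = icoH := by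
  have h : icoH = ⟨-s5 / 2, 1 / 2, 1 / 2, 1 / 2⟩ := rfl
  rw [h]
  ext <;> simp [Hz] <;> ring

theorem phi_Hcz : phi Hcz = star icoH := by
  rw [← phi_Hz, ← phi_conj]; rfl

/-- the combination of the eight units with integer coefficients. -/
def linU (c0 c1 c2 c3 c4 c5 c6 c7 : ℤ) : Z8 :=
  ⟨4 * c0 - c2 + 2 * c3 - c4 - 2 * c5 - c6 - c7, c2 + c4 + c6 - c7, 4 * c1 + 2 * c2 + c3 + 2 * c4 - c5 + c6 - c7, -c3 + c5 + c6 + c7, -c2 + c4 - 2 * c7, -c2 + c4, c3 + c5 + 2 * c6, c3 + c5⟩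

theorem inL_lin (x : Z8) (h : inL x) : ∃ c0 c1 c2 c3 c4 c5 c6 c7 : ℤ,
    x = linU c0 c1 c2 c3 c4 c5 c6 c7 := by
  obtain ⟨h1, h2, h3, h4, h5, h6⟩ := h
  refine ⟨(x.a0 + x.a1 + 2 * x.a3 - x.a6 + x.a7) / 4, (-2 * x.a1 + x.a2 + x.a3 + x.a4 - x.a5) / 4, (2 * x.a1 - x.a4 - x.a5 - x.a6 + x.a7) / 4, (-2 * x.a3 - x.a4 + x.a5 + x.a6 + x.a7) / 4, (2 * x.a1 - x.a4 + 3 * x.a5 - x.a6 + x.a7) / 4, (2 * x.a3 + x.a4 - x.a5 - x.a6 + 3 * x.a7) / 4, (x.a6 - x.a7) / 2, (-x.a4 + x.a5) / 2, ?_⟩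
  ext <;> simp only [linU] <;> omega

theorem phi_linU (c0 c1 c2 c3 c4 c5 c6 c7 : ℤ) : phi (linU c0 c1 c2 c3 c4 c5 c6 c7) =
    (c0 : ℝ) • phi U0 + (c1 : ℝ) • phi U1 + (c2 : ℝ) • phi U2 + (c3 : ℝ) • phi U3 +
    (c4 : ℝ) • phi U4 + (c5 : ℝ) • phi U5 + (c6 : ℝ) • phi U6 + (c7 : ℝ) • phi U7 := by
  ext <;> simp [linU, U0, U1, U2, U3, U4, U5, U6, U7] <;> ring

/-- a product known in integer coordinates. -/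
theorem phi_mul_of (a b c : Z8) (h : Z8.mul a b = Z8.sm 4 c) : phi a * phi b = phi c := by
  rw [phi_mul, h, phi_sm, smul_smul]
  norm_num

theorem inL_add (x y : Z8) (hx : inL x) (hy : inL y) : inL (Z8.add x y) := by
  unfold inL Z8.add at *
  refine ⟨?_, ?_, ?_, ?_, ?_, ?_⟩ <;> dsimp only <;> omega

theorem inL_neg (x : Z8) (hx : inL x) : inL (Z8.neg x) := by
  unfold inL Z8.neg at *
  refine ⟨?_, ?_, ?_, ?_, ?_, ?_⟩ <;> dsimp only <;> omega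

theorem inL_sub (x y : Z8) (hx : inL x) (hy : inL y) : inL (Z8.sub x y) := by
  unfold inL Z8.sub at *
  refine ⟨?_, ?_, ?_, ?_, ?_, ?_⟩ <;> dsimp only <;> omega

theorem inL_mul_QI (x : Z8) (h : inL x) :
    Z8.dvd 4 (Z8.mul x QIz) ∧ inL (Z8.dv (Z8.mul x QIz) 4) := by
  unfold inL at h
  unfold inL Z8.dvd Z8.dv Z8.mul QIz
  dsimp only
  refine ⟨⟨?_, ?_, ?_, ?_, ?_, ?_, ?_, ?_⟩, ?_, ?_, ?_, ?_, ?_, ?_⟩ <;> omega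

theorem inL_mul_G (x : Z8) (h : inL x) :
    Z8.dvd 4 (Z8.mul x Gz) ∧ inL (Z8.dv (Z8.mul x Gz) 4) := by
  unfold inL at h
  unfold inL Z8.dvd Z8.dv Z8.mul Gz
  dsimp only
  refine ⟨⟨?_, ?_, ?_, ?_, ?_, ?_, ?_, ?_⟩, ?_, ?_, ?_, ?_, ?_, ?_⟩ <;> omega

end Cfsg.Agent.Helper9.J2B
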