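import Cfsg.Agent.Helper9.J2B.LamMod
import Cfsg.Agent.Helper9.J2B.ChkX
import Cfsg.Agent.Helper9.J2B.ChkW
import Cfsg.Agent.Helper9.J2B.ChkA
import Cfsg.Agent.Helper9.J2B.ChkB

set_option autoImplicit false

/-! The minimal vectors of the icosian Leech lattice are the multiples by units of 315
representatives. -/

namespace Cfsg.Agent.Helper9.J2B

open Quaternion Cfsg.Spor

theorem qrefl_mem (r v : Fin 3 → ℍ[ℝ]) (hr : r ∈ icoLeech) (hv : v ∈ icoLeech) :
    qrefl r v ∈ icoLeech := by
  rw [qrefl_eq]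
  exact icoLeech_sub _ _ hv (icoLeech_lmul _ (qip_twoI v r hv hr) _ hr)

/-- the reflection in a minimal vector, as a permutation of the lattice. -/
noncomputable def reflPerm (r : Fin 3 → ℍ[ℝ]) (hr : r ∈ icoLeech) (h4 : qip r r = 4) :
    Equiv.Perm icoLeech where
  toFun x := ⟨qrefl r x, qrefl_mem r x hr x.2⟩
  invFun x := ⟨qrefl r x, qrefl_mem r x hr x.2⟩
  left_inv x := Subtype.ext (qrefl_qrefl r x h4)
  right_inv x := Subtype.ext (qrefl_qrefl r x h4)

theorem reflPerm_apply (r : Fin 3 → ℍ[ℝ]) (hr : r ∈ icoLeech) (h4 : qip r r = 4) (x : icoLeech) :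
    ((reflPerm r hr h4 x : icoLeech) : Fin 3 → ℍ[ℝ]) = qrefl r x := rfl

theorem isIcoReflection_reflPerm (r : Fin 3 → ℍ[ℝ]) (hr : r ∈ icoLeech) (h4 : qip r r = 4) :
    IsIcoReflection (reflPerm r hr h4) := ⟨⟨r, hr⟩, h4, fun _ => rfl⟩

theorem isIcoReflection_iff (f : Equiv.Perm icoLeech) : IsIcoReflection f ↔
    ∃ (r : Fin 3 → ℍ[ℝ]) (hr : r ∈ icoLeech) (h4 : qip r r = 4), f = reflPerm r hr h4 := by
  constructor
  · rintro ⟨⟨r, hr⟩, h4, hf⟩
    refine ⟨r, hr, h4, ?_⟩
    ext x : 1
    apply Subtype.ext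
    rw [hf x]
    rfl
  · rintro ⟨r, hr, h4, rfl⟩
    exact isIcoReflection_reflPerm r hr h4

/-! ### units -/

/-- an icosian of norm one, in integer coordinates. -/
def isUnitZ (U : Z8) : Prop := inL U ∧ Z8.mul U (Z8.conj U) = ⟨16, 0, 0, 0, 0, 0, 0, 0⟩

instance (U : Z8) : Decidable (isUnitZ U) := by unfold isUnitZ; infer_instance

theorem phi_sixteen : phi ⟨16, 0, 0, 0, 0, 0, 0, 0⟩ = 4 := by
  have h : (4 : ℍ[ℝ]) = ((4 : ℝ) : ℍ[ℝ]) := rfl
  rw [h]
  ext <;> simp <;> norm_num

theorem one_eq_smul_four : (1 : ℍ[ℝ]) = (1 / 4 : ℝ) • (4 : ℍ[ℝ]) := by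
  have h : (4 : ℍ[ℝ]) = ((4 : ℝ) : ℍ[ℝ]) := rfl
  rw [h]
  ext <;> simp

theorem unit_mul_star (U : Z8) (h : isUnitZ U) : phi U * star (phi U) = 1 := by
  rw [← phi_conj, phi_mul, h.2, phi_sixteen, one_eq_smul_four]

theorem unit_star_mul (U : Z8) (h : isUnitZ U) : star (phi U) * phi U = 1 := by
  rw [Quaternion.star_mul_self, ← Quaternion.self_mul_star]
  exact unit_mul_star U h

set_option maxRecDepth 100000 in
theorem unitList_isUnit : ∀ U ∈ unitList, isUnitZ U := by decide +kernel

set_option maxRecDepth 100000 in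
theorem unitList_conj : ∀ U ∈ unitList, Z8.conj U ∈ unitList := by decide +kernel

set_option maxRecDepth 100000 in
theorem unitList_nodup : unitList.Nodup := by decide +kernel

/-- multiplication by a unit keeps the minimal vectors. -/
theorem lmul_unit_mem (u : ℍ[ℝ]) (hu : u ∈ icosians) (hu1 : u * star u = 1)
    (r : Fin 3 → ℍ[ℝ]) (hr : r ∈ icoLeech) (h4 : qip r r = 4) :
    lmul u r ∈ icoLeech ∧ qip (lmul u r) (lmul u r) = 4 := by
  refine ⟨icoLeech_lmul u hu r hr, ?_⟩
  rw [qip_lmul_left, qip_lmul_right, h4, four_eq, Quaternion.coe_mul_eq_smul, mul_smul_comm, hu1,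
    ← Quaternion.coe_mul_eq_smul, mul_one]

/-! ### the classification of the minimal vectors -/

theorem unitList_length : unitList.length = 120 := by decide

theorem canonX_length : canonX.length = 111 := by decide

/-- every nonzero icosian of small norm is taken to a representative by a unit. -/
theorem orbit_rep (X : Z8) (h : inL X) (hn : nrm8 X ≤ 64) (h0 : X ≠ Z8.zero) :
    ∃ U ∈ unitList, ∃ X' ∈ canonX, Z8.mul U X = Z8.sm 4 X' := by
  have hx := mem_xList X h hn
  rw [xList_eq, List.mem_map] at hx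
  obtain ⟨p, hp, rfl⟩ := hx
  have hc := List.all_eq_true.1 chkPairs p hp
  unfold chkPair at hc
  have hz : (p.1 == Z8.zero) = false := by
    rw [beq_eq_false_iff_ne]; exact h0
  rw [hz, Bool.false_or] at hc
  simp only [Bool.and_eq_true, decide_eq_true_eq, beq_iff_eq] at hc
  obtain ⟨h1, h2, h3⟩ := hc
  refine ⟨unitList.getD (p.2 / 128) Z8.zero, ?_, canonX.getD (p.2 % 128) Z8.zero, ?_, h3⟩
  · have : p.2 / 128 < unitList.length := by rw [unitList_length]; exact h1
    rw [List.getD_eq_getElem _ _ this]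
    exact List.getElem_mem _
  · have : p.2 % 128 < canonX.length := by rw [canonX_length]; exact h2
    rw [List.getD_eq_getElem _ _ this]
    exact List.getElem_mem _

/-- the representatives of the minimal vectors. -/
def repList : List Z24 := reps1 ++ (reps2 ++ reps3)

theorem unit_image (U : Z8) (hU : U ∈ unitList) (V : Z24) (hV : inLam V)
    (h4 : qip (phi3 V) (phi3 V) = 4) : ∃ V' : Z24, inLam V' ∧ lmul (phi U) (phi3 V) = phi3 V' ∧
      nrm8 V'.x + nrm8 V'.y + nrm8 V'.z = 64 ∧ pq8 V'.x + pq8 V'.y + pq8 V'.z = 0 ∧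
      phi V'.x = phi U * phi V.x ∧ phi V'.y = phi U * phi V.y ∧ phi V'.z = phi U * phi V.z := by
  have hu := unitList_isUnit U hU
  obtain ⟨m1, m2⟩ := lmul_unit_mem (phi U) (phi_mem_icosians U hu.1) (unit_mul_star U hu)
    (phi3 V) (phi3_mem V hV) h4
  obtain ⟨V', hV', e⟩ := (mem_icoLeech_iff _).1 m1
  rw [e] at m2
  obtain ⟨n1, n2⟩ := (norm4_iff V').1 m2
  refine ⟨V', hV', e, n1, n2, ?_, ?_, ?_⟩
  · have := congrFun e 0
    simpa [lmul_apply] using this.symm
  · have := congrFun e 1
    simpa [lmul_apply] using this.symm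
  · have := congrFun e 2
    simpa [lmul_apply] using this.symm

theorem nrm8_eq_zero_of (X : Z8) (h : X = Z8.zero) : nrm8 X = 0 ∧ pq8 X = 0 := by
  subst h; decide

/-- every minimal vector is taken to one of the representatives by a unit. -/
theorem min_classify (r : Fin 3 → ℍ[ℝ]) (hr : r ∈ icoLeech) (h4 : qip r r = 4) :
    ∃ U ∈ unitList, ∃ R ∈ repList, lmul (phi U) r = phi3 R := by
  obtain ⟨V, hV, rfl⟩ := (mem_icoLeech_iff r).1 hr
  obtain ⟨hn, hp⟩ := (norm4_iff V).1 h4
  have n1 := nrm8_nonneg V.x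
  have n2 := nrm8_nonneg V.y
  have n3 := nrm8_nonneg V.z
  by_cases hx0 : V.x = Z8.zero
  · by_cases hy0 : V.y = Z8.zero
    · -- the first two quaternions vanish
      have hz0 : V.z ≠ Z8.zero := by
        intro hz0
        have := (nrm8_eq_zero_of _ hx0).1
        have := (nrm8_eq_zero_of _ hy0).1
        have := (nrm8_eq_zero_of _ hz0).1
        omega
      obtain ⟨U, hU, X', hX', e⟩ := orbit_rep V.z hV.2.2.1 (by omega) hz0
      obtain ⟨V', hV', e', m1, m2, ex, ey, ez⟩ := unit_image U hU V hV h4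
      refine ⟨U, hU, V', ?_, e'⟩
      rw [hx0, phi_zero, mul_zero, ← phi_zero] at ex
      rw [hy0, phi_zero, mul_zero, ← phi_zero] at ey
      rw [phi_mul_of _ _ _ e] at ez
      have ex' := phi_injective ex
      have ey' := phi_injective ey
      have ez' := phi_injective ez
      have hV'eq : V' = ⟨Z8.zero, Z8.zero, X'⟩ := Z24.ext ex' ey' ez'
      have k1 := nrm8_eq_zero_of _ ex'
      have k2 := nrm8_eq_zero_of _ ey'
      unfold repList
      apply List.mem_append_right
      apply List.mem_append_right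
      unfold reps3
      rw [List.mem_map]
      refine ⟨X', ?_, hV'eq.symm⟩
      rw [List.mem_filter]
      refine ⟨hX', ?_⟩
      rw [decide_eq_true_eq]
      rw [hV'eq] at hV'
      rw [ez'] at m1 m2
      exact ⟨hV', by omega, by omega⟩
    · -- the first quaternion vanishes, the second one does not
      obtain ⟨U, hU, X', hX', e⟩ := orbit_rep V.y hV.2.1 (by omega) hy0
      obtain ⟨V', hV', e', m1, m2, ex, ey, ez⟩ := unit_image U hU V hV h4
      refine ⟨U, hU, V', ?_, e'⟩
      rw [hx0, phi_zero, mul_zero, ← phi_zero] at ex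
      rw [phi_mul_of _ _ _ e] at ey
      have ex' := phi_injective ex
      have ey' := phi_injective ey
      obtain ⟨g1, g2⟩ := mem_srchB V' hV' m1 m2 ex' []
      unfold repList
      apply List.mem_append_right
      apply List.mem_append_left
      rw [← reps2_eq]
      apply mem_runAll leafV leafV_mono lvlsZ V' _ (startB V'.y)
      · apply List.mem_map_of_mem
        unfold canonY
        rw [List.mem_filter, decide_eq_true_eq]
        rw [ey'] at g1 ⊢
        exact ⟨hX', g1⟩
      · intro acc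
        exact (mem_srchB V' hV' m1 m2 ex' acc).2
  · -- the first quaternion does not vanish
    obtain ⟨U, hU, X', hX', e⟩ := orbit_rep V.x hV.1 (by omega) hx0
    obtain ⟨V', hV', e', m1, m2, ex, ey, ez⟩ := unit_image U hU V hV h4
    refine ⟨U, hU, V', ?_, e'⟩
    rw [phi_mul_of _ _ _ e] at ex
    have ex' := phi_injective ex
    unfold repList
    apply List.mem_append_left
    rw [← reps1_eq]
    apply mem_runAll leafV leafV_mono _ V' _ (startA V'.x)
    · apply List.mem_map_of_mem
      rw [ex']; exact hX'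
    · intro acc
      exact mem_srchA V' hV' m1 m2 acc

end Cfsg.Agent.Helper9.J2B
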