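import Cfsg.Agent.Helper9.J2B.Base

set_option autoImplicit false

/-! The isometries of the lattice permute the 315 reflections by conjugation; for the reflection
group the kernel of this action is the centre. -/

namespace Cfsg.Agent.Helper9.J2B

open Quaternion Cfsg.Spor

/-- the representative with a given index. -/
def rep (k : Fin 315) : Z24 := repList.getD k.val ⟨Z8.zero, Z8.zero, Z8.zero⟩

theorem rep_eq_getElem (k : Fin 315) :
    rep k = repList[k.val]'(by rw [repList_length]; exact k.isLt) := by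
  unfold rep
  rw [List.getD_eq_getElem]

theorem rep_memL (k : Fin 315) : rep k ∈ repList := by
  rw [rep_eq_getElem]
  exact List.getElem_mem _

theorem rep_injective : Function.Injective rep := by
  intro k k' h
  rw [rep_eq_getElem, rep_eq_getElem] at h
  exact Fin.ext ((List.Nodup.getElem_inj_iff repList_nodup).1 h)

theorem exists_rep_eq (R : Z24) (hR : R ∈ repList) : ∃ k, rep k = R := by
  obtain ⟨i, hi, e⟩ := List.getElem_of_mem hR
  refine ⟨⟨i, by rw [← repList_length]; exact hi⟩, ?_⟩
  rw [rep_eq_getElem]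
  exact e

/-- the reflection with a given index. -/
noncomputable def sR (k : Fin 315) : Equiv.Perm icoLeech := reflOf (rep k)

theorem sR_injective : Function.Injective sR := fun k k' h =>
  rep_injective (reflOf_injOn _ _ (rep_memL k) (rep_memL k') h)

theorem refl_iff (f : Equiv.Perm icoLeech) : IsIcoReflection f ↔ ∃ k, f = sR k := by
  have h := refl_eq_image
  rw [Set.ext_iff] at h
  have h' := h f
  simp only [Set.mem_ofPred_eq, Set.mem_image, Finset.mem_coe, List.mem_toFinset] at h'
  rw [h']
  constructor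
  · rintro ⟨R, hR, rfl⟩
    obtain ⟨k, rfl⟩ := exists_rep_eq R hR
    exact ⟨k, rfl⟩
  · rintro ⟨k, rfl⟩
    exact ⟨rep k, rep_memL k, rfl⟩

theorem sR_refl (k : Fin 315) : IsIcoReflection (sR k) := (refl_iff _).2 ⟨k, rfl⟩

theorem sR_mem (k : Fin 315) : sR k ∈ twoJ2 := Subgroup.subset_closure (sR_refl k)

theorem sR_eq (k : Fin 315) :
    sR k = reflPerm (phi3 (rep k)) (rep_mem _ (rep_memL k)).1 (rep_mem _ (rep_memL k)).2 :=
  reflOf_eq _ (rep_memL k)

theorem sR_mul_self (k : Fin 315) : sR k * sR k = 1 := by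
  rw [sR_eq]
  ext x : 1
  apply Subtype.ext
  rw [Equiv.Perm.mul_apply, reflPerm_apply, reflPerm_apply, Equiv.Perm.one_apply]
  exact qrefl_qrefl _ _ (rep_mem _ (rep_memL k)).2

theorem conj_sR (g : Equiv.Perm icoLeech) (hg : g ∈ isoSub) (k : Fin 315) :
    ∃ k', g * sR k * g⁻¹ = sR k' := by
  rw [sR_eq, conj_reflPerm g hg]
  exact (refl_iff _).1 (isIcoReflection_reflPerm _ _ _)

/-- the index of the conjugate of a reflection. -/
noncomputable def rhoFun (g : ↥isoSub) (k : Fin 315) : Fin 315 :=
  Classical.choose (conj_sR g.1 g.2 k)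

theorem rhoFun_spec (g : ↥isoSub) (k : Fin 315) : g.1 * sR k * g.1⁻¹ = sR (rhoFun g k) :=
  Classical.choose_spec (conj_sR g.1 g.2 k)

theorem rhoFun_eq (g : ↥isoSub) (k k' : Fin 315) (h : g.1 * sR k * g.1⁻¹ = sR k') :
    rhoFun g k = k' := sR_injective (by rw [← rhoFun_spec, h])

theorem rhoFun_one (k : Fin 315) : rhoFun 1 k = k := by
  apply rhoFun_eq
  simp

theorem rhoFun_mul (g h : ↥isoSub) (k : Fin 315) : rhoFun (g * h) k = rhoFun g (rhoFun h k) := by
  apply rhoFun_eq
  rw [← rhoFun_spec g, ← rhoFun_spec h, Subgroup.coe_mul, mul_inv_rev]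
  simp only [mul_assoc]

/-- the action of the isometries on the indices of the reflections. -/
noncomputable def rho : ↥isoSub →* Equiv.Perm (Fin 315) where
  toFun g :=
    { toFun := rhoFun g
      invFun := rhoFun g⁻¹
      left_inv := fun k => by rw [← rhoFun_mul, inv_mul_cancel, rhoFun_one]
      right_inv := fun k => by rw [← rhoFun_mul, mul_inv_cancel, rhoFun_one] }
  map_one' := by
    ext k : 1
    exact rhoFun_one k
  map_mul' g h := by
    ext k : 1
    exact rhoFun_mul g h k

theorem rho_apply (g : ↥isoSub) (k : Fin 315) : rho g k = rhoFun g k := rfl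

/-- the action of the reflection group. -/
noncomputable def rhoT : ↥twoJ2 →* Equiv.Perm (Fin 315) :=
  rho.comp (Subgroup.inclusion twoJ2_le_isoSub)

theorem rhoT_spec (g : ↥twoJ2) (k : Fin 315) : g.1 * sR k * g.1⁻¹ = sR (rhoT g k) :=
  rhoFun_spec (Subgroup.inclusion twoJ2_le_isoSub g) k

theorem rhoT_eq (g : ↥twoJ2) (k k' : Fin 315) (h : g.1 * sR k * g.1⁻¹ = sR k') :
    rhoT g k = k' :=
  rhoFun_eq (Subgroup.inclusion twoJ2_le_isoSub g) k k' h

/-- the kernel of the action is the centre. -/
theorem rhoT_ker : rhoT.ker = Subgroup.center ↥twoJ2 := by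
  ext g
  rw [MonoidHom.mem_ker, Subgroup.mem_center_iff]
  constructor
  · intro h z
    have hc : ∀ k, sR k * g.1 = g.1 * sR k := by
      intro k
      have h1 := rhoT_spec g k
      rw [h, Equiv.Perm.one_apply] at h1
      calc sR k * g.1 = (g.1 * sR k * g.1⁻¹) * g.1 := by rw [h1]
        _ = g.1 * sR k := by group
    have hall : ∀ f ∈ twoJ2, f * g.1 = g.1 * f := by
      intro f hf
      unfold twoJ2 at hf
      induction hf using Subgroup.closure_induction with
      | mem f hf =>
        obtain ⟨k, rfl⟩ := (refl_iff f).1 hf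
        exact hc k
      | one => rw [one_mul, mul_one]
      | mul a b _ _ ha hb => rw [mul_assoc, hb, ← mul_assoc, ha, mul_assoc]
      | inv a _ ha =>
        calc a⁻¹ * g.1 = a⁻¹ * (g.1 * a) * a⁻¹ := by group
          _ = a⁻¹ * (a * g.1) * a⁻¹ := by rw [ha]
          _ = g.1 * a⁻¹ := by group
    exact Subtype.ext (hall z.1 z.2)
  · intro h
    ext k : 1
    rw [Equiv.Perm.one_apply]
    apply rhoT_eq
    have h1 := congrArg Subtype.val (h ⟨sR k, sR_mem k⟩)
    rw [Subgroup.coe_mul, Subgroup.coe_mul] at h1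
    change sR k * g.1 = g.1 * sR k at h1
    rw [← h1]
    group

/-- the quotient by the centre is the image of the action. -/
noncomputable def J2EquivRange : Cfsg.Spor.J2 ≃* ↥rhoT.range :=
  (QuotientGroup.quotientMulEquivOfEq rhoT_ker.symm).trans
    (QuotientGroup.quotientKerEquivRange rhoT)

end Cfsg.Agent.Helper9.J2B
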