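import Cfsg.Agent.Helper9.J2B.SepChk

set_option autoImplicit false

/-! Different representatives are not multiples of each other by quaternions of norm one. -/

namespace Cfsg.Agent.Helper9.J2B

open Quaternion Cfsg.Spor

theorem mul_star_of_star_mul (w : ℍ[ℝ]) (h : star w * w = 1) : w * star w = 1 := by
  rw [Quaternion.self_mul_star, ← Quaternion.star_mul_self]; exact h

theorem mul_star_unit (w x : ℍ[ℝ]) (h : star w * w = 1) :
    (w * x) * star (w * x) = x * star x := by
  rw [star_mul, mul_assoc, ← mul_assoc x, Quaternion.self_mul_star x, Quaternion.coe_commutes,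
    ← mul_assoc, mul_star_of_star_mul w h, one_mul]

theorem phi_mul_star (X : Z8) :
    phi X * star (phi X) = (1 / 4 : ℝ) • phi ⟨nrm8 X, 2 * pq8 X, 0, 0, 0, 0, 0, 0⟩ := by
  rw [← phi_conj, phi_mul, mul_conj_self]

theorem smul_quarter_inj (a b : ℍ[ℝ]) (h : (1 / 4 : ℝ) • a = (1 / 4 : ℝ) • b) : a = b := by
  have := congrArg (fun q : ℍ[ℝ] => (4 : ℝ) • q) h
  simpa [smul_smul] using this

theorem norm_eq_of (X X' : Z8) (h : phi X * star (phi X) = phi X' * star (phi X')) :
    nrm8 X = nrm8 X' ∧ pq8 X = pq8 X' := by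
  rw [phi_mul_star, phi_mul_star] at h
  have h2 := phi_injective (smul_quarter_inj _ _ h)
  have e0 := congrArg Z8.a0 h2
  have e1 := congrArg Z8.a1 h2
  simp only at e0 e1
  exact ⟨e0, by omega⟩

theorem phi_ne_zero (X : Z8) (h : X ≠ Z8.zero) : phi X ≠ 0 := by
  intro h0
  rw [← phi_zero] at h0
  exact h (phi_injective h0)

theorem phi_1024 : phi ⟨4096, 0, 0, 0, 0, 0, 0, 0⟩ = ((1024 : ℝ) : ℍ[ℝ]) := by
  ext <;> simp <;> norm_num

/-- different representatives are not multiples of each other. -/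
theorem sep (R R' : Z24) (hR : R ∈ repList) (hR' : R' ∈ repList) (w : ℍ[ℝ])
    (hw : star w * w = 1) (h : lmul w (phi3 R) = phi3 R') : R = R' := by
  have hs := List.all_eq_true.1 (List.all_eq_true.1 sepPair_all R hR) R' hR'
  unfold sepPair at hs
  have e0 : w * phi R.x = phi R'.x := congrFun h 0
  have e1 : w * phi R.y = phi R'.y := congrFun h 1
  have e2 : w * phi R.z = phi R'.z := congrFun h 2
  rcases Bool.or_eq_true _ _ ▸ hs with h1 | hs
  · exact eq_of_beq h1
  rcases Bool.or_eq_true _ _ ▸ hs with h2 | hs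
  · exfalso
    have k0 := norm_eq_of R'.x R.x (by rw [← e0]; exact mul_star_unit w _ hw)
    have k1 := norm_eq_of R'.y R.y (by rw [← e1]; exact mul_star_unit w _ hw)
    have k2 := norm_eq_of R'.z R.z (by rw [← e2]; exact mul_star_unit w _ hw)
    have : normKey R = normKey R' := by
      unfold normKey
      rw [k0.1, k0.2, k1.1, k1.2, k2.1, k2.2]
    rw [this] at h2
    simp at h2
  rcases Bool.or_eq_true _ _ ▸ hs with h3 | hs
  · rw [Bool.and_eq_true] at h3
    obtain ⟨h3a, h3b⟩ := h3
    have hx : R.x = R'.x := eq_of_beq h3a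
    have hx0 : R.x ≠ Z8.zero := by simpa using h3b
    have hw1 : w = 1 := by
      have h5 : (w - 1) * phi R.x = 0 := by rw [sub_mul, one_mul, e0, hx, sub_self]
      rcases mul_eq_zero.1 h5 with h6 | h6
      · exact sub_eq_zero.1 h6
      · exact absurd h6 (phi_ne_zero _ hx0)
    rw [hw1, lmul_one] at h
    exact phi3_injective h
  · exfalso
    obtain ⟨_, n1, n2⟩ := repList_min R hR
    have h4 : qip (phi3 R) (phi3 R) = 4 := (norm4_iff R).2 ⟨n1, n2⟩
    have hq : qip (phi3 R') (phi3 R) = w * 4 := by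
      rw [← h, qip_lmul_left, h4]
    have hq2 : qip (phi3 R') (phi3 R) * star (qip (phi3 R') (phi3 R)) = ((16 : ℝ) : ℍ[ℝ]) := by
      rw [hq, four_eq, Quaternion.mul_coe_eq_smul, Quaternion.star_smul, smul_mul_assoc,
        mul_smul_comm, mul_star_of_star_mul w hw, smul_smul]
      ext <;> simp <;> norm_num
    rw [qip_phi3, Quaternion.star_smul, smul_mul_assoc, mul_smul_comm, phi_mul_star, smul_smul,
      smul_smul] at hq2
    have h5 : phi ⟨nrm8 (qipZ R' R), 2 * pq8 (qipZ R' R), 0, 0, 0, 0, 0, 0⟩ =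
        phi ⟨4096, 0, 0, 0, 0, 0, 0, 0⟩ := by
      rw [phi_1024]
      have := congrArg (fun q : ℍ[ℝ] => (64 : ℝ) • q) hq2
      simp only [smul_smul] at this
      norm_num at this
      rw [this]
      ext <;> simp <;> norm_num
    have h6 := phi_injective h5
    have f0 := congrArg Z8.a0 h6
    have f1 := congrArg Z8.a1 h6
    simp only at f0 f1
    have f2 : pq8 (qipZ R' R) = 0 := by omega
    rw [f0, f2] at hs
    simp at hs

end Cfsg.Agent.Helper9.J2B
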