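import Cfsg.Agent.Helper9.J2B.Lines

set_option autoImplicit false

/-! Checks on the list of the representatives. -/

namespace Cfsg.Agent.Helper9.J2B

open Quaternion Cfsg.Spor

/-- the norms of the three quaternions. -/
def normKey (R : Z24) : List ℤ := [nrm8 R.x, pq8 R.x, nrm8 R.y, pq8 R.y, nrm8 R.z, pq8 R.z]

/-- a test that shows that `R'` is not a multiple of `R` by a quaternion of norm one, unless
they are equal. -/
def sepPair (R R' : Z24) : Bool :=
  R == R' || (normKey R != normKey R' || ((R.x == R'.x && R.x != Z8.zero) ||
    !(nrm8 (qipZ R' R) == 4096 && pq8 (qipZ R' R) == 0)))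

set_option maxRecDepth 1000000 in
set_option maxHeartbeats 0 in
theorem sepPair_all : repList.all (fun R => repList.all (fun R' => sepPair R R')) = true := by
  decide +kernel

set_option maxRecDepth 1000000 in
set_option maxHeartbeats 0 in
theorem repList_min : ∀ R ∈ repList,
    inLam R ∧ nrm8 R.x + nrm8 R.y + nrm8 R.z = 64 ∧ pq8 R.x + pq8 R.y + pq8 R.z = 0 := by
  decide +kernel

set_option maxRecDepth 1000000 in
set_option maxHeartbeats 0 in
theorem repList_nodup : repList.Nodup := by decide +kernel

set_option maxRecDepth 1000000 in
theorem repList_length : repList.length = 315 := by decide +kernel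

end Cfsg.Agent.Helper9.J2B
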