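import Mathlib
import Cfsg.Agent.Helper9.J2B.Grp
import Cfsg.Agent.Helper9.J2B.GData2
import Cfsg.Agent.Helper9.PrimSimple2
import Cfsg.Agent.Helper9.PrimSimple6

set_option autoImplicit false

/-!
The group of the four tables is primitive on the 315 points; if its order is `604800`, it is simple.
-/

namespace Cfsg.Agent.Helper9.J2B

open Cfsg.Agent.Helper9.PChain MulAction

instance pretransitive315 : IsPretransitive ↥G315 (Fin 315) := by
  constructor
  intro x y
  obtain ⟨σ, hσ, h1⟩ := G315_trans x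
  obtain ⟨τ, hτ, h2⟩ := G315_trans y
  refine ⟨⟨τ * σ⁻¹, G315.mul_mem hτ (G315.inv_mem hσ)⟩, ?_⟩
  change τ (σ⁻¹ x) = y
  rw [← h1, ← h2]
  congr 1
  exact σ.symm_apply_apply 0

/-- the colour of a point. -/
def colour315 (y : Fin 315) : ℤ :=
  if y.val ∈ so1O then 1 else if y.val ∈ so2O then 2 else if y.val ∈ so3O then 3
  else if y.val ∈ so4O then 4 else if y.val ∈ so5O then 5 else 0

set_option maxRecDepth 1000000 in
set_option maxHeartbeats 0 in
theorem colour315_iff : ∀ y : Fin 315,
    (colour315 y = 1 ↔ y ∈ gptsOf so1O) ∧ (colour315 y = 2 ↔ y ∈ gptsOf so2O) ∧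
    (colour315 y = 3 ↔ y ∈ gptsOf so3O) ∧ (colour315 y = 4 ↔ y ∈ gptsOf so4O) ∧
    (colour315 y = 5 ↔ y ∈ gptsOf so5O) := by decide +kernel

set_option maxRecDepth 1000000 in
set_option maxHeartbeats 0 in
theorem so_card : (gptsOf so1O).card = 80 ∧ (gptsOf so2O).card = 160 ∧ (gptsOf so3O).card = 32 ∧
    (gptsOf so4O).card = 32 ∧ (gptsOf so5O).card = 10 := by decide +kernel

set_option maxRecDepth 1000000 in
set_option maxHeartbeats 0 in
theorem so_chk : gcheckLevel [0] 1 so1O so1L = true ∧ gcheckLevel [0] 81 so2O so2L = true ∧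
    gcheckLevel [0] 241 so3O so3L = true ∧ gcheckLevel [0] 273 so4O so4L = true ∧
    gcheckLevel [0] 305 so5O so5L = true := by decide +kernel

/-- the lengths of the suborbits. -/
def soLen (c : ℤ) : ℕ :=
  if c = 1 then 80 else if c = 2 then 160 else if c = 3 then 32 else if c = 4 then 32 else 10

theorem ncard_colour315 : ∀ c ∈ ({1, 2, 3, 4, 5} : Finset ℤ),
    {y : Fin 315 | colour315 y = c}.ncard = soLen c := by
  intro c hc
  simp only [Finset.mem_insert, Finset.mem_singleton] at hc
  rcases hc with rfl | rfl | rfl | rfl | rfl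
  · have : {y : Fin 315 | colour315 y = 1} = ↑(gptsOf so1O) := by
      ext y
      exact (colour315_iff y).1
    rw [this, Set.ncard_coe_finset, so_card.1]
    rfl
  · have : {y : Fin 315 | colour315 y = 2} = ↑(gptsOf so2O) := by
      ext y
      exact (colour315_iff y).2.1
    rw [this, Set.ncard_coe_finset, so_card.2.1]
    rfl
  · have : {y : Fin 315 | colour315 y = 3} = ↑(gptsOf so3O) := by
      ext y
      exact (colour315_iff y).2.2.1
    rw [this, Set.ncard_coe_finset, so_card.2.2.1]
    rfl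
  · have : {y : Fin 315 | colour315 y = 4} = ↑(gptsOf so4O) := by
      ext y
      exact (colour315_iff y).2.2.2.1
    rw [this, Set.ncard_coe_finset, so_card.2.2.2.1]
    rfl
  · have : {y : Fin 315 | colour315 y = 5} = ↑(gptsOf so5O) := by
      ext y
      exact (colour315_iff y).2.2.2.2
    rw [this, Set.ncard_coe_finset, so_card.2.2.2.2]
    rfl

theorem stab_move315 (b : Fin 315) (O : List ℕ) (W : List (List ℕ))
    (hchk : gcheckLevel [0] b.val O W = true) (y y' : Fin 315) (hy : y ∈ gptsOf O)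
    (hy' : y' ∈ gptsOf O) : ∃ k ∈ stabilizer ↥G315 (0 : Fin 315), k • y = y' := by
  obtain ⟨σ, hσ, h1⟩ := glevel_wit [0] b O W hchk y hy
  obtain ⟨τ, hτ, h2⟩ := glevel_wit [0] b O W hchk y' hy'
  rw [Subgroup.mem_inf] at hσ hτ
  have hσ0 : σ 0 = 0 := hσ.2 0 (List.mem_singleton.2 rfl)
  have hτ0 : τ 0 = 0 := hτ.2 0 (List.mem_singleton.2 rfl)
  refine ⟨⟨τ * σ⁻¹, G315.mul_mem hτ.1 (G315.inv_mem hσ.1)⟩, ?_, ?_⟩
  · rw [mem_stabilizer_iff]
    change τ (σ⁻¹ 0) = 0
    have : σ⁻¹ 0 = 0 := by
      rw [Equiv.Perm.inv_eq_iff_eq]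
      exact hσ0.symm
    rw [this, hτ0]
  · change τ (σ⁻¹ y) = y'
    rw [← h1, ← h2]
    congr 1
    exact σ.symm_apply_apply b

instance preprimitive315 : IsPreprimitive ↥G315 (Fin 315) := by
  refine Cfsg.Agent.Helper9.preprimitive_of_colours (0 : Fin 315) colour315
    ({1, 2, 3, 4, 5} : Finset ℤ) soLen 315 (by simp) (by decide) ncard_colour315 (by decide) ?_
    (by decide)
  intro y y' hy hyy'
  simp only [Finset.mem_insert, Finset.mem_singleton] at hy
  rcases hy with h | h | h | h | h
  · have h' : colour315 y' = 1 := by rw [← hyy', h]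
    exact stab_move315 1 so1O so1L so_chk.1 y y' ((colour315_iff y).1.1 h)
      ((colour315_iff y').1.1 h')
  · have h' : colour315 y' = 2 := by rw [← hyy', h]
    exact stab_move315 81 so2O so2L so_chk.2.1 y y' ((colour315_iff y).2.1.1 h)
      ((colour315_iff y').2.1.1 h')
  · have h' : colour315 y' = 3 := by rw [← hyy', h]
    exact stab_move315 241 so3O so3L so_chk.2.2.1 y y' ((colour315_iff y).2.2.1.1 h)
      ((colour315_iff y').2.2.1.1 h')
  · have h' : colour315 y' = 4 := by rw [← hyy', h]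
    exact stab_move315 273 so4O so4L so_chk.2.2.2.1 y y' ((colour315_iff y).2.2.2.1.1 h)
      ((colour315_iff y').2.2.2.1.1 h')
  · have h' : colour315 y' = 5 := by rw [← hyy', h]
    exact stab_move315 305 so5O so5L so_chk.2.2.2.2 y y' ((colour315_iff y).2.2.2.2.1 h)
      ((colour315_iff y').2.2.2.2.1 h')

/-! ### Generation by elements of order seven -/

theorem gpermW_append (w w' : List ℕ) : gpermW (w ++ w') = gpermW w * gpermW w' := by
  unfold gpermW
  rw [List.map_append, List.prod_append]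

/-- seven copies of a word. -/
def rep7 (w : List ℕ) : List ℕ := w ++ (w ++ (w ++ (w ++ (w ++ (w ++ w)))))

theorem gpermW_rep7 (w : List ℕ) : gpermW (rep7 w) = gpermW w ^ 7 := by
  unfold rep7
  simp only [gpermW_append, pow_succ, pow_zero, one_mul, mul_assoc]

/-- the check that the words of a list have order seven and that their product is a letter. -/
def gen7Chk (a : ℕ) : Bool :=
  let ws := gen7L.getD a []
  ws.all (fun w => (List.range 315).all (fun x => evalW gtab (rep7 w) x == x)) &&
    (List.range 315).all (fun x => evalW gtab ws.flatten x == gtab a x)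

set_option maxRecDepth 1000000 in
set_option maxHeartbeats 0 in
theorem gen7Chk_all : ∀ a : Fin 4, gen7Chk a.val = true := by decide +kernel

theorem gpermW_flatten_mem (V : Subgroup ↥G315) (ws : List (List ℕ))
    (h : ∀ w ∈ ws, (⟨gpermW w, gpermW_mem w⟩ : ↥G315) ∈ V) :
    (⟨gpermW ws.flatten, gpermW_mem _⟩ : ↥G315) ∈ V := by
  induction ws with
  | nil => exact V.one_mem
  | cons w ws ih =>
    have h1 := h w List.mem_cons_self
    have h2 := ih (fun w' hw' => h w' (List.mem_cons_of_mem _ hw'))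
    have e : (⟨gpermW (w :: ws).flatten, gpermW_mem _⟩ : ↥G315) =
        ⟨gpermW w, gpermW_mem w⟩ * ⟨gpermW ws.flatten, gpermW_mem _⟩ := by
      apply Subtype.ext
      change gpermW (w :: ws).flatten = gpermW w * gpermW ws.flatten
      rw [List.flatten_cons, gpermW_append]
    rw [e]
    exact V.mul_mem h1 h2

theorem gen_seven (V : Subgroup ↥G315) (hV : ∀ x : ↥G315, x ^ (7 ^ 1) = 1 → x ∈ V) : V = ⊤ := by
  have hP : ∀ a : Fin 4, (⟨gP a.val, gP_mem a.val⟩ : ↥G315) ∈ V := by
    intro a
    have hc := gen7Chk_all a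
    unfold gen7Chk at hc
    rw [Bool.and_eq_true, List.all_eq_true, List.all_eq_true] at hc
    obtain ⟨c1, c2⟩ := hc
    have e : gP a.val = gpermW (gen7L.getD a.val []).flatten := by
      ext x : 1
      apply Fin.ext
      rw [gP_apply, gpermW_apply]
      have := c2 x.val (List.mem_range.2 x.isLt)
      rw [beq_iff_eq] at this
      exact this.symm
    have hm := gpermW_flatten_mem V (gen7L.getD a.val []) (by
      intro w hw
      apply hV
      apply Subtype.ext
      rw [pow_one]
      change gpermW w ^ 7 = 1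
      rw [← gpermW_rep7]
      ext x : 1
      apply Fin.ext
      rw [gpermW_apply, Equiv.Perm.one_apply]
      have h1 := c1 w hw
      rw [List.all_eq_true] at h1
      have := h1 x.val (List.mem_range.2 x.isLt)
      rwa [beq_iff_eq] at this)
    have e2 : (⟨gP a.val, gP_mem a.val⟩ : ↥G315) = ⟨gpermW (gen7L.getD a.val []).flatten,
        gpermW_mem _⟩ := Subtype.ext e
    rw [e2]
    exact hm
  rw [eq_top_iff]
  rintro ⟨g, hg⟩ -
  have key : G315 ≤ V.map G315.subtype := by
    unfold G315
    rw [Subgroup.closure_le]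
    rintro x ⟨l, rfl⟩
    exact ⟨⟨gP l.val, gP_mem l.val⟩, hP l, rfl⟩
  obtain ⟨z, hz, hzg⟩ := key hg
  have : z = ⟨g, hg⟩ := Subtype.ext hzg
  rw [← this]
  exact hz

theorem simple315 (hcard : Nat.card ↥G315 = 604800) : IsSimpleGroup ↥G315 := by
  have : Nontrivial ↥G315 := by
    rw [← Finite.one_lt_card_iff_nontrivial, hcard]
    norm_num
  exact Cfsg.Agent.Helper9.simple_of_prim_sylow (X := Fin 315) (0 : Fin 315) 7 1 (by norm_num)
    (by rw [Nat.card_eq_fintype_card, Fintype.card_fin]; norm_num)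
    (by rw [hcard]; norm_num) gen_seven

set_option maxRecDepth 1000000 in
theorem gP_noncomm : gP 0 * gP 1 ≠ gP 1 * gP 0 := by
  intro h
  have h1 := congrArg (fun σ : Equiv.Perm (Fin 315) => (σ 0).val) h
  simp only [Equiv.Perm.mul_apply, gP_apply] at h1
  revert h1
  decide +kernel

end Cfsg.Agent.Helper9.J2B
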