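import Cfsg.Agent.Helper9.J2B.Order
import Cfsg.Agent.Helper9.J2B.Simple

set_option autoImplicit false

/-! The Hall–Janko group is simple and not abelian. -/

namespace Cfsg.Agent.Helper9.J2B

theorem simpleJ2 : IsSimpleGroup Cfsg.Spor.J2 := by
  haveI := simple315 card_G315
  exact J2EquivG315.isSimpleGroup

theorem noncommJ2 : ∃ a b : Cfsg.Spor.J2, a * b ≠ b * a := by
  refine ⟨J2EquivG315.symm ⟨gP 0, gP_mem 0⟩, J2EquivG315.symm ⟨gP 1, gP_mem 1⟩, ?_⟩
  intro h
  rw [← map_mul, ← map_mul] at h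
  have h1 := J2EquivG315.symm.injective h
  exact gP_noncomm (congrArg Subtype.val h1)

end Cfsg.Agent.Helper9.J2B
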